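import Mathlib
import Cfsg.Prelude.Def_FusionSystem
import Cfsg.Agent.Lib.Helper8_KNorm3

set_option autoImplicit false
set_option linter.style.haveILetI false
set_option linter.unusedVariables false
open Cfsg

/-!
# `K`-normalizer fusion systems: Sylow conditions for smaller groups of automorphisms
-/

namespace Cfsg.Agent.Lib.Helper8_KNorm4

open Cfsg.FusionSystem Cfsg.Agent.Lib.Helper8_Fusion
open Cfsg.Agent.Lib.Helper8_GroupFusion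
open Cfsg.Agent.Lib.Helper8_Saturated
open Cfsg.Agent.Lib.Helper8_Alperin
open Cfsg.Agent.Lib.Helper8_KNorm1
open Cfsg.Agent.Lib.Helper8_KNorm2
open Cfsg.Agent.Lib.Helper8_KNorm3

variable {Ω : Type*} [Group Ω] {S : Subgroup Ω}

/-- If `T ∩ M` is a Sylow `p`-subgroup of `M`, and `C ≤ L ≤ M' ≤ M` are such that every element of
`M'` is the product of an element of `T ∩ M` and an element of `C`, then `T ∩ L` is a Sylow
`p`-subgroup of `L`. -/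
theorem sylow_of_decomp {G : Type*} [Group G] [Finite G] {p : ℕ} [Fact p.Prime]
    (M M' L C T : Subgroup G) (hLM' : L ≤ M') (hM'M : M' ≤ M) (hCL : C ≤ L)
    (hT : ∃ R : Sylow p M, (R : Subgroup M) = T.subgroupOf M)
    (hTM' : T ⊓ M ≤ M')
    (hdec : ∀ x ∈ M', ∃ a ∈ T ⊓ M, a⁻¹ * x ∈ C) :
    ∃ R : Sylow p L, (R : Subgroup L) = T.subgroupOf L := by
  have hT' : ∃ R : Sylow p M, (R : Subgroup M) = (T ⊓ M).subgroupOf M := by
    rw [Subgroup.inf_subgroupOf_right]; exact hT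
  have hT'p : IsPGroup p ↥(T ⊓ M) := by
    obtain ⟨R, hR⟩ := hT'
    have h1 : IsPGroup p ((T ⊓ M).subgroupOf M) := hR ▸ R.2
    exact h1.of_equiv (Subgroup.subgroupOfEquivOfLe inf_le_right)
  have hT'' := sylow_of_le M M' (T ⊓ M) hTM' hM'M hT'
  have hXp : IsPGroup p (T.subgroupOf L) := by
    rw [← Subgroup.inf_subgroupOf_right]
    have h1 : T ⊓ L ≤ T ⊓ M := inf_le_inf_left T (hLM'.trans hM'M)
    exact (hT'p.to_le h1).comap_subtype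
  rw [sylow_iff_max _ hXp]
  intro Y hY
  have hcardX : Nat.card (T.subgroupOf L) = Nat.card ↥(T ⊓ L) := by
    rw [← Subgroup.inf_subgroupOf_right]
    exact Nat.card_congr (Subgroup.subgroupOfEquivOfLe inf_le_right).toEquiv
  rw [hcardX]
  have hY'L : Y.map L.subtype ≤ L := by
    rintro _ ⟨y, -, rfl⟩; exact y.2
  have hY'p : IsPGroup p (Y.map L.subtype) := hY.map _
  obtain ⟨m, hm, hmY⟩ := exists_cj_le_of_sylow M' (T ⊓ M) (Y.map L.subtype)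
    (hY'L.trans hLM') hY'p hT''
  obtain ⟨a, ha, hc⟩ := hdec m hm
  have hle : cj (a⁻¹ * m) (Y.map L.subtype) ≤ T ⊓ L := by
    rintro _ ⟨y, hy, rfl⟩
    have h1 : m * y * m⁻¹ ∈ T ⊓ M := hmY (cj_mem m _ hy)
    have h2 : a⁻¹ * (m * y * m⁻¹) * a ∈ T ⊓ M :=
      Subgroup.mul_mem _ (Subgroup.mul_mem _ (Subgroup.inv_mem _ ha) h1) ha
    have h3 : (MulAut.conj (a⁻¹ * m)).toMonoidHom y = a⁻¹ * (m * y * m⁻¹) * a := by
      show (a⁻¹ * m) * y * (a⁻¹ * m)⁻¹ = _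
      group
    rw [h3]
    refine ⟨h2.1, ?_⟩
    have h4 : a⁻¹ * (m * y * m⁻¹) * a = (a⁻¹ * m) * y * (a⁻¹ * m)⁻¹ := by group
    rw [h4]
    exact L.mul_mem (L.mul_mem (hCL hc) (hY'L hy)) (L.inv_mem (hCL hc))
  calc Nat.card Y = Nat.card (Y.map L.subtype) := (Subgroup.card_subtype _ _).symm
    _ = Nat.card (cj (a⁻¹ * m) (Y.map L.subtype)) := (card_cj _ _).symm
    _ ≤ Nat.card ↥(T ⊓ L) := Subgroup.card_le_of_le hle

/-- Conjugation by an element of `N_S^K(Q) ∩ N(P)` induces on `U = PQ` an element of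
`Aut_S(U) ∩ Aut_F(U) ∩ KK`. -/
theorem conj_mem_KK (F : FusionSystem S) {Q : Subgroup Ω} (K : Subgroup (MulAut Q))
    {P U : Subgroup Ω} (hPU : P ≤ U) (hQU : Q ≤ U) (hU : U = P ⊔ Q) (hUS : U ≤ S)
    {g : Ω} (hg : g ∈ NK S Q K) (hgP : g ∈ Subgroup.normalizer (P : Set Ω)) :
    ∃ hgU : g ∈ Subgroup.normalizer (U : Set Ω),
      U.normalizerMonoidHom ⟨g, hgU⟩ ∈ autInducedBy S U ⊓
        (F.autGroup U ⊓ KK U P Q hPU hQU ⊤ K) := by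
  have hgS : g ∈ S := NK_le _ _ hg
  have h1 : g ∈ NK S U (KK U P Q hPU hQU ⊤ K) := by
    rw [NK_KK hPU hQU hU, NK_top]
    exact ⟨⟨hgS, hgP⟩, hg⟩
  obtain ⟨-, hgU, hKK⟩ := mem_NK.mp h1
  refine ⟨hgU, Subgroup.mem_inf.mpr ⟨?_, Subgroup.mem_inf.mpr ⟨conjAut_mem F hUS hgS hgU, hKK⟩⟩⟩
  rw [mem_autInducedBy_iff]
  exact ⟨g, hgS, hgU, fun x => rfl⟩

/-- **Sylow condition for smaller groups.** -/
theorem sylK_KK_of_le [Finite S] {p : ℕ} [Fact p.Prime] (hS : IsPGroup p S) (F : FusionSystem S)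
    {Q : Subgroup Ω} (K : Subgroup (MulAut Q)) {P U : Subgroup Ω} (hPU : P ≤ U) (hQU : Q ≤ U)
    (hU : U = P ⊔ Q) (hUS : U ≤ S)
    (hsyl : SylK F p U (KK U P Q hPU hQU ⊤ K)) (D : Subgroup (MulAut P))
    (hD : D ≤ autInducedBy (NK S Q K) P) : SylK F p U (KK U P Q hPU hQU D K) := by
  haveI : Finite U := finite_of_le hUS
  unfold SylK at hsyl ⊢
  refine sylow_of_decomp (F.autGroup U ⊓ KK U P Q hPU hQU ⊤ K)
    (F.autGroup U ⊓ KK U P Q hPU hQU (autInducedBy (NK S Q K) P) K)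
    (F.autGroup U ⊓ KK U P Q hPU hQU D K) (F.autGroup U ⊓ KK U P Q hPU hQU ⊥ K)
    (autInducedBy S U) ?_ ?_ ?_ hsyl ?_ ?_
  · exact inf_le_inf_left _ (inf_le_inf_right _ (KR_mono hPU hD))
  · exact inf_le_inf_left _ (inf_le_inf_right _ (KR_mono hPU le_top))
  · exact inf_le_inf_left _ (inf_le_inf_right _ (KR_mono hPU bot_le))
  · -- `T ⊓ M ≤ M'`
    intro α hα
    rw [Subgroup.mem_inf, Subgroup.mem_inf] at hα
    obtain ⟨hαT, hαF, hαKK⟩ := hα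
    have hαKK' : α ∈ KR U P hPU ⊤ ∧ α ∈ KR U Q hQU K := Subgroup.mem_inf.mp hαKK
    refine Subgroup.mem_inf.mpr ⟨hαF, Subgroup.mem_inf.mpr ⟨?_, hαKK'.2⟩⟩
    rw [mem_autInducedBy_iff] at hαT
    obtain ⟨g, hgS, hgU, hg⟩ := hαT
    have hαeq : α = U.normalizerMonoidHom ⟨g, hgU⟩ := by
      ext x
      rw [hg x]; rfl
    have h1 : g ∈ NK S U (KK U P Q hPU hQU ⊤ K) := mem_NK.mpr ⟨hgS, hgU, hαeq ▸ hαKK⟩
    rw [NK_KK hPU hQU hU, NK_top] at h1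
    obtain ⟨⟨-, hgP⟩, hgK⟩ := h1
    refine ⟨P.normalizerMonoidHom ⟨g, hgP⟩, ?_, ?_⟩
    · rw [mem_autInducedBy_iff]
      exact ⟨g, hgK, hgP, fun x => rfl⟩
    · intro x
      rw [hg]; rfl
  · -- decomposition
    intro x hx
    rw [Subgroup.mem_inf] at hx
    obtain ⟨hxF, hxKK⟩ := hx
    obtain ⟨⟨δ, hδ, hxδ⟩, hxQ⟩ : x ∈ KR U P hPU (autInducedBy (NK S Q K) P) ∧ x ∈ KR U Q hQU K :=
      Subgroup.mem_inf.mp hxKK
    rw [mem_autInducedBy_iff] at hδ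
    obtain ⟨g, hgK, hgP, hg⟩ := hδ
    obtain ⟨hgU, ha⟩ := conj_mem_KK F K hPU hQU hU hUS hgK hgP
    have ha' := ha
    rw [Subgroup.mem_inf, Subgroup.mem_inf] at ha'
    obtain ⟨haT, haF, haKK⟩ := ha'
    have haKK' : U.normalizerMonoidHom ⟨g, hgU⟩ ∈ KR U P hPU ⊤ ∧
        U.normalizerMonoidHom ⟨g, hgU⟩ ∈ KR U Q hQU K := Subgroup.mem_inf.mp haKK
    refine ⟨U.normalizerMonoidHom ⟨g, hgU⟩, ha, ?_⟩
    refine Subgroup.mem_inf.mpr ⟨(F.autGroup U).mul_mem ((F.autGroup U).inv_mem haF) hxF,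
      Subgroup.mem_inf.mpr ⟨?_, Subgroup.mul_mem _ (Subgroup.inv_mem _ haKK'.2) hxQ⟩⟩
    refine ⟨1, Subgroup.mem_bot.mpr rfl, ?_⟩
    intro y
    have h1 : x ⟨y, hPU y.2⟩ = U.normalizerMonoidHom ⟨g, hgU⟩ ⟨y, hPU y.2⟩ := by
      apply Subtype.ext
      rw [hxδ y, hg y]; rfl
    show (((U.normalizerMonoidHom ⟨g, hgU⟩)⁻¹ (x ⟨y, hPU y.2⟩) : U) : Ω) = y
    rw [h1, MulAut.inv_apply_self]

/-! ### Restriction of automorphisms -/

/-- Restriction to `P` of an automorphism of `U` preserving `P`. -/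
noncomputable def resFun {U P : Subgroup Ω} (hPU : P ≤ U) (α : ↥(KR U P hPU ⊤)) : MulAut P :=
  Classical.choose (mem_KR.mp α.2)

theorem resFun_apply {U P : Subgroup Ω} (hPU : P ≤ U) (α : ↥(KR U P hPU ⊤)) (x : P) :
    ((resFun hPU α x : P) : Ω) = (((α : MulAut U) ⟨x, hPU x.2⟩ : U) : Ω) :=
  ((Classical.choose_spec (mem_KR.mp α.2)).2 x).symm

/-- Restriction as a homomorphism. -/
noncomputable def resAut {U P : Subgroup Ω} (hPU : P ≤ U) : ↥(KR U P hPU ⊤) →* MulAut P where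
  toFun := resFun hPU
  map_one' := by
    ext x
    rw [resFun_apply]; rfl
  map_mul' := by
    intro α β
    ext x
    rw [resFun_apply]
    show (((α : MulAut U) ((β : MulAut U) ⟨x, hPU x.2⟩) : U) : Ω) =
      ((resFun hPU α (resFun hPU β x) : P) : Ω)
    rw [resFun_apply]
    have h1 : (β : MulAut U) ⟨x, hPU x.2⟩ =
        ⟨((resFun hPU β x : P) : Ω), hPU (resFun hPU β x).2⟩ :=
      Subtype.ext (resFun_apply hPU β x).symm
    rw [h1]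

theorem resAut_apply {U P : Subgroup Ω} (hPU : P ≤ U) (α : ↥(KR U P hPU ⊤)) (x : P) :
    ((resAut hPU α x : P) : Ω) = (((α : MulAut U) ⟨x, hPU x.2⟩ : U) : Ω) :=
  resFun_apply hPU α x

/-- **Step 2a.** -/
theorem fullyAutomized_of_sylK [Finite S] {p : ℕ} [Fact p.Prime] (F : FusionSystem S)
    {Q : Subgroup Ω} (K : Subgroup (MulAut Q)) (hQS : Q ≤ S)
    (E : FusionSystem (NK S Q K)) (hE : ∀ P, E.Hom P = kHom F Q K P)
    {P U : Subgroup Ω} (hP : P ≤ NK S Q K) (hPU : P ≤ U) (hQU : Q ≤ U) (hU : U = P ⊔ Q)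
    (hsyl : SylK F p U (KK U P Q hPU hQU ⊤ K)) : E.IsFullyAutomized p P := by
  subst hU
  have hUS : P ⊔ Q ≤ S := sup_le (hP.trans (NK_le _ _)) hQS
  haveI : Finite ↥(P ⊔ Q) := finite_of_le hUS
  obtain ⟨M, hM⟩ : ∃ M, M = F.autGroup (P ⊔ Q) ⊓ KK (P ⊔ Q) P Q hPU hQU ⊤ K := ⟨_, rfl⟩
  have hMF : M ≤ F.autGroup (P ⊔ Q) := hM ▸ inf_le_left
  have hMKR : M ≤ KR (P ⊔ Q) P hPU ⊤ := hM ▸ (inf_le_right.trans inf_le_left)
  have hMKQ : M ≤ KR (P ⊔ Q) Q hQU K := hM ▸ (inf_le_right.trans inf_le_right)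
  obtain ⟨f, hf⟩ : ∃ f : ↥M →* MulAut P, f = (resAut hPU).comp (Subgroup.inclusion hMKR) :=
    ⟨_, rfl⟩
  have hfval : ∀ (α : ↥M) (x : P),
      ((f α x : P) : Ω) = (((α : MulAut ↥(P ⊔ Q)) ⟨x, hPU x.2⟩ : ↥(P ⊔ Q)) : Ω) := by
    intro α x
    rw [hf]
    exact resAut_apply hPU _ x
  have hclaim1 : ∀ α : ↥M, f α ∈ E.autGroup P := by
    intro α
    rw [mem_autGroup_iff E hP]
    show P.subtype.comp (f α).toMonoidHom ∈ E.Hom P
    rw [hE]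
    have hαF := (mem_autGroup_iff F hUS _).mp (hMF α.2)
    obtain ⟨κ, hκ, hακ⟩ := hMKQ α.2
    exact mem_kHom_of F hP hPU hQU hαF hκ (fun q => hακ q) _ (fun x => hfval α x)
  have hclaim2 : ∀ β ∈ E.autGroup P, ∃ α : ↥M, f α = β := by
    intro β hβ
    rw [mem_autGroup_iff E hP] at hβ
    have hβ' : P.subtype.comp β.toMonoidHom ∈ E.Hom P := hβ
    rw [hE] at hβ'
    obtain ⟨-, -, -, ψ, hψ, hψP, κ, hκ, hψQ⟩ := hβ'
    have hψP' : ∀ x : P, ψ ⟨x, hPU x.2⟩ = ((β x : P) : Ω) := fun x => hψP x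
    have hψQ' : ∀ q : Q, ψ ⟨q, hQU q.2⟩ = ((κ q : Q) : Ω) := fun q => hψQ q
    have hrange := range_sup_hom ψ (map_subgroupOf_eq_of_aut hPU ψ β hψP')
      (map_subgroupOf_eq_of_aut hQU ψ κ hψQ')
    obtain ⟨a, ha, haψ⟩ := iso_of_hom F hψ hrange
    have haM : a ∈ M := by
      rw [hM]
      refine Subgroup.mem_inf.mpr ⟨(mem_autGroup_iff F hUS a).mpr ha, Subgroup.mem_inf.mpr ⟨?_, ?_⟩⟩
      · exact ⟨β, Subgroup.mem_top _, fun x => (haψ _).trans (hψP' x)⟩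
      · exact ⟨κ, hκ, fun x => (haψ _).trans (hψQ' x)⟩
    refine ⟨⟨a, haM⟩, ?_⟩
    ext x
    rw [hfval]
    exact (haψ _).trans (hψP' x)
  obtain ⟨f', hf'⟩ : ∃ f' : ↥M →* ↥(E.autGroup P), ∀ α, ((f' α : ↥(E.autGroup P)) : MulAut P) = f α :=
    ⟨f.codRestrict (E.autGroup P) hclaim1, fun α => rfl⟩
  have hsurj : Function.Surjective f' := by
    rintro ⟨β, hβ⟩
    obtain ⟨α, hα⟩ := hclaim2 β hβ
    exact ⟨α, Subtype.ext ((hf' α).trans hα)⟩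
  have hsyl' : ∃ R : Sylow p ↥M,
      (R : Subgroup ↥M) = (autInducedBy S (P ⊔ Q)).subgroupOf M := by
    rw [hM]; exact hsyl
  obtain ⟨R, hR⟩ := hsyl'
  refine ⟨hP, R.mapSurjective hsurj, ?_⟩
  rw [Sylow.coe_mapSurjective, hR]
  ext β
  rw [Subgroup.mem_subgroupOf]
  constructor
  · rintro ⟨α, hα, rfl⟩
    rw [SetLike.mem_coe, Subgroup.mem_subgroupOf, mem_autInducedBy_iff] at hα
    obtain ⟨g, hgS, hgU, hg⟩ := hα
    have hαeq : (α : MulAut ↥(P ⊔ Q)) = (P ⊔ Q).normalizerMonoidHom ⟨g, hgU⟩ := by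
      ext x
      rw [hg x]; rfl
    have hαKK : (α : MulAut ↥(P ⊔ Q)) ∈ KK (P ⊔ Q) P Q hPU hQU ⊤ K :=
      Subgroup.mem_inf.mpr ⟨hMKR α.2, hMKQ α.2⟩
    have h1 : g ∈ NK S (P ⊔ Q) (KK (P ⊔ Q) P Q hPU hQU ⊤ K) :=
      mem_NK.mpr ⟨hgS, hgU, hαeq ▸ hαKK⟩
    rw [NK_KK hPU hQU rfl, NK_top] at h1
    obtain ⟨⟨-, hgP⟩, hgK⟩ := h1
    rw [hf', mem_autInducedBy_iff]
    refine ⟨g, hgK, hgP, fun x => ?_⟩
    rw [hfval, hg]
  · intro hβ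
    rw [mem_autInducedBy_iff] at hβ
    obtain ⟨g, hgK, hgP, hg⟩ := hβ
    obtain ⟨hgU, ha⟩ := conj_mem_KK F K hPU hQU rfl hUS hgK hgP
    rw [← hM] at ha
    refine ⟨⟨(P ⊔ Q).normalizerMonoidHom ⟨g, hgU⟩, (Subgroup.mem_inf.mp ha).2⟩, ?_, ?_⟩
    · rw [SetLike.mem_coe, Subgroup.mem_subgroupOf]
      exact (Subgroup.mem_inf.mp ha).1
    · apply Subtype.ext
      rw [hf']
      ext x
      rw [hfval, hg]
      rfl

end Cfsg.Agent.Lib.Helper8_KNorm4
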