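import Mathlib
import Cfsg.Prelude.Def_FusionSystem
import Cfsg.Agent.Lib.Helper8_KNorm4

set_option autoImplicit false
set_option linter.style.haveILetI false
set_option linter.unusedVariables false
open Cfsg

/-!
# `K`-normalizer fusion systems are saturated
-/

namespace Cfsg.Agent.Lib.Helper8_KNorm5

open Cfsg.FusionSystem Cfsg.Agent.Lib.Helper8_Fusion
open Cfsg.Agent.Lib.Helper8_GroupFusion
open Cfsg.Agent.Lib.Helper8_Saturated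
open Cfsg.Agent.Lib.Helper8_Alperin
open Cfsg.Agent.Lib.Helper8_KNorm1
open Cfsg.Agent.Lib.Helper8_KNorm2
open Cfsg.Agent.Lib.Helper8_KNorm3
open Cfsg.Agent.Lib.Helper8_KNorm4

variable {Ω : Type*} [Group Ω] {S : Subgroup Ω}

/-- **Step 2b.** -/
theorem receptive_of_sylK [Finite S] {p : ℕ} [Fact p.Prime] (hS : IsPGroup p S)
    (F : FusionSystem S) {Q : Subgroup Ω} (K : Subgroup (MulAut Q)) (hQS : Q ≤ S)
    (E : FusionSystem (NK S Q K)) (hE : ∀ P, E.Hom P = kHom F Q K P)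
    {P U : Subgroup Ω} (hP : P ≤ NK S Q K) (hPU : P ≤ U) (hQU : Q ≤ U) (hU : U = P ⊔ Q)
    (hUr : F.IsReceptive U) (hsyl : SylK F p U (KK U P Q hPU hQU ⊤ K)) : E.IsReceptive P := by
  have hUS : U ≤ S := hUr.1
  have hPS : P ≤ S := hP.trans (NK_le _ _)
  haveI : Finite P := finite_of_le hPS
  refine ⟨hP, ?_⟩
  intro R φ hφE hr
  have hφ := hφE
  rw [hE] at hφ
  obtain ⟨hφF, hRK, hφv, φb, hφb, hφbR, κ, hκ, hφbQ⟩ := hφ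
  have hφbR' : ∀ x : R, φb ⟨x, (le_sup_left : R ≤ R ⊔ Q) x.2⟩ = φ x := fun x => hφbR x
  have hφbQ' : ∀ q : Q, φb ⟨q, (le_sup_right : Q ≤ R ⊔ Q) q.2⟩ = ((κ q : Q) : Ω) :=
    fun q => hφbQ q
  obtain ⟨φi, hφi, hφival⟩ := iso_of_hom F hφF hr
  have hRimg : (R.subgroupOf (R ⊔ Q)).map φb = P := by
    rw [map_subgroupOf_eq_range le_sup_left]
    have : φb.comp (Subgroup.inclusion (le_sup_left : R ≤ R ⊔ Q)) = φ := by
      ext x; exact hφbR x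
    rw [this]; exact hr
  have hQimg := map_subgroupOf_eq_of_aut le_sup_right φb κ hφbQ'
  have hrange : φb.range = U := (range_sup_hom φb hRimg hQimg).trans hU.symm
  obtain ⟨eb, heb, hebval⟩ := iso_of_hom F hφb hrange
  obtain ⟨DR, hDR⟩ : ∃ DR, DR = autInducedBy (NK S Q K) R ⊓
      (autInducedBy (NK S Q K) P).comap (MulAut.congr φi).toMonoidHom := ⟨_, rfl⟩
  obtain ⟨LR, hLR⟩ : ∃ LR, LR = KK (R ⊔ Q) R Q le_sup_left le_sup_right DR K := ⟨_, rfl⟩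
  have htr : tr eb LR = KK U P Q hPU hQU (tr φi DR) K := by
    rw [hLR, tr_KK le_sup_left le_sup_right hPU hQU eb φi κ
      (fun x => by rw [hebval, hφbR', hφival]) (fun x => by rw [hebval, hφbQ']),
      tr_self_of_mem hκ]
  have hDP : tr φi DR ≤ autInducedBy (NK S Q K) P := by
    rintro _ ⟨α, hα, rfl⟩
    rw [hDR] at hα
    exact Subgroup.mem_comap.mp (Subgroup.mem_inf.mp hα).2
  have hsyl' : SylK F p U (tr eb LR) := by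
    rw [htr]; exact sylK_KK_of_le hS F K hPU hQU hU hUS hsyl _ hDP
  obtain ⟨χ, hχ, ψ, hψ, hψV⟩ := exists_extension hS F LR heb hUr hsyl'
  -- the extender
  obtain ⟨N, hN⟩ : ∃ N, N = extender (NK S Q K) R φ := ⟨_, rfl⟩
  have hNK : N ≤ NK S Q K := hN ▸ (extender_le_normalizerIn R φ).trans inf_le_left
  have hRN : R ≤ N := hN ▸ le_extender E hφE
  have hgen : ∀ g, g ∈ NK S Q K → ∀ hgR : g ∈ Subgroup.normalizer (R : Set Ω),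
      (∃ h ∈ NK S Q K, ∀ (x : R) (hx : g * (x : Ω) * g⁻¹ ∈ R),
        φ ⟨g * x * g⁻¹, hx⟩ = h * φ x * h⁻¹) → R.normalizerMonoidHom ⟨g, hgR⟩ ∈ DR := by
    rintro g hgK hgR ⟨h, hhK, hh⟩
    rw [hDR]
    refine Subgroup.mem_inf.mpr ⟨?_, Subgroup.mem_comap.mpr ?_⟩
    · rw [mem_autInducedBy_iff]
      exact ⟨g, hgK, hgR, fun x => rfl⟩
    · have hhP : h ∈ Subgroup.normalizer (P : Set Ω) :=
        mem_normalizer_of_extender_cond hr hgR hh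
      rw [mem_autInducedBy_iff]
      refine ⟨h, hhK, hhP, fun y => ?_⟩
      obtain ⟨x, rfl⟩ := φi.surjective y
      have hx : g * (x : Ω) * g⁻¹ ∈ R := (Subgroup.mem_normalizer_iff.mp hgR _).mp x.2
      have h1 := hh x hx
      show ((φi (R.normalizerMonoidHom ⟨g, hgR⟩ (φi.symm (φi x))) : P) : Ω) = _
      rw [MulEquiv.symm_apply_apply, hφival, hφival, ← h1]
      rfl
  have hNLR : N ≤ NK S (R ⊔ Q) LR := by
    rw [hLR, NK_KK le_sup_left le_sup_right rfl]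
    refine le_inf ?_ hNK
    rw [hN, extender, Subgroup.closure_le]
    rintro g ⟨hgK, hgR, hh⟩
    exact mem_NK.mpr ⟨NK_le _ _ hgK, hgR, hgen g hgK hgR hh⟩
  -- decompose `χ`
  have hχLR : χ ∈ KR (R ⊔ Q) R le_sup_left DR ∧ χ ∈ KR (R ⊔ Q) Q le_sup_right K := by
    have h1 := (Subgroup.mem_inf.mp hχ).2
    rw [hLR] at h1
    exact Subgroup.mem_inf.mp h1
  obtain ⟨⟨δ, hδ, hχδ⟩, ⟨κ', hκ', hχκ'⟩⟩ := hχLR
  have hδ' : δ ∈ autInducedBy (NK S Q K) R ∧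
      MulAut.congr φi δ ∈ autInducedBy (NK S Q K) P := by
    rw [hDR] at hδ
    exact ⟨(Subgroup.mem_inf.mp hδ).1, Subgroup.mem_comap.mp (Subgroup.mem_inf.mp hδ).2⟩
  obtain ⟨hδ1, hδ2⟩ := hδ'
  rw [mem_autInducedBy_iff] at hδ1 hδ2
  obtain ⟨g₀, hg₀K, hg₀R, hg₀⟩ := hδ1
  obtain ⟨h₀, hh₀K, hh₀P, hh₀⟩ := hδ2
  have hg₀N : g₀ ∈ N := by
    rw [hN]
    refine mem_extender_of hg₀K hg₀R ⟨h₀, hh₀K, fun x hx => ?_⟩
    have h1 := hh₀ (φi x)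
    have h2 : ((MulAut.congr φi δ (φi x) : P) : Ω) = ((φi (δ x) : P) : Ω) := by
      show ((φi (δ (φi.symm (φi x))) : P) : Ω) = _
      rw [MulEquiv.symm_apply_apply]
    rw [h2, hφival, hφival] at h1
    have h3 : δ x = ⟨g₀ * (x : Ω) * g₀⁻¹, hx⟩ := Subtype.ext (hg₀ x)
    rw [h3] at h1
    exact h1
  obtain ⟨-, hg₀Q, hγ⟩ := mem_NK.mp hg₀K
  -- the domain
  have hA : N ⊔ Q ≤ NK S (R ⊔ Q) LR ⊔ (R ⊔ Q) :=
    sup_le (hNLR.trans le_sup_left) (le_sup_right.trans le_sup_right)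
  obtain ⟨ψ₁, hψ₁def⟩ : ∃ ψ₁, ψ₁ = ψ.comp (Subgroup.inclusion hA) := ⟨_, rfl⟩
  have hψ₁ : ψ₁ ∈ F.Hom (N ⊔ Q) := hψ₁def ▸ restrict_mem F hA hψ
  have hψ₁val : ∀ (y : Ω) (hy : y ∈ R ⊔ Q) (hyA : y ∈ N ⊔ Q),
      ψ₁ ⟨y, hyA⟩ = ((eb (χ ⟨y, hy⟩) : U) : Ω) := by
    intro y hy hyA
    rw [hψ₁def, ← hψV ⟨y, hy⟩]
    rfl
  have hg₀A : g₀ ∈ N ⊔ Q := (le_sup_left : N ≤ N ⊔ Q) hg₀N
  obtain ⟨s, hs⟩ : ∃ s, s = ψ₁ ⟨g₀, hg₀A⟩ := ⟨_, rfl⟩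
  have hsS : s ∈ S := hs ▸ (F.le_of_mem hψ₁).2 _
  obtain ⟨ψ', hψ'def⟩ : ∃ ψ' : ↥(N ⊔ Q) →* Ω, ψ' = (MulAut.conj s⁻¹).toMonoidHom.comp ψ₁ :=
    ⟨_, rfl⟩
  have hψ'val : ∀ x, ψ' x = s⁻¹ * ψ₁ x * s := by
    intro x
    rw [hψ'def]
    simp [MulAut.conj_apply]
  have hψ' : ψ' ∈ F.Hom (N ⊔ Q) := by
    refine comp_mem' F hψ₁ (F.conj_mem (le_refl S) (S.inv_mem hsS))
      (fun x => (F.le_of_mem hψ₁).2 x) ψ' (fun x => ?_)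
    rw [hψ'val]
    simp [conjHom]
  have hkey : ∀ (y : Ω) (hyA : y ∈ N ⊔ Q) (hy' : g₀ * y * g₀⁻¹ ∈ N ⊔ Q),
      ψ' ⟨g₀ * y * g₀⁻¹, hy'⟩ = ψ₁ ⟨y, hyA⟩ := by
    intro y hyA hy'
    rw [hψ'val]
    have h1 : (⟨g₀ * y * g₀⁻¹, hy'⟩ : ↥(N ⊔ Q)) = ⟨g₀, hg₀A⟩ * ⟨y, hyA⟩ * ⟨g₀, hg₀A⟩⁻¹ :=
      Subtype.ext rfl
    rw [h1, map_mul, map_mul, map_inv, ← hs]
    group
  -- the action on `Q`
  obtain ⟨γ, hγdef⟩ : ∃ γ, γ = Q.normalizerMonoidHom ⟨g₀, hg₀Q⟩ := ⟨_, rfl⟩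
  have hγK : γ ∈ K := hγdef ▸ hγ
  have hψ'Q : ∀ q : Q, ψ' ⟨q, (le_sup_right : Q ≤ N ⊔ Q) q.2⟩ =
      (((κ * κ' * γ⁻¹) q : Q) : Ω) := by
    intro q
    obtain ⟨q', hq'⟩ : ∃ q', q' = γ⁻¹ q := ⟨_, rfl⟩
    have hq : (q : Ω) = g₀ * (q' : Ω) * g₀⁻¹ := by
      have h1 : γ q' = q := by rw [hq', MulAut.apply_inv_self]
      rw [← h1, hγdef]
      rfl
    have hq'A : (q' : Ω) ∈ N ⊔ Q := (le_sup_right : Q ≤ N ⊔ Q) q'.2
    have hqA : g₀ * (q' : Ω) * g₀⁻¹ ∈ N ⊔ Q := hq ▸ (le_sup_right : Q ≤ N ⊔ Q) q.2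
    have h2 : (⟨q, (le_sup_right : Q ≤ N ⊔ Q) q.2⟩ : ↥(N ⊔ Q)) = ⟨g₀ * (q' : Ω) * g₀⁻¹, hqA⟩ :=
      Subtype.ext hq
    rw [h2, hkey _ hq'A hqA, hψ₁val _ ((le_sup_right : Q ≤ R ⊔ Q) q'.2) hq'A]
    have h3 : χ ⟨(q' : Ω), (le_sup_right : Q ≤ R ⊔ Q) q'.2⟩ =
        ⟨((κ' q' : Q) : Ω), (le_sup_right : Q ≤ R ⊔ Q) (κ' q').2⟩ := Subtype.ext (hχκ' q')
    rw [h3, hebval, hφbQ' (κ' q'), hq']
    rfl
  have hψ'R : ∀ x : R, ψ' ⟨x, (le_sup_left : N ≤ N ⊔ Q) (hRN x.2)⟩ = φ x := by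
    intro x
    obtain ⟨x', hx'⟩ : ∃ x', x' = δ⁻¹ x := ⟨_, rfl⟩
    have hδx' : δ x' = x := by rw [hx', MulAut.apply_inv_self]
    have hx : (x : Ω) = g₀ * (x' : Ω) * g₀⁻¹ := by
      rw [← hδx']; exact hg₀ x'
    have hx'A : (x' : Ω) ∈ N ⊔ Q := (le_sup_left : N ≤ N ⊔ Q) (hRN x'.2)
    have hxA : g₀ * (x' : Ω) * g₀⁻¹ ∈ N ⊔ Q := hx ▸ (le_sup_left : N ≤ N ⊔ Q) (hRN x.2)
    have h2 : (⟨x, (le_sup_left : N ≤ N ⊔ Q) (hRN x.2)⟩ : ↥(N ⊔ Q)) =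
        ⟨g₀ * (x' : Ω) * g₀⁻¹, hxA⟩ := Subtype.ext hx
    rw [h2, hkey _ hx'A hxA, hψ₁val _ ((le_sup_left : R ≤ R ⊔ Q) x'.2) hx'A]
    have h3 : χ ⟨(x' : Ω), (le_sup_left : R ≤ R ⊔ Q) x'.2⟩ =
        ⟨((δ x' : R) : Ω), (le_sup_left : R ≤ R ⊔ Q) (δ x').2⟩ := Subtype.ext (hχδ x')
    rw [h3, hebval, hφbR' (δ x'), hδx']
  have hκ'' : κ * κ' * γ⁻¹ ∈ K := K.mul_mem (K.mul_mem hκ hκ') (K.inv_mem hγK)
  have hψE : ψ'.comp (Subgroup.inclusion (le_sup_left : N ≤ N ⊔ Q)) ∈ E.Hom N := by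
    rw [hE]
    exact mem_kHom_of F hNK le_sup_left le_sup_right hψ' hκ'' hψ'Q _ (fun x => rfl)
  subst hN
  refine ⟨_, hψE, fun x hxR hxN => ?_⟩
  exact hψ'R ⟨x, hxR⟩

/-- **The `K`-normalizer system of a fully `K`-normalized subgroup is saturated.** -/
theorem kNormalizer_saturated [Finite S] {p : ℕ} [Fact p.Prime] (hS : IsPGroup p S)
    (F : FusionSystem S) (hF : F.IsSaturated p) {Q : Subgroup Ω} (K : Subgroup (MulAut Q))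
    (hQ : FullyK F Q K) (S' : Subgroup Ω) (hS' : S' = NK S Q K) (E : FusionSystem S')
    (hE : ∀ P, E.Hom P = kHom F Q K P) : E.IsSaturated p := by
  subst hS'
  intro P hP
  obtain ⟨P', U', hP'U', hQU', e, hek, hU', hfull⟩ := exists_kHom_fullyK hS F hF hQ hP
  have hP' : P' ≤ NK S Q K := by
    intro y hy
    have h1 := hek.2.2.1 (e.symm ⟨y, hy⟩)
    have h2 : (P'.subtype.comp e.toMonoidHom) (e.symm ⟨y, hy⟩) = y := by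
      show ((e (e.symm ⟨y, hy⟩) : P') : Ω) = y
      rw [MulEquiv.apply_symm_apply]
    rwa [h2] at h1
  obtain ⟨hfc, hsyl⟩ := fullyK_facts hS F hF hfull
  have hUr := receptive_of_fullyCentralized hS F hF hfc
  refine ⟨P', ⟨_, by rw [hE]; exact hek, range_subtype_comp e⟩, ?_, ?_⟩
  · exact fullyAutomized_of_sylK F K hQ.1 E hE hP' hP'U' hQU' hU' hsyl
  · exact receptive_of_sylK hS F K hQ.1 E hE hP' hP'U' hQU' hU' hUr hsyl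

/-- A fully normalized subgroup is fully `⊤`-normalized. -/
theorem fullyK_top_of_fullyNormalized (F : FusionSystem S) {Q : Subgroup Ω}
    (hQ : F.IsFullyNormalized Q) : FullyK F Q ⊤ := by
  refine ⟨hQ.1, ?_⟩
  intro T' e he
  rw [tr_top, NK_top, NK_top]
  exact hQ.2 T' ((isConj_iff_iso F).mpr ⟨e, he⟩)

theorem tr_bot {T T' : Subgroup Ω} (e : T ≃* T') : tr e (⊥ : Subgroup (MulAut T)) = ⊥ := by
  unfold tr
  exact Subgroup.map_bot _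

/-- A fully centralized subgroup is fully `⊥`-normalized. -/
theorem fullyK_bot_of_fullyCentralized (F : FusionSystem S) {Q : Subgroup Ω}
    (hQ : F.IsFullyCentralized Q) : FullyK F Q ⊥ := by
  refine ⟨hQ.1, ?_⟩
  intro T' e he
  rw [tr_bot, NK_bot, NK_bot]
  exact hQ.2 T' ((isConj_iff_iso F).mpr ⟨e, he⟩)

end Cfsg.Agent.Lib.Helper8_KNorm5
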