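import Mathlib
import Cfsg.Prelude.Def_FusionSystem
import Cfsg.Agent.Lib.Helper8_KNorm5

set_option autoImplicit false
set_option linter.style.haveILetI false
set_option linter.unusedVariables false
open Cfsg

/-!
# The `K`-normalizer fusion system as a fusion system
-/

namespace Cfsg.Agent.Lib.Helper8_KSys

open Cfsg.FusionSystem Cfsg.Agent.Lib.Helper8_Fusion
open Cfsg.Agent.Lib.Helper8_GroupFusion
open Cfsg.Agent.Lib.Helper8_Saturated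
open Cfsg.Agent.Lib.Helper8_Alperin
open Cfsg.Agent.Lib.Helper8_KNorm1
open Cfsg.Agent.Lib.Helper8_KNorm2
open Cfsg.Agent.Lib.Helper8_KNorm3
open Cfsg.Agent.Lib.Helper8_KNorm4
open Cfsg.Agent.Lib.Helper8_KNorm5

variable {Ω : Type*} [Group Ω] {S : Subgroup Ω}

theorem kHom_conj_mem [Finite S] (F : FusionSystem S) {Q : Subgroup Ω} (hQ : Q ≤ S)
    (K : Subgroup (MulAut Q)) {P : Subgroup Ω} {g : Ω} (hP : P ≤ NK S Q K) (hg : g ∈ NK S Q K) :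
    conjHom P g ∈ kHom F Q K P := by
  obtain ⟨hgS, hgN, hgK⟩ := mem_NK.mp hg
  have hPQS : P ⊔ Q ≤ S := sup_le (hP.trans (NK_le Q K)) hQ
  exact mem_kHom_of F hP le_sup_left le_sup_right (F.conj_mem hPQS hgS) hgK (fun q => rfl)
    (conjHom P g) (fun x => rfl)

theorem kHom_comp_mem [Finite S] (F : FusionSystem S) {Q : Subgroup Ω}
    (K : Subgroup (MulAut Q)) {P P' : Subgroup Ω} {φ : P →* Ω} {ψ : P' →* Ω}
    (hφ : φ ∈ kHom F Q K P) (hψ : ψ ∈ kHom F Q K P') (h : ∀ x : P, φ x ∈ P') :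
    ψ.comp (φ.codRestrict P' h) ∈ kHom F Q K P := by
  obtain ⟨hφF, hPN, hφN, φ', hφ', hφ'P, κ₁, hκ₁, hφ'Q⟩ := hφ
  obtain ⟨hψF, hP'N, hψN, ψ', hψ', hψ'P, κ₂, hκ₂, hψ'Q⟩ := hψ
  have hvals : ∀ x : ↥(P ⊔ Q), φ' x ∈ P' ⊔ Q := by
    apply sup_vals
    · intro x hx
      have := hφ'P ⟨x, hx⟩
      have h2 : φ' ⟨x, (le_sup_left : P ≤ P ⊔ Q) hx⟩ = φ ⟨x, hx⟩ := this
      rw [h2]
      exact h _
    · intro x hx
      have := hφ'Q ⟨x, hx⟩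
      have h2 : φ' ⟨x, (le_sup_right : Q ≤ P ⊔ Q) hx⟩ = ((κ₁ ⟨x, hx⟩ : Q) : Ω) := this
      rw [h2]
      exact (κ₁ ⟨x, hx⟩).2
  have hΨ := F.comp_mem hφ' hψ' hvals
  refine mem_kHom_of F hPN le_sup_left le_sup_right hΨ (K.mul_mem hκ₂ hκ₁) ?_ _ ?_
  · intro q
    show ψ' ⟨φ' ⟨q, _⟩, _⟩ = ((κ₂ (κ₁ q) : Q) : Ω)
    have h1 : φ' ⟨(q : Ω), (le_sup_right : Q ≤ P ⊔ Q) q.2⟩ = ((κ₁ q : Q) : Ω) := hφ'Q q
    have h2 := hψ'Q (κ₁ q)
    rw [← h2]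
    congr 1
    exact Subtype.ext h1
  · intro x
    show ψ ⟨φ x, _⟩ = ψ' ⟨φ' ⟨x, _⟩, _⟩
    have h1 : φ' ⟨(x : Ω), (le_sup_left : P ≤ P ⊔ Q) x.2⟩ = φ x := hφ'P x
    have h2 := hψ'P ⟨φ x, h x⟩
    rw [← h2]
    congr 1
    exact Subtype.ext h1.symm

theorem kHom_inv_mem [Finite S] (F : FusionSystem S) {Q : Subgroup Ω}
    (K : Subgroup (MulAut Q)) {P : Subgroup Ω} {φ : P →* Ω}
    (hφ : φ ∈ kHom F Q K P) :
    ∃ ψ ∈ kHom F Q K φ.range, ∀ x : P, ψ ⟨φ x, ⟨x, rfl⟩⟩ = (x : Ω) := by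
  obtain ⟨hφF, hPN, hφN, φ', hφ', hφ'P, κ, hκ, hφ'Q⟩ := hφ
  obtain ⟨θ, hθ, hθφ⟩ := F.inv_mem hφ'
  have hrP : φ.range ≤ φ'.range := by
    rintro _ ⟨x, rfl⟩
    exact ⟨Subgroup.inclusion le_sup_left x, hφ'P x⟩
  have hrQ : Q ≤ φ'.range := by
    intro y hy
    refine ⟨Subgroup.inclusion le_sup_right (κ⁻¹ ⟨y, hy⟩), ?_⟩
    rw [hφ'Q, MulAut.apply_inv_self]
  have hrN : φ.range ≤ NK S Q K := by
    rintro _ ⟨x, rfl⟩
    exact hφN x
  refine ⟨θ.comp (Subgroup.inclusion hrP), ?_, ?_⟩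
  · refine mem_kHom_of F hrN hrP hrQ hθ (K.inv_mem hκ) ?_ _ (fun x => rfl)
    intro q
    have h1 := hθφ (Subgroup.inclusion le_sup_right (κ⁻¹ q))
    have h2 : φ' (Subgroup.inclusion le_sup_right (κ⁻¹ q)) = (q : Ω) := by
      rw [hφ'Q, MulAut.apply_inv_self]
    have h3 : (⟨(q : Ω), hrQ q.2⟩ : φ'.range) =
        ⟨φ' (Subgroup.inclusion le_sup_right (κ⁻¹ q)), ⟨_, rfl⟩⟩ := Subtype.ext h2.symm
    rw [h3, h1]
    rfl
  · intro x
    have h1 := hθφ (Subgroup.inclusion le_sup_left x)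
    have h3 : (Subgroup.inclusion hrP ⟨φ x, ⟨x, rfl⟩⟩ : φ'.range) =
        ⟨φ' (Subgroup.inclusion le_sup_left x), ⟨_, rfl⟩⟩ := Subtype.ext (hφ'P x).symm
    show θ (Subgroup.inclusion hrP ⟨φ x, ⟨x, rfl⟩⟩) = (x : Ω)
    rw [h3, h1]
    rfl

/-- The `K`-normalizer fusion system `N_F^K(Q)`, over any subgroup equal to `N_S^K(Q)`. -/
def kSystem [Finite S] (F : FusionSystem S) {Q : Subgroup Ω} (hQ : Q ≤ S)
    (K : Subgroup (MulAut Q)) (S' : Subgroup Ω) (hS' : S' = NK S Q K) : FusionSystem S' where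
  Hom P := kHom F Q K P
  le_of_mem := by
    intro P φ h
    subst hS'
    exact ⟨h.2.1, h.2.2.1⟩
  injective_of_mem := fun h => F.injective_of_mem h.1
  conj_mem := by
    intro P g hP hg
    subst hS'
    exact kHom_conj_mem F hQ K hP hg
  comp_mem := fun hφ hψ h => kHom_comp_mem F K hφ hψ h
  inv_mem := fun hφ => kHom_inv_mem F K hφ

theorem kSystem_hom [Finite S] (F : FusionSystem S) {Q : Subgroup Ω} (hQ : Q ≤ S)
    (K : Subgroup (MulAut Q)) (S' : Subgroup Ω) (hS' : S' = NK S Q K) (P : Subgroup Ω) :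
    (kSystem F hQ K S' hS').Hom P = kHom F Q K P := rfl

/-- Existence of the normalizer fusion system. -/
theorem exists_normalizerSystem [Finite S] (F : FusionSystem S) {Q : Subgroup Ω} (hQ : Q ≤ S) :
    ∃ N : FusionSystem (normalizerIn S Q), F.IsNormalizerSystem Q N :=
  ⟨kSystem F hQ ⊤ _ (NK_top Q).symm, fun P => kHom_top F Q P⟩

/-- Existence of the centralizer fusion system. -/
theorem exists_centralizerSystem [Finite S] (F : FusionSystem S) {Q : Subgroup Ω} (hQ : Q ≤ S) :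
    ∃ C : FusionSystem (centralizerIn S Q), F.IsCentralizerSystem Q C :=
  ⟨kSystem F hQ ⊥ _ (NK_bot Q).symm, fun P => kHom_bot F Q P⟩

end Cfsg.Agent.Lib.Helper8_KSys
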