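import Mathlib
import Cfsg.Prelude.Def_FusionComponents
import Cfsg.Agent.Lib.Helper8_Alperin
import Cfsg.Agent.Lib.Helper8_FactorSat
import Cfsg.Agent.S5106

set_option autoImplicit false
set_option linter.style.haveILetI false
set_option linter.unusedVariables false
open Cfsg

namespace Cfsg.Agent.Lib.Helper8_NormalClosure

open Cfsg.FusionSystem Cfsg.Agent.Lib.Helper8_Fusion
open Cfsg.Agent.Lib.Helper8_Saturated
open Cfsg.Agent.Lib.Helper8_Alperin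
open Cfsg.Agent.Lib.Helper8_FactorSat

variable {Ω : Type*} [Group Ω] {S : Subgroup Ω}

/-- The image of `P` under an automorphism `α` of `T`, as a subgroup of the ambient group. -/
abbrev img {T : Subgroup Ω} (α : MulAut T) (P : Subgroup Ω) : Subgroup Ω :=
  (P.subgroupOf T).map (T.subtype.comp α.toMonoidHom)

theorem mem_img {T : Subgroup Ω} (α : MulAut T) (P : Subgroup Ω) (y : Ω) :
    y ∈ img α P ↔ ∃ t : T, (t : Ω) ∈ P ∧ ((α t : T) : Ω) = y := by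
  constructor
  · rintro ⟨t, ht, rfl⟩; exact ⟨t, ht, rfl⟩
  · rintro ⟨t, ht, rfl⟩; exact ⟨t, ht, rfl⟩

theorem img_le {T : Subgroup Ω} (α : MulAut T) (P : Subgroup Ω) : img α P ≤ T := by
  rintro _ ⟨t, -, rfl⟩; exact (α t).2

/-- Transport of normality of a subgroup along an automorphism of `T` under which the subsystem
is invariant. -/
theorem img_isNormal [Finite S] {p : ℕ} [Fact p.Prime] (hS : IsPGroup p S)
    (F : FusionSystem S) {T : Subgroup Ω} (E : FusionSystem T) (hEsat : E.IsSaturated p)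
    (hTS : T ≤ S)
    (hinv : ∀ (P : Subgroup Ω) (hPT : P ≤ T) (φ : P →* Ω), φ ∈ E.Hom P → ∀ α ∈ F.autGroup T,
      ∃ χ ∈ E.Hom ((P.subgroupOf T).map (T.subtype.comp α.toMonoidHom)),
        ∀ (x : P) (hφx : φ x ∈ T)
          (hαx : ((α ⟨x, hPT x.2⟩ : T) : Ω) ∈ (P.subgroupOf T).map (T.subtype.comp α.toMonoidHom)),
          χ ⟨(α ⟨x, hPT x.2⟩ : T), hαx⟩ = ((α ⟨φ x, hφx⟩ : T) : Ω))
    {R : Subgroup Ω} (hR : E.IsNormal R) {α : MulAut T} (hα : α ∈ F.autGroup T) :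
    E.IsNormal (img α R) := by
  haveI : Finite T := finite_of_le hTS
  have hTp : IsPGroup p T := hS.to_le hTS
  have hRT : R ≤ T := hR.1
  rw [Cfsg.Agent.S5106.result p hTp E hEsat (img α R) (img_le α R)]
  intro P hPR' ψ hψ
  have hPT : P ≤ T := hPR'.trans (img_le α R)
  have hψT : ∀ x : P, ψ x ∈ T := (E.le_of_mem hψ).2
  have hαinv : α⁻¹ ∈ F.autGroup T := Subgroup.inv_mem _ hα
  obtain ⟨χ, hχ, hχeq⟩ := hinv P hPT ψ hψ α⁻¹ hαinv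
  have hle : img α⁻¹ P ≤ R := by
    rintro _ ⟨t, ht, rfl⟩
    obtain ⟨r, hr, hrt⟩ := (mem_img α R _).mp (hPR' ht)
    have h1 : α r = t := Subtype.ext hrt
    show ((α⁻¹ t : T) : Ω) ∈ R
    rw [← h1]
    have h2 : α⁻¹ (α r) = r := by simp
    rw [h2]; exact hr
  obtain ⟨β, hβ, hβeq⟩ := (Cfsg.Agent.S5106.result p hTp E hEsat R hRT).mp hR (img α⁻¹ P) hle χ hχ
  have hβE : R.subtype.comp β.toMonoidHom ∈ E.Hom R := (mem_autGroup_iff E hRT β).mp hβ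
  obtain ⟨χ', hχ', hχ'eq⟩ := hinv R hRT _ hβE α hα
  have hvals : ∀ z : img α R, χ' z ∈ img α R := by
    rintro ⟨_, t, ht, rfl⟩
    have ht' : (t : Ω) ∈ R := ht
    have h1 := hχ'eq ⟨t, ht'⟩ (hRT (β ⟨t, ht'⟩).2) ⟨t, ht, rfl⟩
    have h2 : (⟨(T.subtype.comp α.toMonoidHom) t, ⟨t, ht, rfl⟩⟩ : img α R) =
        ⟨(α ⟨((⟨t, ht'⟩ : R) : Ω), hRT ht'⟩ : T), ⟨t, ht, rfl⟩⟩ := Subtype.ext rfl
    rw [h2, h1]
    exact (mem_img α R _).mpr ⟨⟨(β ⟨t, ht'⟩ : R), hRT (β ⟨t, ht'⟩).2⟩, (β ⟨t, ht'⟩).2, rfl⟩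
  haveI : Finite (img α R) := finite_of_le ((img_le α R).trans hTS)
  obtain ⟨e, he, hee⟩ := iso_of_hom E hχ' (range_eq_of_vals (E.injective_of_mem hχ') hvals)
  refine ⟨e, (mem_autGroup_iff E (img_le α R) e).mpr he, ?_⟩
  intro x
  rw [hee]
  -- notation
  obtain ⟨t, htdef⟩ : ∃ t : T, t = ⟨x, hPT x.2⟩ := ⟨_, rfl⟩
  obtain ⟨s, hsdef⟩ : ∃ s : T, s = α⁻¹ t := ⟨_, rfl⟩
  have hsimg : (s : Ω) ∈ img α⁻¹ P := by
    rw [hsdef]
    exact (mem_img α⁻¹ P _).mpr ⟨t, by rw [htdef]; exact x.2, rfl⟩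
  have hsR : (s : Ω) ∈ R := hle hsimg
  have h1 := hχeq x (hψT x) (by rw [← htdef, ← hsdef]; exact hsimg)
  have h2 := hβeq ⟨(s : Ω), hsimg⟩
  have h3 : χ ⟨(s : Ω), hsimg⟩ = ((α⁻¹ ⟨ψ x, hψT x⟩ : T) : Ω) := by
    rw [← h1]
    congr 1
    apply Subtype.ext
    show (s : Ω) = ((α⁻¹ ⟨(x : Ω), hPT x.2⟩ : T) : Ω)
    rw [hsdef, htdef]
  have h4 : β ⟨(s : Ω), hsR⟩ = ⟨((α⁻¹ ⟨ψ x, hψT x⟩ : T) : Ω), by rw [← h3, ← h2]; exact (β _).2⟩ := by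
    apply Subtype.ext
    show ((β ⟨(s : Ω), hsR⟩ : R) : Ω) = _
    rw [← h3, ← h2]
    rfl
  have hαs : α s = t := by rw [hsdef]; simp
  have h5 := hχ'eq ⟨(s : Ω), hsR⟩ (hRT (β ⟨(s : Ω), hsR⟩).2) (by
    have : (⟨((⟨(s : Ω), hsR⟩ : R) : Ω), hRT hsR⟩ : T) = s := Subtype.ext rfl
    rw [this, hαs, htdef]
    exact hPR' x.2)
  have h6 : (Subgroup.inclusion hPR' x : img α R) =
      ⟨((α ⟨((⟨(s : Ω), hsR⟩ : R) : Ω), hRT hsR⟩ : T) : Ω), by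
        have : (⟨((⟨(s : Ω), hsR⟩ : R) : Ω), hRT hsR⟩ : T) = s := Subtype.ext rfl
        rw [this, hαs, htdef]
        exact hPR' x.2⟩ := by
    apply Subtype.ext
    have : (⟨((⟨(s : Ω), hsR⟩ : R) : Ω), hRT hsR⟩ : T) = s := Subtype.ext rfl
    show (x : Ω) = ((α ⟨((⟨(s : Ω), hsR⟩ : R) : Ω), hRT hsR⟩ : T) : Ω)
    rw [this, hαs, htdef]
  rw [h6, h5]
  show ((α ⟨((β ⟨(s : Ω), hsR⟩ : R) : Ω), _⟩ : T) : Ω) = ψ x
  have h7 : (⟨((β ⟨(s : Ω), hsR⟩ : R) : Ω), hRT (β ⟨(s : Ω), hsR⟩).2⟩ : T) =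
      α⁻¹ ⟨ψ x, hψT x⟩ := by
    apply Subtype.ext
    show ((β ⟨(s : Ω), hsR⟩ : R) : Ω) = _
    rw [h4]
  rw [h7]
  simp

/-- **The normal closure in `F` of a subgroup normal in a weakly normal subsystem is normal in
`F`.** -/
theorem normalClosure_isNormal [Finite S] {p : ℕ} [Fact p.Prime] (hS : IsPGroup p S)
    (F : FusionSystem S) (hF : F.IsSaturated p) {T : Subgroup Ω} (E : FusionSystem T)
    (hE : E.IsWeaklyNormalIn F p) (R : Subgroup Ω) (hR : E.IsNormal R) :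
    F.IsNormal (Subgroup.closure {x : Ω | ∃ φ ∈ F.Hom R, ∃ r : R, x = φ r}) := by
  obtain ⟨hEsat, -, hEF, hTsc, hinv, hfrat⟩ := hE
  have hTS : T ≤ S := hTsc.1
  haveI : Finite T := finite_of_le hTS
  have hTp : IsPGroup p T := hS.to_le hTS
  have hRT : R ≤ T := hR.1
  obtain ⟨Rs, hRsdef⟩ : ∃ Rs, Rs = Subgroup.closure {x : Ω | ∃ φ ∈ F.Hom R, ∃ r : R, x = φ r} :=
    ⟨_, rfl⟩
  rw [← hRsdef]
  have hRsT : Rs ≤ T := by
    rw [hRsdef, Subgroup.closure_le]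
    rintro _ ⟨φ, hφ, r, rfl⟩
    exact hTsc.2 R hRT φ hφ r
  have hRsS : Rs ≤ S := hRsT.trans hTS
  haveI : Finite Rs := finite_of_le hRsS
  have hαF : ∀ α ∈ F.autGroup T, T.subtype.comp α.toMonoidHom ∈ F.Hom T :=
    fun α hα => (mem_autGroup_iff F hTS α).mp hα
  -- images of `R` lie in `Rs`
  have himgRs : ∀ α ∈ F.autGroup T, img α R ≤ Rs := by
    intro α hα y hy
    obtain ⟨t, ht, rfl⟩ := (mem_img α R y).mp hy
    rw [hRsdef]
    apply Subgroup.subset_closure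
    exact ⟨(T.subtype.comp α.toMonoidHom).comp (Subgroup.inclusion hRT),
      restrict_mem F hRT (hαF α hα), ⟨t, ht⟩, rfl⟩
  have himgN : ∀ α ∈ F.autGroup T, E.IsNormal (img α R) :=
    fun α hα => img_isNormal hS F E hEsat hTS hinv hR hα
  -- `Rs` is normal in `E`
  have hRsE : E.IsNormal Rs := by
    let 𝒩 : Set (Subgroup Ω) := {Q | E.IsNormal Q ∧ Q ≤ Rs}
    have h1 : sSup 𝒩 ∈ 𝒩 := by
      apply sSup_mem_of_sup_closed (S := T) 𝒩 (fun Q hQ => hQ.1.1) ⟨⊥, isNormal_bot E, bot_le⟩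
      intro Q₁ h₁ Q₂ h₂
      exact ⟨isNormal_sup E h₁.1 h₂.1, sup_le h₁.2 h₂.2⟩
    have h2 : Rs ≤ sSup 𝒩 := by
      rw [hRsdef, Subgroup.closure_le]
      rintro _ ⟨φ, hφ, r, rfl⟩
      obtain ⟨α, hα, φ₀, hφ₀, hφeq⟩ := hfrat R hRT φ hφ
      have hwc := stronglyClosed_of_isNormal E hR
      have h3 : φ₀ r ∈ R := hwc.2 R le_rfl φ₀ hφ₀ r
      have h4 : φ r ∈ img α R := by
        rw [hφeq r (hRT h3)]
        exact (mem_img α R _).mpr ⟨⟨φ₀ r, hRT h3⟩, h3, rfl⟩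
      have h5 : img α R ≤ sSup 𝒩 := le_sSup ⟨himgN α hα, himgRs α hα⟩
      exact h5 h4
    have h3 : sSup 𝒩 = Rs := le_antisymm h1.2 h2
    rw [← h3]; exact h1.1
  -- `Rs` is invariant under `Aut_F(T)`
  have hRsinv : ∀ α ∈ F.autGroup T, ∀ t : T, (t : Ω) ∈ Rs → ((α t : T) : Ω) ∈ Rs := by
    intro α hα
    have hle : Rs ≤ ((Rs.subgroupOf T).comap α.toMonoidHom).map T.subtype := by
      rw [hRsdef, Subgroup.closure_le]
      rintro _ ⟨φ, hφ, r, rfl⟩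
      have hφT : ∀ x : R, φ x ∈ T := hTsc.2 R hRT φ hφ
      refine ⟨⟨φ r, hφT r⟩, ?_, rfl⟩
      show ((α ⟨φ r, hφT r⟩ : T) : Ω) ∈ Subgroup.closure _
      apply Subgroup.subset_closure
      refine ⟨(T.subtype.comp α.toMonoidHom).comp (φ.codRestrict T hφT),
        F.comp_mem hφ (hαF α hα) hφT, r, rfl⟩
    intro t ht
    obtain ⟨t', ht', htt'⟩ := hle ht
    have : t' = t := Subtype.ext htt'
    rw [← this]
    exact ht'
  -- apply the criterion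
  rw [Cfsg.Agent.S5106.result p hS F hF Rs hRsS]
  intro P hPRs φ hφ
  have hPT : P ≤ T := hPRs.trans hRsT
  obtain ⟨α, hα, φ₀, hφ₀, hφeq⟩ := hfrat P hPT φ hφ
  obtain ⟨β₀, hβ₀, hβ₀eq⟩ := (Cfsg.Agent.S5106.result p hTp E hEsat Rs hRsT).mp hRsE P hPRs φ₀ hφ₀
  have hβ₀F : β₀ ∈ Iso F Rs Rs := hEF Rs ((mem_autGroup_iff E hRsT β₀).mp hβ₀)
  have himg : (Rs.subgroupOf T).map (T.subtype.comp α.toMonoidHom) = Rs := by
    apply Subgroup.eq_of_le_of_card_ge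
    · rintro _ ⟨t, ht, rfl⟩
      exact hRsinv α hα t ht
    · have h1 : Nat.card ((Rs.subgroupOf T).map (T.subtype.comp α.toMonoidHom)) =
          Nat.card (Rs.subgroupOf T) :=
        Subgroup.card_map_of_injective (F.injective_of_mem (hαF α hα))
      rw [h1]
      exact (Nat.card_congr (Subgroup.subgroupOfEquivOfLe hRsT).toEquiv).ge
  have hαR := restrictEquiv_mem F (hαF α hα) hRsT himg
  have hγ := iso_trans F hβ₀F hαR
  refine ⟨_, (mem_autGroup_iff F hRsS _).mpr hγ, ?_⟩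
  intro x
  have hφ₀T : φ₀ x ∈ T := (E.le_of_mem hφ₀).2 x
  rw [hφeq x hφ₀T]
  show (T.subtype.comp α.toMonoidHom) ⟨((β₀ (Subgroup.inclusion hPRs x) : Rs) : Ω), _⟩ = _
  show ((α ⟨((β₀ (Subgroup.inclusion hPRs x) : Rs) : Ω), _⟩ : T) : Ω) = _
  congr 2
  apply Subtype.ext
  exact hβ₀eq x

end Cfsg.Agent.Lib.Helper8_NormalClosure
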