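import Mathlib
import Cfsg.Prelude.Def_FusionComponents
import Cfsg.Agent.Lib.Helper8_Alperin
import Cfsg.Agent.Lib.Helper8_Hyperfocal
import Cfsg.Agent.Lib.Helper8_Generating

set_option autoImplicit false
set_option linter.style.haveILetI false
set_option linter.unusedVariables false
open Cfsg

namespace Cfsg.Agent.Lib.Helper8_PPower

open Cfsg.FusionSystem Cfsg.Agent.Lib.Helper8_Fusion
open Cfsg.Agent.Lib.Helper8_GroupFusion
open Cfsg.Agent.Lib.Helper8_Saturated
open Cfsg.Agent.Lib.Helper8_Alperin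
open Cfsg.Agent.Lib.Helper8_Hyperfocal

variable {Ω : Type*} [Group Ω]

/-- The full subsystem of `F₀` (over `U`) on the subgroup `T ≤ U`. -/
def restrictSystem {U : Subgroup Ω} (F₀ : FusionSystem U) (T : Subgroup Ω) (hTU : T ≤ U) :
    FusionSystem T where
  Hom P := {φ | φ ∈ F₀.Hom P ∧ P ≤ T ∧ ∀ x : P, φ x ∈ T}
  le_of_mem h := ⟨h.2.1, h.2.2⟩
  injective_of_mem h := F₀.injective_of_mem h.1
  conj_mem := by
    intro P g hP hg
    refine ⟨F₀.conj_mem (hP.trans hTU) (hTU hg), hP, fun x => ?_⟩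
    exact T.mul_mem (T.mul_mem hg (hP x.2)) (T.inv_mem hg)
  comp_mem := by
    intro P Q φ ψ hφ hψ h
    exact ⟨F₀.comp_mem hφ.1 hψ.1 h, hφ.2.1, fun x => hψ.2.2 _⟩
  inv_mem := by
    intro P φ hφ
    obtain ⟨ψ, hψ, hψφ⟩ := F₀.inv_mem hφ.1
    refine ⟨ψ, ⟨hψ, ?_, ?_⟩, hψφ⟩
    · rintro _ ⟨x, rfl⟩
      exact hφ.2.2 x
    · rintro ⟨_, x, rfl⟩
      rw [hψφ x]
      exact hφ.2.1 x.2

theorem autGroup_restrictSystem_of_mem {U : Subgroup Ω} (F₀ : FusionSystem U) {T : Subgroup Ω}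
    (hTU : T ≤ U) {R : Subgroup Ω} (hRT : R ≤ T) {α : MulAut R} (hα : α ∈ F₀.autGroup R) :
    α ∈ (restrictSystem F₀ T hTU).autGroup R := by
  rw [mem_autGroup_iff _ hRT]
  rw [mem_autGroup_iff _ (hRT.trans hTU)] at hα
  exact ⟨hα, hRT, fun x => hRT (α x).2⟩

/-- A saturated subsystem `E ≤ F` over `T` is contained in every subsystem `F₀` over `U ≥ T` of
`p`-power index in `F`. -/
theorem le_of_pPowerIndex {S T U : Subgroup Ω} [Finite T] {p : ℕ} [Fact p.Prime]
    (hT : IsPGroup p T) (F : FusionSystem S) (E : FusionSystem T) (hEsat : E.IsSaturated p)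
    (hEF : E.IsSubsystemOf F) (F₀ : FusionSystem U) (hTU : T ≤ U)
    (hidx : ∀ P : Subgroup Ω, P ≤ U →
      (pResidual p (F.autGroup P)).map (F.autGroup P).subtype ≤ F₀.autGroup P) :
    E.IsSubsystemOf F₀ := by
  have hTS : T ≤ S := (F.le_of_mem (hEF T (Cfsg.Agent.Lib.Helper8_Generating.subtype_mem E le_rfl))).1
  have hle := alperin hT E hEsat (restrictSystem F₀ T hTU) (by
    intro R hR
    have hRfn : E.IsFullyNormalized R := by
      rcases hR with rfl | hR
      · exact top_fullyNormalized E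
      · exact hR.2.1
    have hRT : R ≤ T := hRfn.1
    obtain ⟨-, hRa⟩ := fullyNormalized_facts hT E hEsat hRfn
    intro α hα
    obtain ⟨γ, hγ, β, hβ, rfl⟩ := aut_decomp E hRa hα
    refine Subgroup.mul_mem _ ?_ ?_
    · exact autInducedBy_le_autGroup (restrictSystem F₀ T hTU) hRT hγ
    · apply autGroup_restrictSystem_of_mem F₀ hTU hRT
      apply hidx R (hRT.trans hTU)
      have hEFR : E.autGroup R ≤ F.autGroup R := by
        intro δ hδ
        rw [mem_autGroup_iff E hRT] at hδ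
        rw [mem_autGroup_iff F (hRT.trans hTS)]
        exact hEF R hδ
      have h1 := map_pResidual_le p (Subgroup.inclusion hEFR) ⟨β, hβ, rfl⟩
      exact ⟨Subgroup.inclusion hEFR β, h1, rfl⟩)
  intro P φ hφ
  exact (hle P hφ).1

end Cfsg.Agent.Lib.Helper8_PPower
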