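import Mathlib
import Cfsg.Prelude.Def_FusionComponents
import Cfsg.Agent.Lib.Helper8_Alperin
import Cfsg.Agent.Lib.Helper8_FactorSat
import Cfsg.Agent.Lib.Helper8_PPower
import Cfsg.Agent.Lib.Helper8_NormalClosure
import Cfsg.Agent.Lib.Helper5_Residual

set_option autoImplicit false
set_option linter.style.haveILetI false
set_option linter.unusedVariables false
open Cfsg

namespace Cfsg.Agent.Lib.Helper8_StrongInv

open Cfsg.FusionSystem Cfsg.Agent.Lib.Helper8_Fusion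
open Cfsg.Agent.Lib.Helper8_Saturated
open Cfsg.Agent.Lib.Helper8_Alperin
open Cfsg.Agent.Lib.Helper8_FactorSat
open Cfsg.Agent.Lib.Helper8_PPower
open Cfsg.Agent.Lib.Helper8_NormalClosure
open Cfsg.Agent.Lib.Helper8_Generating

variable {Ω : Type*} [Group Ω] {S : Subgroup Ω}

/-- Invariance of `E` under `Aut_F(T)`. -/
def AutInv (F : FusionSystem S) {T : Subgroup Ω} (E : FusionSystem T) : Prop :=
  ∀ (P : Subgroup Ω) (hPT : P ≤ T) (φ : P →* Ω), φ ∈ E.Hom P → ∀ α ∈ F.autGroup T,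
    ∃ χ ∈ E.Hom ((P.subgroupOf T).map (T.subtype.comp α.toMonoidHom)),
      ∀ (x : P) (hφx : φ x ∈ T)
        (hαx : ((α ⟨x, hPT x.2⟩ : T) : Ω) ∈ (P.subgroupOf T).map (T.subtype.comp α.toMonoidHom)),
        χ ⟨(α ⟨x, hPT x.2⟩ : T), hαx⟩ = ((α ⟨φ x, hφx⟩ : T) : Ω)

/-- The strong invariance condition. -/
def StrongInv (F : FusionSystem S) {T : Subgroup Ω} (E : FusionSystem T) : Prop :=
  ∀ (P Q : Subgroup Ω) (hPQ : P ≤ Q) (_ : Q ≤ T) (φ : P →* Ω) (_ : φ ∈ E.Hom P)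
    (hφQ : ∀ x : P, φ x ∈ Q) (ψ : Q →* Ω) (_ : ψ ∈ F.Hom Q),
    ∃ χ ∈ E.Hom ((P.subgroupOf Q).map ψ),
      ∀ (x : P) (hx : ψ (Subgroup.inclusion hPQ x) ∈ (P.subgroupOf Q).map ψ),
        χ ⟨ψ (Subgroup.inclusion hPQ x), hx⟩ = ψ ⟨φ x, hφQ x⟩

/-- A map is decomposable: an element of `Aut_F(T)` composed with a map of `E`. -/
def Dec (F : FusionSystem S) {T : Subgroup Ω} (E : FusionSystem T) (P : Subgroup Ω)
    (φ : P →* Ω) : Prop :=
  ∃ α ∈ F.autGroup T, ∃ φ₀ ∈ E.Hom P, ∀ (x : P) (hx : φ₀ x ∈ T), φ x = ((α ⟨φ₀ x, hx⟩ : T) : Ω)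

theorem strongInv_autInv (F : FusionSystem S) {T : Subgroup Ω} (E : FusionSystem T) (hTS : T ≤ S)
    (hsi : StrongInv F E) : AutInv F E := by
  intro P hPT φ hφ α hα
  have hαF : T.subtype.comp α.toMonoidHom ∈ F.Hom T := (mem_autGroup_iff F hTS α).mp hα
  obtain ⟨χ, hχ, hχeq⟩ := hsi P T hPT le_rfl φ hφ (E.le_of_mem hφ).2 _ hαF
  refine ⟨χ, hχ, ?_⟩
  intro x hφx hαx
  exact hχeq x hαx

theorem dec_of_mem (F : FusionSystem S) {T : Subgroup Ω} (E : FusionSystem T) {P : Subgroup Ω}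
    {φ : P →* Ω} (hφ : φ ∈ E.Hom P) : Dec F E P φ :=
  ⟨1, Subgroup.one_mem _, φ, hφ, fun x hx => rfl⟩

theorem dec_comp (F : FusionSystem S) {T : Subgroup Ω} (E : FusionSystem T)
    (hinv : AutInv F E) {P Q : Subgroup Ω} {φ : P →* Ω} {ψ : Q →* Ω}
    (hφ : Dec F E P φ) (hψ : Dec F E Q ψ) (h : ∀ x : P, φ x ∈ Q) :
    Dec F E P (ψ.comp (φ.codRestrict Q h)) := by
  obtain ⟨α, hα, φ₀, hφ₀, hφeq⟩ := hφ
  obtain ⟨β, hβ, ψ₀, hψ₀, hψeq⟩ := hψ
  have hQT : Q ≤ T := (E.le_of_mem hψ₀).1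
  have hφ₀T : ∀ x : P, φ₀ x ∈ T := (E.le_of_mem hφ₀).2
  have hψ₀T : ∀ y : Q, ψ₀ y ∈ T := (E.le_of_mem hψ₀).2
  have hle : φ.range ≤ Q := by rintro _ ⟨x, rfl⟩; exact h x
  have hrT : φ.range ≤ T := hle.trans hQT
  have hψ₁ : ψ₀.comp (Subgroup.inclusion hle) ∈ E.Hom φ.range := restrict_mem E hle hψ₀
  obtain ⟨χ, hχ, hχeq⟩ := hinv φ.range hrT _ hψ₁ α⁻¹ (Subgroup.inv_mem _ hα)
  have hφx : ∀ x : P, (⟨φ x, hQT (h x)⟩ : T) = α ⟨φ₀ x, hφ₀T x⟩ :=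
    fun x => Subtype.ext (hφeq x (hφ₀T x))
  have hback : ∀ x : P, α⁻¹ ⟨φ x, hQT (h x)⟩ = ⟨φ₀ x, hφ₀T x⟩ := by
    intro x
    rw [hφx x]; simp
  have hvals : ∀ x : P, φ₀ x ∈ img α⁻¹ φ.range := by
    intro x
    exact (mem_img α⁻¹ φ.range _).mpr ⟨⟨φ x, hQT (h x)⟩, ⟨x, rfl⟩, by rw [hback x]⟩
  refine ⟨β * α, Subgroup.mul_mem _ hβ hα, χ.comp (φ₀.codRestrict _ hvals),
    E.comp_mem hφ₀ hχ hvals, ?_⟩
  intro x hx
  show ψ ⟨φ x, h x⟩ = ((β (α ⟨χ ⟨φ₀ x, hvals x⟩, hx⟩) : T) : Ω)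
  rw [hψeq ⟨φ x, h x⟩ (hψ₀T _)]
  have hmem : ((α⁻¹ ⟨φ x, hQT (h x)⟩ : T) : Ω) ∈ img α⁻¹ φ.range := by
    rw [hback x]; exact hvals x
  have h1 : χ ⟨((α⁻¹ ⟨φ x, hQT (h x)⟩ : T) : Ω), hmem⟩ =
      ((α⁻¹ ⟨ψ₀ ⟨φ x, h x⟩, hψ₀T _⟩ : T) : Ω) := hχeq ⟨φ x, ⟨x, rfl⟩⟩ (hψ₀T _) hmem
  have h2 : (⟨χ ⟨φ₀ x, hvals x⟩, hx⟩ : T) = α⁻¹ ⟨ψ₀ ⟨φ x, h x⟩, hψ₀T _⟩ := by
    apply Subtype.ext
    show χ ⟨φ₀ x, hvals x⟩ = _
    rw [← h1]
    congr 1
    apply Subtype.ext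
    show φ₀ x = ((α⁻¹ ⟨φ x, _⟩ : T) : Ω)
    rw [hback x]
  rw [h2]
  simp

theorem dec_inv (F : FusionSystem S) {T : Subgroup Ω} (E : FusionSystem T)
    (hinv : AutInv F E) {P : Subgroup Ω} {φ : P →* Ω}
    (hφ : Dec F E P φ) (ψ : φ.range →* Ω) (hψ : ∀ x : P, ψ ⟨φ x, ⟨x, rfl⟩⟩ = (x : Ω)) :
    Dec F E φ.range ψ := by
  obtain ⟨α, hα, φ₀, hφ₀, hφeq⟩ := hφ
  have hφ₀T : ∀ x : P, φ₀ x ∈ T := (E.le_of_mem hφ₀).2
  have hPT : P ≤ T := (E.le_of_mem hφ₀).1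
  obtain ⟨θ, hθ, hθeq⟩ := E.inv_mem hφ₀
  have hr₀T : φ₀.range ≤ T := by rintro _ ⟨x, rfl⟩; exact hφ₀T x
  obtain ⟨χ, hχ, hχeq⟩ := hinv φ₀.range hr₀T θ hθ α hα
  have hle : φ.range ≤ img α φ₀.range := by
    rintro _ ⟨x, rfl⟩
    exact (mem_img α φ₀.range _).mpr ⟨⟨φ₀ x, hφ₀T x⟩, ⟨x, rfl⟩, (hφeq x (hφ₀T x)).symm⟩
  refine ⟨α⁻¹, Subgroup.inv_mem _ hα, χ.comp (Subgroup.inclusion hle), restrict_mem E hle hχ, ?_⟩
  rintro ⟨_, x, rfl⟩ hy
  rw [hψ x]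
  have h1 := hχeq ⟨φ₀ x, ⟨x, rfl⟩⟩ (by rw [hθeq x]; exact hPT x.2)
    ((mem_img α φ₀.range _).mpr ⟨⟨φ₀ x, hφ₀T x⟩, ⟨x, rfl⟩, rfl⟩)
  have h2 : (⟨(χ.comp (Subgroup.inclusion hle)) ⟨φ x, ⟨x, rfl⟩⟩, hy⟩ : T) = α ⟨x, hPT x.2⟩ := by
    apply Subtype.ext
    show χ ⟨φ x, _⟩ = _
    have h3 : (⟨φ x, hle ⟨x, rfl⟩⟩ : img α φ₀.range) =
        ⟨((α ⟨((⟨φ₀ x, ⟨x, rfl⟩⟩ : φ₀.range) : Ω), hr₀T ⟨x, rfl⟩⟩ : T) : Ω),
          (mem_img α φ₀.range _).mpr ⟨⟨φ₀ x, hφ₀T x⟩, ⟨x, rfl⟩, rfl⟩⟩ :=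
      Subtype.ext (hφeq x (hφ₀T x))
    rw [h3, h1]
    congr 2
    apply Subtype.ext
    exact hθeq x
  rw [h2]
  simp

/-- The system of decomposable maps between subgroups of `T`. -/
def decSystem (F : FusionSystem S) {T : Subgroup Ω} (E : FusionSystem T) (hTS : T ≤ S)
    (hinv : AutInv F E) : FusionSystem T :=
  subsystemOfProp (restrictSystem F T hTS) (Dec F E)
    (fun hP hg => dec_of_mem F E (E.conj_mem hP hg))
    (fun _ _ hφ hψ h => dec_comp F E hinv hφ hψ h)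
    (fun _ hφ ψ _ hψ => dec_inv F E hinv hφ ψ hψ)

theorem mem_decSystem (F : FusionSystem S) {T : Subgroup Ω} (E : FusionSystem T) (hTS : T ≤ S)
    (hinv : AutInv F E) {P : Subgroup Ω} {φ : P →* Ω} :
    φ ∈ (decSystem F E hTS hinv).Hom P ↔
      (φ ∈ F.Hom P ∧ P ≤ T ∧ ∀ x : P, φ x ∈ T) ∧ Dec F E P φ := Iff.rfl

theorem decSystem_le (F : FusionSystem S) {T : Subgroup Ω} (E : FusionSystem T) (hTS : T ≤ S)
    (hinv : AutInv F E) {P Q : Subgroup Ω} {e : P ≃* Q}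
    (he : e ∈ Iso (decSystem F E hTS hinv) P Q) : e ∈ Iso F P Q := he.1.1

theorem mem_decSystem_of_mem (F : FusionSystem S) {T : Subgroup Ω} (E : FusionSystem T)
    (hTS : T ≤ S) (hEF : E.IsSubsystemOf F) (hinv : AutInv F E) {P : Subgroup Ω} {φ : P →* Ω}
    (hφ : φ ∈ E.Hom P) : φ ∈ (decSystem F E hTS hinv).Hom P :=
  ⟨⟨hEF P hφ, (E.le_of_mem hφ).1, (E.le_of_mem hφ).2⟩, dec_of_mem F E hφ⟩

/-- `Aut_E(R)` is normalized by `Aut_F(R)` under strong invariance. -/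
theorem conj_aut_mem (F : FusionSystem S) {T : Subgroup Ω} (E : FusionSystem T) (hTS : T ≤ S)
    (hsi : StrongInv F E) {R : Subgroup Ω} (hRT : R ≤ T) {γ ε : MulAut R}
    (hγ : γ ∈ F.autGroup R) (hε : ε ∈ E.autGroup R) : γ * ε * γ⁻¹ ∈ E.autGroup R := by
  have hεE : R.subtype.comp ε.toMonoidHom ∈ E.Hom R := (mem_autGroup_iff E hRT ε).mp hε
  have hγF : R.subtype.comp γ.toMonoidHom ∈ F.Hom R := (mem_autGroup_iff F (hRT.trans hTS) γ).mp hγ
  obtain ⟨χ, hχ, hχeq⟩ := hsi R R le_rfl hRT _ hεE (fun x => (ε x).2) _ hγF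
  have hle : R ≤ (R.subgroupOf R).map (R.subtype.comp γ.toMonoidHom) := by
    intro y hy
    refine ⟨γ⁻¹ ⟨y, hy⟩, ?_, ?_⟩
    · show ((γ⁻¹ ⟨y, hy⟩ : R) : Ω) ∈ R
      exact (γ⁻¹ ⟨y, hy⟩).2
    · show ((γ (γ⁻¹ ⟨y, hy⟩) : R) : Ω) = y
      simp
  refine aut_mem_of_extends E le_rfl (restrict_mem E hle hχ) ?_
  intro x
  show χ ⟨x, hle x.2⟩ = ((γ (ε (γ⁻¹ x)) : R) : Ω)
  have h1 := hχeq (γ⁻¹ x) (by
    show ((γ (Subgroup.inclusion le_rfl (γ⁻¹ x)) : R) : Ω) ∈ _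
    have : Subgroup.inclusion (le_rfl : R ≤ R) (γ⁻¹ x) = γ⁻¹ x := Subtype.ext rfl
    rw [this]
    have h2 : γ (γ⁻¹ x) = x := by simp
    rw [h2]; exact hle x.2)
  have h3 : (⟨(x : Ω), hle x.2⟩ : ↥((R.subgroupOf R).map (R.subtype.comp γ.toMonoidHom))) =
      ⟨(R.subtype.comp γ.toMonoidHom) (Subgroup.inclusion le_rfl (γ⁻¹ x)), by
        show ((γ (Subgroup.inclusion le_rfl (γ⁻¹ x)) : R) : Ω) ∈ _
        have : Subgroup.inclusion (le_rfl : R ≤ R) (γ⁻¹ x) = γ⁻¹ x := Subtype.ext rfl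
        rw [this]
        have h2 : γ (γ⁻¹ x) = x := by simp
        rw [h2]; exact hle x.2⟩ := by
    apply Subtype.ext
    show (x : Ω) = ((γ (Subgroup.inclusion le_rfl (γ⁻¹ x)) : R) : Ω)
    have : Subgroup.inclusion (le_rfl : R ≤ R) (γ⁻¹ x) = γ⁻¹ x := Subtype.ext rfl
    rw [this]
    simp
  rw [h3, h1]
  rfl

/-- The core step: automorphisms in `F` of a fully normalized proper subgroup `R` of `T` are
decomposable, given that all maps on bigger subgroups of `T` are. -/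
theorem aut_mem_decSystem [Finite S] {p : ℕ} [Fact p.Prime] (hS : IsPGroup p S)
    (F : FusionSystem S) (hF : F.IsSaturated p) {T : Subgroup Ω} (E : FusionSystem T)
    (hTS : T ≤ S) (hEF : E.IsSubsystemOf F) (hsi : StrongInv F E) (hinv : AutInv F E)
    {R : Subgroup Ω} (hRT : R ≤ T) (hne : R ≠ T) (hRn : F.IsFullyNormalized R)
    (IH : ∀ Q : Subgroup Ω, Q ≤ T → Nat.card R < Nat.card Q → ∀ ψ : Q →* Ω, ψ ∈ F.Hom Q →
      ψ ∈ (decSystem F E hTS hinv).Hom Q)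
    {β : MulAut R} (hβ : β ∈ F.autGroup R) : β ∈ (decSystem F E hTS hinv).autGroup R := by
  haveI : Finite T := finite_of_le hTS
  have hTp : IsPGroup p T := hS.to_le hTS
  have hRS : R ≤ S := hRT.trans hTS
  haveI : Finite R := finite_of_le hRS
  obtain ⟨-, -, Rsyl, hRsyl⟩ := fullyNormalized_facts hS F hF hRn
  have hrec := receptive_of_fullyNormalized hS F hF hRn
  obtain ⟨N, hNdef⟩ : ∃ N : Subgroup (F.autGroup R), N = (E.autGroup R).subgroupOf (F.autGroup R) :=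
    ⟨_, rfl⟩
  haveI hNn : N.Normal := by
    constructor
    intro ε hε γ
    rw [hNdef, Subgroup.mem_subgroupOf] at hε ⊢
    exact conj_aut_mem F E hTS hsi hRT γ.2 hε
  have hfr := Sylow.normalizer_sup_eq_top (Cfsg.Agent.Lib.Helper5_Residual.sylowInfNormal Rsyl N)
  rw [Cfsg.Agent.Lib.Helper5_Residual.map_sylowInfNormal] at hfr
  have hβ' : (⟨β, hβ⟩ : F.autGroup R) ∈
      ((Subgroup.normalizer (((Rsyl : Subgroup (F.autGroup R)) ⊓ N : Subgroup (F.autGroup R)) :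
        Set (F.autGroup R)) ⊔ N : Subgroup (F.autGroup R)) : Set (F.autGroup R)) := by
    rw [hfr]; trivial
  rw [Subgroup.mul_normal] at hβ'
  obtain ⟨ν, hν, ε, hε, hνε⟩ := Set.mem_mul.mp hβ'
  have hε' : (ε : MulAut R) ∈ E.autGroup R := by
    have : ε ∈ N := hε
    rw [hNdef, Subgroup.mem_subgroupOf] at this
    exact this
  have hεD : (ε : MulAut R) ∈ (decSystem F E hTS hinv).autGroup R := by
    rw [mem_autGroup_iff _ hRT]
    exact mem_decSystem_of_mem F E hTS hEF hinv ((mem_autGroup_iff E hRT _).mp hε')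
  -- ν is decomposable
  have hνD : (ν : MulAut R) ∈ (decSystem F E hTS hinv).autGroup R := by
    have hν'F : R.subtype.comp (ν : MulAut R).toMonoidHom ∈ F.Hom R :=
      (mem_autGroup_iff F hRS _).mp ν.2
    have hRNT : R ≤ normalizerIn T R := le_normalizerIn hRT
    obtain ⟨ψ, hψ, hψeq⟩ := receptive_extend F hrec hν'F (range_subtype_comp _)
      (normalizerIn T R) hRNT (by
        rintro g ⟨hgT, hgN⟩
        refine ⟨hTS hgT, hgN, ?_⟩
        -- the automorphism induced by g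
        have hcF : R.normalizerMonoidHom ⟨g, hgN⟩ ∈ F.autGroup R := conjAut_mem F hRS (hTS hgT) hgN
        have hcE : R.normalizerMonoidHom ⟨g, hgN⟩ ∈ E.autGroup R := conjAut_mem E hRT hgT hgN
        have h1 : (⟨R.normalizerMonoidHom ⟨g, hgN⟩, hcF⟩ : F.autGroup R) ∈
            (Rsyl : Subgroup (F.autGroup R)) ⊓ N := by
          constructor
          · show _ ∈ (Rsyl : Subgroup (F.autGroup R))
            rw [hRsyl, Subgroup.mem_subgroupOf]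
            exact (mem_autInducedBy_iff S R _).mpr ⟨g, hTS hgT, hgN, fun x => rfl⟩
          · show _ ∈ N
            rw [hNdef, Subgroup.mem_subgroupOf]
            exact hcE
        have h2 := (Subgroup.mem_normalizer_iff.mp hν _).mp h1
        have h3 : (ν * ⟨R.normalizerMonoidHom ⟨g, hgN⟩, hcF⟩ * ν⁻¹ : F.autGroup R) ∈
            (Rsyl : Subgroup (F.autGroup R)) := h2.1
        rw [hRsyl, Subgroup.mem_subgroupOf] at h3
        obtain ⟨h, hhS, hhN, hh⟩ := (mem_autInducedBy_iff S R _).mp h3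
        refine ⟨h, hhS, ?_⟩
        intro x hx
        show (((ν : MulAut R) ⟨g * x * g⁻¹, hx⟩ : R) : Ω) = h * (((ν : MulAut R) x : R) : Ω) * h⁻¹
        have h4 := hh ((ν : MulAut R) x)
        rw [← h4]
        show _ = ((((ν : MulAut R) * R.normalizerMonoidHom ⟨g, hgN⟩ * (ν : MulAut R)⁻¹)
          ((ν : MulAut R) x) : R) : Ω)
        have h5 : ((ν : MulAut R) * R.normalizerMonoidHom ⟨g, hgN⟩ * (ν : MulAut R)⁻¹)
            ((ν : MulAut R) x) = (ν : MulAut R) (R.normalizerMonoidHom ⟨g, hgN⟩ x) := by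
          simp [MulAut.mul_apply]
        rw [h5]
        rfl)
    have hcard : Nat.card R < Nat.card (normalizerIn T R) := card_lt_card_normalizerIn hTp hRT hne
    have hψD := IH (normalizerIn T R) inf_le_left hcard ψ hψ
    exact aut_mem_of_extends (decSystem F E hTS hinv) hRNT hψD (fun x => hψeq x)
  have : β = (ν : MulAut R) * (ε : MulAut R) := by
    have := congrArg Subtype.val hνε
    exact this.symm
  rw [this]
  exact Subgroup.mul_mem _ hνD hεD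

theorem restrict_img {N N' P Q : Subgroup Ω} (hNN' : N ≤ N') (hPN : P ≤ N) (ψ : N' →* Ω)
    (himg : (P.subgroupOf N').map ψ = Q) :
    (P.subgroupOf N).map (ψ.comp (Subgroup.inclusion hNN')) = Q := by
  rw [← himg]
  ext y
  constructor
  · rintro ⟨x, hx, rfl⟩
    exact ⟨Subgroup.inclusion hNN' x, hx, rfl⟩
  · rintro ⟨x, hx, rfl⟩
    have hx' : (x : Ω) ∈ P := hx
    exact ⟨⟨x, hPN hx'⟩, hx', by
      show ψ (Subgroup.inclusion hNN' ⟨(x : Ω), hPN hx'⟩) = ψ x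
      congr 1⟩

/-- Under strong invariance, every map of `F` between subgroups of `T` is decomposable. -/
theorem hom_mem_decSystem [Finite S] {p : ℕ} [Fact p.Prime] (hS : IsPGroup p S)
    (F : FusionSystem S) (hF : F.IsSaturated p) {T : Subgroup Ω} (E : FusionSystem T)
    (hTsc : F.StronglyClosed T) (hEF : E.IsSubsystemOf F) (hsi : StrongInv F E)
    (hinv : AutInv F E) :
    ∀ P : Subgroup Ω, P ≤ T → F.Hom P ⊆ (decSystem F E hTsc.1 hinv).Hom P := by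
  have hTS : T ≤ S := hTsc.1
  haveI : Finite T := finite_of_le hTS
  have hTp : IsPGroup p T := hS.to_le hTS
  intro P hPT
  induction' hk : Nat.card T - Nat.card P using Nat.strong_induction_on with k ih generalizing P
  have IH : ∀ R : Subgroup Ω, R ≤ T → Nat.card P < Nat.card R →
      F.Hom R ⊆ (decSystem F E hTS hinv).Hom R := by
    intro R hRT hcard
    have hRle : Nat.card R ≤ Nat.card T := Subgroup.card_le_of_le hRT
    exact ih (Nat.card T - Nat.card R) (by omega) R hRT rfl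
  have hPS : P ≤ S := hPT.trans hTS
  haveI : Finite P := finite_of_le hPS
  intro φ hφ
  have hφT : ∀ x : P, φ x ∈ T := hTsc.2 P hPT φ hφ
  by_cases hPeq : P = T
  · have hTP : T ≤ P := hPeq.ge
    have hvals : ∀ x : P, φ x ∈ P := fun x => hTP (hφT x)
    obtain ⟨e, he, heφ⟩ := iso_of_hom F hφ (range_eq_of_vals (F.injective_of_mem hφ) hvals)
    refine ⟨⟨hφ, hPT, hφT⟩, ?_⟩
    -- transport `e` to an automorphism of `T`
    subst hPeq
    exact ⟨e, (mem_autGroup_iff F hTS e).mpr he, P.subtype, subtype_mem E le_rfl,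
      fun x hx => (heφ x).symm⟩
  · obtain ⟨e₀, he₀, he₀φ⟩ := iso_of_hom F hφ rfl
    have hP'T : φ.range ≤ T := by rintro _ ⟨x, rfl⟩; exact hφT x
    have hP'S : φ.range ≤ S := hP'T.trans hTS
    have hcardP' : Nat.card P = Nat.card φ.range := Nat.card_congr e₀.toEquiv
    have hP'ne : φ.range ≠ T := by
      intro h
      apply hPeq
      apply Subgroup.eq_of_le_of_card_ge hPT
      rw [hcardP', h]
    obtain ⟨Q, hPQ, hQn⟩ := exists_fullyNormalized F hPS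
    have hQT : Q ≤ T := by
      obtain ⟨ρ, hρ, rfl⟩ := hPQ
      rintro _ ⟨x, rfl⟩
      exact hTsc.2 P hPT ρ hρ x
    obtain ⟨-, hQa⟩ := fullyNormalized_facts hS F hF hQn
    have hQr := receptive_of_fullyNormalized hS F hF hQn
    have hP'Q : F.IsConj φ.range Q :=
      isConj_trans F (isConj_symm F ((isConj_iff_iso F).mpr ⟨e₀, he₀⟩)) hPQ
    obtain ⟨ψ₁, hψ₁, -, hψ₁img⟩ := exists_normalizer_map hS F hQa hQr hPQ
    obtain ⟨ψ₂, hψ₂, -, hψ₂img⟩ := exists_normalizer_map hS F hQa hQr hP'Q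
    have hle₁ : normalizerIn T P ≤ normalizerIn S P := inf_le_inf_right _ hTS
    have hle₂ : normalizerIn T φ.range ≤ normalizerIn S φ.range := inf_le_inf_right _ hTS
    have hψ₁' := restrict_mem F hle₁ hψ₁
    have hψ₂' := restrict_mem F hle₂ hψ₂
    have hψ₁D := IH _ inf_le_left (card_lt_card_normalizerIn hTp hPT hPeq) hψ₁'
    have hψ₂D := IH _ inf_le_left
      (by rw [hcardP']; exact card_lt_card_normalizerIn hTp hP'T hP'ne) hψ₂'
    have himg₁ := restrict_img hle₁ (le_normalizerIn hPT) ψ₁ hψ₁img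
    have himg₂ := restrict_img hle₂ (le_normalizerIn hP'T) ψ₂ hψ₂img
    have he₁D := restrictEquiv_mem (decSystem F E hTS hinv) hψ₁D (le_normalizerIn hPT) himg₁
    have he₂D := restrictEquiv_mem (decSystem F E hTS hinv) hψ₂D (le_normalizerIn hP'T) himg₂
    obtain ⟨e₁, he₁def⟩ : ∃ e₁ : P ≃* Q, e₁ = restrictEquiv _
      ((decSystem F E hTS hinv).injective_of_mem hψ₁D) (le_normalizerIn hPT) himg₁ := ⟨_, rfl⟩
    obtain ⟨e₂, he₂def⟩ : ∃ e₂ : φ.range ≃* Q, e₂ = restrictEquiv _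
      ((decSystem F E hTS hinv).injective_of_mem hψ₂D) (le_normalizerIn hP'T) himg₂ := ⟨_, rfl⟩
    rw [← he₁def] at he₁D
    rw [← he₂def] at he₂D
    have he₁F := decSystem_le F E hTS hinv he₁D
    have he₂F := decSystem_le F E hTS hinv he₂D
    have hαF : e₁.symm.trans (e₀.trans e₂) ∈ Iso F Q Q :=
      iso_trans F (iso_symm F he₁F) (iso_trans F he₀ he₂F)
    have hcardQ : Nat.card P = Nat.card Q := Nat.card_congr e₁.toEquiv
    have hQne : Q ≠ T := by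
      intro h
      apply hPeq
      apply Subgroup.eq_of_le_of_card_ge hPT
      rw [hcardQ, h]
    have hαD' := aut_mem_decSystem hS F hF E hTS hEF hsi hinv hQT hQne hQn
      (fun R hRT hcard ψ hψ => IH R hRT (by rw [hcardQ]; exact hcard) hψ)
      ((mem_autGroup_iff F hQn.1 _).mpr hαF)
    have hαD := (mem_autGroup_iff (decSystem F E hTS hinv) hQT _).mp hαD'
    have he₀D : e₁.trans ((e₁.symm.trans (e₀.trans e₂)).trans e₂.symm) ∈
        Iso (decSystem F E hTS hinv) P φ.range :=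
      iso_trans _ he₁D (iso_trans _ hαD (iso_symm _ he₂D))
    have heq : e₁.trans ((e₁.symm.trans (e₀.trans e₂)).trans e₂.symm) = e₀ := by
      ext x
      simp
    rw [heq] at he₀D
    exact hom_of_iso_eq _ he₀D φ (fun x => (he₀φ x).symm)

/-- Invariance implies strong invariance. -/
theorem strongInv_of_invariant (F : FusionSystem S) {T : Subgroup Ω} (E : FusionSystem T)
    (h : E.IsInvariantIn F) : StrongInv F E := by
  obtain ⟨hEF, hTsc, hinv, hfrat⟩ := h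
  intro P Q hPQ hQT φ hφ hφQ ψ hψ
  obtain ⟨α, hα, ψ₀, hψ₀, hψeq⟩ := hfrat Q hQT ψ hψ
  have hψ₀T : ∀ y : Q, ψ₀ y ∈ T := (E.le_of_mem hψ₀).2
  obtain ⟨P₀, hP₀def⟩ : ∃ P₀, P₀ = (P.subgroupOf Q).map ψ₀ := ⟨_, rfl⟩
  have he := restrictEquiv_mem E hψ₀ hPQ hP₀def.symm
  obtain ⟨e, hedef⟩ : ∃ e : P ≃* P₀, e = restrictEquiv ψ₀ (E.injective_of_mem hψ₀) hPQ hP₀def.symm :=
    ⟨_, rfl⟩
  rw [← hedef] at he
  have hex : ∀ x : P, ((e x : P₀) : Ω) = ψ₀ (Subgroup.inclusion hPQ x) := by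
    intro x; rw [hedef]; rfl
  have hφ₁ : (ψ₀.comp (φ.codRestrict Q hφQ)).comp e.symm.toMonoidHom ∈ E.Hom P₀ :=
    hom_comp_iso E (iso_symm E he) (E.comp_mem hφ hψ₀ hφQ)
  have hP₀T : P₀ ≤ T := by
    rw [hP₀def]
    rintro _ ⟨y, -, rfl⟩
    exact hψ₀T y
  obtain ⟨χ, hχ, hχeq⟩ := hinv P₀ hP₀T _ hφ₁ α hα
  have hle : (P.subgroupOf Q).map ψ ≤ img α P₀ := by
    rintro _ ⟨q, hq, rfl⟩
    rw [hψeq q (hψ₀T q)]
    refine (mem_img α P₀ _).mpr ⟨⟨ψ₀ q, hψ₀T q⟩, ?_, rfl⟩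
    rw [hP₀def]
    exact ⟨q, hq, rfl⟩
  refine ⟨χ.comp (Subgroup.inclusion hle), restrict_mem E hle hχ, ?_⟩
  intro x hx
  show χ ⟨ψ (Subgroup.inclusion hPQ x), hle hx⟩ = _
  have hmem : ((α ⟨((e x : P₀) : Ω), hP₀T (e x).2⟩ : T) : Ω) ∈ img α P₀ :=
    (mem_img α P₀ _).mpr ⟨⟨((e x : P₀) : Ω), hP₀T (e x).2⟩, (e x).2, rfl⟩
  have h1 := hχeq (e x) (by
    show ψ₀ ⟨φ (e.symm (e x)), _⟩ ∈ T
    exact hψ₀T _) hmem
  have h2 : (⟨ψ (Subgroup.inclusion hPQ x), hle hx⟩ : img α P₀) =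
      ⟨((α ⟨((e x : P₀) : Ω), hP₀T (e x).2⟩ : T) : Ω), hmem⟩ := by
    apply Subtype.ext
    show ψ (Subgroup.inclusion hPQ x) = _
    rw [hψeq _ (hψ₀T _)]
    congr 2
    apply Subtype.ext
    exact (hex x).symm
  rw [h2, h1, hψeq ⟨φ x, hφQ x⟩ (hψ₀T _)]
  congr 2
  apply Subtype.ext
  show ψ₀ ⟨φ (e.symm (e x)), _⟩ = ψ₀ ⟨φ x, hφQ x⟩
  congr 2
  rw [MulEquiv.symm_apply_apply]

/-- **Invariance is equivalent to strong invariance** (for a subsystem over a strongly closed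
subgroup of a saturated system). -/
theorem invariant_iff_strongInv [Finite S] {p : ℕ} [Fact p.Prime] (hS : IsPGroup p S)
    (F : FusionSystem S) (hF : F.IsSaturated p) {T : Subgroup Ω} (E : FusionSystem T)
    (hEF : E.IsSubsystemOf F) (hTsc : F.StronglyClosed T) :
    E.IsInvariantIn F ↔ StrongInv F E := by
  constructor
  · exact strongInv_of_invariant F E
  · intro hsi
    have hinv := strongInv_autInv F E hTsc.1 hsi
    refine ⟨hEF, hTsc, hinv, ?_⟩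
    intro P hPT φ hφ
    exact (hom_mem_decSystem hS F hF E hTsc hEF hsi hinv P hPT hφ).2

end Cfsg.Agent.Lib.Helper8_StrongInv
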