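import Mathlib
import Cfsg.Prelude.Def_FusionComponents
import Cfsg.Agent.Lib.Helper8_StrongInv
import Cfsg.Agent.Lib.Helper8_Hyperfocal

set_option autoImplicit false
set_option linter.style.haveILetI false
set_option linter.unusedVariables false
open Cfsg

/-!
# Subsystems of `p`-power index are normal, part 1: strong closure and `Aut_F(T)`-invariance
-/

namespace Cfsg.Agent.Lib.Helper8_PPowerNormal1

open Cfsg.FusionSystem Cfsg.Agent.Lib.Helper8_Fusion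
open Cfsg.Agent.Lib.Helper8_Saturated
open Cfsg.Agent.Lib.Helper8_Alperin
open Cfsg.Agent.Lib.Helper8_Hyperfocal
open Cfsg.Agent.Lib.Helper8_NormalClosure
open Cfsg.Agent.Lib.Helper8_Generating
open Cfsg.Agent.Lib.Helper8_StrongInv

variable {Ω : Type*} [Group Ω] {S : Subgroup Ω}

theorem conj_mem_iff_of_normal {T : Subgroup Ω} (hTS : T ≤ S) (hTn : (T.subgroupOf S).Normal)
    {g : Ω} (hg : g ∈ S) (y : Ω) : y ∈ T ↔ g * y * g⁻¹ ∈ T := by
  constructor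
  · intro hy
    have h := hTn.conj_mem ⟨y, hTS hy⟩ (by rw [Subgroup.mem_subgroupOf]; exact hy) ⟨g, hg⟩
    rw [Subgroup.mem_subgroupOf] at h
    exact h
  · intro hy
    have h := hTn.conj_mem ⟨g * y * g⁻¹, hTS hy⟩ (by rw [Subgroup.mem_subgroupOf]; exact hy)
      ⟨g⁻¹, S.inv_mem hg⟩
    rw [Subgroup.mem_subgroupOf] at h
    have h2 : g⁻¹ * (g * y * g⁻¹) * g⁻¹⁻¹ = y := by group
    have h3 : (((⟨g⁻¹, S.inv_mem hg⟩ : S) * ⟨g * y * g⁻¹, hTS hy⟩ * (⟨g⁻¹, S.inv_mem hg⟩ : S)⁻¹ : S) : Ω)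
        = y := by
      show g⁻¹ * (g * y * g⁻¹) * g⁻¹⁻¹ = y
      exact h2
    rw [h3] at h
    exact h

/-- Every map of a saturated system preserves membership in a normal subgroup of `S` containing the
hyperfocal subgroup. -/
theorem over_hyperfocal_iff [Finite S] {p : ℕ} [Fact p.Prime] (hS : IsPGroup p S)
    (F : FusionSystem S) (hF : F.IsSaturated p) {T : Subgroup Ω} (hTS : T ≤ S)
    (hTn : (T.subgroupOf S).Normal) (hT : F.hyperfocalSubgroup p ≤ T) :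
    ∀ (P : Subgroup Ω) (φ : P →* Ω), φ ∈ F.Hom P → ∀ x : P, (x : Ω) ∈ T ↔ φ x ∈ T := by
  apply alperin_induction hS F hF (fun P φ => ∀ x : P, (x : Ω) ∈ T ↔ φ x ∈ T)
  · intro P g hP hg x
    exact conj_mem_iff_of_normal hTS hTn hg x
  · intro P Q φ ψ hφ hψ h1 h2 hv x
    rw [h1 x]
    exact h2 ⟨φ x, hv x⟩
  · intro P φ hφ h1 ψ hψ hψφ
    rintro ⟨_, x, rfl⟩
    rw [hψφ x]
    exact (h1 x).symm
  · intro P hP α hα x
    have hfn := fullyNormalized_of_top_or_essential F hP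
    obtain ⟨-, hfa⟩ := fullyNormalized_facts hS F hF hfn
    have hPS : P ≤ S := hfn.1
    obtain ⟨γ, hγ, β, hβ, rfl⟩ := aut_decomp F hfa hα
    rw [mem_autInducedBy_iff] at hγ
    obtain ⟨s, hsS, hsN, hs⟩ := hγ
    show (x : Ω) ∈ T ↔ ((γ ((β : MulAut P) x) : P) : Ω) ∈ T
    rw [hs, ← conj_mem_iff_of_normal hTS hTn hsS]
    have h1 := hT (inv_mul_apply_mem_hyperfocal F p hPS hβ x)
    constructor
    · intro hx
      have := Subgroup.mul_mem _ hx h1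
      rwa [mul_inv_cancel_left] at this
    · intro hx
      have := Subgroup.mul_mem _ hx (Subgroup.inv_mem _ h1)
      rwa [mul_inv_rev, inv_inv, mul_inv_cancel_left] at this

theorem over_hyperfocal_stronglyClosed [Finite S] {p : ℕ} [Fact p.Prime] (hS : IsPGroup p S)
    (F : FusionSystem S) (hF : F.IsSaturated p) {T : Subgroup Ω} (hTS : T ≤ S)
    (hTn : (T.subgroupOf S).Normal) (hT : F.hyperfocalSubgroup p ≤ T) : F.StronglyClosed T := by
  refine ⟨hTS, ?_⟩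
  intro R hR φ hφ x
  exact (over_hyperfocal_iff hS F hF hTS hTn hT R φ hφ x).mp (hR x.2)

/-- Transport of elements of `O^p` along a homomorphism between subgroups. -/
theorem pResidual_transport {X Y : Type*} [Group X] [Group Y] (p : ℕ) {A : Subgroup X}
    {B : Subgroup Y} (f : A →* Y) (hf : ∀ a : A, f a ∈ B) {a : A} (ha : a ∈ pResidual p A) :
    (⟨f a, hf a⟩ : B) ∈ pResidual p B :=
  map_pResidual_le p (f.codRestrict B hf) (Subgroup.mem_map_of_mem (f.codRestrict B hf) ha)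

/-- The restriction of an automorphism of `T` to an isomorphism `P ≃* α(P)`. -/
noncomputable def imgIso {T : Subgroup Ω} (α : MulAut T) {P : Subgroup Ω} (hPT : P ≤ T) :
    P ≃* img α P :=
  restrictEquiv (T.subtype.comp α.toMonoidHom)
    (fun x y h => α.injective (Subtype.ext h)) hPT rfl

theorem imgIso_apply {T : Subgroup Ω} (α : MulAut T) {P : Subgroup Ω} (hPT : P ≤ T) (x : P) :
    ((imgIso α hPT x : img α P) : Ω) = ((α ⟨x, hPT x.2⟩ : T) : Ω) := rfl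

theorem imgIso_symm_apply {T : Subgroup Ω} (α : MulAut T) {P : Subgroup Ω} (hPT : P ≤ T) (t : T)
    (ht : (t : Ω) ∈ P) (h : ((α t : T) : Ω) ∈ img α P) :
    (imgIso α hPT).symm ⟨((α t : T) : Ω), h⟩ = ⟨t, ht⟩ := by
  rw [MulEquiv.symm_apply_eq]
  apply Subtype.ext
  rfl

theorem imgIso_mem (F : FusionSystem S) {T : Subgroup Ω} (hTS : T ≤ S) {α : MulAut T}
    (hα : α ∈ F.autGroup T) {P : Subgroup Ω} (hPT : P ≤ T) :
    imgIso α hPT ∈ Iso F P (img α P) := by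
  have hαF : T.subtype.comp α.toMonoidHom ∈ F.Hom T := (mem_autGroup_iff F hTS α).mp hα
  exact restrictEquiv_mem F hαF hPT rfl

theorem autGroup_le_of_subsystem (F : FusionSystem S) {T : Subgroup Ω} (E : FusionSystem T)
    (hEF : E.IsSubsystemOf F) (P : Subgroup Ω) : E.autGroup P ≤ F.autGroup P := by
  unfold FusionSystem.autGroup
  apply Subgroup.closure_mono
  intro α hα
  exact hEF P hα

/-- Transport along `α ∈ Aut_F(T)` of an `E`-automorphism of a fully `E`-automized subgroup. -/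
theorem congr_imgIso_mem [Finite S] {p : ℕ} [Fact p.Prime]
    (F : FusionSystem S) {T : Subgroup Ω} (hTS : T ≤ S) (E : FusionSystem T)
    (hEi : E.HasPPowerIndexIn F p) {α : MulAut T} (hα : α ∈ F.autGroup T) {P : Subgroup Ω}
    (hPT : P ≤ T) (hPa : E.IsFullyAutomized p P) {β : MulAut P} (hβ : β ∈ E.autGroup P) :
    MulAut.congr (imgIso α hPT) β ∈ E.autGroup (img α P) := by
  haveI : Finite T := finite_of_le hTS
  have he := imgIso_mem F hTS hα hPT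
  obtain ⟨γ, hγ, β', hβ', rfl⟩ := aut_decomp E hPa hβ
  rw [map_mul]
  apply Subgroup.mul_mem
  · rw [mem_autInducedBy_iff] at hγ
    obtain ⟨g, hgT, hgN, hg⟩ := hγ
    rw [mem_autGroup_iff E (img_le α P)]
    show (img α P).subtype.comp (MulAut.congr (imgIso α hPT) γ).toMonoidHom ∈ E.Hom (img α P)
    have h1 : (img α P).subtype.comp (MulAut.congr (imgIso α hPT) γ).toMonoidHom =
        conjHom (img α P) ((α ⟨g, hgT⟩ : T) : Ω) := by
      ext ⟨y, hy⟩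
      obtain ⟨t, ht, rfl⟩ := (mem_img α P y).mp hy
      show ((imgIso α hPT (γ ((imgIso α hPT).symm ⟨((α t : T) : Ω), hy⟩)) : img α P) : Ω) =
        ((α ⟨g, hgT⟩ : T) : Ω) * ((α t : T) : Ω) * ((α ⟨g, hgT⟩ : T) : Ω)⁻¹
      rw [imgIso_symm_apply α hPT t ht hy, imgIso_apply]
      have h2 : (⟨((γ ⟨t, ht⟩ : P) : Ω), hPT (γ ⟨t, ht⟩).2⟩ : T) = ⟨g, hgT⟩ * t * ⟨g, hgT⟩⁻¹ :=
        Subtype.ext (hg ⟨t, ht⟩)
      rw [h2, map_mul, map_mul, map_inv]
      rfl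
    rw [h1]
    exact E.conj_mem (img_le α P) (α ⟨g, hgT⟩).2
  · have hEF : E.autGroup P ≤ F.autGroup P := autGroup_le_of_subsystem F E hEi.1 P
    have h1 := pResidual_transport p (A := E.autGroup P) (B := F.autGroup P) (E.autGroup P).subtype
      (fun a => hEF a.2) hβ'
    have h2 := pResidual_transport p (A := F.autGroup P) (B := F.autGroup (img α P))
      ((MulAut.congr (imgIso α hPT)).toMonoidHom.comp (F.autGroup P).subtype)
      (fun a => congr_mem_autGroup F he a.2) h1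
    exact hEi.2.2 (img α P) (img_le α P) ⟨_, h2, rfl⟩

/-- **`Aut_F(T)`-invariance** of a saturated subsystem of `p`-power index. -/
theorem autInv_of_pPowerIndex [Finite S] {p : ℕ} [Fact p.Prime] (hS : IsPGroup p S)
    (F : FusionSystem S) {T : Subgroup Ω} (hTS : T ≤ S) (E : FusionSystem T)
    (hEs : E.IsSaturated p) (hEi : E.HasPPowerIndexIn F p) : AutInv F E := by
  haveI : Finite T := finite_of_le hTS
  have hTp : IsPGroup p T := hS.to_le hTS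
  have key : ∀ (P : Subgroup Ω) (φ : P →* Ω), φ ∈ E.Hom P →
      ∀ α ∈ F.autGroup T, ∃ χ ∈ E.Hom (img α P), ∀ (t : T) (ht : (t : Ω) ∈ P)
        (hφ : φ ⟨t, ht⟩ ∈ T) (h : ((α t : T) : Ω) ∈ img α P),
        χ ⟨((α t : T) : Ω), h⟩ = ((α ⟨φ ⟨t, ht⟩, hφ⟩ : T) : Ω) := by
    apply alperin_induction hTp E hEs (fun P φ => ∀ α ∈ F.autGroup T, ∃ χ ∈ E.Hom (img α P),
      ∀ (t : T) (ht : (t : Ω) ∈ P) (hφ : φ ⟨t, ht⟩ ∈ T) (h : ((α t : T) : Ω) ∈ img α P),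
        χ ⟨((α t : T) : Ω), h⟩ = ((α ⟨φ ⟨t, ht⟩, hφ⟩ : T) : Ω))
    · -- conjugation
      intro P g hPT hg α hα
      refine ⟨conjHom (img α P) ((α ⟨g, hg⟩ : T) : Ω), E.conj_mem (img_le α P) (α ⟨g, hg⟩).2, ?_⟩
      intro t ht hφ h
      show ((α ⟨g, hg⟩ : T) : Ω) * ((α t : T) : Ω) * ((α ⟨g, hg⟩ : T) : Ω)⁻¹ = _
      have h2 : (⟨conjHom P g ⟨t, ht⟩, hφ⟩ : T) = ⟨g, hg⟩ * t * ⟨g, hg⟩⁻¹ := Subtype.ext rfl
      rw [h2, map_mul, map_mul, map_inv]
      rfl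
    · -- composition
      intro P Q φ ψ hφ hψ h1 h2 hv α hα
      obtain ⟨χ₁, hχ₁, hχ₁eq⟩ := h1 α hα
      obtain ⟨χ₂, hχ₂, hχ₂eq⟩ := h2 α hα
      have hPT : P ≤ T := (E.le_of_mem hφ).1
      have hQT : Q ≤ T := (E.le_of_mem hψ).1
      have hvals : ∀ y : img α P, χ₁ y ∈ img α Q := by
        rintro ⟨y, hy⟩
        obtain ⟨t, ht, rfl⟩ := (mem_img α P y).mp hy
        rw [hχ₁eq t ht (hQT (hv ⟨t, ht⟩)) hy]
        exact (mem_img α Q _).mpr ⟨⟨φ ⟨t, ht⟩, hQT (hv ⟨t, ht⟩)⟩, hv ⟨t, ht⟩, rfl⟩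
      refine ⟨χ₂.comp (χ₁.codRestrict (img α Q) hvals), E.comp_mem hχ₁ hχ₂ hvals, ?_⟩
      intro t ht hφt h
      show χ₂ ⟨χ₁ ⟨((α t : T) : Ω), h⟩, hvals _⟩ = _
      have h3 := hχ₁eq t ht (hQT (hv ⟨t, ht⟩)) h
      have h4 : (⟨χ₁ ⟨((α t : T) : Ω), h⟩, hvals _⟩ : img α Q) =
          ⟨((α ⟨φ ⟨t, ht⟩, hQT (hv ⟨t, ht⟩)⟩ : T) : Ω),
            (mem_img α Q _).mpr ⟨⟨φ ⟨t, ht⟩, hQT (hv ⟨t, ht⟩)⟩, hv ⟨t, ht⟩, rfl⟩⟩ :=
        Subtype.ext h3
      rw [h4]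
      exact hχ₂eq ⟨φ ⟨t, ht⟩, hQT (hv ⟨t, ht⟩)⟩ (hv ⟨t, ht⟩) hφt _
    · -- inverses
      intro P φ hφ h1 ψ hψ hψφ α hα
      obtain ⟨χ₁, hχ₁, hχ₁eq⟩ := h1 α hα
      have hPT : P ≤ T := (E.le_of_mem hφ).1
      have hφT : ∀ x : P, φ x ∈ T := (E.le_of_mem hφ).2
      obtain ⟨θ, hθ, hθeq⟩ := E.inv_mem hχ₁
      have hle : img α φ.range ≤ χ₁.range := by
        intro y hy
        obtain ⟨t, ⟨x, hx⟩, rfl⟩ := (mem_img α φ.range y).mp hy
        have hmem : ((α ⟨x, hPT x.2⟩ : T) : Ω) ∈ img α P :=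
          (mem_img α P _).mpr ⟨⟨x, hPT x.2⟩, x.2, rfl⟩
        refine ⟨⟨((α ⟨x, hPT x.2⟩ : T) : Ω), hmem⟩, ?_⟩
        rw [hχ₁eq ⟨x, hPT x.2⟩ x.2 (hφT x) hmem]
        congr 2
        exact Subtype.ext hx
      refine ⟨θ.comp (Subgroup.inclusion hle), restrict_mem E hle hθ, ?_⟩
      intro t ht hψt h
      obtain ⟨x, hx⟩ := ht
      show θ ⟨((α t : T) : Ω), hle h⟩ = _
      have hmem : ((α ⟨x, hPT x.2⟩ : T) : Ω) ∈ img α P :=
        (mem_img α P _).mpr ⟨⟨x, hPT x.2⟩, x.2, rfl⟩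
      have h3 := hχ₁eq ⟨x, hPT x.2⟩ x.2 (hφT x) hmem
      have h4 : (⟨((α t : T) : Ω), hle h⟩ : χ₁.range) =
          ⟨χ₁ ⟨((α ⟨x, hPT x.2⟩ : T) : Ω), hmem⟩, ⟨_, rfl⟩⟩ := by
        apply Subtype.ext
        show ((α t : T) : Ω) = χ₁ ⟨((α ⟨x, hPT x.2⟩ : T) : Ω), hmem⟩
        rw [h3]
        congr 2
        exact Subtype.ext hx.symm
      rw [h4, hθeq]
      show ((α ⟨x, hPT x.2⟩ : T) : Ω) = _
      congr 2
      apply Subtype.ext
      show (x : Ω) = ψ ⟨(t : Ω), _⟩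
      have h5 := hψφ x
      rw [← h5]
      congr 2
    · -- automorphisms
      intro P hP β hβ α hα
      have hfn := fullyNormalized_of_top_or_essential E hP
      obtain ⟨-, hfa⟩ := fullyNormalized_facts hTp E hEs hfn
      have hPT : P ≤ T := hfn.1
      have hmem := congr_imgIso_mem F hTS E hEi hα hPT hfa hβ
      rw [mem_autGroup_iff E (img_le α P)] at hmem
      refine ⟨_, hmem, ?_⟩
      intro t ht hφt h
      show ((imgIso α hPT (β ((imgIso α hPT).symm ⟨((α t : T) : Ω), h⟩)) : img α P) : Ω) = _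
      rw [imgIso_symm_apply α hPT t ht h, imgIso_apply]
      rfl
  intro P hPT φ hφ α hα
  obtain ⟨χ, hχ, hχeq⟩ := key P φ hφ α hα
  refine ⟨χ, hχ, ?_⟩
  intro x hφx hαx
  exact hχeq ⟨x, hPT x.2⟩ x.2 hφx hαx

end Cfsg.Agent.Lib.Helper8_PPowerNormal1
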