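import Mathlib
import Cfsg.Prelude.Def_FusionComponents
import Cfsg.Agent.Lib.Helper8_PPowerNormal1

set_option autoImplicit false
set_option linter.style.haveILetI false
set_option linter.unusedVariables false
open Cfsg

/-!
# Subsystems of `p`-power index are normal, part 2: the Frattini condition
-/

namespace Cfsg.Agent.Lib.Helper8_PPowerNormal2

open Cfsg.FusionSystem Cfsg.Agent.Lib.Helper8_Fusion
open Cfsg.Agent.Lib.Helper8_Saturated
open Cfsg.Agent.Lib.Helper8_Alperin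
open Cfsg.Agent.Lib.Helper8_Hyperfocal
open Cfsg.Agent.Lib.Helper8_NormalClosure
open Cfsg.Agent.Lib.Helper8_Generating
open Cfsg.Agent.Lib.Helper8_StrongInv
open Cfsg.Agent.Lib.Helper8_PPowerNormal1

variable {Ω : Type*} [Group Ω] {S : Subgroup Ω}

/-- Restriction to `R ≤ P` of the automorphisms in a subgroup `A` of `Aut(P)` all of whose
elements preserve `R`. -/
noncomputable def resStab {P R : Subgroup Ω} (hRP : R ≤ P) (A : Subgroup (MulAut P))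
    (hA : ∀ α ∈ A, ∀ x : P, (x : Ω) ∈ R ↔ ((α x : P) : Ω) ∈ R) : A →* MulAut R where
  toFun α :=
    { toFun := fun x => ⟨((α : MulAut P) ⟨x, hRP x.2⟩ : P), (hA α α.2 ⟨x, hRP x.2⟩).mp x.2⟩
      invFun := fun x => ⟨(((α : MulAut P)⁻¹) ⟨x, hRP x.2⟩ : P),
        (hA _ (A.inv_mem α.2) ⟨x, hRP x.2⟩).mp x.2⟩
      left_inv := by
        intro x
        apply Subtype.ext
        show ((((α : MulAut P)⁻¹) ⟨(((α : MulAut P) ⟨x, hRP x.2⟩ : P) : Ω), _⟩ : P) : Ω) = x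
        have : (⟨(((α : MulAut P) ⟨x, hRP x.2⟩ : P) : Ω), ((α : MulAut P) ⟨x, hRP x.2⟩).2⟩ : P) =
            (α : MulAut P) ⟨x, hRP x.2⟩ := rfl
        simp
      right_inv := by
        intro x
        apply Subtype.ext
        show (((α : MulAut P) ⟨((((α : MulAut P)⁻¹) ⟨x, hRP x.2⟩ : P) : Ω), _⟩ : P) : Ω) = x
        simp
      map_mul' := by
        intro x y
        apply Subtype.ext
        show (((α : MulAut P) ⟨(x * y : R), hRP (x * y).2⟩ : P) : Ω) =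
          (((α : MulAut P) ⟨x, hRP x.2⟩ : P) : Ω) * (((α : MulAut P) ⟨y, hRP y.2⟩ : P) : Ω)
        have : (⟨((x * y : R) : Ω), hRP (x * y).2⟩ : P) = ⟨x, hRP x.2⟩ * ⟨y, hRP y.2⟩ := rfl
        rw [this, map_mul]
        rfl }
  map_one' := by
    ext x
    rfl
  map_mul' := by
    intro α β
    ext x
    rfl

theorem resStab_apply {P R : Subgroup Ω} (hRP : R ≤ P) (A : Subgroup (MulAut P))
    (hA : ∀ α ∈ A, ∀ x : P, (x : Ω) ∈ R ↔ ((α x : P) : Ω) ∈ R) (α : A) (x : R) :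
    ((resStab hRP A hA α x : R) : Ω) = (((α : MulAut P) ⟨x, hRP x.2⟩ : P) : Ω) := rfl

theorem mem_normalizer_of_normal {T : Subgroup Ω} (hTS : T ≤ S) (hTn : (T.subgroupOf S).Normal)
    {g : Ω} (hg : g ∈ S) : g ∈ Subgroup.normalizer (T : Set Ω) := by
  rw [Subgroup.mem_normalizer_iff]
  intro h
  exact conj_mem_iff_of_normal hTS hTn hg h

/-- **Frattini condition** for a subsystem of `p`-power index: every map of `F` restricted to a
subgroup of `T` is decomposable. -/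
theorem frattini_of_pPowerIndex [Finite S] {p : ℕ} [Fact p.Prime] (hS : IsPGroup p S)
    (F : FusionSystem S) (hF : F.IsSaturated p) {T : Subgroup Ω} (hTS : T ≤ S)
    (hTn : (T.subgroupOf S).Normal) (hT : F.hyperfocalSubgroup p ≤ T) (E : FusionSystem T)
    (hEi : E.HasPPowerIndexIn F p) (hinv : AutInv F E) :
    ∀ (P : Subgroup Ω) (φ : P →* Ω), φ ∈ F.Hom P → ∀ (P₀ : Subgroup Ω) (h₀ : P₀ ≤ P), P₀ ≤ T →
      φ.comp (Subgroup.inclusion h₀) ∈ (decSystem F E hTS hinv).Hom P₀ := by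
  have hTsc := over_hyperfocal_stronglyClosed hS F hF hTS hTn hT
  apply alperin_induction hS F hF (fun P φ => ∀ (P₀ : Subgroup Ω) (h₀ : P₀ ≤ P), P₀ ≤ T →
      φ.comp (Subgroup.inclusion h₀) ∈ (decSystem F E hTS hinv).Hom P₀)
  · -- conjugation
    intro P g hP hg P₀ h₀ hP₀T
    have hgN := mem_normalizer_of_normal hTS hTn hg
    rw [mem_decSystem]
    refine ⟨⟨restrict_mem F h₀ (F.conj_mem hP hg), hP₀T, ?_⟩, ?_⟩
    · intro x
      exact (conj_mem_iff_of_normal hTS hTn hg x).mp (hP₀T x.2)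
    · exact ⟨T.normalizerMonoidHom ⟨g, hgN⟩, conjAut_mem F hTS hg hgN, P₀.subtype,
        subtype_mem E hP₀T, fun x hx => rfl⟩
  · -- composition
    intro P Q φ ψ hφ hψ h1 h2 hv P₀ h₀ hP₀T
    have hφ₀ := h1 P₀ h₀ hP₀T
    have hQ₀Q : (φ.comp (Subgroup.inclusion h₀)).range ≤ Q := by
      rintro _ ⟨x, rfl⟩
      exact hv _
    have hQ₀T : (φ.comp (Subgroup.inclusion h₀)).range ≤ T := by
      rintro _ ⟨x, rfl⟩
      exact ((decSystem F E hTS hinv).le_of_mem hφ₀).2 x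
    have hψ₀ := h2 _ hQ₀Q hQ₀T
    have h3 := (decSystem F E hTS hinv).comp_mem hφ₀ hψ₀ (fun x => ⟨x, rfl⟩)
    have h4 : (ψ.comp (φ.codRestrict Q hv)).comp (Subgroup.inclusion h₀) =
        (ψ.comp (Subgroup.inclusion hQ₀Q)).comp
          ((φ.comp (Subgroup.inclusion h₀)).codRestrict _ (fun x => ⟨x, rfl⟩)) := by
      ext x
      rfl
    rw [h4]
    exact h3
  · -- inverses
    intro P φ hφ h1 ψ hψ hψφ R₀ h₀ hR₀T
    have hψ₀F : ψ.comp (Subgroup.inclusion h₀) ∈ F.Hom R₀ := restrict_mem F h₀ hψ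
    have hP₀P : (ψ.comp (Subgroup.inclusion h₀)).range ≤ P := by
      rintro _ ⟨⟨r, hr⟩, rfl⟩
      obtain ⟨x, rfl⟩ := h₀ hr
      show ψ ⟨φ x, _⟩ ∈ P
      rw [hψφ x]
      exact x.2
    have hP₀T : (ψ.comp (Subgroup.inclusion h₀)).range ≤ T := by
      rintro _ ⟨r, rfl⟩
      exact hTsc.2 R₀ hR₀T _ hψ₀F r
    have hφ₀ := h1 _ hP₀P hP₀T
    obtain ⟨θ, hθ, hθeq⟩ := (decSystem F E hTS hinv).inv_mem hφ₀
    have hφψ : ∀ (r : Ω) (hr : r ∈ R₀), φ ⟨ψ ⟨r, h₀ hr⟩, hP₀P ⟨⟨r, hr⟩, rfl⟩⟩ = r := by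
      intro r hr
      obtain ⟨x, rfl⟩ := h₀ hr
      have h5 : (⟨ψ ⟨φ x, h₀ hr⟩, hP₀P ⟨⟨φ x, hr⟩, rfl⟩⟩ : P) = x := Subtype.ext (hψφ x)
      rw [h5]
    have hrange : (φ.comp (Subgroup.inclusion hP₀P)).range = R₀ := by
      ext y
      constructor
      · rintro ⟨⟨_, ⟨r, hr⟩, rfl⟩, rfl⟩
        show φ ⟨ψ ⟨r, h₀ hr⟩, _⟩ ∈ R₀
        rw [hφψ r hr]
        exact hr
      · intro hy
        exact ⟨⟨ψ ⟨y, h₀ hy⟩, ⟨⟨y, hy⟩, rfl⟩⟩, hφψ y hy⟩
    refine hom_congr (decSystem F E hTS hinv) hrange hθ _ ?_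
    intro y hy hy'
    have h6 := hθeq ⟨ψ ⟨y, h₀ hy'⟩, ⟨⟨y, hy'⟩, rfl⟩⟩
    show ψ ⟨y, h₀ hy'⟩ = θ ⟨y, hy⟩
    have h7 : ψ ⟨y, h₀ hy'⟩ = θ ⟨(φ.comp (Subgroup.inclusion hP₀P))
        ⟨ψ ⟨y, h₀ hy'⟩, ⟨⟨y, hy'⟩, rfl⟩⟩, ⟨_, rfl⟩⟩ := h6.symm
    rw [h7]
    congr 2
    exact hφψ y hy'
  · -- automorphisms
    intro P hP β hβ P₀ h₀ hP₀T
    have hfn := fullyNormalized_of_top_or_essential F hP
    obtain ⟨-, hfa⟩ := fullyNormalized_facts hS F hF hfn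
    have hPS : P ≤ S := hfn.1
    have hβF : P.subtype.comp β.toMonoidHom ∈ F.Hom P := (mem_autGroup_iff F hPS β).mp hβ
    obtain ⟨γ, hγ, β', hβ', rfl⟩ := aut_decomp F hfa hβ
    rw [mem_autInducedBy_iff] at hγ
    obtain ⟨s, hsS, hsN, hs⟩ := hγ
    have hpres : ∀ δ ∈ F.autGroup P, ∀ x : P,
        (x : Ω) ∈ P ⊓ T ↔ ((δ x : P) : Ω) ∈ P ⊓ T := by
      intro δ hδ x
      have h1 := over_hyperfocal_iff hS F hF hTS hTn hT P _ ((mem_autGroup_iff F hPS δ).mp hδ) x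
      constructor
      · intro hx
        exact ⟨(δ x).2, h1.mp hx.2⟩
      · intro hx
        exact ⟨x.2, h1.mpr hx.2⟩
    have hRP : P ⊓ T ≤ P := inf_le_left
    have hRT : P ⊓ T ≤ T := inf_le_right
    have hres : ∀ a : F.autGroup P, resStab hRP (F.autGroup P) hpres a ∈ F.autGroup (P ⊓ T) := by
      intro a
      exact aut_mem_of_extends F hRP ((mem_autGroup_iff F hPS a).mp a.2) (fun x => rfl)
    have h2 := pResidual_transport p (resStab hRP (F.autGroup P) hpres) hres hβ'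
    have h3 : resStab hRP (F.autGroup P) hpres β' ∈ E.autGroup (P ⊓ T) :=
      hEi.2.2 (P ⊓ T) hRT ⟨_, h2, rfl⟩
    rw [mem_autGroup_iff E hRT] at h3
    have hP₀R : P₀ ≤ P ⊓ T := le_inf h₀ hP₀T
    have h4 := restrict_mem E hP₀R h3
    have hsN' := mem_normalizer_of_normal hTS hTn hsS
    rw [mem_decSystem]
    refine ⟨⟨restrict_mem F h₀ hβF, hP₀T, ?_⟩, ?_⟩
    · intro x
      exact hTsc.2 P₀ hP₀T _ (restrict_mem F h₀ hβF) x
    · refine ⟨T.normalizerMonoidHom ⟨s, hsN'⟩, conjAut_mem F hTS hsS hsN', _, h4, ?_⟩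
      intro x hx
      show ((γ ((β' : MulAut P) ⟨x, h₀ x.2⟩) : P) : Ω) = s * _ * s⁻¹
      rw [hs]
      rfl

end Cfsg.Agent.Lib.Helper8_PPowerNormal2
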