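import Mathlib
import Cfsg.Prelude.Def_FusionComponents
import Cfsg.Agent.Lib.Helper8_PPowerNormal2
import Cfsg.Agent.Lib.Helper3_SupNormalizer

set_option autoImplicit false
set_option linter.style.haveILetI false
set_option linter.unusedVariables false
open Cfsg

/-!
# Subsystems of `p`-power index are normal, part 3: the extension condition
-/

namespace Cfsg.Agent.Lib.Helper8_PPowerNormal3

open Cfsg.FusionSystem Cfsg.Agent.Lib.Helper8_Fusion
open Cfsg.Agent.Lib.Helper8_Saturated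
open Cfsg.Agent.Lib.Helper8_Alperin
open Cfsg.Agent.Lib.Helper8_Hyperfocal
open Cfsg.Agent.Lib.Helper8_NormalClosure
open Cfsg.Agent.Lib.Helper8_Generating
open Cfsg.Agent.Lib.Helper8_StrongInv
open Cfsg.Agent.Lib.Helper8_FactorSat
open Cfsg.Agent.Lib.Helper8_PPowerNormal1
open Cfsg.Agent.Lib.Helper8_PPowerNormal2
open Cfsg.Agent.Lib.Helper3_SupNormalizer
open Cfsg.Agent.Lib.Helper3_PResidual

variable {Ω : Type*} [Group Ω] {S : Subgroup Ω}

/-- The extension condition for an automorphism of `T`. -/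
def ExtCond (F : FusionSystem S) (T : Subgroup Ω) (α : MulAut T) : Prop :=
  ∃ β ∈ F.autGroup (T ⊔ centralizerIn S T),
    (∀ x : T, ((β (Subgroup.inclusion le_sup_left x) : ↥(T ⊔ centralizerIn S T)) : Ω) =
      ((α x : T) : Ω)) ∧
    ∀ c : ↥(T ⊔ centralizerIn S T), (c : Ω) ∈ centralizerIn S T →
      (c : Ω)⁻¹ * ((β c : ↥(T ⊔ centralizerIn S T)) : Ω) ∈ T ⊓ Subgroup.centralizer (T : Set Ω)

theorem extCond_one (F : FusionSystem S) (T : Subgroup Ω) : ExtCond F T 1 := by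
  refine ⟨1, Subgroup.one_mem _, fun x => rfl, fun c hc => ?_⟩
  show (c : Ω)⁻¹ * (c : Ω) ∈ _
  rw [inv_mul_cancel]
  exact Subgroup.one_mem _

theorem extCond_mul (F : FusionSystem S) (T : Subgroup Ω) {α₁ α₂ : MulAut T}
    (h1 : ExtCond F T α₁) (h2 : ExtCond F T α₂) : ExtCond F T (α₁ * α₂) := by
  obtain ⟨β₁, hβ₁, hx₁, hc₁⟩ := h1
  obtain ⟨β₂, hβ₂, hx₂, hc₂⟩ := h2
  refine ⟨β₁ * β₂, Subgroup.mul_mem _ hβ₁ hβ₂, ?_, ?_⟩
  · intro x
    show ((β₁ (β₂ (Subgroup.inclusion le_sup_left x)) : ↥(T ⊔ centralizerIn S T)) : Ω) =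
      ((α₁ (α₂ x) : T) : Ω)
    have h3 : β₂ (Subgroup.inclusion le_sup_left x) = Subgroup.inclusion le_sup_left (α₂ x) :=
      Subtype.ext (hx₂ x)
    rw [h3]
    exact hx₁ _
  · intro c hc
    show (c : Ω)⁻¹ * ((β₁ (β₂ c) : ↥(T ⊔ centralizerIn S T)) : Ω) ∈ _
    have hz := hc₂ c hc
    obtain ⟨hzT, hzC⟩ := Subgroup.mem_inf.mp hz
    have h3 : β₂ c = c * Subgroup.inclusion le_sup_left
        (⟨(c : Ω)⁻¹ * ((β₂ c : ↥(T ⊔ centralizerIn S T)) : Ω), hzT⟩ : T) := by
      apply Subtype.ext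
      show ((β₂ c : ↥(T ⊔ centralizerIn S T)) : Ω) =
        (c : Ω) * ((c : Ω)⁻¹ * ((β₂ c : ↥(T ⊔ centralizerIn S T)) : Ω))
      group
    rw [h3, map_mul]
    show (c : Ω)⁻¹ * (((β₁ c : ↥(T ⊔ centralizerIn S T)) : Ω) *
      ((β₁ (Subgroup.inclusion le_sup_left _) : ↥(T ⊔ centralizerIn S T)) : Ω)) ∈ _
    rw [hx₁, ← mul_assoc]
    apply Subgroup.mul_mem _ (hc₁ c hc)
    refine Subgroup.mem_inf.mpr ⟨(α₁ _).2, ?_⟩
    rw [Subgroup.mem_centralizer_iff]
    intro t ht
    obtain ⟨t', ht'⟩ := α₁.surjective ⟨t, ht⟩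
    have h4 : t = ((α₁ t' : T) : Ω) := by rw [ht']
    rw [h4]
    have h5 : t' * ⟨(c : Ω)⁻¹ * ((β₂ c : ↥(T ⊔ centralizerIn S T)) : Ω), hzT⟩ =
        ⟨(c : Ω)⁻¹ * ((β₂ c : ↥(T ⊔ centralizerIn S T)) : Ω), hzT⟩ * t' :=
      Subtype.ext (Subgroup.mem_centralizer_iff.mp hzC t' t'.2)
    have h6 := congrArg (fun z : T => ((α₁ z : T) : Ω)) h5
    simp only [map_mul] at h6
    exact h6

theorem extCond_pow (F : FusionSystem S) (T : Subgroup Ω) {α : MulAut T}
    (h : ExtCond F T α) (k : ℕ) : ExtCond F T (α ^ k) := by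
  induction k with
  | zero => rw [pow_zero]; exact extCond_one F T
  | succ k ih => rw [pow_succ]; exact extCond_mul F T ih h

theorem extCond_inv [Finite S] (F : FusionSystem S) {T : Subgroup Ω} (hTS : T ≤ S) {α : MulAut T}
    (h : ExtCond F T α) : ExtCond F T α⁻¹ := by
  haveI : Finite T := finite_of_le hTS
  have h1 : α⁻¹ ∈ Subgroup.zpowers α := Subgroup.inv_mem _ (Subgroup.mem_zpowers α)
  rw [← mem_powers_iff_mem_zpowers] at h1
  obtain ⟨k, hk⟩ := h1
  rw [← hk]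
  exact extCond_pow F T h k

/-- Inner automorphisms of `T` satisfy the extension condition. -/
theorem extCond_inner (F : FusionSystem S) {T : Subgroup Ω} (hTS : T ≤ S) {γ : MulAut T}
    (hγ : γ ∈ autInducedBy T T) : ExtCond F T γ := by
  rw [mem_autInducedBy_iff] at hγ
  obtain ⟨g, hgT, -, hg⟩ := hγ
  have hDS : T ⊔ centralizerIn S T ≤ S := sup_le hTS inf_le_left
  have hgD : g ∈ T ⊔ centralizerIn S T := le_sup_left (a := T) hgT
  have hgN : g ∈ Subgroup.normalizer ((T ⊔ centralizerIn S T : Subgroup Ω) : Set Ω) :=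
    Subgroup.le_normalizer hgD
  refine ⟨(T ⊔ centralizerIn S T).normalizerMonoidHom ⟨g, hgN⟩,
    conjAut_mem F hDS (hTS hgT) hgN, ?_, ?_⟩
  · intro x
    rw [hg x]
    rfl
  · intro c hc
    show (c : Ω)⁻¹ * (g * (c : Ω) * g⁻¹) ∈ _
    have h1 : g * (c : Ω) = (c : Ω) * g := Subgroup.mem_centralizer_iff.mp hc.2 g hgT
    rw [h1]
    have h2 : (c : Ω)⁻¹ * ((c : Ω) * g * g⁻¹) = 1 := by group
    rw [h2]
    exact Subgroup.one_mem _

/-- A strongly closed subgroup is fully normalized. -/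
theorem fullyNormalized_of_stronglyClosed [Finite S] (F : FusionSystem S) {T : Subgroup Ω}
    (hTsc : F.StronglyClosed T) : F.IsFullyNormalized T := by
  have hTS := hTsc.1
  haveI : Finite T := finite_of_le hTS
  refine ⟨hTS, ?_⟩
  intro Q hQ
  obtain ⟨φ, hφ, rfl⟩ := hQ
  have h1 : φ.range = T :=
    range_eq_of_vals (F.injective_of_mem hφ) (fun x => hTsc.2 T le_rfl φ hφ x)
  rw [h1]

/-- Automorphisms in `Aut_F(T)` of order prime to `p` satisfy the extension condition. -/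
theorem extCond_of_coprime [Finite S] {p : ℕ} [Fact p.Prime] (hS : IsPGroup p S)
    (F : FusionSystem S) (hF : F.IsSaturated p) {T : Subgroup Ω} (hTsc : F.StronglyClosed T)
    (hT : F.hyperfocalSubgroup p ≤ T) {δ : MulAut T} (hδ : δ ∈ F.autGroup T)
    (hord : (orderOf δ).Coprime p) : ExtCond F T δ := by
  have hTS := hTsc.1
  haveI : Finite T := finite_of_le hTS
  have hDS : T ⊔ centralizerIn S T ≤ S := sup_le hTS inf_le_left
  haveI : Finite ↥(T ⊔ centralizerIn S T) := finite_of_le hDS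
  have hTfn := fullyNormalized_of_stronglyClosed F hTsc
  have hrec := receptive_of_fullyNormalized hS F hF hTfn
  have hδF : T.subtype.comp δ.toMonoidHom ∈ F.Hom T := (mem_autGroup_iff F hTS δ).mp hδ
  obtain ⟨N, ψ, hψ, hTN, hCN, hψT, hψC⟩ :=
    extend_to_centralizer F hrec _ hδF (range_subtype_comp δ)
  have hDN : T ⊔ centralizerIn S T ≤ N := sup_le hTN hCN
  have hψD := restrict_mem F hDN hψ
  have hCnorm : centralizerIn S T ≤ Subgroup.normalizer (T : Set Ω) :=
    inf_le_right.trans (Subgroup.centralizer_le_normalizer _)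
  have hvals : ∀ x : ↥(T ⊔ centralizerIn S T),
      (ψ.comp (Subgroup.inclusion hDN)) x ∈ T ⊔ centralizerIn S T := by
    rintro ⟨x, hx⟩
    obtain ⟨t, ht, c, hc, rfl⟩ := exists_mul_of_mem_sup T (centralizerIn S T) hCnorm hx
    have h1 : (⟨t * c, hDN hx⟩ : N) = ⟨t, hTN ht⟩ * ⟨c, hCN hc⟩ := rfl
    show ψ ⟨t * c, _⟩ ∈ _
    rw [h1, map_mul]
    apply Subgroup.mul_mem
    · apply le_sup_left (a := T)
      rw [hψT ⟨t, ht⟩]
      exact (δ _).2
    · exact le_sup_right (a := T) (hψC ⟨c, hc⟩)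
  obtain ⟨e, he, heq⟩ := iso_of_hom F hψD (range_eq_of_vals (F.injective_of_mem hψD) hvals)
  have heF : e ∈ F.autGroup (T ⊔ centralizerIn S T) := (mem_autGroup_iff F hDS e).mpr he
  have heT : ∀ (m : ℕ) (x : T),
      (((e ^ m) (Subgroup.inclusion le_sup_left x) : ↥(T ⊔ centralizerIn S T)) : Ω) =
        (((δ ^ m) x : T) : Ω) := by
    intro m
    induction m with
    | zero => intro x; rfl
    | succ m ih =>
      intro x
      rw [pow_succ', pow_succ']
      show ((e ((e ^ m) (Subgroup.inclusion le_sup_left x)) : ↥(T ⊔ centralizerIn S T)) : Ω) =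
        ((δ ((δ ^ m) x) : T) : Ω)
      have h1 : (e ^ m) (Subgroup.inclusion le_sup_left x) =
          Subgroup.inclusion le_sup_left ((δ ^ m) x) := Subtype.ext (ih x)
      rw [h1, heq]
      exact hψT _
  have heC : ∀ (m : ℕ) (c : ↥(T ⊔ centralizerIn S T)), (c : Ω) ∈ centralizerIn S T →
      (((e ^ m) c : ↥(T ⊔ centralizerIn S T)) : Ω) ∈ centralizerIn S T := by
    intro m
    induction m with
    | zero => intro c hc; exact hc
    | succ m ih =>
      intro c hc
      rw [pow_succ']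
      show ((e ((e ^ m) c) : ↥(T ⊔ centralizerIn S T)) : Ω) ∈ _
      rw [heq]
      exact hψC ⟨_, ih c hc⟩
  obtain ⟨a, ha⟩ := exists_pow_coprime p (⟨e, heF⟩ : F.autGroup (T ⊔ centralizerIn S T))
  have hcop : Nat.Coprime (p ^ a) (orderOf δ) := Nat.Coprime.pow_left a hord.symm
  obtain ⟨k, hk⟩ : ∃ k, δ ^ (p ^ a * k) = δ := by
    rcases Nat.lt_or_ge 1 (orderOf δ) with h1 | h1
    · obtain ⟨m, -, hm⟩ := Nat.exists_mul_mod_eq_one_of_coprime hcop h1
      exact ⟨m, by rw [← pow_mod_orderOf, hm, pow_one]⟩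
    · have h2 : orderOf δ = 1 := by
        have := orderOf_pos δ
        omega
      rw [orderOf_eq_one_iff] at h2
      exact ⟨0, by rw [h2]; simp⟩
  have hβres : (⟨e, heF⟩ : F.autGroup (T ⊔ centralizerIn S T)) ^ (p ^ a * k) ∈
      pResidual p (F.autGroup (T ⊔ centralizerIn S T)) := by
    apply mem_pResidual_of_coprime
    rw [pow_mul]
    exact Nat.Coprime.coprime_dvd_left (orderOf_pow_dvd k) ha
  refine ⟨e ^ (p ^ a * k), Subgroup.pow_mem _ heF _, ?_, ?_⟩
  · intro x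
    rw [heT, hk]
  · intro c hc
    refine Subgroup.mem_inf.mpr ⟨?_, ?_⟩
    · exact hT (inv_mul_apply_mem_hyperfocal F p hDS hβres c)
    · exact Subgroup.mul_mem _ (Subgroup.inv_mem _ hc.2) (heC _ c hc).2

/-- **Extension condition** for a saturated subsystem of `p`-power index. -/
theorem extension_of_pPowerIndex [Finite S] {p : ℕ} [Fact p.Prime] (hS : IsPGroup p S)
    (F : FusionSystem S) (hF : F.IsSaturated p) {T : Subgroup Ω} (hTsc : F.StronglyClosed T)
    (hT : F.hyperfocalSubgroup p ≤ T) (E : FusionSystem T)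
    (hEs : E.IsSaturated p) (hEF : E.IsSubsystemOf F) :
    ∀ α ∈ E.autGroup T, ExtCond F T α := by
  have hTS := hTsc.1
  haveI : Finite T := finite_of_le hTS
  have hTp : IsPGroup p T := hS.to_le hTS
  intro α hα
  obtain ⟨-, hfa⟩ := fullyNormalized_facts hTp E hEs (top_fullyNormalized E)
  obtain ⟨γ, hγ, β', hβ', rfl⟩ := aut_decomp E hfa hα
  apply extCond_mul F T (extCond_inner F hTS hγ)
  have hEFa : E.autGroup T ≤ F.autGroup T := autGroup_le_of_subsystem F E hEF T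
  clear hα
  unfold pResidual at hβ'
  induction hβ' using Subgroup.closure_induction with
  | mem x hx =>
    apply extCond_of_coprime hS F hF hTsc hT (hEFa x.2)
    have h1 : (orderOf x).Coprime p := hx
    rw [Subgroup.orderOf_coe]
    exact h1
  | one => exact extCond_one F T
  | mul x y hx hy ihx ihy => exact extCond_mul F T ihx ihy
  | inv x hx ih => exact extCond_inv F hTS ih

end Cfsg.Agent.Lib.Helper8_PPowerNormal3
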