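import Mathlib
import Cfsg.Prelude.Def_FusionSystem
import Cfsg.Agent.Lib.Helper8_KSys
import Cfsg.Agent.Lib.Helper8_StrongInv
import Cfsg.Agent.Lib.Helper8_PPowerNormal3

set_option autoImplicit false
set_option linter.style.haveILetI false
set_option linter.unusedVariables false
open Cfsg

/-!
# Direct factors of the Sylow group of a saturated fusion system, I
-/

namespace Cfsg.Agent.Lib.Helper8_DirFactor1

open Cfsg.FusionSystem Cfsg.Agent.Lib.Helper8_Fusion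
open Cfsg.Agent.Lib.Helper8_GroupFusion
open Cfsg.Agent.Lib.Helper8_Saturated
open Cfsg.Agent.Lib.Helper8_Alperin
open Cfsg.Agent.Lib.Helper8_FactorSat
open Cfsg.Agent.Lib.Helper8_KNorm1
open Cfsg.Agent.Lib.Helper8_KNorm2
open Cfsg.Agent.Lib.Helper8_KNorm3
open Cfsg.Agent.Lib.Helper8_KNorm5
open Cfsg.Agent.Lib.Helper8_KSys
open Cfsg.Agent.Lib.Helper8_StrongInv
open Cfsg.Agent.Lib.Helper8_PPowerNormal3

variable {Ω : Type*} [Group Ω] {S : Subgroup Ω}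

/-- A homomorphism on `P ⊔ Q` mapping `P` and `Q` into `R` has values in `R`. -/
theorem sup_vals_one {P Q R : Subgroup Ω} (ψ : ↥(P ⊔ Q) →* Ω)
    (hP : ∀ x (hx : x ∈ P), ψ ⟨x, (le_sup_left : P ≤ P ⊔ Q) hx⟩ ∈ R)
    (hQ : ∀ x (hx : x ∈ Q), ψ ⟨x, (le_sup_right : Q ≤ P ⊔ Q) hx⟩ ∈ R) :
    ∀ x : ↥(P ⊔ Q), ψ x ∈ R := by
  intro x
  have := sup_vals ψ hP hQ x
  rwa [sup_idem] at this

/-- A strongly closed subgroup is fully centralized. -/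
theorem fullyCentralized_of_stronglyClosed [Finite S] (F : FusionSystem S) {T : Subgroup Ω}
    (hTsc : F.StronglyClosed T) : F.IsFullyCentralized T := by
  have hTS := hTsc.1
  haveI : Finite T := finite_of_le hTS
  refine ⟨hTS, ?_⟩
  intro Q hQ
  obtain ⟨φ, hφ, rfl⟩ := hQ
  have h1 : φ.range = T :=
    range_eq_of_vals (F.injective_of_mem hφ) (fun x => hTsc.2 T le_rfl φ hφ x)
  rw [h1]

/-- **Extension lemma.** If `S₂` is strongly closed and centralizes both `P` and `φ(P)`, then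
`φ` extends to `P S₂`. -/
theorem exists_extension_sup [Finite S] {p : ℕ} [Fact p.Prime] (hS : IsPGroup p S)
    (F : FusionSystem S) (hF : F.IsSaturated p) {S₂ : Subgroup Ω} (h₂ : F.StronglyClosed S₂)
    {P : Subgroup Ω} {φ : P →* Ω} (hφ : φ ∈ F.Hom P) (hP₂ : S₂ ≤ centralizerIn S P)
    (hQ₂ : S₂ ≤ centralizerIn S φ.range) :
    ∃ ψ ∈ F.Hom (P ⊔ S₂), ∀ x : P, ψ (Subgroup.inclusion le_sup_left x) = φ x := by
  haveI : Finite S₂ := finite_of_le h₂.1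
  have hQS : φ.range ≤ S := by
    rintro _ ⟨x, rfl⟩
    exact (F.le_of_mem hφ).2 x
  obtain ⟨Q', ⟨χ, hχ, hχr⟩, hQ'fc⟩ := exists_fullyCentralized F hQS
  have hQ'r := receptive_of_fullyCentralized hS F hF hQ'fc
  obtain ⟨N₁, ψ₁, hψ₁, hQN₁, hCN₁, hψ₁χ, -⟩ := extend_to_centralizer F hQ'r χ hχ hχr
  have hvφ : ∀ x : P, φ x ∈ φ.range := fun x => ⟨x, rfl⟩
  have hχφ : χ.comp (φ.codRestrict φ.range hvφ) ∈ F.Hom P := F.comp_mem hφ hχ hvφ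
  have hχφr : (χ.comp (φ.codRestrict φ.range hvφ)).range = Q' := by
    rw [← hχr]
    ext y
    constructor
    · rintro ⟨x, rfl⟩
      exact ⟨⟨φ x, hvφ x⟩, rfl⟩
    · rintro ⟨⟨_, x, rfl⟩, rfl⟩
      exact ⟨x, rfl⟩
  obtain ⟨N₂, ψ₂, hψ₂, hPN₂, hCN₂, hψ₂χφ, -⟩ :=
    extend_to_centralizer F hQ'r _ hχφ hχφr
  have hS₂N₁ : S₂ ≤ N₁ := hQ₂.trans hCN₁
  have hS₂N₂ : S₂ ≤ N₂ := hP₂.trans hCN₂
  have hψ₁' := restrict_mem F (sup_le hQN₁ hS₂N₁) hψ₁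
  have hψ₂' := restrict_mem F (sup_le hPN₂ hS₂N₂) hψ₂
  obtain ⟨θ, hθ, hθeq⟩ := F.inv_mem hψ₁'
  -- `ψ₁` maps `S₂` onto `S₂`
  have hρ := restrict_mem F hS₂N₁ hψ₁
  have hρr : (ψ₁.comp (Subgroup.inclusion hS₂N₁)).range = S₂ :=
    range_eq_of_vals (F.injective_of_mem hρ) (fun x => h₂.2 S₂ le_rfl _ hρ x)
  have hvals : ∀ y : ↥(P ⊔ S₂), (ψ₂.comp (Subgroup.inclusion (sup_le hPN₂ hS₂N₂))) y ∈
      (ψ₁.comp (Subgroup.inclusion (sup_le hQN₁ hS₂N₁))).range := by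
    apply sup_vals_one
    · intro x hx
      refine ⟨⟨φ ⟨x, hx⟩, (le_sup_left : φ.range ≤ φ.range ⊔ S₂) (hvφ _)⟩, ?_⟩
      show ψ₁ ⟨φ ⟨x, hx⟩, _⟩ = ψ₂ ⟨x, _⟩
      rw [hψ₁χ ⟨φ ⟨x, hx⟩, hvφ _⟩]
      exact (hψ₂χφ ⟨x, hx⟩).symm
    · intro s hs
      have h1 : ψ₂ ⟨s, hS₂N₂ hs⟩ ∈ S₂ :=
        h₂.2 S₂ le_rfl _ (restrict_mem F hS₂N₂ hψ₂) ⟨s, hs⟩
      rw [← hρr] at h1
      obtain ⟨s', hs'⟩ := h1
      refine ⟨⟨s', (le_sup_right : S₂ ≤ φ.range ⊔ S₂) s'.2⟩, ?_⟩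
      exact hs'
  refine ⟨θ.comp ((ψ₂.comp (Subgroup.inclusion (sup_le hPN₂ hS₂N₂))).codRestrict _ hvals),
    F.comp_mem hψ₂' hθ hvals, ?_⟩
  intro x
  have h1 := hθeq ⟨φ x, (le_sup_left : φ.range ≤ φ.range ⊔ S₂) (hvφ x)⟩
  refine Eq.trans ?_ h1
  show θ ⟨ψ₂ ⟨x, _⟩, _⟩ = θ ⟨ψ₁ ⟨φ x, _⟩, _⟩
  congr 1
  apply Subtype.ext
  show ψ₂ ⟨x, _⟩ = ψ₁ ⟨φ x, _⟩
  rw [hψ₁χ ⟨φ x, hvφ _⟩]
  exact hψ₂χφ x

/-- Elements of the join of two elementwise commuting subgroups are products. -/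
theorem mem_sup_of_commute {A B : Subgroup Ω} (hc : ∀ a ∈ A, ∀ b ∈ B, a * b = b * a) {g : Ω}
    (hg : g ∈ A ⊔ B) : ∃ a ∈ A, ∃ b ∈ B, g = a * b := by
  rw [Subgroup.sup_eq_closure] at hg
  induction hg using Subgroup.closure_induction with
  | mem x hx =>
    rcases hx with hx | hx
    · exact ⟨x, hx, 1, B.one_mem, (mul_one x).symm⟩
    · exact ⟨1, A.one_mem, x, hx, (one_mul x).symm⟩
  | one => exact ⟨1, A.one_mem, 1, B.one_mem, (mul_one 1).symm⟩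
  | mul x y _ _ hx hy =>
    obtain ⟨a, ha, b, hb, rfl⟩ := hx
    obtain ⟨a', ha', b', hb', rfl⟩ := hy
    refine ⟨a * a', A.mul_mem ha ha', b * b', B.mul_mem hb hb', ?_⟩
    have := hc a' ha' b hb
    calc a * b * (a' * b') = a * (b * a') * b' := by group
      _ = a * (a' * b) * b' := by rw [this]
      _ = a * a' * (b * b') := by group
  | inv x _ hx =>
    obtain ⟨a, ha, b, hb, rfl⟩ := hx
    refine ⟨a⁻¹, A.inv_mem ha, b⁻¹, B.inv_mem hb, ?_⟩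
    rw [mul_inv_rev]
    exact (hc a⁻¹ (A.inv_mem ha) b⁻¹ (B.inv_mem hb)).symm

/-- **Full subsystems on a strongly closed direct factor are saturated.** -/
theorem full_saturated [Finite S] {p : ℕ} [Fact p.Prime] (hS : IsPGroup p S)
    (F : FusionSystem S) (hF : F.IsSaturated p) {S₁ : Subgroup Ω} (h₁ : F.StronglyClosed S₁)
    (hdec : ∀ g ∈ S, ∃ a ∈ S₁, ∃ c ∈ Subgroup.centralizer (S₁ : Set Ω), g = a * c)
    (R : FusionSystem S₁) (hR : ∀ P : Subgroup Ω, P ≤ S₁ → R.Hom P = F.Hom P) :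
    R.IsSaturated p := by
  haveI : Finite S₁ := finite_of_le h₁.1
  intro P hP
  obtain ⟨Q, ⟨φ, hφ, hφr⟩, hQfn⟩ := exists_fullyNormalized F (hP.trans h₁.1)
  have hQ₁ : Q ≤ S₁ := by
    rw [← hφr]
    rintro _ ⟨x, rfl⟩
    exact h₁.2 P hP φ hφ x
  refine ⟨Q, ⟨φ, by rw [hR P hP]; exact hφ, hφr⟩, ?_, ?_⟩
  · -- fully automized
    have hfa := (fullyNormalized_facts hS F hF hQfn).2
    rw [fullyAutomized_iff_card F hQfn.1] at hfa
    rw [fullyAutomized_iff_card R hQ₁]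
    have hA : R.autGroup Q = F.autGroup Q := by
      unfold FusionSystem.autGroup
      rw [hR Q hQ₁]
    have hI : autInducedBy S₁ Q = autInducedBy S Q := by
      ext α
      rw [mem_autInducedBy_iff, mem_autInducedBy_iff]
      constructor
      · rintro ⟨g, hg, hgN, hgα⟩
        exact ⟨g, h₁.1 hg, hgN, hgα⟩
      · rintro ⟨g, hg, hgN, hgα⟩
        obtain ⟨a, ha, c, hc, rfl⟩ := hdec g hg
        have hcx : ∀ x ∈ Q, a * c * x * (a * c)⁻¹ = a * x * a⁻¹ := by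
          intro x hx
          have := (Subgroup.mem_centralizer_iff.mp hc) x (hQ₁ hx)
          rw [mul_inv_rev]
          calc a * c * x * (c⁻¹ * a⁻¹) = a * (c * x) * c⁻¹ * a⁻¹ := by group
            _ = a * (x * c) * c⁻¹ * a⁻¹ := by rw [this]
            _ = a * x * a⁻¹ := by group
        refine ⟨a, ha, ?_, ?_⟩
        · haveI : Finite Q := finite_of_le hQfn.1
          apply Subgroup.mem_normalizer_fintype
          intro x hx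
          rw [← hcx x hx]
          exact ((Subgroup.mem_normalizer_iff.mp hgN) x).mp hx
        · intro x
          rw [hgα x, hcx x x.2]
    rw [hA, hI]; exact hfa
  · -- receptive
    have hrec := receptive_of_fullyNormalized hS F hF hQfn
    refine ⟨hQ₁, ?_⟩
    intro P' φ' hφ' hφ'r
    have hP'₁ : P' ≤ S₁ := (R.le_of_mem hφ').1
    have hφ'F : φ' ∈ F.Hom P' := by rw [← hR P' hP'₁]; exact hφ'
    obtain ⟨ψ, hψ, hψeq⟩ := hrec.2 P' φ' hφ'F hφ'r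
    have hle : extender S₁ P' φ' ≤ extender S P' φ' := by
      unfold FusionSystem.extender
      apply Subgroup.closure_mono
      rintro g ⟨hg, hgN, h, hh, hgh⟩
      exact ⟨h₁.1 hg, hgN, h, h₁.1 hh, hgh⟩
    have hle₁ : extender S₁ P' φ' ≤ S₁ := by
      unfold FusionSystem.extender
      rw [Subgroup.closure_le]
      rintro g ⟨hg, -⟩
      exact hg
    refine ⟨ψ.comp (Subgroup.inclusion hle), ?_, ?_⟩
    · rw [hR _ hle₁]
      exact restrict_mem F hle hψ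
    · intro x hxP hxN
      exact hψeq x hxP (hle hxN)

/-- Conjugating a map `φ` of the system by a map `ψ` of the system. -/
theorem conj_hom_mem (F : FusionSystem S) {A B : Subgroup Ω} (hAB : A ≤ B) {φ : A →* Ω}
    (hφ : φ ∈ F.Hom A) (hφB : ∀ x : A, φ x ∈ B) {ψ : B →* Ω} (hψ : ψ ∈ F.Hom B) :
    ∃ χ ∈ F.Hom ((A.subgroupOf B).map ψ),
      ∀ (x : A) (hx : ψ (Subgroup.inclusion hAB x) ∈ (A.subgroupOf B).map ψ),
        χ ⟨ψ (Subgroup.inclusion hAB x), hx⟩ = ψ ⟨φ x, hφB x⟩ := by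
  have hψ₀ := restrict_mem F hAB hψ
  have hr : (ψ.comp (Subgroup.inclusion hAB)).range = (A.subgroupOf B).map ψ := by
    ext y
    constructor
    · rintro ⟨x, rfl⟩
      exact ⟨Subgroup.inclusion hAB x, Subgroup.mem_subgroupOf.mpr x.2, rfl⟩
    · rintro ⟨b, hb, rfl⟩
      exact ⟨⟨b, Subgroup.mem_subgroupOf.mp hb⟩, rfl⟩
  obtain ⟨θ, hθ, hθeq⟩ := F.inv_mem hψ₀
  have hθA : ∀ y : (ψ.comp (Subgroup.inclusion hAB)).range, θ y ∈ A := by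
    rintro ⟨_, x, rfl⟩
    rw [hθeq x]
    exact x.2
  have hρ := F.comp_mem hφ hψ hφB
  have hχ₀ := F.comp_mem hθ hρ hθA
  refine ⟨_, hom_congr F hr hχ₀
    (((ψ.comp (φ.codRestrict B hφB)).comp (θ.codRestrict A hθA)).comp
      (Subgroup.inclusion (le_of_eq hr.symm))) (fun x hx hx' => rfl), ?_⟩
  intro x hx
  have h1 : θ ⟨ψ (Subgroup.inclusion hAB x), ⟨x, rfl⟩⟩ = x := hθeq x
  show ψ ⟨φ ⟨θ ⟨ψ (Subgroup.inclusion hAB x), _⟩, _⟩, _⟩ = ψ ⟨φ x, hφB x⟩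
  congr 1
  apply Subtype.ext
  show φ ⟨θ ⟨ψ (Subgroup.inclusion hAB x), _⟩, _⟩ = φ x
  congr 1
  apply Subtype.ext
  exact h1

/-- Strong invariance of the maps extending over `S₂` with `S₂` fixed elementwise. -/
theorem centralizerHom_conj [Finite S] {p : ℕ} [Fact p.Prime] (hS : IsPGroup p S)
    (F : FusionSystem S) (hF : F.IsSaturated p) {S₁ S₂ : Subgroup Ω}
    (h₁ : F.StronglyClosed S₁) (h₂ : F.StronglyClosed S₂)
    (hc : ∀ a ∈ S₁, ∀ b ∈ S₂, a * b = b * a)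
    {P Q : Subgroup Ω} (hPQ : P ≤ Q) (hQ : Q ≤ S₁) {φ : P →* Ω}
    (hφ : φ ∈ F.centralizerHom S₂ P) (hφQ : ∀ x : P, φ x ∈ Q) {ψ : Q →* Ω} (hψ : ψ ∈ F.Hom Q) :
    ∃ χ ∈ F.centralizerHom S₂ ((P.subgroupOf Q).map ψ),
      ∀ (x : P) (hx : ψ (Subgroup.inclusion hPQ x) ∈ (P.subgroupOf Q).map ψ),
        χ ⟨ψ (Subgroup.inclusion hPQ x), hx⟩ = ψ ⟨φ x, hφQ x⟩ := by
  haveI : Finite S₂ := finite_of_le h₂.1
  obtain ⟨hφF, hPC, hφC, φ', hφ', hφ'P, hφ'S₂⟩ := hφ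
  have hcen : ∀ X : Subgroup Ω, X ≤ S₁ → S₂ ≤ centralizerIn S X := by
    intro X hX s hs
    refine ⟨h₂.1 hs, ?_⟩
    show s ∈ Subgroup.centralizer (X : Set Ω)
    rw [Subgroup.mem_centralizer_iff]
    intro x hx
    exact hc x (hX hx) s hs
  have hcen₁ : S₁ ≤ centralizerIn S S₂ := by
    intro a ha
    refine ⟨h₁.1 ha, ?_⟩
    show a ∈ Subgroup.centralizer (S₂ : Set Ω)
    rw [Subgroup.mem_centralizer_iff]
    intro s hs
    exact (hc a ha s hs).symm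
  have hψr : ψ.range ≤ S₁ := by
    rintro _ ⟨x, rfl⟩
    exact h₁.2 Q hQ ψ hψ x
  obtain ⟨ψ', hψ', hψ'Q⟩ := exists_extension_sup hS F hF h₂ hψ (hcen Q hQ) (hcen _ hψr)
  have hρ := restrict_mem F (le_sup_right : S₂ ≤ Q ⊔ S₂) hψ'
  have hρr : (ψ'.comp (Subgroup.inclusion (le_sup_right : S₂ ≤ Q ⊔ S₂))).range = S₂ :=
    range_eq_of_vals (F.injective_of_mem hρ) (fun x => h₂.2 S₂ le_rfl _ hρ x)
  have hAB : P ⊔ S₂ ≤ Q ⊔ S₂ := sup_le_sup_right hPQ S₂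
  have hφ'B : ∀ x : ↥(P ⊔ S₂), φ' x ∈ Q ⊔ S₂ := by
    apply sup_vals
    · intro x hx
      have h := hφ'P ⟨x, hx⟩
      have h' : φ' ⟨x, (le_sup_left : P ≤ P ⊔ S₂) hx⟩ = φ ⟨x, hx⟩ := h
      rw [h']
      exact hφQ _
    · intro s hs
      have h := hφ'S₂ ⟨s, hs⟩
      have h' : φ' ⟨s, (le_sup_right : S₂ ≤ P ⊔ S₂) hs⟩ = s := h
      rw [h']
      exact hs
  obtain ⟨χ', hχ', hχ'eq⟩ := conj_hom_mem F hAB hφ' hφ'B hψ'
  have hPU : (P.subgroupOf Q).map ψ ≤ ((P ⊔ S₂).subgroupOf (Q ⊔ S₂)).map ψ' := by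
    rintro _ ⟨x, hx, rfl⟩
    refine ⟨Subgroup.inclusion le_sup_left x, ?_, hψ'Q x⟩
    exact Subgroup.mem_subgroupOf.mpr
      ((le_sup_left : P ≤ P ⊔ S₂) (Subgroup.mem_subgroupOf.mp hx))
  have hS₂pre : ∀ s ∈ S₂, ∃ s' : S₂, ψ' ⟨s', (le_sup_right : S₂ ≤ Q ⊔ S₂) s'.2⟩ = s := by
    intro s hs
    have : s ∈ (ψ'.comp (Subgroup.inclusion (le_sup_right : S₂ ≤ Q ⊔ S₂))).range := by
      rw [hρr]; exact hs
    obtain ⟨s', hs'⟩ := this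
    exact ⟨s', hs'⟩
  have hS₂U : S₂ ≤ ((P ⊔ S₂).subgroupOf (Q ⊔ S₂)).map ψ' := by
    intro s hs
    obtain ⟨s', hs'⟩ := hS₂pre s hs
    refine ⟨⟨s', (le_sup_right : S₂ ≤ Q ⊔ S₂) s'.2⟩, ?_, hs'⟩
    exact Subgroup.mem_subgroupOf.mpr ((le_sup_right : S₂ ≤ P ⊔ S₂) s'.2)
  have hPN : (P.subgroupOf Q).map ψ ≤ NK S S₂ ⊥ := by
    rw [NK_bot]
    rintro _ ⟨x, hx, rfl⟩
    exact hcen₁ (hψr ⟨x, rfl⟩)
  have hfix : ∀ q : S₂, χ' ⟨q, hS₂U q.2⟩ = (((1 : MulAut S₂) q : S₂) : Ω) := by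
    intro q
    obtain ⟨s', hs'⟩ := hS₂pre q q.2
    have hmem : ψ' (Subgroup.inclusion hAB ⟨s', (le_sup_right : S₂ ≤ P ⊔ S₂) s'.2⟩) ∈
        ((P ⊔ S₂).subgroupOf (Q ⊔ S₂)).map ψ' := by
      have h0 : ψ' (Subgroup.inclusion hAB ⟨s', (le_sup_right : S₂ ≤ P ⊔ S₂) s'.2⟩) = q := hs'
      rw [h0]; exact hS₂U q.2
    have h2 := hχ'eq ⟨s', (le_sup_right : S₂ ≤ P ⊔ S₂) s'.2⟩ hmem
    have h3 : (⟨(q : Ω), hS₂U q.2⟩ : ↥(((P ⊔ S₂).subgroupOf (Q ⊔ S₂)).map ψ')) =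
        ⟨ψ' (Subgroup.inclusion hAB ⟨s', (le_sup_right : S₂ ≤ P ⊔ S₂) s'.2⟩), hmem⟩ :=
      Subtype.ext hs'.symm
    rw [h3, h2]
    have h4 : φ' ⟨s', (le_sup_right : S₂ ≤ P ⊔ S₂) s'.2⟩ = s' := hφ'S₂ s'
    show ψ' ⟨φ' ⟨s', _⟩, _⟩ = q
    refine Eq.trans ?_ hs'
    congr 1
    exact Subtype.ext h4
  have hmem := mem_kHom_of F hPN hPU hS₂U hχ' (κ := 1) (Subgroup.one_mem _) hfix
    (χ'.comp (Subgroup.inclusion hPU)) (fun x => rfl)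
  rw [kHom_bot] at hmem
  refine ⟨_, hmem, ?_⟩
  intro x hx
  have hmem2 : ψ' (Subgroup.inclusion hAB ⟨x, (le_sup_left : P ≤ P ⊔ S₂) x.2⟩) ∈
      ((P ⊔ S₂).subgroupOf (Q ⊔ S₂)).map ψ' :=
    ⟨_, Subgroup.mem_subgroupOf.mpr ((le_sup_left : P ≤ P ⊔ S₂) x.2), rfl⟩
  have h2 := hχ'eq ⟨x, (le_sup_left : P ≤ P ⊔ S₂) x.2⟩ hmem2
  have h5 : ψ' (Subgroup.inclusion hAB ⟨x, (le_sup_left : P ≤ P ⊔ S₂) x.2⟩) =
      ψ (Subgroup.inclusion hPQ x) := hψ'Q (Subgroup.inclusion hPQ x)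
  have h6 : φ' ⟨x, (le_sup_left : P ≤ P ⊔ S₂) x.2⟩ = φ x := hφ'P x
  show χ' ⟨ψ (Subgroup.inclusion hPQ x), _⟩ = ψ ⟨φ x, hφQ x⟩
  have h7 : (⟨ψ (Subgroup.inclusion hPQ x), hPU hx⟩ :
      ↥(((P ⊔ S₂).subgroupOf (Q ⊔ S₂)).map ψ')) =
      ⟨ψ' (Subgroup.inclusion hAB ⟨x, (le_sup_left : P ≤ P ⊔ S₂) x.2⟩), hmem2⟩ :=
    Subtype.ext h5.symm
  rw [h7, h2]
  have h8 := hψ'Q ⟨φ x, hφQ x⟩
  refine Eq.trans ?_ h8
  congr 1
  exact Subtype.ext h6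

/-- The extension condition from an extending map of the system. -/
theorem extCond_of_hom [Finite S] (F : FusionSystem S) {T W : Subgroup Ω}
    (hW : W = T ⊔ centralizerIn S T) (hTW : T ≤ W) (α : MulAut T) {ψ : W →* Ω}
    (hψ : ψ ∈ F.Hom W) (hvals : ∀ x : W, ψ x ∈ W)
    (hext : ∀ x : T, ψ ⟨x, hTW x.2⟩ = ((α x : T) : Ω))
    (hc : ∀ c : W, (c : Ω) ∈ centralizerIn S T →
      (c : Ω)⁻¹ * ψ c ∈ T ⊓ Subgroup.centralizer (T : Set Ω)) : ExtCond F T α := by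
  subst hW
  have hWS := (F.le_of_mem hψ).1
  haveI : Finite ↥(T ⊔ centralizerIn S T) := finite_of_le hWS
  have hr := range_eq_of_vals (F.injective_of_mem hψ) hvals
  obtain ⟨e, he, heq⟩ := iso_of_hom F hψ hr
  refine ⟨e, (mem_autGroup_iff F hWS e).mpr he, ?_, ?_⟩
  · intro x
    rw [heq]; exact hext x
  · intro c hcc
    rw [heq]; exact hc c hcc

/-- Automorphisms preserve the centre. -/
theorem aut_center_mem {T : Subgroup Ω} (α : MulAut T) (z : T)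
    (hz : (z : Ω) ∈ Subgroup.centralizer (T : Set Ω)) :
    ((α z : T) : Ω) ∈ Subgroup.centralizer (T : Set Ω) := by
  rw [Subgroup.mem_centralizer_iff] at hz ⊢
  intro y hy
  have hzy' : (α⁻¹ ⟨y, hy⟩ : T) * z = z * α⁻¹ ⟨y, hy⟩ := Subtype.ext (hz _ (α⁻¹ ⟨y, hy⟩).2)
  have h1 : α (α⁻¹ ⟨y, hy⟩ * z) = α (z * α⁻¹ ⟨y, hy⟩) := by rw [hzy']
  rw [map_mul, map_mul, MulAut.apply_inv_self] at h1
  exact congrArg Subtype.val h1

/-- **Strongly closed direct factors.** -/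
theorem direct_factor_main [Finite S] (p : ℕ) [Fact p.Prime] (hS : IsPGroup p S)
    (F : FusionSystem S) (hF : F.IsSaturated p) (S₁ S₂ : Subgroup Ω)
    (hprod : IsInternalDirectProduct S₁ S₂ S) (h₁ : F.StronglyClosed S₁)
    (h₂ : F.StronglyClosed S₂) (R R' : FusionSystem S₁)
    (hR : ∀ P : Subgroup Ω, P ≤ S₁ → R.Hom P = F.Hom P)
    (hR' : ∀ P : Subgroup Ω, P ≤ S₁ → R'.Hom P = F.centralizerHom S₂ P) :
    R.IsSaturated p ∧ R'.IsSaturated p ∧ R'.IsNormalIn F p ∧ R'.IsNormalIn R p ∧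
      R.IsWeaklyNormalIn F p := by
  obtain ⟨hS₁S, hS₂S, hc, hinf, hsup⟩ := hprod
  haveI : Finite S₁ := finite_of_le hS₁S
  have hS₁p : IsPGroup p S₁ := hS.to_le hS₁S
  have hdecS : ∀ g ∈ S, ∃ a ∈ S₁, ∃ b ∈ S₂, g = a * b := by
    intro g hg
    rw [← hsup] at hg
    exact mem_sup_of_commute hc hg
  have hS₂cen : S₂ ≤ Subgroup.centralizer (S₁ : Set Ω) := by
    intro b hb
    rw [Subgroup.mem_centralizer_iff]
    intro a ha
    exact hc a ha b hb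
  have hS₁C : S₁ ≤ centralizerIn S S₂ := by
    intro a ha
    refine ⟨hS₁S ha, ?_⟩
    show a ∈ Subgroup.centralizer (S₂ : Set Ω)
    rw [Subgroup.mem_centralizer_iff]
    intro s hs
    exact (hc a ha s hs).symm
  -- `R` is saturated
  have hRsat : R.IsSaturated p := full_saturated hS F hF h₁ (fun g hg => by
      obtain ⟨a, ha, b, hb, rfl⟩ := hdecS g hg
      exact ⟨a, ha, b, hS₂cen hb, rfl⟩) R hR
  -- the centralizer system of `S₂`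
  obtain ⟨C, hC⟩ := exists_centralizerSystem F hS₂S
  have hCsat : C.IsSaturated p := kNormalizer_saturated hS F hF (⊥ : Subgroup (MulAut S₂))
    (fullyK_bot_of_fullyCentralized F (fullyCentralized_of_stronglyClosed F h₂))
    (centralizerIn S S₂) (NK_bot S₂).symm C (fun P => by rw [hC P, kHom_bot])
  have hCp : IsPGroup p (centralizerIn S S₂) := hS.to_le inf_le_left
  haveI : Finite (centralizerIn S S₂) := finite_of_le (inf_le_left : centralizerIn S S₂ ≤ S)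
  have hCF : ∀ P, C.Hom P ⊆ F.Hom P := fun P φ hφ => by
    rw [hC P] at hφ; exact hφ.1
  have h₁C : C.StronglyClosed S₁ := ⟨hS₁C, fun Q hQ φ hφ x => h₁.2 Q hQ φ (hCF Q hφ) x⟩
  have hR'sat : R'.IsSaturated p := full_saturated hCp C hCsat h₁C (fun g hg => by
      obtain ⟨a, ha, b, hb, rfl⟩ := hdecS g hg.1
      exact ⟨a, ha, b, hS₂cen hb, rfl⟩) R' (fun P hP => by rw [hR' P hP, hC P])
  -- subsystems
  have hR'F : R'.IsSubsystemOf F := fun P φ hφ => by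
    have hP := (R'.le_of_mem hφ).1
    rw [hR' P hP] at hφ; exact hφ.1
  have hRF : R.IsSubsystemOf F := fun P φ hφ => by
    have hP := (R.le_of_mem hφ).1
    rw [hR P hP] at hφ; exact hφ
  have hR'R : R'.IsSubsystemOf R := fun P φ hφ => by
    have hP := (R'.le_of_mem hφ).1
    rw [hR P hP]; exact hR'F P hφ
  -- strong invariance
  have himg : ∀ {P Q : Subgroup Ω} (hQ : Q ≤ S₁) {ψ : Q →* Ω} (hψ : ψ ∈ F.Hom Q),
      (P.subgroupOf Q).map ψ ≤ S₁ := by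
    intro P Q hQ ψ hψ
    rintro _ ⟨x, hx, rfl⟩
    exact h₁.2 Q hQ ψ hψ x
  have hsiR'F : StrongInv F R' := by
    intro P Q hPQ hQ φ hφ hφQ ψ hψ
    have hP := hPQ.trans hQ
    rw [hR' P hP] at hφ
    obtain ⟨χ, hχ, hχeq⟩ := centralizerHom_conj hS F hF h₁ h₂ hc hPQ hQ hφ hφQ hψ
    exact ⟨χ, by rw [hR' _ (himg hQ hψ)]; exact hχ, hχeq⟩
  have hsiR'R : StrongInv R R' := by
    intro P Q hPQ hQ φ hφ hφQ ψ hψ
    rw [hR Q hQ] at hψ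
    exact hsiR'F P Q hPQ hQ φ hφ hφQ ψ hψ
  have hsiRF : StrongInv F R := by
    intro P Q hPQ hQ φ hφ hφQ ψ hψ
    have hP := hPQ.trans hQ
    rw [hR P hP] at hφ
    obtain ⟨χ, hχ, hχeq⟩ := conj_hom_mem F hPQ hφ hφQ hψ
    exact ⟨χ, by rw [hR _ (himg hQ hψ)]; exact hχ, hχeq⟩
  have hscR : R.StronglyClosed S₁ := ⟨le_rfl, fun Q hQ φ hφ x => (R.le_of_mem hφ).2 x⟩
  have hinvR'F := (invariant_iff_strongInv hS F hF R' hR'F h₁).mpr hsiR'F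
  have hinvR'R := (invariant_iff_strongInv hS₁p R hRsat R' hR'R hscR).mpr hsiR'R
  have hinvRF := (invariant_iff_strongInv hS F hF R hRF h₁).mpr hsiRF
  -- extension conditions
  have hextF : ∀ α ∈ R'.autGroup S₁, ExtCond F S₁ α := by
    intro α hα
    have hαR' : S₁.subtype.comp α.toMonoidHom ∈ R'.Hom S₁ :=
      (mem_autGroup_iff R' le_rfl α).mp hα
    rw [hR' S₁ le_rfl] at hαR'
    obtain ⟨-, -, -, ψ, hψ, hψ₁, hψ₂⟩ := hαR'
    have hWeq : S₁ ⊔ centralizerIn S S₁ = S₁ ⊔ S₂ := by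
      apply le_antisymm
      · rw [hsup]
        exact sup_le hS₁S inf_le_left
      · apply sup_le_sup_left
        intro b hb
        exact ⟨hS₂S hb, hS₂cen hb⟩
    have hψW := hom_congr F hWeq.symm hψ (ψ.comp (Subgroup.inclusion (le_of_eq hWeq)))
      (fun x hx hx' => rfl)
    apply extCond_of_hom F rfl le_sup_left α hψW
    · intro x
      exact hWeq.symm.le (hsup.symm.le ((F.le_of_mem hψ).2 _))
    · intro x
      exact hψ₁ x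
    · intro c hcc
      obtain ⟨a, ha, b, hb, hcab⟩ := hdecS c hcc.1
      have hψc : ψ (Subgroup.inclusion (le_of_eq hWeq) c) = ((α ⟨a, ha⟩ : S₁) : Ω) * b := by
        have h1 : Subgroup.inclusion (le_of_eq hWeq) c =
            Subgroup.inclusion le_sup_left (⟨a, ha⟩ : S₁) *
              Subgroup.inclusion le_sup_right (⟨b, hb⟩ : S₂) := Subtype.ext hcab
        rw [h1, map_mul, hψ₁, hψ₂]
        rfl
      show (c : Ω)⁻¹ * ψ (Subgroup.inclusion (le_of_eq hWeq) c) ∈ _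
      rw [hψc, hcab]
      have hacen : a ∈ Subgroup.centralizer (S₁ : Set Ω) := by
        have : a = c * b⁻¹ := by rw [hcab]; group
        rw [this]
        exact Subgroup.mul_mem _ hcc.2 (Subgroup.inv_mem _ (hS₂cen hb))
      have hαa := aut_center_mem α ⟨a, ha⟩ hacen
      have hmem : a⁻¹ * ((α ⟨a, ha⟩ : S₁) : Ω) ∈ S₁ ⊓ Subgroup.centralizer (S₁ : Set Ω) :=
        ⟨S₁.mul_mem (S₁.inv_mem ha) (α ⟨a, ha⟩).2,
          Subgroup.mul_mem _ (Subgroup.inv_mem _ hacen) hαa⟩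
      have hcomm := hc _ hmem.1 b hb
      have : (a * b)⁻¹ * (((α ⟨a, ha⟩ : S₁) : Ω) * b) = a⁻¹ * ((α ⟨a, ha⟩ : S₁) : Ω) := by
        calc (a * b)⁻¹ * (((α ⟨a, ha⟩ : S₁) : Ω) * b)
            = b⁻¹ * (a⁻¹ * ((α ⟨a, ha⟩ : S₁) : Ω) * b) := by group
          _ = b⁻¹ * (b * (a⁻¹ * ((α ⟨a, ha⟩ : S₁) : Ω))) := by rw [hcomm]
          _ = a⁻¹ * ((α ⟨a, ha⟩ : S₁) : Ω) := by group
      rw [this]
      exact hmem
  have hextR : ∀ α ∈ R'.autGroup S₁, ExtCond R S₁ α := by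
    intro α hα
    have hαR : S₁.subtype.comp α.toMonoidHom ∈ R.Hom S₁ :=
      hR'R _ ((mem_autGroup_iff R' le_rfl α).mp hα)
    have hWeq : S₁ ⊔ centralizerIn S₁ S₁ = S₁ := sup_eq_left.mpr inf_le_left
    have hψW := hom_congr R hWeq.symm hαR
      ((S₁.subtype.comp α.toMonoidHom).comp (Subgroup.inclusion (le_of_eq hWeq)))
      (fun x hx hx' => rfl)
    apply extCond_of_hom R rfl le_sup_left α hψW
    · intro x
      exact hWeq.symm.le (α _).2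
    · intro x
      rfl
    · intro c hcc
      show (c : Ω)⁻¹ * ((α ⟨c, _⟩ : S₁) : Ω) ∈ _
      exact ⟨S₁.mul_mem (S₁.inv_mem hcc.1) (α _).2,
        Subgroup.mul_mem _ (Subgroup.inv_mem _ hcc.2) (aut_center_mem α ⟨c, hcc.1⟩ hcc.2)⟩
  exact ⟨hRsat, hR'sat, ⟨⟨hR'sat, hF, hinvR'F⟩, hextF⟩, ⟨⟨hR'sat, hRsat, hinvR'R⟩, hextR⟩,
    ⟨hRsat, hF, hinvRF⟩⟩

end Cfsg.Agent.Lib.Helper8_DirFactor1
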