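import Mathlib

set_option autoImplicit false
set_option linter.unusedVariables false

namespace Cfsg.Agent.Lib.Helper8_DistinctInv

/-! ### An abstract criterion: odd-order automorphisms of certain abelian 2-groups are trivial -/

section Abstract

variable {M : Type*} [AddCommGroup M]

theorem iterate_eq (θ : M →+ M) {x y : M} (hy : θ y = y) (hx : θ x = x + y) (k : ℕ) :
    θ^[k] x = x + k • y := by
  induction k with
  | zero => simp
  | succ k ih =>
    rw [Function.iterate_succ_apply', ih, map_add, map_nsmul, hx, hy, succ_nsmul]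
    abel

/-- If `θ x - x` is fixed by `θ`, has 2-power order, and `θ` has odd order, then `θ x = x`. -/
theorem fixed_of_diff_fixed (θ : M →+ M) {m : ℕ} (hm : Odd m) (hθ : ∀ x, θ^[m] x = x) {x : M}
    (hfix : θ (θ x - x) = θ x - x) {k : ℕ} (hk : 2 ^ k • (θ x - x) = 0) : θ x = x := by
  have h1 : θ^[m] x = x + m • (θ x - x) := iterate_eq θ hfix (by abel) m
  rw [hθ x] at h1
  have h2 : m • (θ x - x) = 0 := by
    have : x + m • (θ x - x) = x + 0 := by rw [add_zero]; exact h1.symm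
    exact add_left_cancel this
  have hcop : Nat.Coprime m (2 ^ k) := by
    apply Nat.Coprime.pow_right
    exact (Nat.coprime_comm.mp ((Nat.Prime.coprime_iff_not_dvd Nat.prime_two).mpr
      (fun hd => (Nat.not_even_iff_odd.mpr hm) (even_iff_two_dvd.mpr hd))))
  have h3 : addOrderOf (θ x - x) ∣ 1 := by
    rw [← Nat.Coprime.gcd_eq_one hcop]
    exact Nat.dvd_gcd (addOrderOf_dvd_of_nsmul_eq_zero h2) (addOrderOf_dvd_of_nsmul_eq_zero hk)
  have h4 : θ x - x = 0 := AddMonoid.addOrderOf_eq_one_iff.mp (Nat.dvd_one.mp h3)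
  exact sub_eq_zero.mp h4

theorem injective_of_iterate (θ : M →+ M) {m : ℕ} (hm : Odd m) (hθ : ∀ x, θ^[m] x = x) :
    Function.Injective θ := by
  intro a b hab
  obtain ⟨k, rfl⟩ := hm
  have h1 : θ^[2 * k + 1] a = θ^[2 * k + 1] b := by
    rw [Function.iterate_succ_apply, Function.iterate_succ_apply, hab]
  rw [hθ a, hθ b] at h1
  exact h1

theorem odd_aut_trivial (θ : M →+ M) {m : ℕ} (hm : Odd m) (hθ : ∀ x, θ^[m] x = x)
    (hord : ∀ x : M, ∃ k, 2 ^ k • x = 0)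
    (J : ℕ) (hJ : ∀ x : M, 2 • x = 0 → (∃ y, x = 2 ^ J • y) → x = 0)
    (hstep : ∀ (j : ℕ) (x x' : M), 2 • x = 0 → 2 • x' = 0 → (∃ y, x = 2 ^ j • y) →
      (∃ y, x' = 2 ^ j • y) → (¬ ∃ y, x = 2 ^ (j + 1) • y) → (¬ ∃ y, x' = 2 ^ (j + 1) • y) →
      ∃ y, x - x' = 2 ^ (j + 1) • y) :
    ∀ x, θ x = x := by
  have hinj := injective_of_iterate θ hm hθ
  -- the socle, by downward induction along the filtration
  have base : ∀ d j : ℕ, j + d = J → ∀ x : M, 2 • x = 0 → (∃ y, x = 2 ^ j • y) → θ x = x := by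
    intro d
    induction d with
    | zero =>
      intro j hj x hx2 hxj
      rw [add_zero] at hj
      subst hj
      rw [hJ x hx2 hxj, map_zero]
    | succ d ih =>
      intro j hj x hx2 hxj
      have ih' := ih (j + 1) (by omega)
      by_cases hx1 : ∃ y, x = 2 ^ (j + 1) • y
      · exact ih' x hx2 hx1
      · have hθx2 : 2 • θ x = 0 := by rw [← map_nsmul, hx2, map_zero]
        have hθxj : ∃ y, θ x = 2 ^ j • y := by
          obtain ⟨y, rfl⟩ := hxj
          exact ⟨θ y, map_nsmul θ _ _⟩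
        have hθx1 : ¬ ∃ y, θ x = 2 ^ (j + 1) • y := by
          intro h
          have h1 := ih' (θ x) hθx2 h
          have h2 := hinj h1
          rw [h2] at h
          exact hx1 h
        obtain ⟨y, hy⟩ := hstep j (θ x) x hθx2 hx2 hθxj hxj hθx1 hx1
        have hd2 : 2 • (θ x - x) = 0 := by rw [nsmul_sub, hθx2, hx2, sub_zero]
        have hfix : θ (θ x - x) = θ x - x := ih' _ hd2 ⟨y, hy⟩
        exact fixed_of_diff_fixed θ hm hθ hfix (k := 1) (by rw [pow_one]; exact hd2)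
  have socle : ∀ x : M, 2 • x = 0 → θ x = x := by
    intro x hx
    exact base J 0 (by omega) x hx ⟨x, by rw [pow_zero, one_nsmul]⟩
  have key : ∀ k : ℕ, ∀ x : M, 2 ^ (k + 1) • x = 0 → θ x = x := by
    intro k
    induction k with
    | zero =>
      intro x hx
      rw [zero_add, pow_one] at hx
      exact socle x hx
    | succ k ih =>
      intro x hx
      have hw : 2 • (2 ^ (k + 1) • x) = 0 := by
        rw [← mul_nsmul', ← pow_succ']; exact hx
      have hw' := socle _ hw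
      have hd : 2 ^ (k + 1) • (θ x - x) = 0 := by
        rw [nsmul_sub, ← map_nsmul, hw', sub_self]
      have hfix : θ (θ x - x) = θ x - x := ih _ hd
      exact fixed_of_diff_fixed θ hm hθ hfix hd
  intro x
  obtain ⟨k, hk⟩ := hord x
  apply key k
  rw [pow_succ, mul_comm, mul_nsmul', hk, nsmul_zero]

end Abstract

/-! ### Coordinates -/

section Coordinates

theorem two_pow_nsmul_eq_zero (c j : ℕ) (h : c ≤ j) (z : ZMod (2 ^ c)) : 2 ^ j • z = 0 := by
  rw [nsmul_eq_mul]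
  have : ((2 ^ j : ℕ) : ZMod (2 ^ c)) = 0 := by
    rw [ZMod.natCast_eq_zero_iff]
    exact pow_dvd_pow 2 h
  rw [this, zero_mul]

theorem eq_zero_or (c : ℕ) (hc : 1 ≤ c) (z : ZMod (2 ^ c)) (h : 2 • z = 0) :
    z = 0 ∨ z = ((2 ^ (c - 1) : ℕ) : ZMod (2 ^ c)) := by
  haveI : NeZero (2 ^ c) := ⟨by positivity⟩
  have hz : ((z.val : ℕ) : ZMod (2 ^ c)) = z := ZMod.natCast_zmod_val z
  have h1 : ((2 * z.val : ℕ) : ZMod (2 ^ c)) = 0 := by
    rw [Nat.cast_mul, hz, ← h, nsmul_eq_mul]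
  rw [ZMod.natCast_eq_zero_iff] at h1
  have hlt : z.val < 2 ^ c := ZMod.val_lt z
  obtain ⟨c', rfl⟩ : ∃ c', c = c' + 1 := ⟨c - 1, by omega⟩
  have h1' : 2 ^ c' * 2 ∣ 2 * z.val := by rw [← pow_succ]; exact h1
  have hlt' : z.val < 2 ^ c' * 2 := by rw [← pow_succ]; exact hlt
  have h2 : 2 ^ c' ∣ z.val := by
    have : 2 ^ c' * 2 ∣ z.val * 2 := by rwa [mul_comm z.val 2]
    exact Nat.dvd_of_mul_dvd_mul_right (by norm_num) this
  obtain ⟨t, ht⟩ := h2
  have hpos : 0 < 2 ^ c' := by positivity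
  have ht2 : t < 2 := by
    by_contra hge
    push_neg at hge
    have : 2 ^ c' * 2 ≤ 2 ^ c' * t := Nat.mul_le_mul_left _ hge
    omega
  interval_cases t
  · left
    rw [← hz, ht]; simp
  · right
    rw [← hz, ht]; simp

theorem exists_smul_of_lt (c j : ℕ) (hc : 1 ≤ c) (hj : j < c) (z : ZMod (2 ^ c)) (h : 2 • z = 0) :
    ∃ y : ZMod (2 ^ c), z = 2 ^ j • y := by
  rcases eq_zero_or c hc z h with rfl | rfl
  · exact ⟨0, by simp⟩
  · refine ⟨((2 ^ (c - 1 - j) : ℕ) : ZMod (2 ^ c)), ?_⟩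
    rw [nsmul_eq_mul, ← Nat.cast_mul, ← pow_add]
    congr 2
    omega

variable {n : ℕ} (a : Fin n → ℕ)

theorem coord_hord (x : (i : Fin n) → ZMod (2 ^ a i)) : ∃ k, 2 ^ k • x = 0 := by
  refine ⟨∑ i, a i, ?_⟩
  funext i
  rw [Pi.smul_apply, Pi.zero_apply]
  exact two_pow_nsmul_eq_zero _ _ (Finset.single_le_sum (fun _ _ => Nat.zero_le _) (Finset.mem_univ i)) _

theorem coord_hJ (x : (i : Fin n) → ZMod (2 ^ a i)) (hx : ∃ y, x = 2 ^ (∑ i, a i) • y) : x = 0 := by
  obtain ⟨y, rfl⟩ := hx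
  funext i
  rw [Pi.smul_apply, Pi.zero_apply]
  exact two_pow_nsmul_eq_zero _ _ (Finset.single_le_sum (fun _ _ => Nat.zero_le _) (Finset.mem_univ i)) _

theorem coord_hstep (ha : StrictMono a) (ha1 : ∀ i, 1 ≤ a i) (j : ℕ)
    (x x' : (i : Fin n) → ZMod (2 ^ a i)) (hx2 : 2 • x = 0) (hx'2 : 2 • x' = 0)
    (hxj : ∃ y, x = 2 ^ j • y) (hx'j : ∃ y, x' = 2 ^ j • y)
    (hx1 : ¬ ∃ y, x = 2 ^ (j + 1) • y) (hx'1 : ¬ ∃ y, x' = 2 ^ (j + 1) • y) :
    ∃ y, x - x' = 2 ^ (j + 1) • y := by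
  have h2 : ∀ i, 2 • x i = 0 := fun i => by
    have := congrFun hx2 i
    rwa [Pi.smul_apply, Pi.zero_apply] at this
  have h2' : ∀ i, 2 • x' i = 0 := fun i => by
    have := congrFun hx'2 i
    rwa [Pi.smul_apply, Pi.zero_apply] at this
  -- coordinates with small `a i` vanish
  have hsmall : ∀ (z : (i : Fin n) → ZMod (2 ^ a i)), (∃ y, z = 2 ^ j • y) →
      ∀ i, a i ≤ j → z i = 0 := by
    rintro z ⟨y, rfl⟩ i hi
    rw [Pi.smul_apply]
    exact two_pow_nsmul_eq_zero _ _ hi _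
  -- the bad coordinate
  have hbad : ∀ (z : (i : Fin n) → ZMod (2 ^ a i)), (∀ i, 2 • z i = 0) → (∃ y, z = 2 ^ j • y) →
      (¬ ∃ y, z = 2 ^ (j + 1) • y) → ∃ i, a i = j + 1 ∧ z i ≠ 0 := by
    intro z hz2 hzj hz1
    by_contra hcon
    push_neg at hcon
    apply hz1
    have : ∀ i, ∃ w : ZMod (2 ^ a i), z i = 2 ^ (j + 1) • w := by
      intro i
      rcases Nat.lt_trichotomy (a i) (j + 1) with hlt | heq | hgt
      · exact ⟨0, by rw [hsmall z hzj i (by omega)]; simp⟩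
      · exact ⟨0, by rw [hcon i heq]; simp⟩
      · exact exists_smul_of_lt _ _ (ha1 i) hgt _ (hz2 i)
    choose w hw using this
    exact ⟨w, funext fun i => by rw [Pi.smul_apply]; exact hw i⟩
  obtain ⟨i₁, hi₁, hxi₁⟩ := hbad x h2 hxj hx1
  obtain ⟨i₂, hi₂, hxi₂⟩ := hbad x' h2' hx'j hx'1
  have hi : i₁ = i₂ := ha.injective (hi₁.trans hi₂.symm)
  subst hi
  have : ∀ i, ∃ w : ZMod (2 ^ a i), (x - x') i = 2 ^ (j + 1) • w := by
    intro i
    rw [Pi.sub_apply]
    rcases Nat.lt_trichotomy (a i) (j + 1) with hlt | heq | hgt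
    · exact ⟨0, by rw [hsmall x hxj i (by omega), hsmall x' hx'j i (by omega)]; simp⟩
    · have hii : i = i₁ := ha.injective (heq.trans hi₁.symm)
      subst hii
      refine ⟨0, ?_⟩
      rcases eq_zero_or _ (ha1 i) _ (h2 i) with h | h
      · exact absurd h hxi₁
      · rcases eq_zero_or _ (ha1 i) _ (h2' i) with h' | h'
        · exact absurd h' hxi₂
        · rw [h, h']; simp
    · obtain ⟨w₁, hw₁⟩ := exists_smul_of_lt _ _ (ha1 i) hgt _ (h2 i)
      obtain ⟨w₂, hw₂⟩ := exists_smul_of_lt _ _ (ha1 i) hgt _ (h2' i)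
      exact ⟨w₁ - w₂, by rw [hw₁, hw₂, nsmul_sub]⟩
  choose w hw using this
  exact ⟨w, funext fun i => by rw [Pi.smul_apply]; exact hw i⟩

/-- An additive endomorphism of odd order of a product of cyclic 2-groups of distinct orders is
the identity. -/
theorem coord_odd_trivial (ha : StrictMono a) (ha1 : ∀ i, 1 ≤ a i)
    (θ : ((i : Fin n) → ZMod (2 ^ a i)) →+ ((i : Fin n) → ZMod (2 ^ a i))) {m : ℕ} (hm : Odd m)
    (hθ : ∀ x, θ^[m] x = x) : ∀ x, θ x = x :=
  odd_aut_trivial θ hm hθ (coord_hord a) (∑ i, a i) (fun x _ hx => coord_hJ a x hx)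
    (fun j x x' => coord_hstep a ha ha1 j x x')

end Coordinates

end Cfsg.Agent.Lib.Helper8_DistinctInv
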