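import Mathlib

/-! Commutator calculus in groups of class at most two. -/

namespace Cfsg.Agent.Lib.Lead_Class2

open scoped commutatorElement

variable {P : Type*} [Group P]

theorem comm_mul_left (hc : ∀ x y : P, ⁅x, y⁆ ∈ Subgroup.center P) (x y z : P) :
    ⁅x * y, z⁆ = ⁅x, z⁆ * ⁅y, z⁆ := by
  have h1 : ⁅x * y, z⁆ = x * ⁅y, z⁆ * x⁻¹ * ⁅x, z⁆ := by
    simp only [commutatorElement_def]; group
  have h2 : x * ⁅y, z⁆ = ⁅y, z⁆ * x := (Subgroup.mem_center_iff.mp (hc y z) x)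
  rw [h1, h2, mul_inv_cancel_right]
  exact (Subgroup.mem_center_iff.mp (hc x z) _)

theorem comm_pow_left (hc : ∀ x y : P, ⁅x, y⁆ ∈ Subgroup.center P) (x y : P) (n : ℕ) :
    ⁅x ^ n, y⁆ = ⁅x, y⁆ ^ n := by
  induction n with
  | zero => simp [commutatorElement_def]
  | succ n ih => rw [pow_succ, comm_mul_left hc, ih, pow_succ]

theorem mul_eq_comm_mul (u v : P) : u * v = ⁅u, v⁆ * v * u := by
  simp only [commutatorElement_def]; group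

theorem mul_pow_class_two (hc : ∀ x y : P, ⁅x, y⁆ ∈ Subgroup.center P) (x y : P) (n : ℕ) :
    (x * y) ^ n = x ^ n * y ^ n * ⁅y, x⁆ ^ (n * (n - 1) / 2) := by
  induction n with
  | zero => simp
  | succ n ih =>
    have hcen : ∀ (k : ℕ) (g : P), ⁅y, x⁆ ^ k * g = g * ⁅y, x⁆ ^ k := by
      intro k g
      exact ((Subgroup.mem_center_iff.mp (Subgroup.pow_mem _ (hc y x) k) g)).symm
    have h1 : y ^ n * x = ⁅y, x⁆ ^ n * x * y ^ n := by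
      rw [mul_eq_comm_mul (y ^ n) x, comm_pow_left hc]
    rw [pow_succ, ih, Nat.triangle_succ]
    calc x ^ n * y ^ n * ⁅y, x⁆ ^ (n * (n - 1) / 2) * (x * y)
        = x ^ n * (y ^ n * (⁅y, x⁆ ^ (n * (n - 1) / 2) * x)) * y := by group
      _ = x ^ n * (y ^ n * (x * ⁅y, x⁆ ^ (n * (n - 1) / 2))) * y := by rw [hcen]
      _ = x ^ n * ((y ^ n * x) * ⁅y, x⁆ ^ (n * (n - 1) / 2)) * y := by group
      _ = x ^ n * ((⁅y, x⁆ ^ n * x * y ^ n) * ⁅y, x⁆ ^ (n * (n - 1) / 2)) * y := by rw [h1]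
      _ = x ^ n * (⁅y, x⁆ ^ n * (x * y ^ n * ⁅y, x⁆ ^ (n * (n - 1) / 2))) * y := by group
      _ = x ^ n * ((x * y ^ n * ⁅y, x⁆ ^ (n * (n - 1) / 2)) * ⁅y, x⁆ ^ n) * y := by rw [hcen]
      _ = x ^ n * x * y ^ n * (⁅y, x⁆ ^ (n * (n - 1) / 2) * ⁅y, x⁆ ^ n * y) := by group
      _ = x ^ n * x * y ^ n * (y * (⁅y, x⁆ ^ (n * (n - 1) / 2) * ⁅y, x⁆ ^ n)) := by
          rw [← pow_add, hcen, pow_add]
      _ = x ^ (n + 1) * y ^ (n + 1) * ⁅y, x⁆ ^ (n * (n - 1) / 2 + n) := by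
          rw [pow_succ, pow_succ, pow_add]; group

end Cfsg.Agent.Lib.Lead_Class2
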