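import Mathlib
import Cfsg.Prelude.Def_Transfer
import Cfsg.Agent.Lib.Helper4_Frattini
import Cfsg.Agent.Lib.Helper7_PFrattini
import Cfsg.Agent.Lib.Helper5_MaxClassTwo
import Cfsg.Agent.S0097

set_option autoImplicit false
set_option linter.style.haveILetI false
set_option linter.unusedVariables false

/-!
# Groups of order `p³` without a characteristic chain with factors of order `p`
-/

namespace Cfsg.Agent.Lib.Helper8_OrderCube

open scoped commutatorElement

variable {G : Type*} [Group G]

/-- There is no chain `G₁ ≤ G₂` of characteristic subgroups of orders `p`, `p²`. -/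
def NoChar (p : ℕ) (G : Type*) [Group G] : Prop :=
  ∀ G₁ G₂ : Subgroup G, G₁ ≤ G₂ → Nat.card G₁ = p → Nat.card G₂ = p ^ 2 →
    (∀ β : MulAut G, ∀ x ∈ G₁, β x ∈ G₁) → (∀ β : MulAut G, ∀ x ∈ G₂, β x ∈ G₂) → False

/-- A subgroup of prime order is generated by any of its nontrivial elements. -/
theorem le_of_card_prime {p : ℕ} [Fact p.Prime] {Z K : Subgroup G} (hZ : Nat.card Z = p)
    {c : G} (hcZ : c ∈ Z) (hc1 : c ≠ 1) (hcK : c ∈ K) : Z ≤ K := by
  have hp : p.Prime := Fact.out
  haveI : Finite Z := Nat.finite_of_card_ne_zero (by rw [hZ]; exact hp.pos.ne')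
  have h1 : Subgroup.zpowers c ≤ Z := (Subgroup.zpowers_le).mpr hcZ
  have h2 : Subgroup.zpowers c = Z := by
    apply Subgroup.eq_of_le_of_card_ge h1
    rw [Nat.card_zpowers, hZ]
    have hd : orderOf c ∣ p := by
      have : orderOf (⟨c, hcZ⟩ : Z) ∣ Nat.card Z := orderOf_dvd_natCard _
      rw [hZ] at this
      rwa [← Subgroup.orderOf_coe] at this
    rcases (Nat.dvd_prime hp).mp hd with h | h
    · exact absurd (orderOf_eq_one_iff.mp h) hc1
    · exact h.ge
  rw [← h2]
  exact (Subgroup.zpowers_le).mpr hcK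

section NonAbelian

variable [Finite G] {p : ℕ} [Fact p.Prime]

/-- The centre of a nonabelian group of order `p³` has order `p`. -/
theorem card_center (hcard : Nat.card G = p ^ 3) (hna : ∃ a b : G, a * b ≠ b * a) :
    Nat.card (Subgroup.center G) = p := by
  have hp : p.Prime := Fact.out
  have hG : IsPGroup p G := IsPGroup.of_card hcard
  haveI : Nontrivial G := by
    obtain ⟨a, b, hab⟩ := hna
    exact ⟨a, b, fun h => hab (by rw [h])⟩
  haveI := hG.center_nontrivial
  obtain ⟨k, hk, hk'⟩ := (Nat.dvd_prime_pow hp).mp (hcard ▸ Subgroup.card_subgroup_dvd_card (Subgroup.center G))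
  have h3 := Subgroup.card_mul_index (Subgroup.center G)
  rw [hcard, hk', Subgroup.index_eq_card] at h3
  interval_cases k
  · exfalso
    rw [pow_zero] at hk'
    have := (Nat.card_eq_one_iff_unique.mp hk').1
    exact not_nontrivial_iff_subsingleton.mpr this inferInstance
  · rw [hk', pow_one]
  · exfalso
    have h4 : Nat.card (G ⧸ Subgroup.center G) = p := by
      have : p ^ 2 * Nat.card (G ⧸ Subgroup.center G) = p ^ 2 * p := by rw [h3]; ring
      exact Nat.eq_of_mul_eq_mul_left (pow_pos hp.pos 2) this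
    haveI : IsCyclic (G ⧸ Subgroup.center G) := isCyclic_of_prime_card h4
    obtain ⟨a, b, hab⟩ := hna
    exact hab (commutative_of_cyclic_center_quotient (QuotientGroup.mk' (Subgroup.center G))
      (by rw [QuotientGroup.ker_mk']) a b)
  · exfalso
    have h4 : Subgroup.center G = ⊤ := Subgroup.eq_top_of_card_eq _ (by rw [hk', hcard])
    obtain ⟨a, b, hab⟩ := hna
    have ha : a ∈ Subgroup.center G := h4 ▸ Subgroup.mem_top a
    rw [Subgroup.mem_center_iff] at ha
    exact hab (ha b).symm

/-- Commutators and `p`-th powers are central in a nonabelian group of order `p³`. -/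
theorem comm_pow_mem_center (hcard : Nat.card G = p ^ 3) (hna : ∃ a b : G, a * b ≠ b * a) :
    (∀ a b : G, ⁅a, b⁆ ∈ Subgroup.center G) ∧ ∀ a : G, a ^ p ∈ Subgroup.center G := by
  have hp : p.Prime := Fact.out
  have hZ := card_center hcard hna
  have h3 := Subgroup.card_mul_index (Subgroup.center G)
  rw [hcard, hZ, Subgroup.index_eq_card] at h3
  have h4 : Nat.card (G ⧸ Subgroup.center G) = p ^ 2 := by
    have : p * Nat.card (G ⧸ Subgroup.center G) = p * p ^ 2 := by rw [h3]; ring
    exact Nat.eq_of_mul_eq_mul_left hp.pos this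
  have hQc := IsPGroup.commutative_of_card_eq_prime_sq h4
  constructor
  · intro a b
    rw [← QuotientGroup.eq_one_iff, commutatorElement_def]
    show QuotientGroup.mk' (Subgroup.center G) (a * b * a⁻¹ * b⁻¹) = 1
    rw [map_mul, map_mul, map_mul, map_inv, map_inv, hQc (QuotientGroup.mk' _ a)]
    group
  · intro a
    rw [← QuotientGroup.eq_one_iff]
    show QuotientGroup.mk' (Subgroup.center G) (a ^ p) = 1
    rw [map_pow]
    by_contra hne
    have hd : orderOf (QuotientGroup.mk' (Subgroup.center G) a) ∣ p ^ 2 :=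
      h4 ▸ orderOf_dvd_natCard _
    obtain ⟨k, hk, hk'⟩ := (Nat.dvd_prime_pow hp).mp hd
    interval_cases k
    · rw [pow_zero, orderOf_eq_one_iff] at hk'
      rw [hk', one_pow] at hne
      exact hne rfl
    · rw [pow_one] at hk'
      exact hne (by rw [← hk']; exact pow_orderOf_eq_one _)
    · haveI : IsCyclic (G ⧸ Subgroup.center G) :=
        isCyclic_of_orderOf_eq_card _ (by rw [hk', h4])
      obtain ⟨x, y, hxy⟩ := hna
      exact hxy (commutative_of_cyclic_center_quotient (QuotientGroup.mk' (Subgroup.center G))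
        (by rw [QuotientGroup.ker_mk']) x y)

/-- A nonabelian group of order `p³` is extraspecial. -/
theorem extraspecial (hcard : Nat.card G = p ^ 3) (hna : ∃ a b : G, a * b ≠ b * a) :
    Cfsg.IsExtraspecial p G := by
  have hp : p.Prime := Fact.out
  have hG : IsPGroup p G := IsPGroup.of_card hcard
  have hZ := card_center hcard hna
  obtain ⟨hcZ, hpZ⟩ := comm_pow_mem_center hcard hna
  obtain ⟨a, b, hab⟩ := hna
  have hc1 : ⁅a, b⁆ ≠ 1 := by
    intro h
    apply hab
    rw [commutatorElement_def] at h
    have := congrArg (fun z => z * b * a) h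
    simp only [one_mul] at this
    rw [← this]; group
  refine ⟨⟨hG, ?_, ?_⟩, hZ⟩
  · apply le_antisymm
    · exact Cfsg.Agent.Lib.Helper4_Frattini.frattini_le_of_elementary_quotient (p := p)
        (Subgroup.center G) hcZ hpZ
    · apply le_of_card_prime hZ (hcZ a b) hc1
      rw [commutatorElement_def]
      exact Cfsg.Agent.Lib.Helper7_PFrattini.comm_mem_frattini hG a b
  · apply le_antisymm
    · rw [commutator_def, Subgroup.commutator_le]
      intro x _ y _
      exact hcZ x y
    · apply le_of_card_prime hZ (hcZ a b) hc1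
      rw [commutator_def]
      exact Subgroup.commutator_mem_commutator (Subgroup.mem_top a) (Subgroup.mem_top b)

end NonAbelian

/-- The centre is characteristic. -/
theorem center_char (β : MulAut G) (z : G) (hz : z ∈ Subgroup.center G) :
    β z ∈ Subgroup.center G := by
  rw [Subgroup.mem_center_iff] at hz ⊢
  intro g
  have h1 := hz (β⁻¹ g)
  have h2 := congrArg β h1
  rw [map_mul, map_mul, MulAut.apply_inv_self] at h2
  exact h2

/-- The abelian case. -/
theorem abelian_case [Finite G] {p : ℕ} [Fact p.Prime] (hcard : Nat.card G = p ^ 3)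
    (hcomm : ∀ a b : G, a * b = b * a) (hnc : NoChar p G) : ∀ a : G, a ^ p = 1 := by
  have hp : p.Prime := Fact.out
  obtain ⟨f, hf⟩ : ∃ f : G →* G, ∀ x, f x = x ^ p :=
    ⟨{ toFun := fun x => x ^ p, map_one' := one_pow p,
       map_mul' := fun a b => Commute.mul_pow (hcomm a b) p }, fun x => rfl⟩
  have hker : ∀ x, x ∈ f.ker ↔ x ^ p = 1 := fun x => by rw [MonoidHom.mem_ker, hf]
  have hrange : ∀ y, y ∈ f.range ↔ ∃ x, x ^ p = y := fun y => by
    rw [MonoidHom.mem_range]
    constructor
    · rintro ⟨x, hx⟩; exact ⟨x, by rw [← hf, hx]⟩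
    · rintro ⟨x, hx⟩; exact ⟨x, by rw [hf, hx]⟩
  have hmul : Nat.card f.ker * Nat.card f.range = p ^ 3 := by
    rw [← Subgroup.index_ker, Subgroup.card_mul_index, hcard]
  have hkerinv : ∀ β : MulAut G, ∀ x ∈ f.ker, β x ∈ f.ker := by
    intro β x hx
    rw [hker] at hx ⊢
    rw [← map_pow, hx, map_one]
  have hrangeinv : ∀ β : MulAut G, ∀ x ∈ f.range, β x ∈ f.range := by
    intro β y hy
    rw [hrange] at hy ⊢
    obtain ⟨x, rfl⟩ := hy
    exact ⟨β x, by rw [map_pow]⟩
  obtain ⟨j, hj, hj'⟩ := (Nat.dvd_prime_pow hp).mp (Dvd.intro_left _ hmul)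
  have hkc : Nat.card f.ker = p ^ (3 - j) := by
    have : Nat.card f.ker * p ^ j = p ^ (3 - j) * p ^ j := by
      rw [← pow_add, ← hj', hmul]; congr 1; omega
    exact Nat.eq_of_mul_eq_mul_right (pow_pos hp.pos j) this
  intro a
  interval_cases j
  · rw [pow_zero, Subgroup.card_eq_one] at hj'
    have : a ^ p ∈ f.range := (hrange _).mpr ⟨a, rfl⟩
    rw [hj', Subgroup.mem_bot] at this
    exact this
  · exfalso
    rw [pow_one] at hj'
    refine hnc f.range f.ker ?_ hj' hkc hrangeinv hkerinv
    intro y hy
    rw [hker]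
    have : (⟨y, hy⟩ : f.range) ^ p = 1 := by rw [← hj']; exact pow_card_eq_one'
    exact congrArg Subtype.val this
  · exfalso
    rw [show 3 - 2 = 1 from rfl, pow_one] at hkc
    refine hnc f.ker f.range ?_ hkc hj' hkerinv hrangeinv
    obtain ⟨y, hy⟩ := exists_prime_orderOf_dvd_card' (G := f.range) p
      (by rw [hj']; exact dvd_pow_self p two_ne_zero)
    have hy1 : (y : G) ≠ 1 := by
      intro h
      have : y = 1 := Subtype.ext h
      rw [this, orderOf_one] at hy
      exact hp.one_lt.ne hy
    have hyp : (y : G) ^ p = 1 := by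
      have : y ^ p = 1 := by rw [← hy]; exact pow_orderOf_eq_one y
      exact congrArg Subtype.val this
    exact le_of_card_prime hkc ((hker _).mpr hyp) hy1 y.2
  · exfalso
    rw [show 3 - 3 = 0 from rfl, pow_zero, Subgroup.card_eq_one] at hkc
    obtain ⟨x, hx⟩ := exists_prime_orderOf_dvd_card' (G := G) p
      (by rw [hcard]; exact dvd_pow_self p three_ne_zero)
    have hxk : x ∈ f.ker := (hker x).mpr (by rw [← hx]; exact pow_orderOf_eq_one x)
    rw [hkc, Subgroup.mem_bot] at hxk
    rw [hxk, orderOf_one] at hx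
    exact hp.one_lt.ne hx

/-- The nonabelian case for odd `p`. -/
theorem odd_case [Finite G] {p : ℕ} [Fact p.Prime] (hcard : Nat.card G = p ^ 3)
    (hna : ∃ a b : G, a * b ≠ b * a) (hp2 : p ≠ 2) (hnc : NoChar p G) : ∀ x : G, x ^ p = 1 := by
  have hp : p.Prime := Fact.out
  have hE := extraspecial hcard hna
  have hZ := card_center hcard hna
  obtain ⟨hidx, hexp⟩ := Cfsg.Agent.S0097.result hp2 hE
  obtain ⟨k, hk, hk'⟩ := (Nat.dvd_prime_pow hp).mp
    (hcard ▸ Subgroup.index_dvd_card (Subgroup.closure {x : G | x ^ p = 1}))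
  have hk1 : k ≤ 1 := by
    rw [hk'] at hidx
    by_contra hcon
    push Not at hcon
    have : p ^ 2 ≤ p ^ k := Nat.pow_le_pow_right hp.pos hcon
    have h2 : p < p ^ 2 := by nlinarith [hp.two_le]
    omega
  intro x
  interval_cases k
  · rw [pow_zero, Subgroup.index_eq_one] at hk'
    exact hexp x (hk' ▸ Subgroup.mem_top x)
  · exfalso
    rw [pow_one] at hk'
    have hW : Nat.card (Subgroup.closure {x : G | x ^ p = 1}) = p ^ 2 := by
      have h3 := Subgroup.card_mul_index (Subgroup.closure {x : G | x ^ p = 1})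
      rw [hk', hcard] at h3
      have : Nat.card (Subgroup.closure {x : G | x ^ p = 1}) * p = p ^ 2 * p := by rw [h3]; ring
      exact Nat.eq_of_mul_eq_mul_right hp.pos this
    refine hnc (Subgroup.center G) (Subgroup.closure {x : G | x ^ p = 1}) ?_ hZ hW
      center_char ?_
    · intro z hz
      apply Subgroup.subset_closure
      show z ^ p = 1
      have : (⟨z, hz⟩ : Subgroup.center G) ^ p = 1 := by rw [← hZ]; exact pow_card_eq_one'
      exact congrArg Subtype.val this
    · intro β
      have : Subgroup.closure {x : G | x ^ p = 1} ≤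
          (Subgroup.closure {x : G | x ^ p = 1}).comap β.toMonoidHom := by
        rw [Subgroup.closure_le]
        intro s hs
        apply Subgroup.subset_closure
        show (β s) ^ p = 1
        rw [← map_pow, show s ^ p = 1 from hs, map_one]
      exact fun x hx => this hx

/-- The nonabelian case for `p = 2`. -/
theorem two_case [Finite G] (hcard : Nat.card G = 2 ^ 3)
    (hna : ∃ a b : G, a * b ≠ b * a) (hnc : NoChar 2 G) :
    Nonempty (G ≃* QuaternionGroup 2) := by
  haveI : Fact (Nat.Prime 2) := ⟨Nat.prime_two⟩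
  have hZ := card_center hcard hna
  obtain ⟨hcZ, hpZ⟩ := comm_pow_mem_center hcard hna
  -- an element of order 4
  obtain ⟨x, hx2⟩ : ∃ x : G, x ^ 2 ≠ 1 := by
    by_contra hall
    push Not at hall
    obtain ⟨a, b, hab⟩ := hna
    apply hab
    have h1 := hall (a * b)
    have ha := hall a
    have hb := hall b
    have e1 : a⁻¹ = a := by rw [inv_eq_iff_mul_eq_one, ← sq, ha]
    have e2 : b⁻¹ = b := by rw [inv_eq_iff_mul_eq_one, ← sq, hb]
    have e3 : (a * b)⁻¹ = a * b := by rw [inv_eq_iff_mul_eq_one, ← sq, h1]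
    rw [mul_inv_rev, e1, e2] at e3
    exact e3.symm
  have hord : orderOf x = 4 := by
    have hd : orderOf x ∣ 2 ^ 3 := hcard ▸ orderOf_dvd_natCard x
    obtain ⟨k, hk, hk'⟩ := (Nat.dvd_prime_pow Nat.prime_two).mp hd
    interval_cases k
    · rw [pow_zero, orderOf_eq_one_iff] at hk'
      rw [hk', one_pow] at hx2
      exact absurd rfl hx2
    · rw [pow_one] at hk'
      exact absurd (by rw [← hk']; exact pow_orderOf_eq_one x) hx2
    · rw [hk']; norm_num
    · exfalso
      haveI : IsCyclic G := isCyclic_of_orderOf_eq_card x (by rw [hk', hcard])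
      obtain ⟨a, b, hab⟩ := hna
      exact hab (IsCyclic.commGroup.mul_comm a b)
  have hx4 : x ^ 4 = 1 := by rw [← hord]; exact pow_orderOf_eq_one x
  have hCcard : Nat.card (Subgroup.zpowers x) = 4 := by rw [Nat.card_zpowers, hord]
  have hidx : (Subgroup.zpowers x).index = 2 := by
    have h3 := Subgroup.card_mul_index (Subgroup.zpowers x)
    rw [hCcard, hcard] at h3
    omega
  have hCn : (Subgroup.zpowers x).Normal := Subgroup.normal_of_index_eq_two hidx
  have hx2Z : x ^ 2 ∈ Subgroup.center G := hpZ x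
  -- the centre is `{1, x²}`
  have hZel : ∀ z ∈ Subgroup.center G, z = 1 ∨ z = x ^ 2 := by
    intro z hz
    by_cases hz1 : z = 1
    · exact Or.inl hz1
    · right
      obtain ⟨w, -, hw⟩ := (Nat.card_eq_two_iff' (1 : Subgroup.center G)).mp hZ
      have h1 : (⟨z, hz⟩ : Subgroup.center G) = w := hw _ (fun h => hz1 (congrArg Subtype.val h))
      have h2 : (⟨x ^ 2, hx2Z⟩ : Subgroup.center G) = w :=
        hw _ (fun h => hx2 (congrArg Subtype.val h))
      exact congrArg Subtype.val (h1.trans h2.symm)
  have hZC : Subgroup.center G ≤ Subgroup.zpowers x := by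
    intro z hz
    rcases hZel z hz with h | h
    · rw [h]; exact Subgroup.one_mem _
    · rw [h]; exact Subgroup.pow_mem _ (Subgroup.mem_zpowers x) 2
  -- elements of the cyclic subgroup
  have hCel : ∀ c ∈ Subgroup.zpowers x, c = 1 ∨ c = x ∨ c = x ^ 2 ∨ c = x⁻¹ := by
    intro c hc
    obtain ⟨k, rfl⟩ := hc
    have h1 : x ^ k = x ^ (k % 4) := by
      have := zpow_mod_orderOf x k
      rw [hord] at this
      exact this.symm
    have h2 : 0 ≤ k % 4 := Int.emod_nonneg _ (by norm_num)
    have h3 : k % 4 < 4 := Int.emod_lt_of_pos _ (by norm_num)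
    have hxinv : x⁻¹ = x ^ (3 : ℤ) := by
      rw [inv_eq_iff_mul_eq_one, show (3 : ℤ) = ((3 : ℕ) : ℤ) from rfl, zpow_natCast,
        ← pow_succ', hx4]
    show x ^ k = 1 ∨ x ^ k = x ∨ x ^ k = x ^ 2 ∨ x ^ k = x⁻¹
    rw [h1]
    interval_cases (k % 4)
    · left; exact zpow_zero x
    · right; left; exact zpow_one x
    · right; right; left
      rw [show (2 : ℤ) = ((2 : ℕ) : ℤ) from rfl, zpow_natCast]
    · right; right; right; exact hxinv.symm
  -- elements outside the cyclic subgroup invert `x`
  have hinv : ∀ y : G, y ∉ Subgroup.zpowers x → y * x * y⁻¹ = x⁻¹ := by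
    intro y hy
    have h1 : y * x * y⁻¹ ∈ Subgroup.zpowers x := hCn.conj_mem x (Subgroup.mem_zpowers x) y
    have hsq : (y * x * y⁻¹) ^ 2 = y * x ^ 2 * y⁻¹ := by
      rw [sq, sq]; group
    have hsq1 : (y * x * y⁻¹) ^ 2 ≠ 1 := by
      rw [hsq]
      intro h
      apply hx2
      have := congrArg (fun z => y⁻¹ * z * y) h
      simp only [mul_one, inv_mul_cancel] at this
      rw [← this]; group
    rcases hCel _ h1 with h | h | h | h
    · rw [h, one_pow] at hsq1; exact absurd rfl hsq1
    · exfalso
      -- `y` centralizes `x`: then the centralizer of `x` is everything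
      have hxy : y * x = x * y := by
        have := congrArg (fun z => z * y) h
        simp only [inv_mul_cancel_right] at this
        exact this
      have hle : Subgroup.zpowers x ≤ Subgroup.centralizer ({x} : Set G) := by
        rw [Subgroup.zpowers_le]
        rw [Subgroup.mem_centralizer_iff]
        intro g hg
        rw [Set.mem_singleton_iff.mp hg]
      have hyc : y ∈ Subgroup.centralizer ({x} : Set G) := by
        rw [Subgroup.mem_centralizer_iff]
        intro g hg
        rw [Set.mem_singleton_iff.mp hg]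
        exact hxy.symm
      have hc4 : 4 < Nat.card (Subgroup.centralizer ({x} : Set G)) := by
        by_contra hcon
        push Not at hcon
        have : Subgroup.zpowers x = Subgroup.centralizer ({x} : Set G) :=
          Subgroup.eq_of_le_of_card_ge hle (by rw [hCcard]; exact hcon)
        exact hy (this ▸ hyc)
      have hd : Nat.card (Subgroup.centralizer ({x} : Set G)) ∣ 2 ^ 3 :=
        hcard ▸ Subgroup.card_subgroup_dvd_card _
      obtain ⟨k, hk, hk'⟩ := (Nat.dvd_prime_pow Nat.prime_two).mp hd
      have hk3 : k = 3 := by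
        rw [hk'] at hc4
        interval_cases k <;> first | rfl | (norm_num at hc4)
      have htop : Subgroup.centralizer ({x} : Set G) = ⊤ :=
        Subgroup.eq_top_of_card_eq _ (by rw [hk', hk3, hcard])
      have hxZ : x ∈ Subgroup.center G := by
        rw [Subgroup.mem_center_iff]
        intro g
        have : g ∈ Subgroup.centralizer ({x} : Set G) := htop ▸ Subgroup.mem_top g
        rw [Subgroup.mem_centralizer_iff] at this
        exact (this x rfl).symm
      rcases hZel x hxZ with h5 | h5
      · rw [h5, one_pow] at hx2; exact hx2 rfl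
      · have : x = 1 := by
          have h6 : x * 1 = x * x := by rw [mul_one, ← sq]; exact h5
          exact (mul_left_cancel h6).symm
        rw [this, one_pow] at hx2; exact hx2 rfl
    · exfalso
      rw [h] at hsq1
      apply hsq1
      rw [← pow_mul]; exact hx4
    · exact h
  by_cases hq : ∃ y : G, y ∉ Subgroup.zpowers x ∧ y ^ 2 = x ^ 2
  · obtain ⟨y, hy, hy2⟩ := hq
    exact Cfsg.Agent.Lib.Helper5_MaxClassTwo.quaternion_equiv 2 (by rw [hcard]; norm_num) x y
      (by rw [hord]) hy hidx (by rw [← sq, hy2]) (hinv y hy)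
  · exfalso
    push Not at hq
    have hsq1 : ∀ y : G, y ∉ Subgroup.zpowers x → y ^ 2 = 1 := by
      intro y hy
      rcases hZel _ (hpZ y) with h | h
      · exact h
      · exact absurd h (hq y hy)
    refine hnc (Subgroup.center G) (Subgroup.zpowers x) hZC hZ (by rw [hCcard]; norm_num)
      center_char ?_
    intro β c hc
    have hβx : β x ∈ Subgroup.zpowers x := by
      by_contra hcon
      have := hsq1 _ hcon
      rw [← map_pow] at this
      have h2 : x ^ 2 = 1 := β.injective (this.trans (map_one β).symm)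
      exact hx2 h2
    obtain ⟨k, rfl⟩ := hc
    rw [map_zpow]
    exact Subgroup.zpow_mem _ hβx k

/-- **Groups of order `p³` without characteristic chains.** -/
theorem cube_cases [Finite G] {p : ℕ} [Fact p.Prime] (hcard : Nat.card G = p ^ 3)
    (hnc : NoChar p G) :
    ((∀ a b : G, a * b = b * a) ∧ ∀ a : G, a ^ p = 1) ∨
    (Odd p ∧ Cfsg.IsExtraspecial p G ∧ ∀ x : G, x ^ p = 1) ∨
    (p = 2 ∧ Nonempty (G ≃* QuaternionGroup 2)) := by
  by_cases hab : ∀ a b : G, a * b = b * a
  · exact Or.inl ⟨hab, abelian_case hcard hab hnc⟩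
  · push Not at hab
    right
    by_cases hp2 : p = 2
    · right
      subst hp2
      exact ⟨rfl, two_case hcard hab hnc⟩
    · left
      exact ⟨(Fact.out : p.Prime).eq_two_or_odd'.resolve_left hp2, extraspecial hcard hab,
        odd_case hcard hab hp2 hnc⟩

end Cfsg.Agent.Lib.Helper8_OrderCube
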