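import Mathlib
import Cfsg.Prelude.Def_FusionSystem
import Cfsg.Agent.Lib.Helper8_Saturated
import Cfsg.Agent.Lib.Helper8_Chain3
import Cfsg.Agent.Lib.Helper8_OrderCube
import Cfsg.Agent.S5080

set_option autoImplicit false
set_option linter.style.haveILetI false
set_option linter.unusedVariables false
open Cfsg

/-!
# Essential subgroups of order `p³`
-/

namespace Cfsg.Agent.Lib.Helper8_EssentialCube

open Cfsg.FusionSystem Cfsg.Agent.Lib.Helper8_Fusion
open Cfsg.Agent.Lib.Helper8_Saturated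
open Cfsg.Agent.Lib.Helper8_Chain3
open Cfsg.Agent.Lib.Helper8_OrderCube

variable {Ω : Type*} [Group Ω]

/-- A subgroup of `H`, viewed inside `T`. -/
def lift (H T : Subgroup Ω) (X : Subgroup H) : Subgroup T := (X.map H.subtype).subgroupOf T

theorem mem_lift {H T : Subgroup Ω} {X : Subgroup H} {u : T} :
    u ∈ lift H T X ↔ ∃ x ∈ X, ((x : H) : Ω) = u := by
  unfold lift
  rw [Subgroup.mem_subgroupOf, Subgroup.mem_map]
  rfl

theorem card_lift {H T : Subgroup Ω} (hHT : H ≤ T) (X : Subgroup H) :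
    Nat.card (lift H T X) = Nat.card X := by
  unfold lift
  have hle : X.map H.subtype ≤ T := (Subgroup.map_subtype_le X).trans hHT
  rw [Nat.card_congr (Subgroup.subgroupOfEquivOfLe hle).toEquiv,
    Subgroup.card_map_of_injective H.subtype_injective]

theorem lift_mono {H T : Subgroup Ω} {X Y : Subgroup H} (h : X ≤ Y) : lift H T X ≤ lift H T Y := by
  intro u hu
  obtain ⟨x, hx, hxu⟩ := mem_lift.mp hu
  exact mem_lift.mpr ⟨x, h hx, hxu⟩

theorem lift_normal {H T : Subgroup Ω} (hTN : T ≤ Subgroup.normalizer (H : Set Ω))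
    {X : Subgroup H} (hinv : ∀ β : MulAut H, ∀ x ∈ X, β x ∈ X) : (lift H T X).Normal := by
  refine ⟨fun n hn g => ?_⟩
  obtain ⟨x, hx, hxn⟩ := mem_lift.mp hn
  refine mem_lift.mpr ⟨H.normalizerMonoidHom ⟨g, hTN g.2⟩ x, hinv _ x hx, ?_⟩
  show (g : Ω) * x * (g : Ω)⁻¹ = ((g * n * g⁻¹ : T) : Ω)
  rw [hxn]
  rfl

variable {S : Subgroup Ω}

/-- An essential subgroup of order `p³` has no characteristic chain with factors of order `p`. -/
theorem noChar_of_essential [Finite S] {p : ℕ} [Fact p.Prime] (hS : IsPGroup p S)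
    (F : FusionSystem S) (hF : F.IsSaturated p) (H : Subgroup Ω) (hH : F.IsEssential p H)
    (hcard : Nat.card H = p ^ 3) : NoChar p ↥H := by
  have hp : p.Prime := Fact.out
  intro G₁ G₂ h12 c1 c2 inv1 inv2
  have hrad := Cfsg.Agent.S5080.result p hS F hF H hH
  obtain ⟨hcent, hfn, hnorm, E, hE⟩ := hH
  have hHS : H ≤ S := hcent.1
  haveI : Finite H := finite_of_le hHS
  have hHp : IsPGroup p H := hS.to_le hHS
  -- the stability group lies in `Inn H`
  have hKle : ∀ β ∈ F.autGroup H, β ∈ stab3 G₁ G₂ h12 → β ∈ Inn H := by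
    intro β hβA hβs
    rw [← hrad.2]
    refine ⟨⟨β, hβA⟩, ?_, rfl⟩
    have hKn : ((stab3 G₁ G₂ h12).subgroupOf (F.autGroup H)).Normal := by
      refine ⟨fun n hn g => ?_⟩
      rw [Subgroup.mem_subgroupOf] at hn ⊢
      show (g : MulAut H) * n * (g : MulAut H)⁻¹ ∈ stab3 G₁ G₂ h12
      exact stab3_conj (g : MulAut H) (inv1 _) (inv2 _) (inv1 _) (inv2 _) hn
    have hKp : IsPGroup p ((stab3 G₁ G₂ h12).subgroupOf (F.autGroup H)) :=
      (stab3_isPGroup c1 c2).comap_subtype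
    have hle : (stab3 G₁ G₂ h12).subgroupOf (F.autGroup H) ≤ pCore p (F.autGroup H) :=
      le_sSup ⟨hKn, hKp⟩
    exact hle (Subgroup.mem_subgroupOf.mpr hβs)
  -- the normalizer of `H` in `S`
  obtain ⟨T, hTdef⟩ : ∃ T : Subgroup Ω, T = normalizerIn S H := ⟨_, rfl⟩
  have hTS : T ≤ S := by rw [hTdef]; exact inf_le_left
  have hTN : T ≤ Subgroup.normalizer (H : Set Ω) := by rw [hTdef]; exact inf_le_right
  have hHT : H ≤ T := by
    rw [hTdef]
    exact le_inf hHS Subgroup.le_normalizer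
  haveI : Finite T := finite_of_le hTS
  have hTp : IsPGroup p T := hS.to_le hTS
  have htop : ∀ β : MulAut H, ∀ x ∈ (⊤ : Subgroup H), β x ∈ (⊤ : Subgroup H) :=
    fun _ _ _ => Subgroup.mem_top _
  haveI hn1 : (lift H T G₁).Normal := lift_normal hTN inv1
  haveI hn2 : (lift H T G₂).Normal := lift_normal hTN inv2
  haveI hn3 : (lift H T ⊤).Normal := lift_normal hTN htop
  have hc1 : Nat.card (lift H T G₁) = p := by rw [card_lift hHT, c1]
  have hc2 : Nat.card (lift H T G₂) = p ^ 2 := by rw [card_lift hHT, c2]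
  have hc3 : Nat.card (lift H T (⊤ : Subgroup H)) = p ^ 3 := by
    rw [card_lift hHT, Subgroup.card_top, hcard]
  -- conjugation by elements of `T` stabilizes the chain
  have hstab : ∀ t (ht : t ∈ T), H.normalizerMonoidHom ⟨t, hTN ht⟩ ∈ stab3 G₁ G₂ h12 := by
    intro t ht
    refine ⟨fun x hx => ?_, fun x hx => ?_, fun x => ?_⟩
    · have h1 := comm_mem_of_index_p hTp ⊥ (lift H T G₁) bot_le
        (by rw [hc1, Subgroup.card_bot, mul_one]) ⟨x, hHT x.2⟩ (mem_lift.mpr ⟨x, hx, rfl⟩) ⟨t, ht⟩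
      rw [Subgroup.mem_bot] at h1
      have h2 := congrArg (fun z : T => (z : Ω)) h1
      have h3 : (x : Ω)⁻¹ * (t * x * t⁻¹) = 1 := h2
      apply Subtype.ext
      show t * (x : Ω) * t⁻¹ = x
      have := congrArg (fun z => (x : Ω) * z) h3
      simp only [mul_one, mul_inv_cancel_left] at this
      exact this
    · have h1 := comm_mem_of_index_p hTp (lift H T G₁) (lift H T G₂) (lift_mono h12)
        (by rw [hc1, hc2]; ring) ⟨x, hHT x.2⟩ (mem_lift.mpr ⟨x, hx, rfl⟩) ⟨t, ht⟩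
      obtain ⟨y, hy, hyx⟩ := mem_lift.mp h1
      have : x⁻¹ * H.normalizerMonoidHom ⟨t, hTN ht⟩ x = y := by
        apply Subtype.ext
        rw [hyx]
        rfl
      rw [this]; exact hy
    · have h1 := comm_mem_of_index_p hTp (lift H T G₂) (lift H T ⊤) (lift_mono le_top)
        (by rw [hc2, hc3]; ring) ⟨x, hHT x.2⟩ (mem_lift.mpr ⟨x, Subgroup.mem_top x, rfl⟩) ⟨t, ht⟩
      obtain ⟨y, hy, hyx⟩ := mem_lift.mp h1
      have : x⁻¹ * H.normalizerMonoidHom ⟨t, hTN ht⟩ x = y := by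
        apply Subtype.ext
        rw [hyx]
        rfl
      rw [this]; exact hy
  -- hence `Aut_S(H) ≤ Inn H`
  have hAutS : autInducedBy S H ≤ Inn H := by
    intro α hα
    obtain ⟨g, hgS, hgN, hgα⟩ := (mem_autInducedBy_iff S H α).mp hα
    have hgT : g ∈ T := by rw [hTdef]; exact ⟨hgS, hgN⟩
    have hαeq : α = H.normalizerMonoidHom ⟨g, hTN hgT⟩ := by
      ext x
      exact hgα x
    rw [hαeq]
    exact hKle _ (conjAut_mem F hHS hgS (hTN hgT)) (hstab g hgT)
  -- counting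
  have hfa := (fullyNormalized_facts hS F hF hfn).2
  rw [fullyAutomized_iff_card F hHS] at hfa
  have hInnA : Inn H ≤ F.autGroup H := by
    rw [← hrad.2]
    exact Subgroup.map_subtype_le _
  have hInnp : IsPGroup p (Inn H) :=
    hHp.of_surjective (MulAut.conj : H →* MulAut H).rangeRestrict
      (MonoidHom.rangeRestrict_surjective _)
  obtain ⟨a, ha⟩ := IsPGroup.iff_card.mp hInnp
  have hIcard : Nat.card ((Inn H).subgroupOf (F.autGroup H)) = p ^ a := by
    rw [Nat.card_congr (Subgroup.subgroupOfEquivOfLe hInnA).toEquiv, ha]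
  have hAcard := Subgroup.card_eq_card_quotient_mul_card_subgroup
    ((Inn H).subgroupOf (F.autGroup H))
  obtain ⟨m, hm⟩ := hE.1
  rw [hm, hIcard] at hAcard
  haveI : Finite (MulAut H) := inferInstance
  have hApos : Nat.card (F.autGroup H) ≠ 0 := Nat.card_pos.ne'
  have hdvd : p ^ (a + 1) ∣ Nat.card (F.autGroup H) := by
    rw [hAcard, pow_succ]
    exact ⟨m, by ring⟩
  have hfac : a + 1 ≤ (Nat.card (F.autGroup H)).factorization p :=
    (hp.pow_dvd_iff_le_factorization hApos).mp hdvd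
  have h1 : Nat.card (autInducedBy S H) ≤ p ^ a := ha ▸ Subgroup.card_le_of_le hAutS
  rw [hfa] at h1
  have h2 : p ^ (a + 1) ≤ p ^ (Nat.card (F.autGroup H)).factorization p :=
    Nat.pow_le_pow_right hp.pos hfac
  have h3 : p ^ a < p ^ (a + 1) := Nat.pow_lt_pow_right hp.one_lt (Nat.lt_succ_self a)
  omega

end Cfsg.Agent.Lib.Helper8_EssentialCube
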