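import Mathlib
import Cfsg.Prelude.Def_FusionComponents
import Cfsg.Agent.Lib.Helper8_FactorSat
import Cfsg.Agent.Lib.Helper8_Hyperfocal
import Cfsg.Agent.Lib.Helper3_PResidual

set_option autoImplicit false
set_option linter.style.haveILetI false
set_option linter.unusedVariables false
open Cfsg

namespace Cfsg.Agent.Lib.Helper8_FactorHyp

open Cfsg.FusionSystem Cfsg.Agent.Lib.Helper8_Fusion Cfsg.Agent.Lib.Helper8_Factor
open Cfsg.Agent.Lib.Helper8_Factor2
open Cfsg.Agent.Lib.Helper8_GroupFusion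
open Cfsg.Agent.Lib.Helper8_Saturated
open Cfsg.Agent.Lib.Helper8_Alperin
open Cfsg.Agent.Lib.Helper8_Chain
open Cfsg.Agent.Lib.Helper8_Morphism
open Cfsg.Agent.Lib.Helper8_InducedAut
open Cfsg.Agent.Lib.Helper8_FactorSat
open Cfsg.Agent.Lib.Helper8_Hyperfocal

/-- A surjective homomorphism from a finite group maps `O^p` onto `O^p`. -/
theorem pResidual_le_map_of_surjective {X Y : Type*} [Group X] [Group Y] [Finite X] (p : ℕ)
    [Fact p.Prime] (f : X →* Y) (hf : Function.Surjective f) :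
    pResidual p Y ≤ (pResidual p X).map f := by
  rw [pResidual, Subgroup.closure_le]
  intro y hy
  obtain ⟨x, rfl⟩ := hf y
  obtain ⟨a, ha⟩ := Cfsg.Agent.Lib.Helper3_PResidual.exists_pow_coprime p x
  have hcop : Nat.Coprime (p ^ a) (orderOf (f x)) := Nat.Coprime.pow_left a (Nat.Coprime.symm hy)
  obtain ⟨k, hk⟩ := exists_pow_eq_self_of_coprime hcop
  refine ⟨(x ^ (p ^ a)) ^ k, ?_, ?_⟩
  · have h1 : x ^ (p ^ a) ∈ pResidual p X := Subgroup.subset_closure ha
    exact pow_mem h1 k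
  · rw [map_pow, map_pow]; exact hk

variable {Ω : Type*} [Group Ω] {S : Subgroup Ω} {Ω' : Type*} [Group Ω'] {S' : Subgroup Ω'}

/-- For saturated `F`, the induced automorphism of `θ(Q)` lies in the factor system for every
`Q ≤ S`. -/
theorem autMap_mem' [Finite S] {p : ℕ} [Fact p.Prime] (hS : IsPGroup p S) {F : FusionSystem S}
    (hF : F.IsSaturated p) {S₀ : Subgroup Ω} (hS₀ : F.StronglyClosed S₀)
    {θ : S →* Ω'} {E : FusionSystem S'} (hE : F.IsFactorSystem S₀ θ E) {Q : Subgroup Ω}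
    (hQS : Q ≤ S) (β : F.autGroup Q) :
    autMap F hS₀ hE.2.1 hQS β ∈ E.autGroup (imageAlong θ Q) := by
  have hθ : ∀ s : S, θ s ∈ S' := fun s => by rw [← hE.2.2.1]; exact ⟨s, rfl⟩
  have hmor := factor_isMorphism hS F hF hS₀ hE
  have hβ : Q.subtype.comp (β : MulAut Q).toMonoidHom ∈ F.Hom Q := (mem_autGroup_iff F hQS _).mp β.2
  obtain ⟨φ', hφ', hP, hval, hmap, hind⟩ := hmor.2 Q _ hβ
  rw [mem_autGroup_iff E (imageAlong_le hθ Q)]
  show (imageAlong θ Q).subtype.comp (autMap F hS₀ hE.2.1 hQS β).toMonoidHom ∈ E.Hom _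
  have : (imageAlong θ Q).subtype.comp (autMap F hS₀ hE.2.1 hQS β).toMonoidHom = φ' := by
    ext y
    obtain ⟨x, rfl⟩ := resHom_surjective θ hQS y
    show ((autMap F hS₀ hE.2.1 hQS β (resHom θ hQS x) : imageAlong θ Q) : Ω') = φ' (resHom θ hQS x)
    rw [autMap_apply]
    exact (hind x).symm
  rw [this]
  exact hφ'

/-- **The hyperfocal subgroup of the factor system is the image of the hyperfocal subgroup.** -/
theorem hyperfocal_factor [Finite S] {p : ℕ} [Fact p.Prime] (hS : IsPGroup p S) {F : FusionSystem S}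
    (hF : F.IsSaturated p) {S₀ : Subgroup Ω} (hS₀ : F.StronglyClosed S₀)
    {θ : S →* Ω'} {E : FusionSystem S'} (hE : F.IsFactorSystem S₀ θ E) :
    E.hyperfocalSubgroup p = ((F.hyperfocalSubgroup p).subgroupOf S).map θ := by
  have hθ : ∀ s : S, θ s ∈ S' := fun s => by rw [← hE.2.2.1]; exact ⟨s, rfl⟩
  have hker := hE.2.1
  have hrange := hE.2.2.1
  apply le_antisymm
  · -- generators of hyp(E) come from generators of hyp(F)
    rw [hyperfocalSubgroup, Subgroup.closure_le]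
    rintro y' ⟨P', α', x', hP'S', hα', rfl⟩
    have himg : imageAlong θ (preimageAlong θ P') = P' := by
      ext y
      constructor
      · intro hy
        obtain ⟨x, rfl⟩ := exists_of_mem_imageAlong θ (preimageAlong_le θ P') hy
        exact map_mem_of_mem_preimageAlong θ P' x
      · intro hy
        obtain ⟨x, hx⟩ := surj_onto hrange hP'S' ⟨y, hy⟩
        have hx' : θ ⟨x, preimageAlong_le θ P' x.2⟩ = y := hx
        rw [← hx']
        exact map_mem_imageAlong θ (preimageAlong_le θ P') x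
    have hQS : preimageAlong θ P' ≤ S := preimageAlong_le θ P'
    have hS₀Q : S₀ ≤ preimageAlong θ P' := kernel_le_preimage hker hS₀.1 P'
    generalize preimageAlong θ P' = Q at himg hQS hS₀Q
    subst himg
    haveI : Finite Q := finite_of_le hQS
    let Φ : F.autGroup Q →* E.autGroup (imageAlong θ Q) :=
      (autMap F hS₀ hker hQS).codRestrict _ (autMap_mem hS₀ hE hQS hS₀Q)
    have hΦ : Function.Surjective Φ := by
      intro β'
      obtain ⟨β, hβ⟩ := autMap_surj hS₀ hE hQS hS₀Q β'.2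
      exact ⟨β, Subtype.ext hβ⟩
    obtain ⟨α, hα, rfl⟩ := pResidual_le_map_of_surjective p Φ hΦ hα'
    obtain ⟨x, rfl⟩ := resHom_surjective θ hQS x'
    have hy : (x : Ω)⁻¹ * (((α : MulAut Q) x : Q) : Ω) ∈ F.hyperfocalSubgroup p :=
      Subgroup.subset_closure ⟨Q, α, x, hQS, hα, rfl⟩
    have hyS : (x : Ω)⁻¹ * (((α : MulAut Q) x : Q) : Ω) ∈ S := hyperfocal_le F p hy
    refine ⟨⟨_, hyS⟩, hy, ?_⟩
    show θ ⟨(x : Ω)⁻¹ * (((α : MulAut Q) x : Q) : Ω), hyS⟩ =
      ((resHom θ hQS x : imageAlong θ Q) : Ω')⁻¹ *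
        ((autMap F hS₀ hker hQS α (resHom θ hQS x) : imageAlong θ Q) : Ω')
    rw [autMap_apply]
    show _ = (θ ⟨x, hQS x.2⟩)⁻¹ * θ ⟨(((α : MulAut Q) x : Q) : Ω), hQS ((α : MulAut Q) x).2⟩
    rw [← map_inv, ← map_mul]
    rfl
  · rw [Subgroup.map_le_iff_le_comap]
    intro s hs
    have hs' : (s : Ω) ∈ F.hyperfocalSubgroup p := hs
    show θ s ∈ E.hyperfocalSubgroup p
    have key : ∀ y ∈ F.hyperfocalSubgroup p, ∃ h : y ∈ S, θ ⟨y, h⟩ ∈ E.hyperfocalSubgroup p := by
      intro y hy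
      rw [hyperfocalSubgroup] at hy
      induction hy using Subgroup.closure_induction with
      | mem y hy =>
        obtain ⟨P, α, x, hPS, hα, rfl⟩ := hy
        have hyS : (x : Ω)⁻¹ * (((α : MulAut P) x : P) : Ω) ∈ S :=
          S.mul_mem (S.inv_mem (hPS x.2)) (hPS ((α : MulAut P) x).2)
        refine ⟨hyS, ?_⟩
        let Φ : F.autGroup P →* E.autGroup (imageAlong θ P) :=
          (autMap F hS₀ hker hPS).codRestrict _ (autMap_mem' hS hF hS₀ hE hPS)
        have hΦα : Φ α ∈ pResidual p (E.autGroup (imageAlong θ P)) :=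
          map_pResidual_le p Φ ⟨α, hα, rfl⟩
        have hmem : ((resHom θ hPS x : imageAlong θ P) : Ω')⁻¹ *
            (((Φ α : MulAut (imageAlong θ P)) (resHom θ hPS x) : imageAlong θ P) : Ω') ∈
            E.hyperfocalSubgroup p :=
          Subgroup.subset_closure ⟨imageAlong θ P, Φ α, resHom θ hPS x, imageAlong_le hθ P, hΦα, rfl⟩
        have heq : θ ⟨(x : Ω)⁻¹ * (((α : MulAut P) x : P) : Ω), hyS⟩ =
            ((resHom θ hPS x : imageAlong θ P) : Ω')⁻¹ *
            (((Φ α : MulAut (imageAlong θ P)) (resHom θ hPS x) : imageAlong θ P) : Ω') := by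
          show _ = ((resHom θ hPS x : imageAlong θ P) : Ω')⁻¹ *
            ((autMap F hS₀ hker hPS α (resHom θ hPS x) : imageAlong θ P) : Ω')
          rw [autMap_apply]
          show _ = (θ ⟨x, hPS x.2⟩)⁻¹ * θ ⟨(((α : MulAut P) x : P) : Ω), hPS ((α : MulAut P) x).2⟩
          rw [← map_inv, ← map_mul]
          rfl
        rw [heq]
        exact hmem
      | one =>
        refine ⟨S.one_mem, ?_⟩
        have : (⟨1, S.one_mem⟩ : S) = 1 := rfl
        rw [this, map_one]
        exact Subgroup.one_mem _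
      | mul a b _ _ iha ihb =>
        obtain ⟨ha, ha'⟩ := iha
        obtain ⟨hb, hb'⟩ := ihb
        refine ⟨S.mul_mem ha hb, ?_⟩
        have : (⟨a * b, S.mul_mem ha hb⟩ : S) = ⟨a, ha⟩ * ⟨b, hb⟩ := rfl
        rw [this, map_mul]
        exact Subgroup.mul_mem _ ha' hb'
      | inv a _ iha =>
        obtain ⟨ha, ha'⟩ := iha
        refine ⟨S.inv_mem ha, ?_⟩
        have : (⟨a⁻¹, S.inv_mem ha⟩ : S) = ⟨a, ha⟩⁻¹ := rfl
        rw [this, map_inv]
        exact Subgroup.inv_mem _ ha'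
    obtain ⟨h, hh⟩ := key _ hs'
    exact hh

end Cfsg.Agent.Lib.Helper8_FactorHyp
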