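import Cfsg.Agent.Lib.Helper8_CosetBig
import Cfsg.Agent.Lib.Helper8_Fi22bData
import Cfsg.Agent.Lib.Helper8_Fi22bStates

set_option autoImplicit false
set_option Elab.async false

namespace Cfsg.Agent.H8Fi22b

open Cfsg.Agent.H8CE

set_option maxRecDepth 1000000 in
theorem hinvx0 : allBelow (fun i => Nat.blt (dig (nth pt 0) i) 14080 && Nat.beq (dig (nth pt 0) (dig (nth pt 0) i)) i) 14080 = true := by decide +kernel

set_option maxRecDepth 1000000 in
theorem hinvx1 : allBelow (fun i => Nat.blt (dig (nth pt 1) i) 14080 && Nat.beq (dig (nth pt 1) (dig (nth pt 1) i)) i) 14080 = true := by decide +kernel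

set_option maxRecDepth 1000000 in
theorem hinvx2 : allBelow (fun i => Nat.blt (dig (nth pt 2) i) 14080 && Nat.beq (dig (nth pt 2) (dig (nth pt 2) i)) i) 14080 = true := by decide +kernel

set_option maxRecDepth 1000000 in
theorem hinvx3 : allBelow (fun i => Nat.blt (dig (nth pt 3) i) 14080 && Nat.beq (dig (nth pt 3) (dig (nth pt 3) i)) i) 14080 = true := by decide +kernel

set_option maxRecDepth 1000000 in
theorem hinvx4 : allBelow (fun i => Nat.blt (dig (nth pt 4) i) 14080 && Nat.beq (dig (nth pt 4) (dig (nth pt 4) i)) i) 14080 = true := by decide +kernel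

set_option maxRecDepth 1000000 in
theorem hinvx5 : allBelow (fun i => Nat.blt (dig (nth pt 5) i) 14080 && Nat.beq (dig (nth pt 5) (dig (nth pt 5) i)) i) 14080 = true := by decide +kernel

set_option maxRecDepth 1000000 in
theorem hinvx6 : allBelow (fun i => Nat.blt (dig (nth pt 6) i) 14080 && Nat.beq (dig (nth pt 6) (dig (nth pt 6) i)) i) 14080 = true := by decide +kernel

set_option maxRecDepth 1000000 in
theorem hinvx7 : allBelow (fun i => Nat.blt (dig (nth pt 7) i) 14080 && Nat.beq (dig (nth pt 7) (dig (nth pt 7) i)) i) 14080 = true := by decide +kernel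

set_option maxRecDepth 1000000 in
theorem hinvx8 : allBelow (fun i => Nat.blt (dig (nth pt 8) i) 14080 && Nat.beq (dig (nth pt 8) (dig (nth pt 8) i)) i) 14080 = true := by decide +kernel

set_option maxRecDepth 1000000 in
theorem hwr0 : checkWordsR pt rels 0 192 = true := by decide +kernel

set_option maxRecDepth 1000000 in
theorem hwr1 : checkWordsR pt rels 192 192 = true := by decide +kernel

set_option maxRecDepth 1000000 in
theorem hwr2 : checkWordsR pt rels 384 192 = true := by decide +kernel

set_option maxRecDepth 1000000 in
theorem hwr3 : checkWordsR pt rels 576 192 = true := by decide +kernel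

set_option maxRecDepth 1000000 in
theorem hwr4 : checkWordsR pt rels 768 192 = true := by decide +kernel

set_option maxRecDepth 1000000 in
theorem hwr5 : checkWordsR pt rels 960 192 = true := by decide +kernel

set_option maxRecDepth 1000000 in
theorem hwr6 : checkWordsR pt rels 1152 192 = true := by decide +kernel

end Cfsg.Agent.H8Fi22b
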