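import Cfsg.Agent.Lib.Helper8_CosetBig
import Cfsg.Agent.Lib.Helper8_Fi22bData
import Cfsg.Agent.Lib.Helper8_Fi22bStates

set_option autoImplicit false
set_option Elab.async false

namespace Cfsg.Agent.H8Fi22b

open Cfsg.Agent.H8CE

set_option maxRecDepth 1000000 in
theorem hwr7 : checkWordsR pt rels 1344 192 = true := by decide +kernel

set_option maxRecDepth 1000000 in
theorem hwr8 : checkWordsR pt rels 1536 192 = true := by decide +kernel

set_option maxRecDepth 1000000 in
theorem hwr9 : checkWordsR pt rels 1728 192 = true := by decide +kernel

set_option maxRecDepth 1000000 in
theorem hwr10 : checkWordsR pt rels 1920 192 = true := by decide +kernel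

set_option maxRecDepth 1000000 in
theorem hwr11 : checkWordsR pt rels 2112 192 = true := by decide +kernel

set_option maxRecDepth 1000000 in
theorem hwr12 : checkWordsR pt rels 2304 192 = true := by decide +kernel

set_option maxRecDepth 1000000 in
theorem hwr13 : checkWordsR pt rels 2496 192 = true := by decide +kernel

set_option maxRecDepth 1000000 in
theorem hwr14 : checkWordsR pt rels 2688 192 = true := by decide +kernel

set_option maxRecDepth 1000000 in
theorem hwr15 : checkWordsR pt rels 2880 192 = true := by decide +kernel

set_option maxRecDepth 1000000 in
theorem hwr16 : checkWordsR pt rels 3072 192 = true := by decide +kernel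

set_option maxRecDepth 1000000 in
theorem hwr17 : checkWordsR pt rels 3264 192 = true := by decide +kernel

set_option maxRecDepth 1000000 in
theorem hwr18 : checkWordsR pt rels 3456 192 = true := by decide +kernel

set_option maxRecDepth 1000000 in
theorem hwr19 : checkWordsR pt rels 3648 192 = true := by decide +kernel

set_option maxRecDepth 1000000 in
theorem hwr20 : checkWordsR pt rels 3840 192 = true := by decide +kernel

set_option maxRecDepth 1000000 in
theorem hwr21 : checkWordsR pt rels 4032 192 = true := by decide +kernel

set_option maxRecDepth 1000000 in
theorem hwr22 : checkWordsR pt rels 4224 192 = true := by decide +kernel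

end Cfsg.Agent.H8Fi22b
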