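import Cfsg.Agent.Lib.Helper8_CosetBig
import Cfsg.Agent.Lib.Helper8_Fi22bData
import Cfsg.Agent.Lib.Helper8_Fi22bStates

set_option autoImplicit false
set_option Elab.async false

namespace Cfsg.Agent.H8Fi22b

open Cfsg.Agent.H8CE

set_option maxRecDepth 1000000 in
theorem hwr23 : checkWordsR pt rels 4416 192 = true := by decide +kernel

set_option maxRecDepth 1000000 in
theorem hwr24 : checkWordsR pt rels 4608 192 = true := by decide +kernel

set_option maxRecDepth 1000000 in
theorem hwr25 : checkWordsR pt rels 4800 192 = true := by decide +kernel

set_option maxRecDepth 1000000 in
theorem hwr26 : checkWordsR pt rels 4992 192 = true := by decide +kernel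

set_option maxRecDepth 1000000 in
theorem hwr27 : checkWordsR pt rels 5184 192 = true := by decide +kernel

set_option maxRecDepth 1000000 in
theorem hwr28 : checkWordsR pt rels 5376 192 = true := by decide +kernel

set_option maxRecDepth 1000000 in
theorem hwr29 : checkWordsR pt rels 5568 192 = true := by decide +kernel

set_option maxRecDepth 1000000 in
theorem hwr30 : checkWordsR pt rels 5760 192 = true := by decide +kernel

set_option maxRecDepth 1000000 in
theorem hwr31 : checkWordsR pt rels 5952 192 = true := by decide +kernel

set_option maxRecDepth 1000000 in
theorem hwr32 : checkWordsR pt rels 6144 192 = true := by decide +kernel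

set_option maxRecDepth 1000000 in
theorem hwr33 : checkWordsR pt rels 6336 192 = true := by decide +kernel

set_option maxRecDepth 1000000 in
theorem hwr34 : checkWordsR pt rels 6528 192 = true := by decide +kernel

set_option maxRecDepth 1000000 in
theorem hwr35 : checkWordsR pt rels 6720 192 = true := by decide +kernel

set_option maxRecDepth 1000000 in
theorem hwr36 : checkWordsR pt rels 6912 192 = true := by decide +kernel

set_option maxRecDepth 1000000 in
theorem hwr37 : checkWordsR pt rels 7104 192 = true := by decide +kernel

set_option maxRecDepth 1000000 in
theorem hwr38 : checkWordsR pt rels 7296 192 = true := by decide +kernel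

end Cfsg.Agent.H8Fi22b
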