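import Cfsg.Agent.Lib.Helper8_CosetBig
import Cfsg.Agent.Lib.Helper8_Fi22bData
import Cfsg.Agent.Lib.Helper8_Fi22bStates

set_option autoImplicit false
set_option Elab.async false

namespace Cfsg.Agent.H8Fi22b

open Cfsg.Agent.H8CE

set_option maxRecDepth 1000000 in
theorem hwr39 : checkWordsR pt rels 7488 192 = true := by decide +kernel

set_option maxRecDepth 1000000 in
theorem hwr40 : checkWordsR pt rels 7680 192 = true := by decide +kernel

set_option maxRecDepth 1000000 in
theorem hwr41 : checkWordsR pt rels 7872 192 = true := by decide +kernel

set_option maxRecDepth 1000000 in
theorem hwr42 : checkWordsR pt rels 8064 192 = true := by decide +kernel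

set_option maxRecDepth 1000000 in
theorem hwr43 : checkWordsR pt rels 8256 192 = true := by decide +kernel

set_option maxRecDepth 1000000 in
theorem hwr44 : checkWordsR pt rels 8448 192 = true := by decide +kernel

set_option maxRecDepth 1000000 in
theorem hwr45 : checkWordsR pt rels 8640 192 = true := by decide +kernel

set_option maxRecDepth 1000000 in
theorem hwr46 : checkWordsR pt rels 8832 192 = true := by decide +kernel

set_option maxRecDepth 1000000 in
theorem hwr47 : checkWordsR pt rels 9024 192 = true := by decide +kernel

set_option maxRecDepth 1000000 in
theorem hwr48 : checkWordsR pt rels 9216 192 = true := by decide +kernel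

set_option maxRecDepth 1000000 in
theorem hwr49 : checkWordsR pt rels 9408 192 = true := by decide +kernel

set_option maxRecDepth 1000000 in
theorem hwr50 : checkWordsR pt rels 9600 192 = true := by decide +kernel

set_option maxRecDepth 1000000 in
theorem hwr51 : checkWordsR pt rels 9792 192 = true := by decide +kernel

set_option maxRecDepth 1000000 in
theorem hwr52 : checkWordsR pt rels 9984 192 = true := by decide +kernel

set_option maxRecDepth 1000000 in
theorem hwr53 : checkWordsR pt rels 10176 192 = true := by decide +kernel

set_option maxRecDepth 1000000 in
theorem hwr54 : checkWordsR pt rels 10368 192 = true := by decide +kernel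

end Cfsg.Agent.H8Fi22b
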