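import Cfsg.Agent.Lib.Helper8_CosetBig
import Cfsg.Agent.Lib.Helper8_Fi22bData
import Cfsg.Agent.Lib.Helper8_Fi22bStates

set_option autoImplicit false
set_option Elab.async false

namespace Cfsg.Agent.H8Fi22b

open Cfsg.Agent.H8CE

set_option maxRecDepth 1000000 in
theorem hwr55 : checkWordsR pt rels 10560 192 = true := by decide +kernel

set_option maxRecDepth 1000000 in
theorem hwr56 : checkWordsR pt rels 10752 192 = true := by decide +kernel

set_option maxRecDepth 1000000 in
theorem hwr57 : checkWordsR pt rels 10944 192 = true := by decide +kernel

set_option maxRecDepth 1000000 in
theorem hwr58 : checkWordsR pt rels 11136 192 = true := by decide +kernel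

set_option maxRecDepth 1000000 in
theorem hwr59 : checkWordsR pt rels 11328 192 = true := by decide +kernel

set_option maxRecDepth 1000000 in
theorem hwr60 : checkWordsR pt rels 11520 192 = true := by decide +kernel

set_option maxRecDepth 1000000 in
theorem hwr61 : checkWordsR pt rels 11712 192 = true := by decide +kernel

set_option maxRecDepth 1000000 in
theorem hwr62 : checkWordsR pt rels 11904 192 = true := by decide +kernel

set_option maxRecDepth 1000000 in
theorem hwr63 : checkWordsR pt rels 12096 192 = true := by decide +kernel

set_option maxRecDepth 1000000 in
theorem hwr64 : checkWordsR pt rels 12288 192 = true := by decide +kernel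

set_option maxRecDepth 1000000 in
theorem hwr65 : checkWordsR pt rels 12480 192 = true := by decide +kernel

set_option maxRecDepth 1000000 in
theorem hwr66 : checkWordsR pt rels 12672 192 = true := by decide +kernel

set_option maxRecDepth 1000000 in
theorem hwr67 : checkWordsR pt rels 12864 192 = true := by decide +kernel

set_option maxRecDepth 1000000 in
theorem hwr68 : checkWordsR pt rels 13056 192 = true := by decide +kernel

set_option maxRecDepth 1000000 in
theorem hwr69 : checkWordsR pt rels 13248 192 = true := by decide +kernel

set_option maxRecDepth 1000000 in
theorem hwr70 : checkWordsR pt rels 13440 192 = true := by decide +kernel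

end Cfsg.Agent.H8Fi22b
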