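import Cfsg.Agent.Lib.Helper8_CosetBig
import Cfsg.Agent.Lib.Helper8_Fi22bData
import Cfsg.Agent.Lib.Helper8_Fi22bStates

set_option autoImplicit false
set_option Elab.async false

namespace Cfsg.Agent.H8Fi22b

open Cfsg.Agent.H8CE

set_option maxRecDepth 1000000 in
theorem hwr71 : checkWordsR pt rels 13632 192 = true := by decide +kernel

set_option maxRecDepth 1000000 in
theorem hwr72 : checkWordsR pt rels 13824 192 = true := by decide +kernel

set_option maxRecDepth 1000000 in
theorem hwr73 : checkWordsR pt rels 14016 64 = true := by decide +kernel

set_option maxRecDepth 1000000 in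
theorem htr0 : allBelow (fun i => allBelow (fun x => checkEntry st35 fuel canon pt (Nat.add 0 i) x) 9) 1110 = true := by decide +kernel

set_option maxRecDepth 1000000 in
theorem htr1 : allBelow (fun i => allBelow (fun x => checkEntry st35 fuel canon pt (Nat.add 1110 i) x) 9) 1110 = true := by decide +kernel

set_option maxRecDepth 1000000 in
theorem htr2 : allBelow (fun i => allBelow (fun x => checkEntry st35 fuel canon pt (Nat.add 2220 i) x) 9) 1110 = true := by decide +kernel

set_option maxRecDepth 1000000 in
theorem htr3 : allBelow (fun i => allBelow (fun x => checkEntry st35 fuel canon pt (Nat.add 3330 i) x) 9) 1110 = true := by decide +kernel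

set_option maxRecDepth 1000000 in
theorem htr4 : allBelow (fun i => allBelow (fun x => checkEntry st35 fuel canon pt (Nat.add 4440 i) x) 9) 1110 = true := by decide +kernel

set_option maxRecDepth 1000000 in
theorem htr5 : allBelow (fun i => allBelow (fun x => checkEntry st35 fuel canon pt (Nat.add 5550 i) x) 9) 1110 = true := by decide +kernel

set_option maxRecDepth 1000000 in
theorem htr6 : allBelow (fun i => allBelow (fun x => checkEntry st35 fuel canon pt (Nat.add 6660 i) x) 9) 1110 = true := by decide +kernel

set_option maxRecDepth 1000000 in
theorem htr7 : allBelow (fun i => allBelow (fun x => checkEntry st35 fuel canon pt (Nat.add 7770 i) x) 9) 1110 = true := by decide +kernel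

set_option maxRecDepth 1000000 in
theorem htr8 : allBelow (fun i => allBelow (fun x => checkEntry st35 fuel canon pt (Nat.add 8880 i) x) 9) 1110 = true := by decide +kernel

set_option maxRecDepth 1000000 in
theorem htr9 : allBelow (fun i => allBelow (fun x => checkEntry st35 fuel canon pt (Nat.add 9990 i) x) 9) 1110 = true := by decide +kernel

set_option maxRecDepth 1000000 in
theorem htr10 : allBelow (fun i => allBelow (fun x => checkEntry st35 fuel canon pt (Nat.add 11100 i) x) 9) 1110 = true := by decide +kernel

set_option maxRecDepth 1000000 in
theorem htr11 : allBelow (fun i => allBelow (fun x => checkEntry st35 fuel canon pt (Nat.add 12210 i) x) 9) 1110 = true := by decide +kernel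

set_option maxRecDepth 1000000 in
theorem htr12 : allBelow (fun i => allBelow (fun x => checkEntry st35 fuel canon pt (Nat.add 13320 i) x) 9) 760 = true := by decide +kernel

end Cfsg.Agent.H8Fi22b
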