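import Cfsg.Agent.Lib.Helper8_CosetBig2
import Cfsg.Agent.Lib.Helper8_Fi23Data
import Cfsg.Agent.Lib.Helper8_Fi23States0
import Cfsg.Agent.Lib.Helper8_Fi23States1
import Cfsg.Agent.Lib.Helper8_Fi23States2
import Cfsg.Agent.Lib.Helper8_Fi23States3
import Cfsg.Agent.Lib.Helper8_Fi23States4
import Cfsg.Agent.Lib.Helper8_Fi23States5
import Cfsg.Agent.Lib.Helper8_Fi23States6
import Cfsg.Agent.Lib.Helper8_Fi23States7
import Cfsg.Agent.Lib.Helper8_Fi23States8
import Cfsg.Agent.Lib.Helper8_Fi23States9
import Cfsg.Agent.Lib.Helper8_Fi23States10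

set_option autoImplicit false
set_option Elab.async false

namespace Cfsg.Agent.H8Fi23

open Cfsg.Agent.H8CE

set_option maxRecDepth 1000000 in
theorem hinvx0a : allBelow (fun i => Nat.blt (dig (nth pt 0) i) 31671 && Nat.beq (dig (nth pt 0) (dig (nth pt 0) i)) i) 15836 = true := by decide +kernel

set_option maxRecDepth 1000000 in
theorem hinvx0b : allBelow (fun j => (fun i => Nat.blt (dig (nth pt 0) i) 31671 && Nat.beq (dig (nth pt 0) (dig (nth pt 0) i)) i) (Nat.add 15836 j)) 15835 = true := by decide +kernel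

set_option maxRecDepth 1000000 in
theorem hinvx1a : allBelow (fun i => Nat.blt (dig (nth pt 1) i) 31671 && Nat.beq (dig (nth pt 1) (dig (nth pt 1) i)) i) 15836 = true := by decide +kernel

set_option maxRecDepth 1000000 in
theorem hinvx1b : allBelow (fun j => (fun i => Nat.blt (dig (nth pt 1) i) 31671 && Nat.beq (dig (nth pt 1) (dig (nth pt 1) i)) i) (Nat.add 15836 j)) 15835 = true := by decide +kernel

set_option maxRecDepth 1000000 in
theorem hinvx2a : allBelow (fun i => Nat.blt (dig (nth pt 2) i) 31671 && Nat.beq (dig (nth pt 2) (dig (nth pt 2) i)) i) 15836 = true := by decide +kernel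

set_option maxRecDepth 1000000 in
theorem hinvx2b : allBelow (fun j => (fun i => Nat.blt (dig (nth pt 2) i) 31671 && Nat.beq (dig (nth pt 2) (dig (nth pt 2) i)) i) (Nat.add 15836 j)) 15835 = true := by decide +kernel

set_option maxRecDepth 1000000 in
theorem hinvx3a : allBelow (fun i => Nat.blt (dig (nth pt 3) i) 31671 && Nat.beq (dig (nth pt 3) (dig (nth pt 3) i)) i) 15836 = true := by decide +kernel

set_option maxRecDepth 1000000 in
theorem hinvx3b : allBelow (fun j => (fun i => Nat.blt (dig (nth pt 3) i) 31671 && Nat.beq (dig (nth pt 3) (dig (nth pt 3) i)) i) (Nat.add 15836 j)) 15835 = true := by decide +kernel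

set_option maxRecDepth 1000000 in
theorem hinvx4a : allBelow (fun i => Nat.blt (dig (nth pt 4) i) 31671 && Nat.beq (dig (nth pt 4) (dig (nth pt 4) i)) i) 15836 = true := by decide +kernel

set_option maxRecDepth 1000000 in
theorem hinvx4b : allBelow (fun j => (fun i => Nat.blt (dig (nth pt 4) i) 31671 && Nat.beq (dig (nth pt 4) (dig (nth pt 4) i)) i) (Nat.add 15836 j)) 15835 = true := by decide +kernel

set_option maxRecDepth 1000000 in
theorem hinvx5a : allBelow (fun i => Nat.blt (dig (nth pt 5) i) 31671 && Nat.beq (dig (nth pt 5) (dig (nth pt 5) i)) i) 15836 = true := by decide +kernel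

set_option maxRecDepth 1000000 in
theorem hinvx5b : allBelow (fun j => (fun i => Nat.blt (dig (nth pt 5) i) 31671 && Nat.beq (dig (nth pt 5) (dig (nth pt 5) i)) i) (Nat.add 15836 j)) 15835 = true := by decide +kernel

end Cfsg.Agent.H8Fi23
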