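import Cfsg.Agent.Lib.Helper8_CosetBig2
import Cfsg.Agent.Lib.Helper8_Fi23Data
import Cfsg.Agent.Lib.Helper8_Fi23States0
import Cfsg.Agent.Lib.Helper8_Fi23States1
import Cfsg.Agent.Lib.Helper8_Fi23States2
import Cfsg.Agent.Lib.Helper8_Fi23States3
import Cfsg.Agent.Lib.Helper8_Fi23States4
import Cfsg.Agent.Lib.Helper8_Fi23States5
import Cfsg.Agent.Lib.Helper8_Fi23States6
import Cfsg.Agent.Lib.Helper8_Fi23States7
import Cfsg.Agent.Lib.Helper8_Fi23States8
import Cfsg.Agent.Lib.Helper8_Fi23States9
import Cfsg.Agent.Lib.Helper8_Fi23States10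

set_option autoImplicit false
set_option Elab.async false

namespace Cfsg.Agent.H8Fi23

open Cfsg.Agent.H8CE

set_option maxRecDepth 1000000 in
theorem hinvx6a : allBelow (fun i => Nat.blt (dig (nth pt 6) i) 31671 && Nat.beq (dig (nth pt 6) (dig (nth pt 6) i)) i) 15836 = true := by decide +kernel

set_option maxRecDepth 1000000 in
theorem hinvx6b : allBelow (fun j => (fun i => Nat.blt (dig (nth pt 6) i) 31671 && Nat.beq (dig (nth pt 6) (dig (nth pt 6) i)) i) (Nat.add 15836 j)) 15835 = true := by decide +kernel

set_option maxRecDepth 1000000 in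
theorem hinvx7a : allBelow (fun i => Nat.blt (dig (nth pt 7) i) 31671 && Nat.beq (dig (nth pt 7) (dig (nth pt 7) i)) i) 15836 = true := by decide +kernel

set_option maxRecDepth 1000000 in
theorem hinvx7b : allBelow (fun j => (fun i => Nat.blt (dig (nth pt 7) i) 31671 && Nat.beq (dig (nth pt 7) (dig (nth pt 7) i)) i) (Nat.add 15836 j)) 15835 = true := by decide +kernel

set_option maxRecDepth 1000000 in
theorem hinvx8a : allBelow (fun i => Nat.blt (dig (nth pt 8) i) 31671 && Nat.beq (dig (nth pt 8) (dig (nth pt 8) i)) i) 15836 = true := by decide +kernel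

set_option maxRecDepth 1000000 in
theorem hinvx8b : allBelow (fun j => (fun i => Nat.blt (dig (nth pt 8) i) 31671 && Nat.beq (dig (nth pt 8) (dig (nth pt 8) i)) i) (Nat.add 15836 j)) 15835 = true := by decide +kernel

set_option maxRecDepth 1000000 in
theorem hinvx9a : allBelow (fun i => Nat.blt (dig (nth pt 9) i) 31671 && Nat.beq (dig (nth pt 9) (dig (nth pt 9) i)) i) 15836 = true := by decide +kernel

set_option maxRecDepth 1000000 in
theorem hinvx9b : allBelow (fun j => (fun i => Nat.blt (dig (nth pt 9) i) 31671 && Nat.beq (dig (nth pt 9) (dig (nth pt 9) i)) i) (Nat.add 15836 j)) 15835 = true := by decide +kernel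

set_option maxRecDepth 1000000 in
theorem hwr0 : checkWordsR pt rels 0 83 = true := by decide +kernel

set_option maxRecDepth 1000000 in
theorem hwr1 : checkWordsR pt rels 83 83 = true := by decide +kernel

set_option maxRecDepth 1000000 in
theorem hwr2 : checkWordsR pt rels 166 83 = true := by decide +kernel

set_option maxRecDepth 1000000 in
theorem hwr3 : checkWordsR pt rels 249 83 = true := by decide +kernel

end Cfsg.Agent.H8Fi23
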