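import Cfsg.Agent.Lib.Helper8_Fi23Perm2
import Cfsg.Agent.Lib.Helper8_CosetBig2
import Cfsg.Agent.Lib.Helper8_Fi23Data
import Cfsg.Agent.Lib.Helper8_Fi23States0
import Cfsg.Agent.Lib.Helper8_Fi23States1
import Cfsg.Agent.Lib.Helper8_Fi23States2
import Cfsg.Agent.Lib.Helper8_Fi23States3
import Cfsg.Agent.Lib.Helper8_Fi23States4
import Cfsg.Agent.Lib.Helper8_Fi23States5
import Cfsg.Agent.Lib.Helper8_Fi23States6
import Cfsg.Agent.Lib.Helper8_Fi23States7
import Cfsg.Agent.Lib.Helper8_Fi23States8
import Cfsg.Agent.Lib.Helper8_Fi23States9
import Cfsg.Agent.Lib.Helper8_Fi23States10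

set_option autoImplicit false
set_option Elab.async false

namespace Cfsg.Agent.H8Fi23

open Cfsg.Agent.H8CE

set_option maxRecDepth 1000000 in
theorem hwr100 : checkWordsR pt rels 8300 83 = true := by decide +kernel

set_option maxRecDepth 1000000 in
theorem hwr101 : checkWordsR pt rels 8383 83 = true := by decide +kernel

set_option maxRecDepth 1000000 in
theorem hwr102 : checkWordsR pt rels 8466 83 = true := by decide +kernel

set_option maxRecDepth 1000000 in
theorem hwr103 : checkWordsR pt rels 8549 83 = true := by decide +kernel

set_option maxRecDepth 1000000 in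
theorem hwr104 : checkWordsR pt rels 8632 83 = true := by decide +kernel

set_option maxRecDepth 1000000 in
theorem hwr105 : checkWordsR pt rels 8715 83 = true := by decide +kernel

set_option maxRecDepth 1000000 in
theorem hwr106 : checkWordsR pt rels 8798 83 = true := by decide +kernel

set_option maxRecDepth 1000000 in
theorem hwr107 : checkWordsR pt rels 8881 83 = true := by decide +kernel

set_option maxRecDepth 1000000 in
theorem hwr108 : checkWordsR pt rels 8964 83 = true := by decide +kernel

set_option maxRecDepth 1000000 in
theorem hwr109 : checkWordsR pt rels 9047 83 = true := by decide +kernel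

set_option maxRecDepth 1000000 in
theorem hwr110 : checkWordsR pt rels 9130 83 = true := by decide +kernel

set_option maxRecDepth 1000000 in
theorem hwr111 : checkWordsR pt rels 9213 83 = true := by decide +kernel

end Cfsg.Agent.H8Fi23
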