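import Cfsg.Agent.Lib.Helper8_Fi23Perm3
import Cfsg.Agent.Lib.Helper8_CosetBig2
import Cfsg.Agent.Lib.Helper8_Fi23Data
import Cfsg.Agent.Lib.Helper8_Fi23States0
import Cfsg.Agent.Lib.Helper8_Fi23States1
import Cfsg.Agent.Lib.Helper8_Fi23States2
import Cfsg.Agent.Lib.Helper8_Fi23States3
import Cfsg.Agent.Lib.Helper8_Fi23States4
import Cfsg.Agent.Lib.Helper8_Fi23States5
import Cfsg.Agent.Lib.Helper8_Fi23States6
import Cfsg.Agent.Lib.Helper8_Fi23States7
import Cfsg.Agent.Lib.Helper8_Fi23States8
import Cfsg.Agent.Lib.Helper8_Fi23States9
import Cfsg.Agent.Lib.Helper8_Fi23States10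

set_option autoImplicit false
set_option Elab.async false

namespace Cfsg.Agent.H8Fi23

open Cfsg.Agent.H8CE

set_option maxRecDepth 1000000 in
theorem hwr112 : checkWordsR pt rels 9296 83 = true := by decide +kernel

set_option maxRecDepth 1000000 in
theorem hwr113 : checkWordsR pt rels 9379 83 = true := by decide +kernel

set_option maxRecDepth 1000000 in
theorem hwr114 : checkWordsR pt rels 9462 83 = true := by decide +kernel

set_option maxRecDepth 1000000 in
theorem hwr115 : checkWordsR pt rels 9545 83 = true := by decide +kernel

set_option maxRecDepth 1000000 in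
theorem hwr116 : checkWordsR pt rels 9628 83 = true := by decide +kernel

set_option maxRecDepth 1000000 in
theorem hwr117 : checkWordsR pt rels 9711 83 = true := by decide +kernel

set_option maxRecDepth 1000000 in
theorem hwr118 : checkWordsR pt rels 9794 83 = true := by decide +kernel

set_option maxRecDepth 1000000 in
theorem hwr119 : checkWordsR pt rels 9877 83 = true := by decide +kernel

set_option maxRecDepth 1000000 in
theorem hwr120 : checkWordsR pt rels 9960 83 = true := by decide +kernel

set_option maxRecDepth 1000000 in
theorem hwr121 : checkWordsR pt rels 10043 83 = true := by decide +kernel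

set_option maxRecDepth 1000000 in
theorem hwr122 : checkWordsR pt rels 10126 83 = true := by decide +kernel

set_option maxRecDepth 1000000 in
theorem hwr123 : checkWordsR pt rels 10209 83 = true := by decide +kernel

end Cfsg.Agent.H8Fi23
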