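import Cfsg.Agent.Lib.Helper8_Fi23Perm4
import Cfsg.Agent.Lib.Helper8_CosetBig2
import Cfsg.Agent.Lib.Helper8_Fi23Data
import Cfsg.Agent.Lib.Helper8_Fi23States0
import Cfsg.Agent.Lib.Helper8_Fi23States1
import Cfsg.Agent.Lib.Helper8_Fi23States2
import Cfsg.Agent.Lib.Helper8_Fi23States3
import Cfsg.Agent.Lib.Helper8_Fi23States4
import Cfsg.Agent.Lib.Helper8_Fi23States5
import Cfsg.Agent.Lib.Helper8_Fi23States6
import Cfsg.Agent.Lib.Helper8_Fi23States7
import Cfsg.Agent.Lib.Helper8_Fi23States8
import Cfsg.Agent.Lib.Helper8_Fi23States9
import Cfsg.Agent.Lib.Helper8_Fi23States10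

set_option autoImplicit false
set_option Elab.async false

namespace Cfsg.Agent.H8Fi23

open Cfsg.Agent.H8CE

set_option maxRecDepth 1000000 in
theorem hwr124 : checkWordsR pt rels 10292 83 = true := by decide +kernel

set_option maxRecDepth 1000000 in
theorem hwr125 : checkWordsR pt rels 10375 83 = true := by decide +kernel

set_option maxRecDepth 1000000 in
theorem hwr126 : checkWordsR pt rels 10458 83 = true := by decide +kernel

set_option maxRecDepth 1000000 in
theorem hwr127 : checkWordsR pt rels 10541 83 = true := by decide +kernel

set_option maxRecDepth 1000000 in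
theorem hwr128 : checkWordsR pt rels 10624 83 = true := by decide +kernel

set_option maxRecDepth 1000000 in
theorem hwr129 : checkWordsR pt rels 10707 83 = true := by decide +kernel

set_option maxRecDepth 1000000 in
theorem hwr130 : checkWordsR pt rels 10790 83 = true := by decide +kernel

set_option maxRecDepth 1000000 in
theorem hwr131 : checkWordsR pt rels 10873 83 = true := by decide +kernel

set_option maxRecDepth 1000000 in
theorem hwr132 : checkWordsR pt rels 10956 83 = true := by decide +kernel

set_option maxRecDepth 1000000 in
theorem hwr133 : checkWordsR pt rels 11039 83 = true := by decide +kernel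

set_option maxRecDepth 1000000 in
theorem hwr134 : checkWordsR pt rels 11122 83 = true := by decide +kernel

set_option maxRecDepth 1000000 in
theorem hwr135 : checkWordsR pt rels 11205 83 = true := by decide +kernel

end Cfsg.Agent.H8Fi23
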