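import Cfsg.Agent.Lib.Helper8_Fi23Perm5
import Cfsg.Agent.Lib.Helper8_CosetBig2
import Cfsg.Agent.Lib.Helper8_Fi23Data
import Cfsg.Agent.Lib.Helper8_Fi23States0
import Cfsg.Agent.Lib.Helper8_Fi23States1
import Cfsg.Agent.Lib.Helper8_Fi23States2
import Cfsg.Agent.Lib.Helper8_Fi23States3
import Cfsg.Agent.Lib.Helper8_Fi23States4
import Cfsg.Agent.Lib.Helper8_Fi23States5
import Cfsg.Agent.Lib.Helper8_Fi23States6
import Cfsg.Agent.Lib.Helper8_Fi23States7
import Cfsg.Agent.Lib.Helper8_Fi23States8
import Cfsg.Agent.Lib.Helper8_Fi23States9
import Cfsg.Agent.Lib.Helper8_Fi23States10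

set_option autoImplicit false
set_option Elab.async false

namespace Cfsg.Agent.H8Fi23

open Cfsg.Agent.H8CE

set_option maxRecDepth 1000000 in
theorem hwr136 : checkWordsR pt rels 11288 83 = true := by decide +kernel

set_option maxRecDepth 1000000 in
theorem hwr137 : checkWordsR pt rels 11371 83 = true := by decide +kernel

set_option maxRecDepth 1000000 in
theorem hwr138 : checkWordsR pt rels 11454 83 = true := by decide +kernel

set_option maxRecDepth 1000000 in
theorem hwr139 : checkWordsR pt rels 11537 83 = true := by decide +kernel

set_option maxRecDepth 1000000 in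
theorem hwr140 : checkWordsR pt rels 11620 83 = true := by decide +kernel

set_option maxRecDepth 1000000 in
theorem hwr141 : checkWordsR pt rels 11703 83 = true := by decide +kernel

set_option maxRecDepth 1000000 in
theorem hwr142 : checkWordsR pt rels 11786 83 = true := by decide +kernel

set_option maxRecDepth 1000000 in
theorem hwr143 : checkWordsR pt rels 11869 83 = true := by decide +kernel

set_option maxRecDepth 1000000 in
theorem hwr144 : checkWordsR pt rels 11952 83 = true := by decide +kernel

set_option maxRecDepth 1000000 in
theorem hwr145 : checkWordsR pt rels 12035 83 = true := by decide +kernel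

set_option maxRecDepth 1000000 in
theorem hwr146 : checkWordsR pt rels 12118 83 = true := by decide +kernel

set_option maxRecDepth 1000000 in
theorem hwr147 : checkWordsR pt rels 12201 83 = true := by decide +kernel

end Cfsg.Agent.H8Fi23
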