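import Cfsg.Agent.Lib.Helper8_Fi23Perm6
import Cfsg.Agent.Lib.Helper8_CosetBig2
import Cfsg.Agent.Lib.Helper8_Fi23Data
import Cfsg.Agent.Lib.Helper8_Fi23States0
import Cfsg.Agent.Lib.Helper8_Fi23States1
import Cfsg.Agent.Lib.Helper8_Fi23States2
import Cfsg.Agent.Lib.Helper8_Fi23States3
import Cfsg.Agent.Lib.Helper8_Fi23States4
import Cfsg.Agent.Lib.Helper8_Fi23States5
import Cfsg.Agent.Lib.Helper8_Fi23States6
import Cfsg.Agent.Lib.Helper8_Fi23States7
import Cfsg.Agent.Lib.Helper8_Fi23States8
import Cfsg.Agent.Lib.Helper8_Fi23States9
import Cfsg.Agent.Lib.Helper8_Fi23States10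

set_option autoImplicit false
set_option Elab.async false

namespace Cfsg.Agent.H8Fi23

open Cfsg.Agent.H8CE

set_option maxRecDepth 1000000 in
theorem hwr148 : checkWordsR pt rels 12284 83 = true := by decide +kernel

set_option maxRecDepth 1000000 in
theorem hwr149 : checkWordsR pt rels 12367 83 = true := by decide +kernel

set_option maxRecDepth 1000000 in
theorem hwr150 : checkWordsR pt rels 12450 83 = true := by decide +kernel

set_option maxRecDepth 1000000 in
theorem hwr151 : checkWordsR pt rels 12533 83 = true := by decide +kernel

set_option maxRecDepth 1000000 in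
theorem hwr152 : checkWordsR pt rels 12616 83 = true := by decide +kernel

set_option maxRecDepth 1000000 in
theorem hwr153 : checkWordsR pt rels 12699 83 = true := by decide +kernel

set_option maxRecDepth 1000000 in
theorem hwr154 : checkWordsR pt rels 12782 83 = true := by decide +kernel

set_option maxRecDepth 1000000 in
theorem hwr155 : checkWordsR pt rels 12865 83 = true := by decide +kernel

set_option maxRecDepth 1000000 in
theorem hwr156 : checkWordsR pt rels 12948 83 = true := by decide +kernel

set_option maxRecDepth 1000000 in
theorem hwr157 : checkWordsR pt rels 13031 83 = true := by decide +kernel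

set_option maxRecDepth 1000000 in
theorem hwr158 : checkWordsR pt rels 13114 83 = true := by decide +kernel

set_option maxRecDepth 1000000 in
theorem hwr159 : checkWordsR pt rels 13197 83 = true := by decide +kernel

end Cfsg.Agent.H8Fi23
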