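import Cfsg.Agent.Lib.Helper8_Fi23Perm7
import Cfsg.Agent.Lib.Helper8_CosetBig2
import Cfsg.Agent.Lib.Helper8_Fi23Data
import Cfsg.Agent.Lib.Helper8_Fi23States0
import Cfsg.Agent.Lib.Helper8_Fi23States1
import Cfsg.Agent.Lib.Helper8_Fi23States2
import Cfsg.Agent.Lib.Helper8_Fi23States3
import Cfsg.Agent.Lib.Helper8_Fi23States4
import Cfsg.Agent.Lib.Helper8_Fi23States5
import Cfsg.Agent.Lib.Helper8_Fi23States6
import Cfsg.Agent.Lib.Helper8_Fi23States7
import Cfsg.Agent.Lib.Helper8_Fi23States8
import Cfsg.Agent.Lib.Helper8_Fi23States9
import Cfsg.Agent.Lib.Helper8_Fi23States10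

set_option autoImplicit false
set_option Elab.async false

namespace Cfsg.Agent.H8Fi23

open Cfsg.Agent.H8CE

set_option maxRecDepth 1000000 in
theorem hwr160 : checkWordsR pt rels 13280 83 = true := by decide +kernel

set_option maxRecDepth 1000000 in
theorem hwr161 : checkWordsR pt rels 13363 83 = true := by decide +kernel

set_option maxRecDepth 1000000 in
theorem hwr162 : checkWordsR pt rels 13446 83 = true := by decide +kernel

set_option maxRecDepth 1000000 in
theorem hwr163 : checkWordsR pt rels 13529 83 = true := by decide +kernel

set_option maxRecDepth 1000000 in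
theorem hwr164 : checkWordsR pt rels 13612 83 = true := by decide +kernel

set_option maxRecDepth 1000000 in
theorem hwr165 : checkWordsR pt rels 13695 83 = true := by decide +kernel

set_option maxRecDepth 1000000 in
theorem hwr166 : checkWordsR pt rels 13778 83 = true := by decide +kernel

set_option maxRecDepth 1000000 in
theorem hwr167 : checkWordsR pt rels 13861 83 = true := by decide +kernel

set_option maxRecDepth 1000000 in
theorem hwr168 : checkWordsR pt rels 13944 83 = true := by decide +kernel

set_option maxRecDepth 1000000 in
theorem hwr169 : checkWordsR pt rels 14027 83 = true := by decide +kernel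

set_option maxRecDepth 1000000 in
theorem hwr170 : checkWordsR pt rels 14110 83 = true := by decide +kernel

set_option maxRecDepth 1000000 in
theorem hwr171 : checkWordsR pt rels 14193 83 = true := by decide +kernel

end Cfsg.Agent.H8Fi23
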