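import Cfsg.Agent.Lib.Helper8_Fi23Perm8
import Cfsg.Agent.Lib.Helper8_CosetBig2
import Cfsg.Agent.Lib.Helper8_Fi23Data
import Cfsg.Agent.Lib.Helper8_Fi23States0
import Cfsg.Agent.Lib.Helper8_Fi23States1
import Cfsg.Agent.Lib.Helper8_Fi23States2
import Cfsg.Agent.Lib.Helper8_Fi23States3
import Cfsg.Agent.Lib.Helper8_Fi23States4
import Cfsg.Agent.Lib.Helper8_Fi23States5
import Cfsg.Agent.Lib.Helper8_Fi23States6
import Cfsg.Agent.Lib.Helper8_Fi23States7
import Cfsg.Agent.Lib.Helper8_Fi23States8
import Cfsg.Agent.Lib.Helper8_Fi23States9
import Cfsg.Agent.Lib.Helper8_Fi23States10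

set_option autoImplicit false
set_option Elab.async false

namespace Cfsg.Agent.H8Fi23

open Cfsg.Agent.H8CE

set_option maxRecDepth 1000000 in
theorem hwr172 : checkWordsR pt rels 14276 83 = true := by decide +kernel

set_option maxRecDepth 1000000 in
theorem hwr173 : checkWordsR pt rels 14359 83 = true := by decide +kernel

set_option maxRecDepth 1000000 in
theorem hwr174 : checkWordsR pt rels 14442 83 = true := by decide +kernel

set_option maxRecDepth 1000000 in
theorem hwr175 : checkWordsR pt rels 14525 83 = true := by decide +kernel

set_option maxRecDepth 1000000 in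
theorem hwr176 : checkWordsR pt rels 14608 83 = true := by decide +kernel

set_option maxRecDepth 1000000 in
theorem hwr177 : checkWordsR pt rels 14691 83 = true := by decide +kernel

set_option maxRecDepth 1000000 in
theorem hwr178 : checkWordsR pt rels 14774 83 = true := by decide +kernel

set_option maxRecDepth 1000000 in
theorem hwr179 : checkWordsR pt rels 14857 83 = true := by decide +kernel

set_option maxRecDepth 1000000 in
theorem hwr180 : checkWordsR pt rels 14940 83 = true := by decide +kernel

set_option maxRecDepth 1000000 in
theorem hwr181 : checkWordsR pt rels 15023 83 = true := by decide +kernel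

set_option maxRecDepth 1000000 in
theorem hwr182 : checkWordsR pt rels 15106 83 = true := by decide +kernel

set_option maxRecDepth 1000000 in
theorem hwr183 : checkWordsR pt rels 15189 83 = true := by decide +kernel

end Cfsg.Agent.H8Fi23
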