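import Cfsg.Agent.Lib.Helper8_Fi23Perm9
import Cfsg.Agent.Lib.Helper8_CosetBig2
import Cfsg.Agent.Lib.Helper8_Fi23Data
import Cfsg.Agent.Lib.Helper8_Fi23States0
import Cfsg.Agent.Lib.Helper8_Fi23States1
import Cfsg.Agent.Lib.Helper8_Fi23States2
import Cfsg.Agent.Lib.Helper8_Fi23States3
import Cfsg.Agent.Lib.Helper8_Fi23States4
import Cfsg.Agent.Lib.Helper8_Fi23States5
import Cfsg.Agent.Lib.Helper8_Fi23States6
import Cfsg.Agent.Lib.Helper8_Fi23States7
import Cfsg.Agent.Lib.Helper8_Fi23States8
import Cfsg.Agent.Lib.Helper8_Fi23States9
import Cfsg.Agent.Lib.Helper8_Fi23States10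

set_option autoImplicit false
set_option Elab.async false

namespace Cfsg.Agent.H8Fi23

open Cfsg.Agent.H8CE

set_option maxRecDepth 1000000 in
theorem hwr184 : checkWordsR pt rels 15272 83 = true := by decide +kernel

set_option maxRecDepth 1000000 in
theorem hwr185 : checkWordsR pt rels 15355 83 = true := by decide +kernel

set_option maxRecDepth 1000000 in
theorem hwr186 : checkWordsR pt rels 15438 83 = true := by decide +kernel

set_option maxRecDepth 1000000 in
theorem hwr187 : checkWordsR pt rels 15521 83 = true := by decide +kernel

set_option maxRecDepth 1000000 in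
theorem hwr188 : checkWordsR pt rels 15604 83 = true := by decide +kernel

set_option maxRecDepth 1000000 in
theorem hwr189 : checkWordsR pt rels 15687 83 = true := by decide +kernel

set_option maxRecDepth 1000000 in
theorem hwr190 : checkWordsR pt rels 15770 83 = true := by decide +kernel

set_option maxRecDepth 1000000 in
theorem hwr191 : checkWordsR pt rels 15853 83 = true := by decide +kernel

set_option maxRecDepth 1000000 in
theorem hwr192 : checkWordsR pt rels 15936 83 = true := by decide +kernel

set_option maxRecDepth 1000000 in
theorem hwr193 : checkWordsR pt rels 16019 83 = true := by decide +kernel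

set_option maxRecDepth 1000000 in
theorem hwr194 : checkWordsR pt rels 16102 83 = true := by decide +kernel

set_option maxRecDepth 1000000 in
theorem hwr195 : checkWordsR pt rels 16185 83 = true := by decide +kernel

end Cfsg.Agent.H8Fi23
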