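import Cfsg.Agent.Lib.Helper8_Fi23Perm10
import Cfsg.Agent.Lib.Helper8_CosetBig2
import Cfsg.Agent.Lib.Helper8_Fi23Data
import Cfsg.Agent.Lib.Helper8_Fi23States0
import Cfsg.Agent.Lib.Helper8_Fi23States1
import Cfsg.Agent.Lib.Helper8_Fi23States2
import Cfsg.Agent.Lib.Helper8_Fi23States3
import Cfsg.Agent.Lib.Helper8_Fi23States4
import Cfsg.Agent.Lib.Helper8_Fi23States5
import Cfsg.Agent.Lib.Helper8_Fi23States6
import Cfsg.Agent.Lib.Helper8_Fi23States7
import Cfsg.Agent.Lib.Helper8_Fi23States8
import Cfsg.Agent.Lib.Helper8_Fi23States9
import Cfsg.Agent.Lib.Helper8_Fi23States10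

set_option autoImplicit false
set_option Elab.async false

namespace Cfsg.Agent.H8Fi23

open Cfsg.Agent.H8CE

set_option maxRecDepth 1000000 in
theorem hwr196 : checkWordsR pt rels 16268 83 = true := by decide +kernel

set_option maxRecDepth 1000000 in
theorem hwr197 : checkWordsR pt rels 16351 83 = true := by decide +kernel

set_option maxRecDepth 1000000 in
theorem hwr198 : checkWordsR pt rels 16434 83 = true := by decide +kernel

set_option maxRecDepth 1000000 in
theorem hwr199 : checkWordsR pt rels 16517 83 = true := by decide +kernel

set_option maxRecDepth 1000000 in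
theorem hwr200 : checkWordsR pt rels 16600 83 = true := by decide +kernel

set_option maxRecDepth 1000000 in
theorem hwr201 : checkWordsR pt rels 16683 83 = true := by decide +kernel

set_option maxRecDepth 1000000 in
theorem hwr202 : checkWordsR pt rels 16766 83 = true := by decide +kernel

set_option maxRecDepth 1000000 in
theorem hwr203 : checkWordsR pt rels 16849 83 = true := by decide +kernel

set_option maxRecDepth 1000000 in
theorem hwr204 : checkWordsR pt rels 16932 83 = true := by decide +kernel

set_option maxRecDepth 1000000 in
theorem hwr205 : checkWordsR pt rels 17015 83 = true := by decide +kernel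

set_option maxRecDepth 1000000 in
theorem hwr206 : checkWordsR pt rels 17098 83 = true := by decide +kernel

set_option maxRecDepth 1000000 in
theorem hwr207 : checkWordsR pt rels 17181 83 = true := by decide +kernel

end Cfsg.Agent.H8Fi23
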