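import Cfsg.Agent.Lib.Helper8_Fi23Perm11
import Cfsg.Agent.Lib.Helper8_CosetBig2
import Cfsg.Agent.Lib.Helper8_Fi23Data
import Cfsg.Agent.Lib.Helper8_Fi23States0
import Cfsg.Agent.Lib.Helper8_Fi23States1
import Cfsg.Agent.Lib.Helper8_Fi23States2
import Cfsg.Agent.Lib.Helper8_Fi23States3
import Cfsg.Agent.Lib.Helper8_Fi23States4
import Cfsg.Agent.Lib.Helper8_Fi23States5
import Cfsg.Agent.Lib.Helper8_Fi23States6
import Cfsg.Agent.Lib.Helper8_Fi23States7
import Cfsg.Agent.Lib.Helper8_Fi23States8
import Cfsg.Agent.Lib.Helper8_Fi23States9
import Cfsg.Agent.Lib.Helper8_Fi23States10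

set_option autoImplicit false
set_option Elab.async false

namespace Cfsg.Agent.H8Fi23

open Cfsg.Agent.H8CE

set_option maxRecDepth 1000000 in
theorem hwr208 : checkWordsR pt rels 17264 83 = true := by decide +kernel

set_option maxRecDepth 1000000 in
theorem hwr209 : checkWordsR pt rels 17347 83 = true := by decide +kernel

set_option maxRecDepth 1000000 in
theorem hwr210 : checkWordsR pt rels 17430 83 = true := by decide +kernel

set_option maxRecDepth 1000000 in
theorem hwr211 : checkWordsR pt rels 17513 83 = true := by decide +kernel

set_option maxRecDepth 1000000 in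
theorem hwr212 : checkWordsR pt rels 17596 83 = true := by decide +kernel

set_option maxRecDepth 1000000 in
theorem hwr213 : checkWordsR pt rels 17679 83 = true := by decide +kernel

set_option maxRecDepth 1000000 in
theorem hwr214 : checkWordsR pt rels 17762 83 = true := by decide +kernel

set_option maxRecDepth 1000000 in
theorem hwr215 : checkWordsR pt rels 17845 83 = true := by decide +kernel

set_option maxRecDepth 1000000 in
theorem hwr216 : checkWordsR pt rels 17928 83 = true := by decide +kernel

set_option maxRecDepth 1000000 in
theorem hwr217 : checkWordsR pt rels 18011 83 = true := by decide +kernel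

set_option maxRecDepth 1000000 in
theorem hwr218 : checkWordsR pt rels 18094 83 = true := by decide +kernel

set_option maxRecDepth 1000000 in
theorem hwr219 : checkWordsR pt rels 18177 83 = true := by decide +kernel

end Cfsg.Agent.H8Fi23
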