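import Cfsg.Agent.Lib.Helper8_CosetBig2
import Cfsg.Agent.Lib.Helper8_Fi23Data
import Cfsg.Agent.Lib.Helper8_Fi23States0
import Cfsg.Agent.Lib.Helper8_Fi23States1
import Cfsg.Agent.Lib.Helper8_Fi23States2
import Cfsg.Agent.Lib.Helper8_Fi23States3
import Cfsg.Agent.Lib.Helper8_Fi23States4
import Cfsg.Agent.Lib.Helper8_Fi23States5
import Cfsg.Agent.Lib.Helper8_Fi23States6
import Cfsg.Agent.Lib.Helper8_Fi23States7
import Cfsg.Agent.Lib.Helper8_Fi23States8
import Cfsg.Agent.Lib.Helper8_Fi23States9
import Cfsg.Agent.Lib.Helper8_Fi23States10

set_option autoImplicit false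
set_option Elab.async false

namespace Cfsg.Agent.H8Fi23

open Cfsg.Agent.H8CE

set_option maxRecDepth 1000000 in
theorem hwr4 : checkWordsR pt rels 332 83 = true := by decide +kernel

set_option maxRecDepth 1000000 in
theorem hwr5 : checkWordsR pt rels 415 83 = true := by decide +kernel

set_option maxRecDepth 1000000 in
theorem hwr6 : checkWordsR pt rels 498 83 = true := by decide +kernel

set_option maxRecDepth 1000000 in
theorem hwr7 : checkWordsR pt rels 581 83 = true := by decide +kernel

set_option maxRecDepth 1000000 in
theorem hwr8 : checkWordsR pt rels 664 83 = true := by decide +kernel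

set_option maxRecDepth 1000000 in
theorem hwr9 : checkWordsR pt rels 747 83 = true := by decide +kernel

set_option maxRecDepth 1000000 in
theorem hwr10 : checkWordsR pt rels 830 83 = true := by decide +kernel

set_option maxRecDepth 1000000 in
theorem hwr11 : checkWordsR pt rels 913 83 = true := by decide +kernel

set_option maxRecDepth 1000000 in
theorem hwr12 : checkWordsR pt rels 996 83 = true := by decide +kernel

set_option maxRecDepth 1000000 in
theorem hwr13 : checkWordsR pt rels 1079 83 = true := by decide +kernel

set_option maxRecDepth 1000000 in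
theorem hwr14 : checkWordsR pt rels 1162 83 = true := by decide +kernel

set_option maxRecDepth 1000000 in
theorem hwr15 : checkWordsR pt rels 1245 83 = true := by decide +kernel

end Cfsg.Agent.H8Fi23
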