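import Cfsg.Agent.Lib.Helper8_Fi23Perm12
import Cfsg.Agent.Lib.Helper8_CosetBig2
import Cfsg.Agent.Lib.Helper8_Fi23Data
import Cfsg.Agent.Lib.Helper8_Fi23States0
import Cfsg.Agent.Lib.Helper8_Fi23States1
import Cfsg.Agent.Lib.Helper8_Fi23States2
import Cfsg.Agent.Lib.Helper8_Fi23States3
import Cfsg.Agent.Lib.Helper8_Fi23States4
import Cfsg.Agent.Lib.Helper8_Fi23States5
import Cfsg.Agent.Lib.Helper8_Fi23States6
import Cfsg.Agent.Lib.Helper8_Fi23States7
import Cfsg.Agent.Lib.Helper8_Fi23States8
import Cfsg.Agent.Lib.Helper8_Fi23States9
import Cfsg.Agent.Lib.Helper8_Fi23States10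

set_option autoImplicit false
set_option Elab.async false

namespace Cfsg.Agent.H8Fi23

open Cfsg.Agent.H8CE

set_option maxRecDepth 1000000 in
theorem hwr220 : checkWordsR pt rels 18260 83 = true := by decide +kernel

set_option maxRecDepth 1000000 in
theorem hwr221 : checkWordsR pt rels 18343 83 = true := by decide +kernel

set_option maxRecDepth 1000000 in
theorem hwr222 : checkWordsR pt rels 18426 83 = true := by decide +kernel

set_option maxRecDepth 1000000 in
theorem hwr223 : checkWordsR pt rels 18509 83 = true := by decide +kernel

set_option maxRecDepth 1000000 in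
theorem hwr224 : checkWordsR pt rels 18592 83 = true := by decide +kernel

set_option maxRecDepth 1000000 in
theorem hwr225 : checkWordsR pt rels 18675 83 = true := by decide +kernel

set_option maxRecDepth 1000000 in
theorem hwr226 : checkWordsR pt rels 18758 83 = true := by decide +kernel

set_option maxRecDepth 1000000 in
theorem hwr227 : checkWordsR pt rels 18841 83 = true := by decide +kernel

set_option maxRecDepth 1000000 in
theorem hwr228 : checkWordsR pt rels 18924 83 = true := by decide +kernel

set_option maxRecDepth 1000000 in
theorem hwr229 : checkWordsR pt rels 19007 83 = true := by decide +kernel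

set_option maxRecDepth 1000000 in
theorem hwr230 : checkWordsR pt rels 19090 83 = true := by decide +kernel

set_option maxRecDepth 1000000 in
theorem hwr231 : checkWordsR pt rels 19173 83 = true := by decide +kernel

end Cfsg.Agent.H8Fi23
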