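import Cfsg.Agent.Lib.Helper8_Fi23Perm13
import Cfsg.Agent.Lib.Helper8_CosetBig2
import Cfsg.Agent.Lib.Helper8_Fi23Data
import Cfsg.Agent.Lib.Helper8_Fi23States0
import Cfsg.Agent.Lib.Helper8_Fi23States1
import Cfsg.Agent.Lib.Helper8_Fi23States2
import Cfsg.Agent.Lib.Helper8_Fi23States3
import Cfsg.Agent.Lib.Helper8_Fi23States4
import Cfsg.Agent.Lib.Helper8_Fi23States5
import Cfsg.Agent.Lib.Helper8_Fi23States6
import Cfsg.Agent.Lib.Helper8_Fi23States7
import Cfsg.Agent.Lib.Helper8_Fi23States8
import Cfsg.Agent.Lib.Helper8_Fi23States9
import Cfsg.Agent.Lib.Helper8_Fi23States10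

set_option autoImplicit false
set_option Elab.async false

namespace Cfsg.Agent.H8Fi23

open Cfsg.Agent.H8CE

set_option maxRecDepth 1000000 in
theorem hwr232 : checkWordsR pt rels 19256 83 = true := by decide +kernel

set_option maxRecDepth 1000000 in
theorem hwr233 : checkWordsR pt rels 19339 83 = true := by decide +kernel

set_option maxRecDepth 1000000 in
theorem hwr234 : checkWordsR pt rels 19422 83 = true := by decide +kernel

set_option maxRecDepth 1000000 in
theorem hwr235 : checkWordsR pt rels 19505 83 = true := by decide +kernel

set_option maxRecDepth 1000000 in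
theorem hwr236 : checkWordsR pt rels 19588 83 = true := by decide +kernel

set_option maxRecDepth 1000000 in
theorem hwr237 : checkWordsR pt rels 19671 83 = true := by decide +kernel

set_option maxRecDepth 1000000 in
theorem hwr238 : checkWordsR pt rels 19754 83 = true := by decide +kernel

set_option maxRecDepth 1000000 in
theorem hwr239 : checkWordsR pt rels 19837 83 = true := by decide +kernel

set_option maxRecDepth 1000000 in
theorem hwr240 : checkWordsR pt rels 19920 83 = true := by decide +kernel

set_option maxRecDepth 1000000 in
theorem hwr241 : checkWordsR pt rels 20003 83 = true := by decide +kernel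

set_option maxRecDepth 1000000 in
theorem hwr242 : checkWordsR pt rels 20086 83 = true := by decide +kernel

set_option maxRecDepth 1000000 in
theorem hwr243 : checkWordsR pt rels 20169 83 = true := by decide +kernel

end Cfsg.Agent.H8Fi23
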