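import Cfsg.Agent.Lib.Helper8_Fi23Perm14
import Cfsg.Agent.Lib.Helper8_CosetBig2
import Cfsg.Agent.Lib.Helper8_Fi23Data
import Cfsg.Agent.Lib.Helper8_Fi23States0
import Cfsg.Agent.Lib.Helper8_Fi23States1
import Cfsg.Agent.Lib.Helper8_Fi23States2
import Cfsg.Agent.Lib.Helper8_Fi23States3
import Cfsg.Agent.Lib.Helper8_Fi23States4
import Cfsg.Agent.Lib.Helper8_Fi23States5
import Cfsg.Agent.Lib.Helper8_Fi23States6
import Cfsg.Agent.Lib.Helper8_Fi23States7
import Cfsg.Agent.Lib.Helper8_Fi23States8
import Cfsg.Agent.Lib.Helper8_Fi23States9
import Cfsg.Agent.Lib.Helper8_Fi23States10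

set_option autoImplicit false
set_option Elab.async false

namespace Cfsg.Agent.H8Fi23

open Cfsg.Agent.H8CE

set_option maxRecDepth 1000000 in
theorem hwr244 : checkWordsR pt rels 20252 83 = true := by decide +kernel

set_option maxRecDepth 1000000 in
theorem hwr245 : checkWordsR pt rels 20335 83 = true := by decide +kernel

set_option maxRecDepth 1000000 in
theorem hwr246 : checkWordsR pt rels 20418 83 = true := by decide +kernel

set_option maxRecDepth 1000000 in
theorem hwr247 : checkWordsR pt rels 20501 83 = true := by decide +kernel

set_option maxRecDepth 1000000 in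
theorem hwr248 : checkWordsR pt rels 20584 83 = true := by decide +kernel

set_option maxRecDepth 1000000 in
theorem hwr249 : checkWordsR pt rels 20667 83 = true := by decide +kernel

set_option maxRecDepth 1000000 in
theorem hwr250 : checkWordsR pt rels 20750 83 = true := by decide +kernel

set_option maxRecDepth 1000000 in
theorem hwr251 : checkWordsR pt rels 20833 83 = true := by decide +kernel

set_option maxRecDepth 1000000 in
theorem hwr252 : checkWordsR pt rels 20916 83 = true := by decide +kernel

set_option maxRecDepth 1000000 in
theorem hwr253 : checkWordsR pt rels 20999 83 = true := by decide +kernel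

set_option maxRecDepth 1000000 in
theorem hwr254 : checkWordsR pt rels 21082 83 = true := by decide +kernel

set_option maxRecDepth 1000000 in
theorem hwr255 : checkWordsR pt rels 21165 83 = true := by decide +kernel

end Cfsg.Agent.H8Fi23
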