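import Cfsg.Agent.Lib.Helper8_Fi23Perm15
import Cfsg.Agent.Lib.Helper8_CosetBig2
import Cfsg.Agent.Lib.Helper8_Fi23Data
import Cfsg.Agent.Lib.Helper8_Fi23States0
import Cfsg.Agent.Lib.Helper8_Fi23States1
import Cfsg.Agent.Lib.Helper8_Fi23States2
import Cfsg.Agent.Lib.Helper8_Fi23States3
import Cfsg.Agent.Lib.Helper8_Fi23States4
import Cfsg.Agent.Lib.Helper8_Fi23States5
import Cfsg.Agent.Lib.Helper8_Fi23States6
import Cfsg.Agent.Lib.Helper8_Fi23States7
import Cfsg.Agent.Lib.Helper8_Fi23States8
import Cfsg.Agent.Lib.Helper8_Fi23States9
import Cfsg.Agent.Lib.Helper8_Fi23States10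

set_option autoImplicit false
set_option Elab.async false

namespace Cfsg.Agent.H8Fi23

open Cfsg.Agent.H8CE

set_option maxRecDepth 1000000 in
theorem hwr256 : checkWordsR pt rels 21248 83 = true := by decide +kernel

set_option maxRecDepth 1000000 in
theorem hwr257 : checkWordsR pt rels 21331 83 = true := by decide +kernel

set_option maxRecDepth 1000000 in
theorem hwr258 : checkWordsR pt rels 21414 83 = true := by decide +kernel

set_option maxRecDepth 1000000 in
theorem hwr259 : checkWordsR pt rels 21497 83 = true := by decide +kernel

set_option maxRecDepth 1000000 in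
theorem hwr260 : checkWordsR pt rels 21580 83 = true := by decide +kernel

set_option maxRecDepth 1000000 in
theorem hwr261 : checkWordsR pt rels 21663 83 = true := by decide +kernel

set_option maxRecDepth 1000000 in
theorem hwr262 : checkWordsR pt rels 21746 83 = true := by decide +kernel

set_option maxRecDepth 1000000 in
theorem hwr263 : checkWordsR pt rels 21829 83 = true := by decide +kernel

set_option maxRecDepth 1000000 in
theorem hwr264 : checkWordsR pt rels 21912 83 = true := by decide +kernel

set_option maxRecDepth 1000000 in
theorem hwr265 : checkWordsR pt rels 21995 83 = true := by decide +kernel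

set_option maxRecDepth 1000000 in
theorem hwr266 : checkWordsR pt rels 22078 83 = true := by decide +kernel

set_option maxRecDepth 1000000 in
theorem hwr267 : checkWordsR pt rels 22161 83 = true := by decide +kernel

end Cfsg.Agent.H8Fi23
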