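import Cfsg.Agent.Lib.Helper8_Fi23Perm16
import Cfsg.Agent.Lib.Helper8_CosetBig2
import Cfsg.Agent.Lib.Helper8_Fi23Data
import Cfsg.Agent.Lib.Helper8_Fi23States0
import Cfsg.Agent.Lib.Helper8_Fi23States1
import Cfsg.Agent.Lib.Helper8_Fi23States2
import Cfsg.Agent.Lib.Helper8_Fi23States3
import Cfsg.Agent.Lib.Helper8_Fi23States4
import Cfsg.Agent.Lib.Helper8_Fi23States5
import Cfsg.Agent.Lib.Helper8_Fi23States6
import Cfsg.Agent.Lib.Helper8_Fi23States7
import Cfsg.Agent.Lib.Helper8_Fi23States8
import Cfsg.Agent.Lib.Helper8_Fi23States9
import Cfsg.Agent.Lib.Helper8_Fi23States10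

set_option autoImplicit false
set_option Elab.async false

namespace Cfsg.Agent.H8Fi23

open Cfsg.Agent.H8CE

set_option maxRecDepth 1000000 in
theorem hwr268 : checkWordsR pt rels 22244 83 = true := by decide +kernel

set_option maxRecDepth 1000000 in
theorem hwr269 : checkWordsR pt rels 22327 83 = true := by decide +kernel

set_option maxRecDepth 1000000 in
theorem hwr270 : checkWordsR pt rels 22410 83 = true := by decide +kernel

set_option maxRecDepth 1000000 in
theorem hwr271 : checkWordsR pt rels 22493 83 = true := by decide +kernel

set_option maxRecDepth 1000000 in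
theorem hwr272 : checkWordsR pt rels 22576 83 = true := by decide +kernel

set_option maxRecDepth 1000000 in
theorem hwr273 : checkWordsR pt rels 22659 83 = true := by decide +kernel

set_option maxRecDepth 1000000 in
theorem hwr274 : checkWordsR pt rels 22742 83 = true := by decide +kernel

set_option maxRecDepth 1000000 in
theorem hwr275 : checkWordsR pt rels 22825 83 = true := by decide +kernel

set_option maxRecDepth 1000000 in
theorem hwr276 : checkWordsR pt rels 22908 83 = true := by decide +kernel

set_option maxRecDepth 1000000 in
theorem hwr277 : checkWordsR pt rels 22991 83 = true := by decide +kernel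

set_option maxRecDepth 1000000 in
theorem hwr278 : checkWordsR pt rels 23074 83 = true := by decide +kernel

set_option maxRecDepth 1000000 in
theorem hwr279 : checkWordsR pt rels 23157 83 = true := by decide +kernel

end Cfsg.Agent.H8Fi23
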