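import Cfsg.Agent.Lib.Helper8_Fi23Perm17
import Cfsg.Agent.Lib.Helper8_CosetBig2
import Cfsg.Agent.Lib.Helper8_Fi23Data
import Cfsg.Agent.Lib.Helper8_Fi23States0
import Cfsg.Agent.Lib.Helper8_Fi23States1
import Cfsg.Agent.Lib.Helper8_Fi23States2
import Cfsg.Agent.Lib.Helper8_Fi23States3
import Cfsg.Agent.Lib.Helper8_Fi23States4
import Cfsg.Agent.Lib.Helper8_Fi23States5
import Cfsg.Agent.Lib.Helper8_Fi23States6
import Cfsg.Agent.Lib.Helper8_Fi23States7
import Cfsg.Agent.Lib.Helper8_Fi23States8
import Cfsg.Agent.Lib.Helper8_Fi23States9
import Cfsg.Agent.Lib.Helper8_Fi23States10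

set_option autoImplicit false
set_option Elab.async false

namespace Cfsg.Agent.H8Fi23

open Cfsg.Agent.H8CE

set_option maxRecDepth 1000000 in
theorem hwr280 : checkWordsR pt rels 23240 83 = true := by decide +kernel

set_option maxRecDepth 1000000 in
theorem hwr281 : checkWordsR pt rels 23323 83 = true := by decide +kernel

set_option maxRecDepth 1000000 in
theorem hwr282 : checkWordsR pt rels 23406 83 = true := by decide +kernel

set_option maxRecDepth 1000000 in
theorem hwr283 : checkWordsR pt rels 23489 83 = true := by decide +kernel

set_option maxRecDepth 1000000 in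
theorem hwr284 : checkWordsR pt rels 23572 83 = true := by decide +kernel

set_option maxRecDepth 1000000 in
theorem hwr285 : checkWordsR pt rels 23655 83 = true := by decide +kernel

set_option maxRecDepth 1000000 in
theorem hwr286 : checkWordsR pt rels 23738 83 = true := by decide +kernel

set_option maxRecDepth 1000000 in
theorem hwr287 : checkWordsR pt rels 23821 83 = true := by decide +kernel

set_option maxRecDepth 1000000 in
theorem hwr288 : checkWordsR pt rels 23904 83 = true := by decide +kernel

set_option maxRecDepth 1000000 in
theorem hwr289 : checkWordsR pt rels 23987 83 = true := by decide +kernel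

set_option maxRecDepth 1000000 in
theorem hwr290 : checkWordsR pt rels 24070 83 = true := by decide +kernel

set_option maxRecDepth 1000000 in
theorem hwr291 : checkWordsR pt rels 24153 83 = true := by decide +kernel

end Cfsg.Agent.H8Fi23
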