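import Cfsg.Agent.Lib.Helper8_Fi23Perm18
import Cfsg.Agent.Lib.Helper8_CosetBig2
import Cfsg.Agent.Lib.Helper8_Fi23Data
import Cfsg.Agent.Lib.Helper8_Fi23States0
import Cfsg.Agent.Lib.Helper8_Fi23States1
import Cfsg.Agent.Lib.Helper8_Fi23States2
import Cfsg.Agent.Lib.Helper8_Fi23States3
import Cfsg.Agent.Lib.Helper8_Fi23States4
import Cfsg.Agent.Lib.Helper8_Fi23States5
import Cfsg.Agent.Lib.Helper8_Fi23States6
import Cfsg.Agent.Lib.Helper8_Fi23States7
import Cfsg.Agent.Lib.Helper8_Fi23States8
import Cfsg.Agent.Lib.Helper8_Fi23States9
import Cfsg.Agent.Lib.Helper8_Fi23States10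

set_option autoImplicit false
set_option Elab.async false

namespace Cfsg.Agent.H8Fi23

open Cfsg.Agent.H8CE

set_option maxRecDepth 1000000 in
theorem hwr292 : checkWordsR pt rels 24236 83 = true := by decide +kernel

set_option maxRecDepth 1000000 in
theorem hwr293 : checkWordsR pt rels 24319 83 = true := by decide +kernel

set_option maxRecDepth 1000000 in
theorem hwr294 : checkWordsR pt rels 24402 83 = true := by decide +kernel

set_option maxRecDepth 1000000 in
theorem hwr295 : checkWordsR pt rels 24485 83 = true := by decide +kernel

set_option maxRecDepth 1000000 in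
theorem hwr296 : checkWordsR pt rels 24568 83 = true := by decide +kernel

set_option maxRecDepth 1000000 in
theorem hwr297 : checkWordsR pt rels 24651 83 = true := by decide +kernel

set_option maxRecDepth 1000000 in
theorem hwr298 : checkWordsR pt rels 24734 83 = true := by decide +kernel

set_option maxRecDepth 1000000 in
theorem hwr299 : checkWordsR pt rels 24817 83 = true := by decide +kernel

set_option maxRecDepth 1000000 in
theorem hwr300 : checkWordsR pt rels 24900 83 = true := by decide +kernel

set_option maxRecDepth 1000000 in
theorem hwr301 : checkWordsR pt rels 24983 83 = true := by decide +kernel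

set_option maxRecDepth 1000000 in
theorem hwr302 : checkWordsR pt rels 25066 83 = true := by decide +kernel

set_option maxRecDepth 1000000 in
theorem hwr303 : checkWordsR pt rels 25149 83 = true := by decide +kernel

end Cfsg.Agent.H8Fi23
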