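import Cfsg.Agent.Lib.Helper8_Fi23Perm19
import Cfsg.Agent.Lib.Helper8_CosetBig2
import Cfsg.Agent.Lib.Helper8_Fi23Data
import Cfsg.Agent.Lib.Helper8_Fi23States0
import Cfsg.Agent.Lib.Helper8_Fi23States1
import Cfsg.Agent.Lib.Helper8_Fi23States2
import Cfsg.Agent.Lib.Helper8_Fi23States3
import Cfsg.Agent.Lib.Helper8_Fi23States4
import Cfsg.Agent.Lib.Helper8_Fi23States5
import Cfsg.Agent.Lib.Helper8_Fi23States6
import Cfsg.Agent.Lib.Helper8_Fi23States7
import Cfsg.Agent.Lib.Helper8_Fi23States8
import Cfsg.Agent.Lib.Helper8_Fi23States9
import Cfsg.Agent.Lib.Helper8_Fi23States10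

set_option autoImplicit false
set_option Elab.async false

namespace Cfsg.Agent.H8Fi23

open Cfsg.Agent.H8CE

set_option maxRecDepth 1000000 in
theorem hwr304 : checkWordsR pt rels 25232 83 = true := by decide +kernel

set_option maxRecDepth 1000000 in
theorem hwr305 : checkWordsR pt rels 25315 83 = true := by decide +kernel

set_option maxRecDepth 1000000 in
theorem hwr306 : checkWordsR pt rels 25398 83 = true := by decide +kernel

set_option maxRecDepth 1000000 in
theorem hwr307 : checkWordsR pt rels 25481 83 = true := by decide +kernel

set_option maxRecDepth 1000000 in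
theorem hwr308 : checkWordsR pt rels 25564 83 = true := by decide +kernel

set_option maxRecDepth 1000000 in
theorem hwr309 : checkWordsR pt rels 25647 83 = true := by decide +kernel

set_option maxRecDepth 1000000 in
theorem hwr310 : checkWordsR pt rels 25730 83 = true := by decide +kernel

set_option maxRecDepth 1000000 in
theorem hwr311 : checkWordsR pt rels 25813 83 = true := by decide +kernel

set_option maxRecDepth 1000000 in
theorem hwr312 : checkWordsR pt rels 25896 83 = true := by decide +kernel

set_option maxRecDepth 1000000 in
theorem hwr313 : checkWordsR pt rels 25979 83 = true := by decide +kernel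

set_option maxRecDepth 1000000 in
theorem hwr314 : checkWordsR pt rels 26062 83 = true := by decide +kernel

set_option maxRecDepth 1000000 in
theorem hwr315 : checkWordsR pt rels 26145 83 = true := by decide +kernel

end Cfsg.Agent.H8Fi23
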