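import Cfsg.Agent.Lib.Helper8_Fi23Perm20
import Cfsg.Agent.Lib.Helper8_CosetBig2
import Cfsg.Agent.Lib.Helper8_Fi23Data
import Cfsg.Agent.Lib.Helper8_Fi23States0
import Cfsg.Agent.Lib.Helper8_Fi23States1
import Cfsg.Agent.Lib.Helper8_Fi23States2
import Cfsg.Agent.Lib.Helper8_Fi23States3
import Cfsg.Agent.Lib.Helper8_Fi23States4
import Cfsg.Agent.Lib.Helper8_Fi23States5
import Cfsg.Agent.Lib.Helper8_Fi23States6
import Cfsg.Agent.Lib.Helper8_Fi23States7
import Cfsg.Agent.Lib.Helper8_Fi23States8
import Cfsg.Agent.Lib.Helper8_Fi23States9
import Cfsg.Agent.Lib.Helper8_Fi23States10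

set_option autoImplicit false
set_option Elab.async false

namespace Cfsg.Agent.H8Fi23

open Cfsg.Agent.H8CE

set_option maxRecDepth 1000000 in
theorem hwr316 : checkWordsR pt rels 26228 83 = true := by decide +kernel

set_option maxRecDepth 1000000 in
theorem hwr317 : checkWordsR pt rels 26311 83 = true := by decide +kernel

set_option maxRecDepth 1000000 in
theorem hwr318 : checkWordsR pt rels 26394 83 = true := by decide +kernel

set_option maxRecDepth 1000000 in
theorem hwr319 : checkWordsR pt rels 26477 83 = true := by decide +kernel

set_option maxRecDepth 1000000 in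
theorem hwr320 : checkWordsR pt rels 26560 83 = true := by decide +kernel

set_option maxRecDepth 1000000 in
theorem hwr321 : checkWordsR pt rels 26643 83 = true := by decide +kernel

set_option maxRecDepth 1000000 in
theorem hwr322 : checkWordsR pt rels 26726 83 = true := by decide +kernel

set_option maxRecDepth 1000000 in
theorem hwr323 : checkWordsR pt rels 26809 83 = true := by decide +kernel

set_option maxRecDepth 1000000 in
theorem hwr324 : checkWordsR pt rels 26892 83 = true := by decide +kernel

set_option maxRecDepth 1000000 in
theorem hwr325 : checkWordsR pt rels 26975 83 = true := by decide +kernel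

set_option maxRecDepth 1000000 in
theorem hwr326 : checkWordsR pt rels 27058 83 = true := by decide +kernel

set_option maxRecDepth 1000000 in
theorem hwr327 : checkWordsR pt rels 27141 83 = true := by decide +kernel

end Cfsg.Agent.H8Fi23
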