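import Cfsg.Agent.Lib.Helper8_Fi23Perm21
import Cfsg.Agent.Lib.Helper8_CosetBig2
import Cfsg.Agent.Lib.Helper8_Fi23Data
import Cfsg.Agent.Lib.Helper8_Fi23States0
import Cfsg.Agent.Lib.Helper8_Fi23States1
import Cfsg.Agent.Lib.Helper8_Fi23States2
import Cfsg.Agent.Lib.Helper8_Fi23States3
import Cfsg.Agent.Lib.Helper8_Fi23States4
import Cfsg.Agent.Lib.Helper8_Fi23States5
import Cfsg.Agent.Lib.Helper8_Fi23States6
import Cfsg.Agent.Lib.Helper8_Fi23States7
import Cfsg.Agent.Lib.Helper8_Fi23States8
import Cfsg.Agent.Lib.Helper8_Fi23States9
import Cfsg.Agent.Lib.Helper8_Fi23States10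

set_option autoImplicit false
set_option Elab.async false

namespace Cfsg.Agent.H8Fi23

open Cfsg.Agent.H8CE

set_option maxRecDepth 1000000 in
theorem hwr328 : checkWordsR pt rels 27224 83 = true := by decide +kernel

set_option maxRecDepth 1000000 in
theorem hwr329 : checkWordsR pt rels 27307 83 = true := by decide +kernel

set_option maxRecDepth 1000000 in
theorem hwr330 : checkWordsR pt rels 27390 83 = true := by decide +kernel

set_option maxRecDepth 1000000 in
theorem hwr331 : checkWordsR pt rels 27473 83 = true := by decide +kernel

set_option maxRecDepth 1000000 in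
theorem hwr332 : checkWordsR pt rels 27556 83 = true := by decide +kernel

set_option maxRecDepth 1000000 in
theorem hwr333 : checkWordsR pt rels 27639 83 = true := by decide +kernel

set_option maxRecDepth 1000000 in
theorem hwr334 : checkWordsR pt rels 27722 83 = true := by decide +kernel

set_option maxRecDepth 1000000 in
theorem hwr335 : checkWordsR pt rels 27805 83 = true := by decide +kernel

set_option maxRecDepth 1000000 in
theorem hwr336 : checkWordsR pt rels 27888 83 = true := by decide +kernel

set_option maxRecDepth 1000000 in
theorem hwr337 : checkWordsR pt rels 27971 83 = true := by decide +kernel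

set_option maxRecDepth 1000000 in
theorem hwr338 : checkWordsR pt rels 28054 83 = true := by decide +kernel

set_option maxRecDepth 1000000 in
theorem hwr339 : checkWordsR pt rels 28137 83 = true := by decide +kernel

end Cfsg.Agent.H8Fi23
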