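import Cfsg.Agent.Lib.Helper8_CosetBig2
import Cfsg.Agent.Lib.Helper8_Fi23Data
import Cfsg.Agent.Lib.Helper8_Fi23States0
import Cfsg.Agent.Lib.Helper8_Fi23States1
import Cfsg.Agent.Lib.Helper8_Fi23States2
import Cfsg.Agent.Lib.Helper8_Fi23States3
import Cfsg.Agent.Lib.Helper8_Fi23States4
import Cfsg.Agent.Lib.Helper8_Fi23States5
import Cfsg.Agent.Lib.Helper8_Fi23States6
import Cfsg.Agent.Lib.Helper8_Fi23States7
import Cfsg.Agent.Lib.Helper8_Fi23States8
import Cfsg.Agent.Lib.Helper8_Fi23States9
import Cfsg.Agent.Lib.Helper8_Fi23States10

set_option autoImplicit false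
set_option Elab.async false

namespace Cfsg.Agent.H8Fi23

open Cfsg.Agent.H8CE

set_option maxRecDepth 1000000 in
theorem hwr16 : checkWordsR pt rels 1328 83 = true := by decide +kernel

set_option maxRecDepth 1000000 in
theorem hwr17 : checkWordsR pt rels 1411 83 = true := by decide +kernel

set_option maxRecDepth 1000000 in
theorem hwr18 : checkWordsR pt rels 1494 83 = true := by decide +kernel

set_option maxRecDepth 1000000 in
theorem hwr19 : checkWordsR pt rels 1577 83 = true := by decide +kernel

set_option maxRecDepth 1000000 in
theorem hwr20 : checkWordsR pt rels 1660 83 = true := by decide +kernel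

set_option maxRecDepth 1000000 in
theorem hwr21 : checkWordsR pt rels 1743 83 = true := by decide +kernel

set_option maxRecDepth 1000000 in
theorem hwr22 : checkWordsR pt rels 1826 83 = true := by decide +kernel

set_option maxRecDepth 1000000 in
theorem hwr23 : checkWordsR pt rels 1909 83 = true := by decide +kernel

set_option maxRecDepth 1000000 in
theorem hwr24 : checkWordsR pt rels 1992 83 = true := by decide +kernel

set_option maxRecDepth 1000000 in
theorem hwr25 : checkWordsR pt rels 2075 83 = true := by decide +kernel

set_option maxRecDepth 1000000 in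
theorem hwr26 : checkWordsR pt rels 2158 83 = true := by decide +kernel

set_option maxRecDepth 1000000 in
theorem hwr27 : checkWordsR pt rels 2241 83 = true := by decide +kernel

end Cfsg.Agent.H8Fi23
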