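import Cfsg.Agent.Lib.Helper8_Fi23Perm22
import Cfsg.Agent.Lib.Helper8_CosetBig2
import Cfsg.Agent.Lib.Helper8_Fi23Data
import Cfsg.Agent.Lib.Helper8_Fi23States0
import Cfsg.Agent.Lib.Helper8_Fi23States1
import Cfsg.Agent.Lib.Helper8_Fi23States2
import Cfsg.Agent.Lib.Helper8_Fi23States3
import Cfsg.Agent.Lib.Helper8_Fi23States4
import Cfsg.Agent.Lib.Helper8_Fi23States5
import Cfsg.Agent.Lib.Helper8_Fi23States6
import Cfsg.Agent.Lib.Helper8_Fi23States7
import Cfsg.Agent.Lib.Helper8_Fi23States8
import Cfsg.Agent.Lib.Helper8_Fi23States9
import Cfsg.Agent.Lib.Helper8_Fi23States10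

set_option autoImplicit false
set_option Elab.async false

namespace Cfsg.Agent.H8Fi23

open Cfsg.Agent.H8CE

set_option maxRecDepth 1000000 in
theorem hwr340 : checkWordsR pt rels 28220 83 = true := by decide +kernel

set_option maxRecDepth 1000000 in
theorem hwr341 : checkWordsR pt rels 28303 83 = true := by decide +kernel

set_option maxRecDepth 1000000 in
theorem hwr342 : checkWordsR pt rels 28386 83 = true := by decide +kernel

set_option maxRecDepth 1000000 in
theorem hwr343 : checkWordsR pt rels 28469 83 = true := by decide +kernel

set_option maxRecDepth 1000000 in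
theorem hwr344 : checkWordsR pt rels 28552 83 = true := by decide +kernel

set_option maxRecDepth 1000000 in
theorem hwr345 : checkWordsR pt rels 28635 83 = true := by decide +kernel

set_option maxRecDepth 1000000 in
theorem hwr346 : checkWordsR pt rels 28718 83 = true := by decide +kernel

set_option maxRecDepth 1000000 in
theorem hwr347 : checkWordsR pt rels 28801 83 = true := by decide +kernel

set_option maxRecDepth 1000000 in
theorem hwr348 : checkWordsR pt rels 28884 83 = true := by decide +kernel

set_option maxRecDepth 1000000 in
theorem hwr349 : checkWordsR pt rels 28967 83 = true := by decide +kernel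

set_option maxRecDepth 1000000 in
theorem hwr350 : checkWordsR pt rels 29050 83 = true := by decide +kernel

set_option maxRecDepth 1000000 in
theorem hwr351 : checkWordsR pt rels 29133 83 = true := by decide +kernel

end Cfsg.Agent.H8Fi23
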