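import Cfsg.Agent.Lib.Helper8_Fi23Perm23
import Cfsg.Agent.Lib.Helper8_CosetBig2
import Cfsg.Agent.Lib.Helper8_Fi23Data
import Cfsg.Agent.Lib.Helper8_Fi23States0
import Cfsg.Agent.Lib.Helper8_Fi23States1
import Cfsg.Agent.Lib.Helper8_Fi23States2
import Cfsg.Agent.Lib.Helper8_Fi23States3
import Cfsg.Agent.Lib.Helper8_Fi23States4
import Cfsg.Agent.Lib.Helper8_Fi23States5
import Cfsg.Agent.Lib.Helper8_Fi23States6
import Cfsg.Agent.Lib.Helper8_Fi23States7
import Cfsg.Agent.Lib.Helper8_Fi23States8
import Cfsg.Agent.Lib.Helper8_Fi23States9
import Cfsg.Agent.Lib.Helper8_Fi23States10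

set_option autoImplicit false
set_option Elab.async false

namespace Cfsg.Agent.H8Fi23

open Cfsg.Agent.H8CE

set_option maxRecDepth 1000000 in
theorem hwr352 : checkWordsR pt rels 29216 83 = true := by decide +kernel

set_option maxRecDepth 1000000 in
theorem hwr353 : checkWordsR pt rels 29299 83 = true := by decide +kernel

set_option maxRecDepth 1000000 in
theorem hwr354 : checkWordsR pt rels 29382 83 = true := by decide +kernel

set_option maxRecDepth 1000000 in
theorem hwr355 : checkWordsR pt rels 29465 83 = true := by decide +kernel

set_option maxRecDepth 1000000 in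
theorem hwr356 : checkWordsR pt rels 29548 83 = true := by decide +kernel

set_option maxRecDepth 1000000 in
theorem hwr357 : checkWordsR pt rels 29631 83 = true := by decide +kernel

set_option maxRecDepth 1000000 in
theorem hwr358 : checkWordsR pt rels 29714 83 = true := by decide +kernel

set_option maxRecDepth 1000000 in
theorem hwr359 : checkWordsR pt rels 29797 83 = true := by decide +kernel

set_option maxRecDepth 1000000 in
theorem hwr360 : checkWordsR pt rels 29880 83 = true := by decide +kernel

set_option maxRecDepth 1000000 in
theorem hwr361 : checkWordsR pt rels 29963 83 = true := by decide +kernel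

set_option maxRecDepth 1000000 in
theorem hwr362 : checkWordsR pt rels 30046 83 = true := by decide +kernel

set_option maxRecDepth 1000000 in
theorem hwr363 : checkWordsR pt rels 30129 83 = true := by decide +kernel

end Cfsg.Agent.H8Fi23
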