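import Cfsg.Agent.Lib.Helper8_Fi23Perm24
import Cfsg.Agent.Lib.Helper8_CosetBig2
import Cfsg.Agent.Lib.Helper8_Fi23Data
import Cfsg.Agent.Lib.Helper8_Fi23States0
import Cfsg.Agent.Lib.Helper8_Fi23States1
import Cfsg.Agent.Lib.Helper8_Fi23States2
import Cfsg.Agent.Lib.Helper8_Fi23States3
import Cfsg.Agent.Lib.Helper8_Fi23States4
import Cfsg.Agent.Lib.Helper8_Fi23States5
import Cfsg.Agent.Lib.Helper8_Fi23States6
import Cfsg.Agent.Lib.Helper8_Fi23States7
import Cfsg.Agent.Lib.Helper8_Fi23States8
import Cfsg.Agent.Lib.Helper8_Fi23States9
import Cfsg.Agent.Lib.Helper8_Fi23States10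

set_option autoImplicit false
set_option Elab.async false

namespace Cfsg.Agent.H8Fi23

open Cfsg.Agent.H8CE

set_option maxRecDepth 1000000 in
theorem hwr364 : checkWordsR pt rels 30212 83 = true := by decide +kernel

set_option maxRecDepth 1000000 in
theorem hwr365 : checkWordsR pt rels 30295 83 = true := by decide +kernel

set_option maxRecDepth 1000000 in
theorem hwr366 : checkWordsR pt rels 30378 83 = true := by decide +kernel

set_option maxRecDepth 1000000 in
theorem hwr367 : checkWordsR pt rels 30461 83 = true := by decide +kernel

set_option maxRecDepth 1000000 in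
theorem hwr368 : checkWordsR pt rels 30544 83 = true := by decide +kernel

set_option maxRecDepth 1000000 in
theorem hwr369 : checkWordsR pt rels 30627 83 = true := by decide +kernel

set_option maxRecDepth 1000000 in
theorem hwr370 : checkWordsR pt rels 30710 83 = true := by decide +kernel

set_option maxRecDepth 1000000 in
theorem hwr371 : checkWordsR pt rels 30793 83 = true := by decide +kernel

set_option maxRecDepth 1000000 in
theorem hwr372 : checkWordsR pt rels 30876 83 = true := by decide +kernel

set_option maxRecDepth 1000000 in
theorem hwr373 : checkWordsR pt rels 30959 83 = true := by decide +kernel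

set_option maxRecDepth 1000000 in
theorem hwr374 : checkWordsR pt rels 31042 83 = true := by decide +kernel

set_option maxRecDepth 1000000 in
theorem hwr375 : checkWordsR pt rels 31125 83 = true := by decide +kernel

end Cfsg.Agent.H8Fi23
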