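import Cfsg.Agent.Lib.Helper8_Fi23Perm25
import Cfsg.Agent.Lib.Helper8_CosetBig2
import Cfsg.Agent.Lib.Helper8_Fi23Data
import Cfsg.Agent.Lib.Helper8_Fi23States0
import Cfsg.Agent.Lib.Helper8_Fi23States1
import Cfsg.Agent.Lib.Helper8_Fi23States2
import Cfsg.Agent.Lib.Helper8_Fi23States3
import Cfsg.Agent.Lib.Helper8_Fi23States4
import Cfsg.Agent.Lib.Helper8_Fi23States5
import Cfsg.Agent.Lib.Helper8_Fi23States6
import Cfsg.Agent.Lib.Helper8_Fi23States7
import Cfsg.Agent.Lib.Helper8_Fi23States8
import Cfsg.Agent.Lib.Helper8_Fi23States9
import Cfsg.Agent.Lib.Helper8_Fi23States10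

set_option autoImplicit false
set_option Elab.async false

namespace Cfsg.Agent.H8Fi23

open Cfsg.Agent.H8CE

set_option maxRecDepth 1000000 in
theorem hwr376 : checkWordsR pt rels 31208 83 = true := by decide +kernel

set_option maxRecDepth 1000000 in
theorem hwr377 : checkWordsR pt rels 31291 83 = true := by decide +kernel

set_option maxRecDepth 1000000 in
theorem hwr378 : checkWordsR pt rels 31374 83 = true := by decide +kernel

set_option maxRecDepth 1000000 in
theorem hwr379 : checkWordsR pt rels 31457 83 = true := by decide +kernel

set_option maxRecDepth 1000000 in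
theorem hwr380 : checkWordsR pt rels 31540 83 = true := by decide +kernel

set_option maxRecDepth 1000000 in
theorem hwr381 : checkWordsR pt rels 31623 48 = true := by decide +kernel

set_option maxRecDepth 1000000 in
theorem htr0 : allBelow (fun i => allBelow (fun x => checkEntry st50 fuel canon pt (Nat.add 0 i) x) 10) 310 = true := by decide +kernel

set_option maxRecDepth 1000000 in
theorem htr1 : allBelow (fun i => allBelow (fun x => checkEntry st50 fuel canon pt (Nat.add 310 i) x) 10) 310 = true := by decide +kernel

set_option maxRecDepth 1000000 in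
theorem htr2 : allBelow (fun i => allBelow (fun x => checkEntry st50 fuel canon pt (Nat.add 620 i) x) 10) 310 = true := by decide +kernel

set_option maxRecDepth 1000000 in
theorem htr3 : allBelow (fun i => allBelow (fun x => checkEntry st50 fuel canon pt (Nat.add 930 i) x) 10) 310 = true := by decide +kernel

set_option maxRecDepth 1000000 in
theorem htr4 : allBelow (fun i => allBelow (fun x => checkEntry st50 fuel canon pt (Nat.add 1240 i) x) 10) 310 = true := by decide +kernel

set_option maxRecDepth 1000000 in
theorem htr5 : allBelow (fun i => allBelow (fun x => checkEntry st50 fuel canon pt (Nat.add 1550 i) x) 10) 310 = true := by decide +kernel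

end Cfsg.Agent.H8Fi23
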