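import Cfsg.Agent.Lib.Helper8_Fi23Perm26
import Cfsg.Agent.Lib.Helper8_CosetBig2
import Cfsg.Agent.Lib.Helper8_Fi23Data
import Cfsg.Agent.Lib.Helper8_Fi23States0
import Cfsg.Agent.Lib.Helper8_Fi23States1
import Cfsg.Agent.Lib.Helper8_Fi23States2
import Cfsg.Agent.Lib.Helper8_Fi23States3
import Cfsg.Agent.Lib.Helper8_Fi23States4
import Cfsg.Agent.Lib.Helper8_Fi23States5
import Cfsg.Agent.Lib.Helper8_Fi23States6
import Cfsg.Agent.Lib.Helper8_Fi23States7
import Cfsg.Agent.Lib.Helper8_Fi23States8
import Cfsg.Agent.Lib.Helper8_Fi23States9
import Cfsg.Agent.Lib.Helper8_Fi23States10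

set_option autoImplicit false
set_option Elab.async false

namespace Cfsg.Agent.H8Fi23

open Cfsg.Agent.H8CE

set_option maxRecDepth 1000000 in
theorem htr6 : allBelow (fun i => allBelow (fun x => checkEntry st50 fuel canon pt (Nat.add 1860 i) x) 10) 310 = true := by decide +kernel

set_option maxRecDepth 1000000 in
theorem htr7 : allBelow (fun i => allBelow (fun x => checkEntry st50 fuel canon pt (Nat.add 2170 i) x) 10) 310 = true := by decide +kernel

set_option maxRecDepth 1000000 in
theorem htr8 : allBelow (fun i => allBelow (fun x => checkEntry st50 fuel canon pt (Nat.add 2480 i) x) 10) 310 = true := by decide +kernel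

set_option maxRecDepth 1000000 in
theorem htr9 : allBelow (fun i => allBelow (fun x => checkEntry st50 fuel canon pt (Nat.add 2790 i) x) 10) 310 = true := by decide +kernel

set_option maxRecDepth 1000000 in
theorem htr10 : allBelow (fun i => allBelow (fun x => checkEntry st50 fuel canon pt (Nat.add 3100 i) x) 10) 310 = true := by decide +kernel

set_option maxRecDepth 1000000 in
theorem htr11 : allBelow (fun i => allBelow (fun x => checkEntry st50 fuel canon pt (Nat.add 3410 i) x) 10) 310 = true := by decide +kernel

set_option maxRecDepth 1000000 in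
theorem htr12 : allBelow (fun i => allBelow (fun x => checkEntry st50 fuel canon pt (Nat.add 3720 i) x) 10) 310 = true := by decide +kernel

set_option maxRecDepth 1000000 in
theorem htr13 : allBelow (fun i => allBelow (fun x => checkEntry st50 fuel canon pt (Nat.add 4030 i) x) 10) 310 = true := by decide +kernel

set_option maxRecDepth 1000000 in
theorem htr14 : allBelow (fun i => allBelow (fun x => checkEntry st50 fuel canon pt (Nat.add 4340 i) x) 10) 310 = true := by decide +kernel

set_option maxRecDepth 1000000 in
theorem htr15 : allBelow (fun i => allBelow (fun x => checkEntry st50 fuel canon pt (Nat.add 4650 i) x) 10) 310 = true := by decide +kernel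

set_option maxRecDepth 1000000 in
theorem htr16 : allBelow (fun i => allBelow (fun x => checkEntry st50 fuel canon pt (Nat.add 4960 i) x) 10) 310 = true := by decide +kernel

set_option maxRecDepth 1000000 in
theorem htr17 : allBelow (fun i => allBelow (fun x => checkEntry st50 fuel canon pt (Nat.add 5270 i) x) 10) 310 = true := by decide +kernel

end Cfsg.Agent.H8Fi23
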