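import Cfsg.Agent.Lib.Helper8_Fi23Perm27
import Cfsg.Agent.Lib.Helper8_CosetBig2
import Cfsg.Agent.Lib.Helper8_Fi23Data
import Cfsg.Agent.Lib.Helper8_Fi23States0
import Cfsg.Agent.Lib.Helper8_Fi23States1
import Cfsg.Agent.Lib.Helper8_Fi23States2
import Cfsg.Agent.Lib.Helper8_Fi23States3
import Cfsg.Agent.Lib.Helper8_Fi23States4
import Cfsg.Agent.Lib.Helper8_Fi23States5
import Cfsg.Agent.Lib.Helper8_Fi23States6
import Cfsg.Agent.Lib.Helper8_Fi23States7
import Cfsg.Agent.Lib.Helper8_Fi23States8
import Cfsg.Agent.Lib.Helper8_Fi23States9
import Cfsg.Agent.Lib.Helper8_Fi23States10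

set_option autoImplicit false
set_option Elab.async false

namespace Cfsg.Agent.H8Fi23

open Cfsg.Agent.H8CE

set_option maxRecDepth 1000000 in
theorem htr18 : allBelow (fun i => allBelow (fun x => checkEntry st50 fuel canon pt (Nat.add 5580 i) x) 10) 310 = true := by decide +kernel

set_option maxRecDepth 1000000 in
theorem htr19 : allBelow (fun i => allBelow (fun x => checkEntry st50 fuel canon pt (Nat.add 5890 i) x) 10) 310 = true := by decide +kernel

set_option maxRecDepth 1000000 in
theorem htr20 : allBelow (fun i => allBelow (fun x => checkEntry st50 fuel canon pt (Nat.add 6200 i) x) 10) 310 = true := by decide +kernel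

set_option maxRecDepth 1000000 in
theorem htr21 : allBelow (fun i => allBelow (fun x => checkEntry st50 fuel canon pt (Nat.add 6510 i) x) 10) 310 = true := by decide +kernel

set_option maxRecDepth 1000000 in
theorem htr22 : allBelow (fun i => allBelow (fun x => checkEntry st50 fuel canon pt (Nat.add 6820 i) x) 10) 310 = true := by decide +kernel

set_option maxRecDepth 1000000 in
theorem htr23 : allBelow (fun i => allBelow (fun x => checkEntry st50 fuel canon pt (Nat.add 7130 i) x) 10) 310 = true := by decide +kernel

set_option maxRecDepth 1000000 in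
theorem htr24 : allBelow (fun i => allBelow (fun x => checkEntry st50 fuel canon pt (Nat.add 7440 i) x) 10) 310 = true := by decide +kernel

set_option maxRecDepth 1000000 in
theorem htr25 : allBelow (fun i => allBelow (fun x => checkEntry st50 fuel canon pt (Nat.add 7750 i) x) 10) 310 = true := by decide +kernel

set_option maxRecDepth 1000000 in
theorem htr26 : allBelow (fun i => allBelow (fun x => checkEntry st50 fuel canon pt (Nat.add 8060 i) x) 10) 310 = true := by decide +kernel

set_option maxRecDepth 1000000 in
theorem htr27 : allBelow (fun i => allBelow (fun x => checkEntry st50 fuel canon pt (Nat.add 8370 i) x) 10) 310 = true := by decide +kernel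

set_option maxRecDepth 1000000 in
theorem htr28 : allBelow (fun i => allBelow (fun x => checkEntry st50 fuel canon pt (Nat.add 8680 i) x) 10) 310 = true := by decide +kernel

set_option maxRecDepth 1000000 in
theorem htr29 : allBelow (fun i => allBelow (fun x => checkEntry st50 fuel canon pt (Nat.add 8990 i) x) 10) 310 = true := by decide +kernel

end Cfsg.Agent.H8Fi23
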