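import Cfsg.Agent.Lib.Helper8_Fi23Perm28
import Cfsg.Agent.Lib.Helper8_CosetBig2
import Cfsg.Agent.Lib.Helper8_Fi23Data
import Cfsg.Agent.Lib.Helper8_Fi23States0
import Cfsg.Agent.Lib.Helper8_Fi23States1
import Cfsg.Agent.Lib.Helper8_Fi23States2
import Cfsg.Agent.Lib.Helper8_Fi23States3
import Cfsg.Agent.Lib.Helper8_Fi23States4
import Cfsg.Agent.Lib.Helper8_Fi23States5
import Cfsg.Agent.Lib.Helper8_Fi23States6
import Cfsg.Agent.Lib.Helper8_Fi23States7
import Cfsg.Agent.Lib.Helper8_Fi23States8
import Cfsg.Agent.Lib.Helper8_Fi23States9
import Cfsg.Agent.Lib.Helper8_Fi23States10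

set_option autoImplicit false
set_option Elab.async false

namespace Cfsg.Agent.H8Fi23

open Cfsg.Agent.H8CE

set_option maxRecDepth 1000000 in
theorem htr30 : allBelow (fun i => allBelow (fun x => checkEntry st50 fuel canon pt (Nat.add 9300 i) x) 10) 310 = true := by decide +kernel

set_option maxRecDepth 1000000 in
theorem htr31 : allBelow (fun i => allBelow (fun x => checkEntry st50 fuel canon pt (Nat.add 9610 i) x) 10) 310 = true := by decide +kernel

set_option maxRecDepth 1000000 in
theorem htr32 : allBelow (fun i => allBelow (fun x => checkEntry st50 fuel canon pt (Nat.add 9920 i) x) 10) 310 = true := by decide +kernel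

set_option maxRecDepth 1000000 in
theorem htr33 : allBelow (fun i => allBelow (fun x => checkEntry st50 fuel canon pt (Nat.add 10230 i) x) 10) 310 = true := by decide +kernel

set_option maxRecDepth 1000000 in
theorem htr34 : allBelow (fun i => allBelow (fun x => checkEntry st50 fuel canon pt (Nat.add 10540 i) x) 10) 310 = true := by decide +kernel

set_option maxRecDepth 1000000 in
theorem htr35 : allBelow (fun i => allBelow (fun x => checkEntry st50 fuel canon pt (Nat.add 10850 i) x) 10) 310 = true := by decide +kernel

set_option maxRecDepth 1000000 in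
theorem htr36 : allBelow (fun i => allBelow (fun x => checkEntry st50 fuel canon pt (Nat.add 11160 i) x) 10) 310 = true := by decide +kernel

set_option maxRecDepth 1000000 in
theorem htr37 : allBelow (fun i => allBelow (fun x => checkEntry st50 fuel canon pt (Nat.add 11470 i) x) 10) 310 = true := by decide +kernel

set_option maxRecDepth 1000000 in
theorem htr38 : allBelow (fun i => allBelow (fun x => checkEntry st50 fuel canon pt (Nat.add 11780 i) x) 10) 310 = true := by decide +kernel

set_option maxRecDepth 1000000 in
theorem htr39 : allBelow (fun i => allBelow (fun x => checkEntry st50 fuel canon pt (Nat.add 12090 i) x) 10) 310 = true := by decide +kernel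

set_option maxRecDepth 1000000 in
theorem htr40 : allBelow (fun i => allBelow (fun x => checkEntry st50 fuel canon pt (Nat.add 12400 i) x) 10) 310 = true := by decide +kernel

set_option maxRecDepth 1000000 in
theorem htr41 : allBelow (fun i => allBelow (fun x => checkEntry st50 fuel canon pt (Nat.add 12710 i) x) 10) 310 = true := by decide +kernel

end Cfsg.Agent.H8Fi23
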