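import Cfsg.Agent.Lib.Helper8_Fi23Perm29
import Cfsg.Agent.Lib.Helper8_CosetBig2
import Cfsg.Agent.Lib.Helper8_Fi23Data
import Cfsg.Agent.Lib.Helper8_Fi23States0
import Cfsg.Agent.Lib.Helper8_Fi23States1
import Cfsg.Agent.Lib.Helper8_Fi23States2
import Cfsg.Agent.Lib.Helper8_Fi23States3
import Cfsg.Agent.Lib.Helper8_Fi23States4
import Cfsg.Agent.Lib.Helper8_Fi23States5
import Cfsg.Agent.Lib.Helper8_Fi23States6
import Cfsg.Agent.Lib.Helper8_Fi23States7
import Cfsg.Agent.Lib.Helper8_Fi23States8
import Cfsg.Agent.Lib.Helper8_Fi23States9
import Cfsg.Agent.Lib.Helper8_Fi23States10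

set_option autoImplicit false
set_option Elab.async false

namespace Cfsg.Agent.H8Fi23

open Cfsg.Agent.H8CE

set_option maxRecDepth 1000000 in
theorem htr42 : allBelow (fun i => allBelow (fun x => checkEntry st50 fuel canon pt (Nat.add 13020 i) x) 10) 310 = true := by decide +kernel

set_option maxRecDepth 1000000 in
theorem htr43 : allBelow (fun i => allBelow (fun x => checkEntry st50 fuel canon pt (Nat.add 13330 i) x) 10) 310 = true := by decide +kernel

set_option maxRecDepth 1000000 in
theorem htr44 : allBelow (fun i => allBelow (fun x => checkEntry st50 fuel canon pt (Nat.add 13640 i) x) 10) 310 = true := by decide +kernel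

set_option maxRecDepth 1000000 in
theorem htr45 : allBelow (fun i => allBelow (fun x => checkEntry st50 fuel canon pt (Nat.add 13950 i) x) 10) 310 = true := by decide +kernel

set_option maxRecDepth 1000000 in
theorem htr46 : allBelow (fun i => allBelow (fun x => checkEntry st50 fuel canon pt (Nat.add 14260 i) x) 10) 310 = true := by decide +kernel

set_option maxRecDepth 1000000 in
theorem htr47 : allBelow (fun i => allBelow (fun x => checkEntry st50 fuel canon pt (Nat.add 14570 i) x) 10) 310 = true := by decide +kernel

set_option maxRecDepth 1000000 in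
theorem htr48 : allBelow (fun i => allBelow (fun x => checkEntry st50 fuel canon pt (Nat.add 14880 i) x) 10) 310 = true := by decide +kernel

set_option maxRecDepth 1000000 in
theorem htr49 : allBelow (fun i => allBelow (fun x => checkEntry st50 fuel canon pt (Nat.add 15190 i) x) 10) 310 = true := by decide +kernel

set_option maxRecDepth 1000000 in
theorem htr50 : allBelow (fun i => allBelow (fun x => checkEntry st50 fuel canon pt (Nat.add 15500 i) x) 10) 310 = true := by decide +kernel

set_option maxRecDepth 1000000 in
theorem htr51 : allBelow (fun i => allBelow (fun x => checkEntry st50 fuel canon pt (Nat.add 15810 i) x) 10) 310 = true := by decide +kernel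

set_option maxRecDepth 1000000 in
theorem htr52 : allBelow (fun i => allBelow (fun x => checkEntry st50 fuel canon pt (Nat.add 16120 i) x) 10) 310 = true := by decide +kernel

set_option maxRecDepth 1000000 in
theorem htr53 : allBelow (fun i => allBelow (fun x => checkEntry st50 fuel canon pt (Nat.add 16430 i) x) 10) 310 = true := by decide +kernel

end Cfsg.Agent.H8Fi23
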