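import Cfsg.Agent.Lib.Helper8_Fi23Perm30
import Cfsg.Agent.Lib.Helper8_CosetBig2
import Cfsg.Agent.Lib.Helper8_Fi23Data
import Cfsg.Agent.Lib.Helper8_Fi23States0
import Cfsg.Agent.Lib.Helper8_Fi23States1
import Cfsg.Agent.Lib.Helper8_Fi23States2
import Cfsg.Agent.Lib.Helper8_Fi23States3
import Cfsg.Agent.Lib.Helper8_Fi23States4
import Cfsg.Agent.Lib.Helper8_Fi23States5
import Cfsg.Agent.Lib.Helper8_Fi23States6
import Cfsg.Agent.Lib.Helper8_Fi23States7
import Cfsg.Agent.Lib.Helper8_Fi23States8
import Cfsg.Agent.Lib.Helper8_Fi23States9
import Cfsg.Agent.Lib.Helper8_Fi23States10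

set_option autoImplicit false
set_option Elab.async false

namespace Cfsg.Agent.H8Fi23

open Cfsg.Agent.H8CE

set_option maxRecDepth 1000000 in
theorem htr54 : allBelow (fun i => allBelow (fun x => checkEntry st50 fuel canon pt (Nat.add 16740 i) x) 10) 310 = true := by decide +kernel

set_option maxRecDepth 1000000 in
theorem htr55 : allBelow (fun i => allBelow (fun x => checkEntry st50 fuel canon pt (Nat.add 17050 i) x) 10) 310 = true := by decide +kernel

set_option maxRecDepth 1000000 in
theorem htr56 : allBelow (fun i => allBelow (fun x => checkEntry st50 fuel canon pt (Nat.add 17360 i) x) 10) 310 = true := by decide +kernel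

set_option maxRecDepth 1000000 in
theorem htr57 : allBelow (fun i => allBelow (fun x => checkEntry st50 fuel canon pt (Nat.add 17670 i) x) 10) 310 = true := by decide +kernel

set_option maxRecDepth 1000000 in
theorem htr58 : allBelow (fun i => allBelow (fun x => checkEntry st50 fuel canon pt (Nat.add 17980 i) x) 10) 310 = true := by decide +kernel

set_option maxRecDepth 1000000 in
theorem htr59 : allBelow (fun i => allBelow (fun x => checkEntry st50 fuel canon pt (Nat.add 18290 i) x) 10) 310 = true := by decide +kernel

set_option maxRecDepth 1000000 in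
theorem htr60 : allBelow (fun i => allBelow (fun x => checkEntry st50 fuel canon pt (Nat.add 18600 i) x) 10) 310 = true := by decide +kernel

set_option maxRecDepth 1000000 in
theorem htr61 : allBelow (fun i => allBelow (fun x => checkEntry st50 fuel canon pt (Nat.add 18910 i) x) 10) 310 = true := by decide +kernel

set_option maxRecDepth 1000000 in
theorem htr62 : allBelow (fun i => allBelow (fun x => checkEntry st50 fuel canon pt (Nat.add 19220 i) x) 10) 310 = true := by decide +kernel

set_option maxRecDepth 1000000 in
theorem htr63 : allBelow (fun i => allBelow (fun x => checkEntry st50 fuel canon pt (Nat.add 19530 i) x) 10) 310 = true := by decide +kernel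

set_option maxRecDepth 1000000 in
theorem htr64 : allBelow (fun i => allBelow (fun x => checkEntry st50 fuel canon pt (Nat.add 19840 i) x) 10) 310 = true := by decide +kernel

set_option maxRecDepth 1000000 in
theorem htr65 : allBelow (fun i => allBelow (fun x => checkEntry st50 fuel canon pt (Nat.add 20150 i) x) 10) 310 = true := by decide +kernel

end Cfsg.Agent.H8Fi23
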