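import Cfsg.Agent.Lib.Helper8_Fi23Perm31
import Cfsg.Agent.Lib.Helper8_CosetBig2
import Cfsg.Agent.Lib.Helper8_Fi23Data
import Cfsg.Agent.Lib.Helper8_Fi23States0
import Cfsg.Agent.Lib.Helper8_Fi23States1
import Cfsg.Agent.Lib.Helper8_Fi23States2
import Cfsg.Agent.Lib.Helper8_Fi23States3
import Cfsg.Agent.Lib.Helper8_Fi23States4
import Cfsg.Agent.Lib.Helper8_Fi23States5
import Cfsg.Agent.Lib.Helper8_Fi23States6
import Cfsg.Agent.Lib.Helper8_Fi23States7
import Cfsg.Agent.Lib.Helper8_Fi23States8
import Cfsg.Agent.Lib.Helper8_Fi23States9
import Cfsg.Agent.Lib.Helper8_Fi23States10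

set_option autoImplicit false
set_option Elab.async false

namespace Cfsg.Agent.H8Fi23

open Cfsg.Agent.H8CE

set_option maxRecDepth 1000000 in
theorem htr66 : allBelow (fun i => allBelow (fun x => checkEntry st50 fuel canon pt (Nat.add 20460 i) x) 10) 310 = true := by decide +kernel

set_option maxRecDepth 1000000 in
theorem htr67 : allBelow (fun i => allBelow (fun x => checkEntry st50 fuel canon pt (Nat.add 20770 i) x) 10) 310 = true := by decide +kernel

set_option maxRecDepth 1000000 in
theorem htr68 : allBelow (fun i => allBelow (fun x => checkEntry st50 fuel canon pt (Nat.add 21080 i) x) 10) 310 = true := by decide +kernel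

set_option maxRecDepth 1000000 in
theorem htr69 : allBelow (fun i => allBelow (fun x => checkEntry st50 fuel canon pt (Nat.add 21390 i) x) 10) 310 = true := by decide +kernel

set_option maxRecDepth 1000000 in
theorem htr70 : allBelow (fun i => allBelow (fun x => checkEntry st50 fuel canon pt (Nat.add 21700 i) x) 10) 310 = true := by decide +kernel

set_option maxRecDepth 1000000 in
theorem htr71 : allBelow (fun i => allBelow (fun x => checkEntry st50 fuel canon pt (Nat.add 22010 i) x) 10) 310 = true := by decide +kernel

set_option maxRecDepth 1000000 in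
theorem htr72 : allBelow (fun i => allBelow (fun x => checkEntry st50 fuel canon pt (Nat.add 22320 i) x) 10) 310 = true := by decide +kernel

set_option maxRecDepth 1000000 in
theorem htr73 : allBelow (fun i => allBelow (fun x => checkEntry st50 fuel canon pt (Nat.add 22630 i) x) 10) 310 = true := by decide +kernel

set_option maxRecDepth 1000000 in
theorem htr74 : allBelow (fun i => allBelow (fun x => checkEntry st50 fuel canon pt (Nat.add 22940 i) x) 10) 310 = true := by decide +kernel

set_option maxRecDepth 1000000 in
theorem htr75 : allBelow (fun i => allBelow (fun x => checkEntry st50 fuel canon pt (Nat.add 23250 i) x) 10) 310 = true := by decide +kernel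

set_option maxRecDepth 1000000 in
theorem htr76 : allBelow (fun i => allBelow (fun x => checkEntry st50 fuel canon pt (Nat.add 23560 i) x) 10) 310 = true := by decide +kernel

set_option maxRecDepth 1000000 in
theorem htr77 : allBelow (fun i => allBelow (fun x => checkEntry st50 fuel canon pt (Nat.add 23870 i) x) 10) 310 = true := by decide +kernel

end Cfsg.Agent.H8Fi23
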