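import Cfsg.Agent.Lib.Helper8_CosetBig2
import Cfsg.Agent.Lib.Helper8_Fi23Data
import Cfsg.Agent.Lib.Helper8_Fi23States0
import Cfsg.Agent.Lib.Helper8_Fi23States1
import Cfsg.Agent.Lib.Helper8_Fi23States2
import Cfsg.Agent.Lib.Helper8_Fi23States3
import Cfsg.Agent.Lib.Helper8_Fi23States4
import Cfsg.Agent.Lib.Helper8_Fi23States5
import Cfsg.Agent.Lib.Helper8_Fi23States6
import Cfsg.Agent.Lib.Helper8_Fi23States7
import Cfsg.Agent.Lib.Helper8_Fi23States8
import Cfsg.Agent.Lib.Helper8_Fi23States9
import Cfsg.Agent.Lib.Helper8_Fi23States10

set_option autoImplicit false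
set_option Elab.async false

namespace Cfsg.Agent.H8Fi23

open Cfsg.Agent.H8CE

set_option maxRecDepth 1000000 in
theorem hwr28 : checkWordsR pt rels 2324 83 = true := by decide +kernel

set_option maxRecDepth 1000000 in
theorem hwr29 : checkWordsR pt rels 2407 83 = true := by decide +kernel

set_option maxRecDepth 1000000 in
theorem hwr30 : checkWordsR pt rels 2490 83 = true := by decide +kernel

set_option maxRecDepth 1000000 in
theorem hwr31 : checkWordsR pt rels 2573 83 = true := by decide +kernel

set_option maxRecDepth 1000000 in
theorem hwr32 : checkWordsR pt rels 2656 83 = true := by decide +kernel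

set_option maxRecDepth 1000000 in
theorem hwr33 : checkWordsR pt rels 2739 83 = true := by decide +kernel

set_option maxRecDepth 1000000 in
theorem hwr34 : checkWordsR pt rels 2822 83 = true := by decide +kernel

set_option maxRecDepth 1000000 in
theorem hwr35 : checkWordsR pt rels 2905 83 = true := by decide +kernel

set_option maxRecDepth 1000000 in
theorem hwr36 : checkWordsR pt rels 2988 83 = true := by decide +kernel

set_option maxRecDepth 1000000 in
theorem hwr37 : checkWordsR pt rels 3071 83 = true := by decide +kernel

set_option maxRecDepth 1000000 in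
theorem hwr38 : checkWordsR pt rels 3154 83 = true := by decide +kernel

set_option maxRecDepth 1000000 in
theorem hwr39 : checkWordsR pt rels 3237 83 = true := by decide +kernel

end Cfsg.Agent.H8Fi23
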