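import Cfsg.Agent.Lib.Helper8_Fi23Perm32
import Cfsg.Agent.Lib.Helper8_CosetBig2
import Cfsg.Agent.Lib.Helper8_Fi23Data
import Cfsg.Agent.Lib.Helper8_Fi23States0
import Cfsg.Agent.Lib.Helper8_Fi23States1
import Cfsg.Agent.Lib.Helper8_Fi23States2
import Cfsg.Agent.Lib.Helper8_Fi23States3
import Cfsg.Agent.Lib.Helper8_Fi23States4
import Cfsg.Agent.Lib.Helper8_Fi23States5
import Cfsg.Agent.Lib.Helper8_Fi23States6
import Cfsg.Agent.Lib.Helper8_Fi23States7
import Cfsg.Agent.Lib.Helper8_Fi23States8
import Cfsg.Agent.Lib.Helper8_Fi23States9
import Cfsg.Agent.Lib.Helper8_Fi23States10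

set_option autoImplicit false
set_option Elab.async false

namespace Cfsg.Agent.H8Fi23

open Cfsg.Agent.H8CE

set_option maxRecDepth 1000000 in
theorem htr78 : allBelow (fun i => allBelow (fun x => checkEntry st50 fuel canon pt (Nat.add 24180 i) x) 10) 310 = true := by decide +kernel

set_option maxRecDepth 1000000 in
theorem htr79 : allBelow (fun i => allBelow (fun x => checkEntry st50 fuel canon pt (Nat.add 24490 i) x) 10) 310 = true := by decide +kernel

set_option maxRecDepth 1000000 in
theorem htr80 : allBelow (fun i => allBelow (fun x => checkEntry st50 fuel canon pt (Nat.add 24800 i) x) 10) 310 = true := by decide +kernel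

set_option maxRecDepth 1000000 in
theorem htr81 : allBelow (fun i => allBelow (fun x => checkEntry st50 fuel canon pt (Nat.add 25110 i) x) 10) 310 = true := by decide +kernel

set_option maxRecDepth 1000000 in
theorem htr82 : allBelow (fun i => allBelow (fun x => checkEntry st50 fuel canon pt (Nat.add 25420 i) x) 10) 310 = true := by decide +kernel

set_option maxRecDepth 1000000 in
theorem htr83 : allBelow (fun i => allBelow (fun x => checkEntry st50 fuel canon pt (Nat.add 25730 i) x) 10) 310 = true := by decide +kernel

set_option maxRecDepth 1000000 in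
theorem htr84 : allBelow (fun i => allBelow (fun x => checkEntry st50 fuel canon pt (Nat.add 26040 i) x) 10) 310 = true := by decide +kernel

set_option maxRecDepth 1000000 in
theorem htr85 : allBelow (fun i => allBelow (fun x => checkEntry st50 fuel canon pt (Nat.add 26350 i) x) 10) 310 = true := by decide +kernel

set_option maxRecDepth 1000000 in
theorem htr86 : allBelow (fun i => allBelow (fun x => checkEntry st50 fuel canon pt (Nat.add 26660 i) x) 10) 310 = true := by decide +kernel

set_option maxRecDepth 1000000 in
theorem htr87 : allBelow (fun i => allBelow (fun x => checkEntry st50 fuel canon pt (Nat.add 26970 i) x) 10) 310 = true := by decide +kernel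

set_option maxRecDepth 1000000 in
theorem htr88 : allBelow (fun i => allBelow (fun x => checkEntry st50 fuel canon pt (Nat.add 27280 i) x) 10) 310 = true := by decide +kernel

set_option maxRecDepth 1000000 in
theorem htr89 : allBelow (fun i => allBelow (fun x => checkEntry st50 fuel canon pt (Nat.add 27590 i) x) 10) 310 = true := by decide +kernel

end Cfsg.Agent.H8Fi23
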