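import Cfsg.Agent.Lib.Helper8_Fi23Perm33
import Cfsg.Agent.Lib.Helper8_CosetBig2
import Cfsg.Agent.Lib.Helper8_Fi23Data
import Cfsg.Agent.Lib.Helper8_Fi23States0
import Cfsg.Agent.Lib.Helper8_Fi23States1
import Cfsg.Agent.Lib.Helper8_Fi23States2
import Cfsg.Agent.Lib.Helper8_Fi23States3
import Cfsg.Agent.Lib.Helper8_Fi23States4
import Cfsg.Agent.Lib.Helper8_Fi23States5
import Cfsg.Agent.Lib.Helper8_Fi23States6
import Cfsg.Agent.Lib.Helper8_Fi23States7
import Cfsg.Agent.Lib.Helper8_Fi23States8
import Cfsg.Agent.Lib.Helper8_Fi23States9
import Cfsg.Agent.Lib.Helper8_Fi23States10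

set_option autoImplicit false
set_option Elab.async false

namespace Cfsg.Agent.H8Fi23

open Cfsg.Agent.H8CE

set_option maxRecDepth 1000000 in
theorem htr90 : allBelow (fun i => allBelow (fun x => checkEntry st50 fuel canon pt (Nat.add 27900 i) x) 10) 310 = true := by decide +kernel

set_option maxRecDepth 1000000 in
theorem htr91 : allBelow (fun i => allBelow (fun x => checkEntry st50 fuel canon pt (Nat.add 28210 i) x) 10) 310 = true := by decide +kernel

set_option maxRecDepth 1000000 in
theorem htr92 : allBelow (fun i => allBelow (fun x => checkEntry st50 fuel canon pt (Nat.add 28520 i) x) 10) 310 = true := by decide +kernel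

set_option maxRecDepth 1000000 in
theorem htr93 : allBelow (fun i => allBelow (fun x => checkEntry st50 fuel canon pt (Nat.add 28830 i) x) 10) 310 = true := by decide +kernel

set_option maxRecDepth 1000000 in
theorem htr94 : allBelow (fun i => allBelow (fun x => checkEntry st50 fuel canon pt (Nat.add 29140 i) x) 10) 310 = true := by decide +kernel

set_option maxRecDepth 1000000 in
theorem htr95 : allBelow (fun i => allBelow (fun x => checkEntry st50 fuel canon pt (Nat.add 29450 i) x) 10) 310 = true := by decide +kernel

set_option maxRecDepth 1000000 in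
theorem htr96 : allBelow (fun i => allBelow (fun x => checkEntry st50 fuel canon pt (Nat.add 29760 i) x) 10) 310 = true := by decide +kernel

set_option maxRecDepth 1000000 in
theorem htr97 : allBelow (fun i => allBelow (fun x => checkEntry st50 fuel canon pt (Nat.add 30070 i) x) 10) 310 = true := by decide +kernel

set_option maxRecDepth 1000000 in
theorem htr98 : allBelow (fun i => allBelow (fun x => checkEntry st50 fuel canon pt (Nat.add 30380 i) x) 10) 310 = true := by decide +kernel

set_option maxRecDepth 1000000 in
theorem htr99 : allBelow (fun i => allBelow (fun x => checkEntry st50 fuel canon pt (Nat.add 30690 i) x) 10) 310 = true := by decide +kernel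

set_option maxRecDepth 1000000 in
theorem htr100 : allBelow (fun i => allBelow (fun x => checkEntry st50 fuel canon pt (Nat.add 31000 i) x) 10) 310 = true := by decide +kernel

set_option maxRecDepth 1000000 in
theorem htr101 : allBelow (fun i => allBelow (fun x => checkEntry st50 fuel canon pt (Nat.add 31310 i) x) 10) 310 = true := by decide +kernel

end Cfsg.Agent.H8Fi23
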