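import Cfsg.Agent.Lib.Helper8_Fi23Perm34
import Cfsg.Agent.Lib.Helper8_CosetBig2
import Cfsg.Agent.Lib.Helper8_Fi23Data
import Cfsg.Agent.Lib.Helper8_Fi23States0
import Cfsg.Agent.Lib.Helper8_Fi23States1
import Cfsg.Agent.Lib.Helper8_Fi23States2
import Cfsg.Agent.Lib.Helper8_Fi23States3
import Cfsg.Agent.Lib.Helper8_Fi23States4
import Cfsg.Agent.Lib.Helper8_Fi23States5
import Cfsg.Agent.Lib.Helper8_Fi23States6
import Cfsg.Agent.Lib.Helper8_Fi23States7
import Cfsg.Agent.Lib.Helper8_Fi23States8
import Cfsg.Agent.Lib.Helper8_Fi23States9
import Cfsg.Agent.Lib.Helper8_Fi23States10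

set_option autoImplicit false
set_option Elab.async false

namespace Cfsg.Agent.H8Fi23

open Cfsg.Agent.H8CE

set_option maxRecDepth 1000000 in
theorem htr102 : allBelow (fun i => allBelow (fun x => checkEntry st50 fuel canon pt (Nat.add 31620 i) x) 10) 51 = true := by decide +kernel

set_option maxRecDepth 1000000 in
theorem hcl0 : checkColR pt subs col 0 877 = true := by decide +kernel

set_option maxRecDepth 1000000 in
theorem hcl1 : checkColR pt subs col 877 877 = true := by decide +kernel

set_option maxRecDepth 1000000 in
theorem hcl2 : checkColR pt subs col 1754 877 = true := by decide +kernel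

set_option maxRecDepth 1000000 in
theorem hcl3 : checkColR pt subs col 2631 877 = true := by decide +kernel

set_option maxRecDepth 1000000 in
theorem hcl4 : checkColR pt subs col 3508 877 = true := by decide +kernel

set_option maxRecDepth 1000000 in
theorem hcl5 : checkColR pt subs col 4385 877 = true := by decide +kernel

set_option maxRecDepth 1000000 in
theorem hcl6 : checkColR pt subs col 5262 877 = true := by decide +kernel

set_option maxRecDepth 1000000 in
theorem hcl7 : checkColR pt subs col 6139 877 = true := by decide +kernel

set_option maxRecDepth 1000000 in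
theorem hcl8 : checkColR pt subs col 7016 877 = true := by decide +kernel

set_option maxRecDepth 1000000 in
theorem hcl9 : checkColR pt subs col 7893 877 = true := by decide +kernel

set_option maxRecDepth 1000000 in
theorem hcl10 : checkColR pt subs col 8770 877 = true := by decide +kernel

end Cfsg.Agent.H8Fi23
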