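import Cfsg.Agent.Lib.Helper8_Fi23Perm35
import Cfsg.Agent.Lib.Helper8_CosetBig2
import Cfsg.Agent.Lib.Helper8_Fi23Data
import Cfsg.Agent.Lib.Helper8_Fi23States0
import Cfsg.Agent.Lib.Helper8_Fi23States1
import Cfsg.Agent.Lib.Helper8_Fi23States2
import Cfsg.Agent.Lib.Helper8_Fi23States3
import Cfsg.Agent.Lib.Helper8_Fi23States4
import Cfsg.Agent.Lib.Helper8_Fi23States5
import Cfsg.Agent.Lib.Helper8_Fi23States6
import Cfsg.Agent.Lib.Helper8_Fi23States7
import Cfsg.Agent.Lib.Helper8_Fi23States8
import Cfsg.Agent.Lib.Helper8_Fi23States9
import Cfsg.Agent.Lib.Helper8_Fi23States10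

set_option autoImplicit false
set_option Elab.async false

namespace Cfsg.Agent.H8Fi23

open Cfsg.Agent.H8CE

set_option maxRecDepth 1000000 in
theorem hcl11 : checkColR pt subs col 9647 877 = true := by decide +kernel

set_option maxRecDepth 1000000 in
theorem hcl12 : checkColR pt subs col 10524 877 = true := by decide +kernel

set_option maxRecDepth 1000000 in
theorem hcl13 : checkColR pt subs col 11401 877 = true := by decide +kernel

set_option maxRecDepth 1000000 in
theorem hcl14 : checkColR pt subs col 12278 877 = true := by decide +kernel

set_option maxRecDepth 1000000 in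
theorem hcl15 : checkColR pt subs col 13155 877 = true := by decide +kernel

set_option maxRecDepth 1000000 in
theorem hcl16 : checkColR pt subs col 14032 877 = true := by decide +kernel

set_option maxRecDepth 1000000 in
theorem hcl17 : checkColR pt subs col 14909 877 = true := by decide +kernel

set_option maxRecDepth 1000000 in
theorem hcl18 : checkColR pt subs col 15786 877 = true := by decide +kernel

set_option maxRecDepth 1000000 in
theorem hcl19 : checkColR pt subs col 16663 877 = true := by decide +kernel

set_option maxRecDepth 1000000 in
theorem hcl20 : checkColR pt subs col 17540 877 = true := by decide +kernel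

set_option maxRecDepth 1000000 in
theorem hcl21 : checkColR pt subs col 18417 877 = true := by decide +kernel

set_option maxRecDepth 1000000 in
theorem hcl22 : checkColR pt subs col 19294 877 = true := by decide +kernel

end Cfsg.Agent.H8Fi23
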