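import Cfsg.Agent.Lib.Helper8_Fi23Perm36
import Cfsg.Agent.Lib.Helper8_CosetBig2
import Cfsg.Agent.Lib.Helper8_Fi23Data
import Cfsg.Agent.Lib.Helper8_Fi23States0
import Cfsg.Agent.Lib.Helper8_Fi23States1
import Cfsg.Agent.Lib.Helper8_Fi23States2
import Cfsg.Agent.Lib.Helper8_Fi23States3
import Cfsg.Agent.Lib.Helper8_Fi23States4
import Cfsg.Agent.Lib.Helper8_Fi23States5
import Cfsg.Agent.Lib.Helper8_Fi23States6
import Cfsg.Agent.Lib.Helper8_Fi23States7
import Cfsg.Agent.Lib.Helper8_Fi23States8
import Cfsg.Agent.Lib.Helper8_Fi23States9
import Cfsg.Agent.Lib.Helper8_Fi23States10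

set_option autoImplicit false
set_option Elab.async false

namespace Cfsg.Agent.H8Fi23

open Cfsg.Agent.H8CE

set_option maxRecDepth 1000000 in
theorem hcl23 : checkColR pt subs col 20171 877 = true := by decide +kernel

set_option maxRecDepth 1000000 in
theorem hcl24 : checkColR pt subs col 21048 877 = true := by decide +kernel

set_option maxRecDepth 1000000 in
theorem hcl25 : checkColR pt subs col 21925 877 = true := by decide +kernel

set_option maxRecDepth 1000000 in
theorem hcl26 : checkColR pt subs col 22802 877 = true := by decide +kernel

set_option maxRecDepth 1000000 in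
theorem hcl27 : checkColR pt subs col 23679 877 = true := by decide +kernel

set_option maxRecDepth 1000000 in
theorem hcl28 : checkColR pt subs col 24556 877 = true := by decide +kernel

set_option maxRecDepth 1000000 in
theorem hcl29 : checkColR pt subs col 25433 877 = true := by decide +kernel

set_option maxRecDepth 1000000 in
theorem hcl30 : checkColR pt subs col 26310 877 = true := by decide +kernel

set_option maxRecDepth 1000000 in
theorem hcl31 : checkColR pt subs col 27187 877 = true := by decide +kernel

set_option maxRecDepth 1000000 in
theorem hcl32 : checkColR pt subs col 28064 877 = true := by decide +kernel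

set_option maxRecDepth 1000000 in
theorem hcl33 : checkColR pt subs col 28941 877 = true := by decide +kernel

set_option maxRecDepth 1000000 in
theorem hcl34 : checkColR pt subs col 29818 877 = true := by decide +kernel

end Cfsg.Agent.H8Fi23
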