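import Cfsg.Agent.Lib.Helper8_Fi23Perm37
import Cfsg.Agent.Lib.Helper8_CosetBig2
import Cfsg.Agent.Lib.Helper8_Fi23Data
import Cfsg.Agent.Lib.Helper8_Fi23States0
import Cfsg.Agent.Lib.Helper8_Fi23States1
import Cfsg.Agent.Lib.Helper8_Fi23States2
import Cfsg.Agent.Lib.Helper8_Fi23States3
import Cfsg.Agent.Lib.Helper8_Fi23States4
import Cfsg.Agent.Lib.Helper8_Fi23States5
import Cfsg.Agent.Lib.Helper8_Fi23States6
import Cfsg.Agent.Lib.Helper8_Fi23States7
import Cfsg.Agent.Lib.Helper8_Fi23States8
import Cfsg.Agent.Lib.Helper8_Fi23States9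
import Cfsg.Agent.Lib.Helper8_Fi23States10

set_option autoImplicit false
set_option Elab.async false

namespace Cfsg.Agent.H8Fi23

open Cfsg.Agent.H8CE

set_option maxRecDepth 1000000 in
theorem hcl35 : checkColR pt subs col 30695 877 = true := by decide +kernel

set_option maxRecDepth 1000000 in
theorem hcl36 : checkColR pt subs col 31572 99 = true := by decide +kernel

set_option maxRecDepth 1000000 in
theorem hob0 : allBelow (fun j => (fun i => Nat.beq i (dig roots (dig col i)) || (Nat.blt (dig op i) 31671 && Nat.blt (dig od (dig op i)) (dig od i) && Nat.beq (tabW pt (nthW subs (dig ow i)) (dig op i)) i)) (Nat.add 0 j)) 2960 = true := by decide +kernel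

set_option maxRecDepth 1000000 in
theorem hob1 : allBelow (fun j => (fun i => Nat.beq i (dig roots (dig col i)) || (Nat.blt (dig op i) 31671 && Nat.blt (dig od (dig op i)) (dig od i) && Nat.beq (tabW pt (nthW subs (dig ow i)) (dig op i)) i)) (Nat.add 2960 j)) 2960 = true := by decide +kernel

set_option maxRecDepth 1000000 in
theorem hob2 : allBelow (fun j => (fun i => Nat.beq i (dig roots (dig col i)) || (Nat.blt (dig op i) 31671 && Nat.blt (dig od (dig op i)) (dig od i) && Nat.beq (tabW pt (nthW subs (dig ow i)) (dig op i)) i)) (Nat.add 5920 j)) 2960 = true := by decide +kernel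

set_option maxRecDepth 1000000 in
theorem hob3 : allBelow (fun j => (fun i => Nat.beq i (dig roots (dig col i)) || (Nat.blt (dig op i) 31671 && Nat.blt (dig od (dig op i)) (dig od i) && Nat.beq (tabW pt (nthW subs (dig ow i)) (dig op i)) i)) (Nat.add 8880 j)) 2960 = true := by decide +kernel

set_option maxRecDepth 1000000 in
theorem hob4 : allBelow (fun j => (fun i => Nat.beq i (dig roots (dig col i)) || (Nat.blt (dig op i) 31671 && Nat.blt (dig od (dig op i)) (dig od i) && Nat.beq (tabW pt (nthW subs (dig ow i)) (dig op i)) i)) (Nat.add 11840 j)) 2960 = true := by decide +kernel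

set_option maxRecDepth 1000000 in
theorem hob5 : allBelow (fun j => (fun i => Nat.beq i (dig roots (dig col i)) || (Nat.blt (dig op i) 31671 && Nat.blt (dig od (dig op i)) (dig od i) && Nat.beq (tabW pt (nthW subs (dig ow i)) (dig op i)) i)) (Nat.add 14800 j)) 2960 = true := by decide +kernel

set_option maxRecDepth 1000000 in
theorem hob6 : allBelow (fun j => (fun i => Nat.beq i (dig roots (dig col i)) || (Nat.blt (dig op i) 31671 && Nat.blt (dig od (dig op i)) (dig od i) && Nat.beq (tabW pt (nthW subs (dig ow i)) (dig op i)) i)) (Nat.add 17760 j)) 2960 = true := by decide +kernel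

set_option maxRecDepth 1000000 in
theorem hob7 : allBelow (fun j => (fun i => Nat.beq i (dig roots (dig col i)) || (Nat.blt (dig op i) 31671 && Nat.blt (dig od (dig op i)) (dig od i) && Nat.beq (tabW pt (nthW subs (dig ow i)) (dig op i)) i)) (Nat.add 20720 j)) 2960 = true := by decide +kernel

set_option maxRecDepth 1000000 in
theorem hob8 : allBelow (fun j => (fun i => Nat.beq i (dig roots (dig col i)) || (Nat.blt (dig op i) 31671 && Nat.blt (dig od (dig op i)) (dig od i) && Nat.beq (tabW pt (nthW subs (dig ow i)) (dig op i)) i)) (Nat.add 23680 j)) 2960 = true := by decide +kernel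

set_option maxRecDepth 1000000 in
theorem hob9 : allBelow (fun j => (fun i => Nat.beq i (dig roots (dig col i)) || (Nat.blt (dig op i) 31671 && Nat.blt (dig od (dig op i)) (dig od i) && Nat.beq (tabW pt (nthW subs (dig ow i)) (dig op i)) i)) (Nat.add 26640 j)) 2960 = true := by decide +kernel

end Cfsg.Agent.H8Fi23
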