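import Cfsg.Agent.Lib.Helper8_Fi23Perm38
import Cfsg.Agent.Lib.Helper8_CosetBig2
import Cfsg.Agent.Lib.Helper8_Fi23Data
import Cfsg.Agent.Lib.Helper8_Fi23States0
import Cfsg.Agent.Lib.Helper8_Fi23States1
import Cfsg.Agent.Lib.Helper8_Fi23States2
import Cfsg.Agent.Lib.Helper8_Fi23States3
import Cfsg.Agent.Lib.Helper8_Fi23States4
import Cfsg.Agent.Lib.Helper8_Fi23States5
import Cfsg.Agent.Lib.Helper8_Fi23States6
import Cfsg.Agent.Lib.Helper8_Fi23States7
import Cfsg.Agent.Lib.Helper8_Fi23States8
import Cfsg.Agent.Lib.Helper8_Fi23States9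
import Cfsg.Agent.Lib.Helper8_Fi23States10

set_option autoImplicit false
set_option Elab.async false

namespace Cfsg.Agent.H8Fi23

open Cfsg.Agent.H8CE

set_option maxRecDepth 1000000 in
theorem hob10 : allBelow (fun j => (fun i => Nat.beq i (dig roots (dig col i)) || (Nat.blt (dig op i) 31671 && Nat.blt (dig od (dig op i)) (dig od i) && Nat.beq (tabW pt (nthW subs (dig ow i)) (dig op i)) i)) (Nat.add 29600 j)) 2071 = true := by decide +kernel

set_option maxRecDepth 1000000 in
theorem hcn1_0 : countBelow (fun j => (fun i => Nat.beq (dig col i) 1) (Nat.add 0 j)) 8000 = 6178 := by decide +kernel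

set_option maxRecDepth 1000000 in
theorem hcn1_1 : countBelow (fun j => (fun i => Nat.beq (dig col i) 1) (Nat.add 8000 j)) 8000 = 6879 := by decide +kernel

set_option maxRecDepth 1000000 in
theorem hcn1_2 : countBelow (fun j => (fun i => Nat.beq (dig col i) 1) (Nat.add 16000 j)) 8000 = 7432 := by decide +kernel

set_option maxRecDepth 1000000 in
theorem hcn1_3 : countBelow (fun j => (fun i => Nat.beq (dig col i) 1) (Nat.add 24000 j)) 7671 = 7671 := by decide +kernel

set_option maxRecDepth 1000000 in
theorem hcn2_0 : countBelow (fun j => (fun i => Nat.beq (dig col i) 2) (Nat.add 0 j)) 8000 = 1821 := by decide +kernel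

set_option maxRecDepth 1000000 in
theorem hcn2_1 : countBelow (fun j => (fun i => Nat.beq (dig col i) 2) (Nat.add 8000 j)) 8000 = 1121 := by decide +kernel

set_option maxRecDepth 1000000 in
theorem hcn2_2 : countBelow (fun j => (fun i => Nat.beq (dig col i) 2) (Nat.add 16000 j)) 8000 = 568 := by decide +kernel

set_option maxRecDepth 1000000 in
theorem hcn2_3 : countBelow (fun j => (fun i => Nat.beq (dig col i) 2) (Nat.add 24000 j)) 7671 = 0 := by decide +kernel

end Cfsg.Agent.H8Fi23
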