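import Cfsg.Agent.Lib.Helper8_CosetBig2
import Cfsg.Agent.Lib.Helper8_Fi23Data
import Cfsg.Agent.Lib.Helper8_Fi23States0
import Cfsg.Agent.Lib.Helper8_Fi23States1
import Cfsg.Agent.Lib.Helper8_Fi23States2
import Cfsg.Agent.Lib.Helper8_Fi23States3
import Cfsg.Agent.Lib.Helper8_Fi23States4
import Cfsg.Agent.Lib.Helper8_Fi23States5
import Cfsg.Agent.Lib.Helper8_Fi23States6
import Cfsg.Agent.Lib.Helper8_Fi23States7
import Cfsg.Agent.Lib.Helper8_Fi23States8
import Cfsg.Agent.Lib.Helper8_Fi23States9
import Cfsg.Agent.Lib.Helper8_Fi23States10

set_option autoImplicit false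
set_option Elab.async false

namespace Cfsg.Agent.H8Fi23

open Cfsg.Agent.H8CE

set_option maxRecDepth 1000000 in
theorem hwr40 : checkWordsR pt rels 3320 83 = true := by decide +kernel

set_option maxRecDepth 1000000 in
theorem hwr41 : checkWordsR pt rels 3403 83 = true := by decide +kernel

set_option maxRecDepth 1000000 in
theorem hwr42 : checkWordsR pt rels 3486 83 = true := by decide +kernel

set_option maxRecDepth 1000000 in
theorem hwr43 : checkWordsR pt rels 3569 83 = true := by decide +kernel

set_option maxRecDepth 1000000 in
theorem hwr44 : checkWordsR pt rels 3652 83 = true := by decide +kernel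

set_option maxRecDepth 1000000 in
theorem hwr45 : checkWordsR pt rels 3735 83 = true := by decide +kernel

set_option maxRecDepth 1000000 in
theorem hwr46 : checkWordsR pt rels 3818 83 = true := by decide +kernel

set_option maxRecDepth 1000000 in
theorem hwr47 : checkWordsR pt rels 3901 83 = true := by decide +kernel

set_option maxRecDepth 1000000 in
theorem hwr48 : checkWordsR pt rels 3984 83 = true := by decide +kernel

set_option maxRecDepth 1000000 in
theorem hwr49 : checkWordsR pt rels 4067 83 = true := by decide +kernel

set_option maxRecDepth 1000000 in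
theorem hwr50 : checkWordsR pt rels 4150 83 = true := by decide +kernel

set_option maxRecDepth 1000000 in
theorem hwr51 : checkWordsR pt rels 4233 83 = true := by decide +kernel

end Cfsg.Agent.H8Fi23
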