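import Cfsg.Agent.Lib.Helper8_CosetBig2
import Cfsg.Agent.Lib.Helper8_Fi23Data
import Cfsg.Agent.Lib.Helper8_Fi23States0
import Cfsg.Agent.Lib.Helper8_Fi23States1
import Cfsg.Agent.Lib.Helper8_Fi23States2
import Cfsg.Agent.Lib.Helper8_Fi23States3
import Cfsg.Agent.Lib.Helper8_Fi23States4
import Cfsg.Agent.Lib.Helper8_Fi23States5
import Cfsg.Agent.Lib.Helper8_Fi23States6
import Cfsg.Agent.Lib.Helper8_Fi23States7
import Cfsg.Agent.Lib.Helper8_Fi23States8
import Cfsg.Agent.Lib.Helper8_Fi23States9
import Cfsg.Agent.Lib.Helper8_Fi23States10

set_option autoImplicit false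
set_option Elab.async false

namespace Cfsg.Agent.H8Fi23

open Cfsg.Agent.H8CE

set_option maxRecDepth 1000000 in
theorem hwr52 : checkWordsR pt rels 4316 83 = true := by decide +kernel

set_option maxRecDepth 1000000 in
theorem hwr53 : checkWordsR pt rels 4399 83 = true := by decide +kernel

set_option maxRecDepth 1000000 in
theorem hwr54 : checkWordsR pt rels 4482 83 = true := by decide +kernel

set_option maxRecDepth 1000000 in
theorem hwr55 : checkWordsR pt rels 4565 83 = true := by decide +kernel

set_option maxRecDepth 1000000 in
theorem hwr56 : checkWordsR pt rels 4648 83 = true := by decide +kernel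

set_option maxRecDepth 1000000 in
theorem hwr57 : checkWordsR pt rels 4731 83 = true := by decide +kernel

set_option maxRecDepth 1000000 in
theorem hwr58 : checkWordsR pt rels 4814 83 = true := by decide +kernel

set_option maxRecDepth 1000000 in
theorem hwr59 : checkWordsR pt rels 4897 83 = true := by decide +kernel

set_option maxRecDepth 1000000 in
theorem hwr60 : checkWordsR pt rels 4980 83 = true := by decide +kernel

set_option maxRecDepth 1000000 in
theorem hwr61 : checkWordsR pt rels 5063 83 = true := by decide +kernel

set_option maxRecDepth 1000000 in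
theorem hwr62 : checkWordsR pt rels 5146 83 = true := by decide +kernel

set_option maxRecDepth 1000000 in
theorem hwr63 : checkWordsR pt rels 5229 83 = true := by decide +kernel

end Cfsg.Agent.H8Fi23
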