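import Cfsg.Agent.Lib.Helper8_CosetBig2
import Cfsg.Agent.Lib.Helper8_Fi23Data
import Cfsg.Agent.Lib.Helper8_Fi23States0
import Cfsg.Agent.Lib.Helper8_Fi23States1
import Cfsg.Agent.Lib.Helper8_Fi23States2
import Cfsg.Agent.Lib.Helper8_Fi23States3
import Cfsg.Agent.Lib.Helper8_Fi23States4
import Cfsg.Agent.Lib.Helper8_Fi23States5
import Cfsg.Agent.Lib.Helper8_Fi23States6
import Cfsg.Agent.Lib.Helper8_Fi23States7
import Cfsg.Agent.Lib.Helper8_Fi23States8
import Cfsg.Agent.Lib.Helper8_Fi23States9
import Cfsg.Agent.Lib.Helper8_Fi23States10

set_option autoImplicit false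
set_option Elab.async false

namespace Cfsg.Agent.H8Fi23

open Cfsg.Agent.H8CE

set_option maxRecDepth 1000000 in
theorem hwr64 : checkWordsR pt rels 5312 83 = true := by decide +kernel

set_option maxRecDepth 1000000 in
theorem hwr65 : checkWordsR pt rels 5395 83 = true := by decide +kernel

set_option maxRecDepth 1000000 in
theorem hwr66 : checkWordsR pt rels 5478 83 = true := by decide +kernel

set_option maxRecDepth 1000000 in
theorem hwr67 : checkWordsR pt rels 5561 83 = true := by decide +kernel

set_option maxRecDepth 1000000 in
theorem hwr68 : checkWordsR pt rels 5644 83 = true := by decide +kernel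

set_option maxRecDepth 1000000 in
theorem hwr69 : checkWordsR pt rels 5727 83 = true := by decide +kernel

set_option maxRecDepth 1000000 in
theorem hwr70 : checkWordsR pt rels 5810 83 = true := by decide +kernel

set_option maxRecDepth 1000000 in
theorem hwr71 : checkWordsR pt rels 5893 83 = true := by decide +kernel

set_option maxRecDepth 1000000 in
theorem hwr72 : checkWordsR pt rels 5976 83 = true := by decide +kernel

set_option maxRecDepth 1000000 in
theorem hwr73 : checkWordsR pt rels 6059 83 = true := by decide +kernel

set_option maxRecDepth 1000000 in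
theorem hwr74 : checkWordsR pt rels 6142 83 = true := by decide +kernel

set_option maxRecDepth 1000000 in
theorem hwr75 : checkWordsR pt rels 6225 83 = true := by decide +kernel

end Cfsg.Agent.H8Fi23
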