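import Cfsg.Agent.Lib.Helper8_Fi23Perm0
import Cfsg.Agent.Lib.Helper8_CosetBig2
import Cfsg.Agent.Lib.Helper8_Fi23Data
import Cfsg.Agent.Lib.Helper8_Fi23States0
import Cfsg.Agent.Lib.Helper8_Fi23States1
import Cfsg.Agent.Lib.Helper8_Fi23States2
import Cfsg.Agent.Lib.Helper8_Fi23States3
import Cfsg.Agent.Lib.Helper8_Fi23States4
import Cfsg.Agent.Lib.Helper8_Fi23States5
import Cfsg.Agent.Lib.Helper8_Fi23States6
import Cfsg.Agent.Lib.Helper8_Fi23States7
import Cfsg.Agent.Lib.Helper8_Fi23States8
import Cfsg.Agent.Lib.Helper8_Fi23States9
import Cfsg.Agent.Lib.Helper8_Fi23States10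

set_option autoImplicit false
set_option Elab.async false

namespace Cfsg.Agent.H8Fi23

open Cfsg.Agent.H8CE

set_option maxRecDepth 1000000 in
theorem hwr76 : checkWordsR pt rels 6308 83 = true := by decide +kernel

set_option maxRecDepth 1000000 in
theorem hwr77 : checkWordsR pt rels 6391 83 = true := by decide +kernel

set_option maxRecDepth 1000000 in
theorem hwr78 : checkWordsR pt rels 6474 83 = true := by decide +kernel

set_option maxRecDepth 1000000 in
theorem hwr79 : checkWordsR pt rels 6557 83 = true := by decide +kernel

set_option maxRecDepth 1000000 in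
theorem hwr80 : checkWordsR pt rels 6640 83 = true := by decide +kernel

set_option maxRecDepth 1000000 in
theorem hwr81 : checkWordsR pt rels 6723 83 = true := by decide +kernel

set_option maxRecDepth 1000000 in
theorem hwr82 : checkWordsR pt rels 6806 83 = true := by decide +kernel

set_option maxRecDepth 1000000 in
theorem hwr83 : checkWordsR pt rels 6889 83 = true := by decide +kernel

set_option maxRecDepth 1000000 in
theorem hwr84 : checkWordsR pt rels 6972 83 = true := by decide +kernel

set_option maxRecDepth 1000000 in
theorem hwr85 : checkWordsR pt rels 7055 83 = true := by decide +kernel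

set_option maxRecDepth 1000000 in
theorem hwr86 : checkWordsR pt rels 7138 83 = true := by decide +kernel

set_option maxRecDepth 1000000 in
theorem hwr87 : checkWordsR pt rels 7221 83 = true := by decide +kernel

end Cfsg.Agent.H8Fi23
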