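import Cfsg.Agent.Lib.Helper8_Fi23Perm1
import Cfsg.Agent.Lib.Helper8_CosetBig2
import Cfsg.Agent.Lib.Helper8_Fi23Data
import Cfsg.Agent.Lib.Helper8_Fi23States0
import Cfsg.Agent.Lib.Helper8_Fi23States1
import Cfsg.Agent.Lib.Helper8_Fi23States2
import Cfsg.Agent.Lib.Helper8_Fi23States3
import Cfsg.Agent.Lib.Helper8_Fi23States4
import Cfsg.Agent.Lib.Helper8_Fi23States5
import Cfsg.Agent.Lib.Helper8_Fi23States6
import Cfsg.Agent.Lib.Helper8_Fi23States7
import Cfsg.Agent.Lib.Helper8_Fi23States8
import Cfsg.Agent.Lib.Helper8_Fi23States9
import Cfsg.Agent.Lib.Helper8_Fi23States10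

set_option autoImplicit false
set_option Elab.async false

namespace Cfsg.Agent.H8Fi23

open Cfsg.Agent.H8CE

set_option maxRecDepth 1000000 in
theorem hwr88 : checkWordsR pt rels 7304 83 = true := by decide +kernel

set_option maxRecDepth 1000000 in
theorem hwr89 : checkWordsR pt rels 7387 83 = true := by decide +kernel

set_option maxRecDepth 1000000 in
theorem hwr90 : checkWordsR pt rels 7470 83 = true := by decide +kernel

set_option maxRecDepth 1000000 in
theorem hwr91 : checkWordsR pt rels 7553 83 = true := by decide +kernel

set_option maxRecDepth 1000000 in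
theorem hwr92 : checkWordsR pt rels 7636 83 = true := by decide +kernel

set_option maxRecDepth 1000000 in
theorem hwr93 : checkWordsR pt rels 7719 83 = true := by decide +kernel

set_option maxRecDepth 1000000 in
theorem hwr94 : checkWordsR pt rels 7802 83 = true := by decide +kernel

set_option maxRecDepth 1000000 in
theorem hwr95 : checkWordsR pt rels 7885 83 = true := by decide +kernel

set_option maxRecDepth 1000000 in
theorem hwr96 : checkWordsR pt rels 7968 83 = true := by decide +kernel

set_option maxRecDepth 1000000 in
theorem hwr97 : checkWordsR pt rels 8051 83 = true := by decide +kernel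

set_option maxRecDepth 1000000 in
theorem hwr98 : checkWordsR pt rels 8134 83 = true := by decide +kernel

set_option maxRecDepth 1000000 in
theorem hwr99 : checkWordsR pt rels 8217 83 = true := by decide +kernel

end Cfsg.Agent.H8Fi23
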