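import Mathlib
import Cfsg.Prelude.Def_FischerSpaces

set_option autoImplicit false

/-! Line systems with three-point lines: the maps `t(x) = lineMap L x`, their transport along
isomorphisms and restriction to subspaces. -/

namespace Cfsg.Agent.Lib.Helper8_FischerSpace

open Cfsg Cfsg.LineSystem

variable {X : Type*}

/-- `x` and `y` are joined by a line `{x, y, z}`. -/
def Col (L : Set (Set X)) (x y : X) : Prop :=
  ∃ z : X, z ≠ x ∧ z ≠ y ∧ x ≠ y ∧ ({x, y, z} : Set X) ∈ L

theorem lineMap_spec (L : Set (Set X)) (x y : X) (h : Col L x y) :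
    lineMap L x y ≠ x ∧ lineMap L x y ≠ y ∧ x ≠ y ∧ ({x, y, lineMap L x y} : Set X) ∈ L := by
  unfold lineMap
  unfold Col at h
  rw [dif_pos h]
  exact h.choose_spec

theorem lineMap_of_not (L : Set (Set X)) (x y : X) (h : ¬ Col L x y) : lineMap L x y = y := by
  unfold lineMap
  unfold Col at h
  rw [dif_neg h]

theorem lineMap_eq_third {L : Set (Set X)} (hL : IsPartialLinear L) {x y z : X} (hzx : z ≠ x)
    (hzy : z ≠ y) (hxy : x ≠ y) (hl : ({x, y, z} : Set X) ∈ L) : lineMap L x y = z := by
  have h : Col L x y := ⟨z, hzx, hzy, hxy, hl⟩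
  obtain ⟨_, _, _, h4⟩ := lineMap_spec L x y h
  have e := hL _ hl _ h4 x y hxy (by simp) (by simp) (by simp) (by simp)
  have hz : z ∈ ({x, y, lineMap L x y} : Set X) := by rw [← e]; simp
  simp only [Set.mem_insert_iff, Set.mem_singleton_iff] at hz
  rcases hz with h | h | h
  · exact absurd h hzx
  · exact absurd h hzy
  · exact h.symm

theorem ncard_triple {x y z : X} (hxy : x ≠ y) (hxz : x ≠ z) (hyz : y ≠ z) :
    ({x, y, z} : Set X).ncard = 3 :=
  Set.ncard_eq_three.mpr ⟨x, y, z, hxy, hxz, hyz, rfl⟩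

/-- A three-point set containing two given distinct points is `{x, y, z}` for a third point `z`. -/
theorem exists_third {l : Set X} (h3 : l.ncard = 3) {x y : X} (hx : x ∈ l) (hy : y ∈ l)
    (hxy : x ≠ y) : ∃ z, z ≠ x ∧ z ≠ y ∧ z ∈ l ∧ l = {x, y, z} := by
  have hfin : l.Finite := Set.finite_of_ncard_ne_zero (by rw [h3]; norm_num)
  have h2 : ({x, y} : Set X).ncard < l.ncard := by
    rw [h3, Set.ncard_pair hxy]; norm_num
  obtain ⟨z, hzl, hz⟩ := Set.exists_mem_notMem_of_ncard_lt_ncard h2 (Set.toFinite _)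
  have hzx : z ≠ x := fun h => hz (by rw [h]; simp)
  have hzy : z ≠ y := fun h => hz (by rw [h]; simp)
  refine ⟨z, hzx, hzy, hzl, ?_⟩
  symm
  apply Set.eq_of_subset_of_ncard_le _ _ hfin
  · intro w hw
    simp only [Set.mem_insert_iff, Set.mem_singleton_iff] at hw
    rcases hw with rfl | rfl | rfl <;> assumption
  · rw [h3, ncard_triple hxy (Ne.symm hzx) (Ne.symm hzy)]

theorem col_of_mem {L : Set (Set X)} (h3 : ∀ l ∈ L, l.ncard = 3) {l : Set X} (hl : l ∈ L)
    {x y : X} (hx : x ∈ l) (hy : y ∈ l) (hxy : x ≠ y) : Col L x y := by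
  obtain ⟨z, hzx, hzy, _, e⟩ := exists_third (h3 l hl) hx hy hxy
  exact ⟨z, hzx, hzy, hxy, e ▸ hl⟩

theorem triple_comm (x y z : X) : ({x, y, z} : Set X) = {x, z, y} := by
  ext w; simp only [Set.mem_insert_iff, Set.mem_singleton_iff]; tauto

theorem triple_swap (x y z : X) : ({x, y, z} : Set X) = {y, x, z} := by
  ext w; simp only [Set.mem_insert_iff, Set.mem_singleton_iff]; tauto

theorem lineMap_involutive {L : Set (Set X)} (hL : IsPartialLinear L) (x : X) :
    Function.Involutive (lineMap L x) := by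
  intro y
  by_cases h : Col L x y
  · obtain ⟨h1, h2, h3, h4⟩ := lineMap_spec L x y h
    apply lineMap_eq_third hL (Ne.symm h3) (Ne.symm h2) (Ne.symm h1)
    rw [triple_comm]; exact h4
  · rw [lineMap_of_not L x y h, lineMap_of_not L x y h]

theorem lineMap_self (L : Set (Set X)) (x : X) : lineMap L x x = x := by
  apply lineMap_of_not
  rintro ⟨z, _, _, h, _⟩
  exact h rfl

/-- transport of `lineMap` along an isomorphism of line systems -/
theorem lineMap_iso {Y : Type*} {L : Set (Set X)} {M : Set (Set Y)} (hL : IsPartialLinear L)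
    (hM : IsPartialLinear M) (e : X ≃ Y) (he : IsIso L M e) (x y : X) :
    lineMap M (e x) (e y) = e (lineMap L x y) := by
  have himg : ∀ a b c : X, e '' ({a, b, c} : Set X) = {e a, e b, e c} := by
    intro a b c
    rw [Set.image_insert_eq, Set.image_insert_eq, Set.image_singleton]
  by_cases h : Col L x y
  · obtain ⟨h1, h2, h3, h4⟩ := lineMap_spec L x y h
    apply lineMap_eq_third hM (e.injective.ne h1) (e.injective.ne h2) (e.injective.ne h3)
    rw [← himg]; exact (he _).mp h4
  · have h' : ¬ Col M (e x) (e y) := by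
      rintro ⟨z, hz1, hz2, hz3, hz4⟩
      apply h
      refine ⟨e.symm z, ?_, ?_, ?_, ?_⟩
      · intro hh; apply hz1; rw [← hh]; simp
      · intro hh; apply hz2; rw [← hh]; simp
      · intro hh; apply hz3; rw [hh]
      · rw [he, himg]; simpa using hz4
    rw [lineMap_of_not L x y h, lineMap_of_not M _ _ h']

/-- reflections map lines to lines -/
def ReflClosed (L : Set (Set X)) : Prop := ∀ x : X, ∀ l ∈ L, (lineMap L x) '' l ∈ L

theorem reflClosed_of_iso {Y : Type*} {L : Set (Set X)} {M : Set (Set Y)}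
    (hL : IsPartialLinear L) (hM : IsPartialLinear M) (e : X ≃ Y) (he : IsIso L M e)
    (hM' : ReflClosed M) : ReflClosed L := by
  intro x l hl
  rw [he]
  have h1 := hM' (e x) (e '' l) ((he l).mp hl)
  have h2 : e '' (lineMap L x '' l) = lineMap M (e x) '' (e '' l) := by
    rw [Set.image_image, Set.image_image]
    apply Set.image_congr
    intro y _
    exact (lineMap_iso hL hM e he x y).symm
  rw [h2]; exact h1

/-! ### spans and restrictions -/

theorem span_subspace (L : Set (Set X)) (S : Set X) : IsSubspace L (span L S) := by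
  intro l hl x hx y hy hxy hxl hyl w hw
  apply Set.mem_sInter.mpr
  intro T hT
  exact hT.2 l hl x (Set.mem_sInter.mp hx T hT) y (Set.mem_sInter.mp hy T hT) hxy hxl hyl hw

theorem subset_span (L : Set (Set X)) (S : Set X) : S ⊆ span L S := by
  intro x hx
  apply Set.mem_sInter.mpr
  intro T hT
  exact hT.1 hx

theorem restrict_pl {L : Set (Set X)} (hL : IsPartialLinear L) (S : Set X) :
    IsPartialLinear (restrict L S) := by
  rintro m ⟨l, hl, hlS, rfl⟩ m' ⟨l', hl', hl'S, rfl⟩ x y hxy hx hy hx' hy'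
  have : l = l' := hL l hl l' hl' x y (fun h => hxy (Subtype.ext h)) hx hy hx' hy'
  rw [this]

theorem lineMap_restrict {L : Set (Set X)} (hL : IsPartialLinear L)
    (h3 : ∀ l ∈ L, l.ncard = 3) {S : Set X} (hS : IsSubspace L S) (x y : S) :
    ((lineMap (restrict L S) x y : S) : X) = lineMap L (x : X) (y : X) := by
  by_cases h : Col L (x : X) (y : X)
  · obtain ⟨h1, h2, h3', h4⟩ := lineMap_spec L x y h
    have hsub : ({(x : X), (y : X), lineMap L x y} : Set X) ⊆ S :=
      hS _ h4 x x.2 y y.2 h3' (by simp) (by simp)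
    have hz : lineMap L (x : X) (y : X) ∈ S := hsub (by simp)
    have e : lineMap (restrict L S) x y = ⟨lineMap L x y, hz⟩ := by
      apply lineMap_eq_third (restrict_pl hL S)
      · intro hh; exact h1 (congrArg Subtype.val hh)
      · intro hh; exact h2 (congrArg Subtype.val hh)
      · intro hh; exact h3' (congrArg Subtype.val hh)
      · refine ⟨_, h4, hsub, ?_⟩
        ext w
        simp only [Set.mem_insert_iff, Set.mem_singleton_iff, Set.mem_setOf_eq, Subtype.ext_iff]
    rw [e]
  · have h' : ¬ Col (restrict L S) x y := by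
      rintro ⟨z, _, _, hz3, ⟨l, hl, _, e⟩⟩
      apply h
      have hx : (x : X) ∈ l := by
        have : x ∈ ({x, y, z} : Set S) := by simp
        rw [e] at this; exact this
      have hy : (y : X) ∈ l := by
        have : y ∈ ({x, y, z} : Set S) := by simp
        rw [e] at this; exact this
      exact col_of_mem h3 hl hx hy (fun hh => hz3 (Subtype.ext hh))
    rw [lineMap_of_not _ _ _ h', lineMap_of_not _ _ _ h]

/-- a reflection in a point of a line preserves the line -/
theorem image_of_mem {L : Set (Set X)} (hL : IsPartialLinear L) (h3 : ∀ l ∈ L, l.ncard = 3)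
    {l : Set X} (hl : l ∈ L) {x : X} (hx : x ∈ l) : lineMap L x '' l = l := by
  have hfin : l.Finite := Set.finite_of_ncard_ne_zero (by rw [h3 l hl]; norm_num)
  have h1 : ({x} : Set X).ncard < l.ncard := by rw [h3 l hl, Set.ncard_singleton]; norm_num
  obtain ⟨y, hyl, hy⟩ := Set.exists_mem_notMem_of_ncard_lt_ncard h1 (Set.toFinite _)
  have hyx : y ≠ x := fun h => hy (by rw [h]; simp)
  obtain ⟨z, hzx, hzy, _, e⟩ := exists_third (h3 l hl) hx hyl (Ne.symm hyx)
  have hl' : ({x, y, z} : Set X) ∈ L := e ▸ hl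
  have e1 : lineMap L x y = z := lineMap_eq_third hL hzx hzy (Ne.symm hyx) hl'
  have e2 : lineMap L x z = y := by
    apply lineMap_eq_third hL hyx (Ne.symm hzy) (Ne.symm hzx)
    rw [triple_comm]; exact hl'
  rw [e, Set.image_insert_eq, Set.image_insert_eq, Set.image_singleton, lineMap_self, e1, e2,
    triple_comm]

theorem image_of_not_col {L : Set (Set X)} {l : Set X} {x : X}
    (h : ∀ p ∈ l, ¬ Col L x p) : lineMap L x '' l = l := by
  ext w
  constructor
  · rintro ⟨y, hy, rfl⟩; rw [lineMap_of_not L x y (h y hy)]; exact hy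
  · intro hw; exact ⟨w, hw, lineMap_of_not L x w (h w hw)⟩

theorem reflClosed_of_fischer {L : Set (Set X)} (hL : IsFischerSpace L)
    (h1 : IsPartialLinear dualAffinePlaneTwo) (h1' : ReflClosed dualAffinePlaneTwo)
    (h2 : IsPartialLinear affinePlaneThree) (h2' : ReflClosed affinePlaneThree) :
    ReflClosed L := by
  obtain ⟨hPL, h3, hF⟩ := hL
  intro x l hl
  by_cases hxl : x ∈ l
  · rw [image_of_mem hPL h3 hl hxl]; exact hl
  · by_cases hcol : ∃ p ∈ l, Col L x p
    · obtain ⟨p, hp, z, hzx, hzp, hxp, hm⟩ := hcol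
      have hne : l ≠ {x, p, z} := fun h => hxl (h ▸ by simp)
      have hmeet : (l ∩ {x, p, z}).Nonempty := ⟨p, hp, by simp⟩
      have hsub := span_subspace L (l ∪ {x, p, z})
      have hle := subset_span L (l ∪ {x, p, z})
      have hRC : ReflClosed (restrict L (span L (l ∪ {x, p, z}))) := by
        rcases hF l hl _ hm hne hmeet with ⟨e, he⟩ | ⟨e, he⟩
        · exact reflClosed_of_iso (restrict_pl hPL _) h1 e he h1'
        · exact reflClosed_of_iso (restrict_pl hPL _) h2 e he h2'
      have hxS : x ∈ span L (l ∪ {x, p, z}) := hle (Or.inr (by simp))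
      have hlS : l ⊆ span L (l ∪ {x, p, z}) := fun w hw => hle (Or.inl hw)
      have hl' : {w : span L (l ∪ {x, p, z}) | (w : X) ∈ l} ∈
          restrict L (span L (l ∪ {x, p, z})) := ⟨l, hl, hlS, rfl⟩
      obtain ⟨l₂, hl₂, hl₂S, e₂⟩ := hRC ⟨x, hxS⟩ _ hl'
      have e3 : lineMap L x '' l = l₂ := by
        ext w
        constructor
        · rintro ⟨y, hy, rfl⟩
          have hyS := hlS hy
          have hmem : lineMap (restrict L (span L (l ∪ {x, p, z}))) ⟨x, hxS⟩ ⟨y, hyS⟩ ∈
              lineMap (restrict L (span L (l ∪ {x, p, z}))) ⟨x, hxS⟩ ''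
                {w : span L (l ∪ {x, p, z}) | (w : X) ∈ l} := ⟨⟨y, hyS⟩, hy, rfl⟩
          rw [e₂] at hmem
          have e4 := lineMap_restrict hPL h3 hsub ⟨x, hxS⟩ ⟨y, hyS⟩
          have hmem' : ((lineMap (restrict L (span L (l ∪ {x, p, z}))) ⟨x, hxS⟩ ⟨y, hyS⟩ :
              span L (l ∪ {x, p, z})) : X) ∈ l₂ := hmem
          rw [e4] at hmem'
          exact hmem'
        · intro hw
          have hwS := hl₂S hw
          have hmem : (⟨w, hwS⟩ : span L (l ∪ {x, p, z})) ∈
              {u : span L (l ∪ {x, p, z}) | (u : X) ∈ l₂} := hw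
          rw [← e₂] at hmem
          obtain ⟨y, hy, hyw⟩ := hmem
          refine ⟨y, hy, ?_⟩
          have e4 := lineMap_restrict hPL h3 hsub ⟨x, hxS⟩ y
          rw [hyw] at e4
          exact e4.symm
      rw [e3]; exact hl₂
    · push Not at hcol
      rw [image_of_not_col hcol]; exact hl

end Cfsg.Agent.Lib.Helper8_FischerSpace
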