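import Mathlib
import Cfsg.Prelude.Def_FischerSpaces
import Cfsg.Agent.Lib.Helper8_FischerSpace

set_option autoImplicit false

/-! The two model planes of a Fischer space (the dual affine plane of order two and the affine plane
of order three) are partial linear spaces whose point reflections preserve lines. -/

namespace Cfsg.Agent.Lib.Helper8_FischerModels

open Cfsg Cfsg.LineSystem Cfsg.Agent.Lib.Helper8_FischerSpace

/-! ### the affine plane of order three -/

theorem aff_line_eq {v w x y : Fin 2 → ZMod 3} {c₁ c₂ : ZMod 3} (hx : x = v + c₁ • w)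
    (hy : y = v + c₂ • w) (hxy : x ≠ y) :
    {p : Fin 2 → ZMod 3 | ∃ c : ZMod 3, p = v + c • w} = {x, y, -x - y} := by
  have hc : c₁ ≠ c₂ := by rintro rfl; exact hxy (hx.trans hy.symm)
  have harith : -x - y = v + (-(c₁ + c₂)) • w := by
    rw [hx, hy]
    funext i
    simp only [Pi.add_apply, Pi.smul_apply, Pi.neg_apply, Pi.sub_apply, smul_eq_mul]
    exact (by decide : ∀ a b c₁ c₂ : ZMod 3, -(a + c₁ * b) - (a + c₂ * b) = a + -(c₁ + c₂) * b)
      (v i) (w i) c₁ c₂
  ext p
  simp only [Set.mem_setOf_eq, Set.mem_insert_iff, Set.mem_singleton_iff]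
  constructor
  · rintro ⟨c, rfl⟩
    rcases (by decide : ∀ c₁ c₂ c : ZMod 3, c₁ ≠ c₂ → c = c₁ ∨ c = c₂ ∨ c = -(c₁ + c₂))
      c₁ c₂ c hc with h | h | h
    · left; rw [h, hx]
    · right; left; rw [h, hy]
    · right; right; rw [h, harith]
  · rintro (h | h | h)
    · exact ⟨c₁, h.trans hx⟩
    · exact ⟨c₂, h.trans hy⟩
    · exact ⟨-(c₁ + c₂), h.trans harith⟩

theorem aff_third_ne {x y : Fin 2 → ZMod 3} (hxy : x ≠ y) : -x - y ≠ x ∧ -x - y ≠ y := by
  constructor
  · intro h; apply hxy; funext i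
    have := congrFun h i
    simp only [Pi.neg_apply, Pi.sub_apply] at this
    exact (by decide : ∀ a b : ZMod 3, -a - b = a → a = b) (x i) (y i) this
  · intro h; apply hxy; funext i
    have := congrFun h i
    simp only [Pi.neg_apply, Pi.sub_apply] at this
    exact (by decide : ∀ a b : ZMod 3, -a - b = b → a = b) (x i) (y i) this

theorem aff_triple_mem {x y : Fin 2 → ZMod 3} (hxy : x ≠ y) :
    ({x, y, -x - y} : Set (Fin 2 → ZMod 3)) ∈ affinePlaneThree := by
  refine ⟨x, y - x, sub_ne_zero.mpr (Ne.symm hxy), ?_⟩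
  exact (aff_line_eq (c₁ := 0) (c₂ := 1) (by simp) (by simp) hxy).symm

theorem aff_pl : IsPartialLinear affinePlaneThree := by
  rintro l ⟨v, w, _, rfl⟩ m ⟨v', w', _, rfl⟩ x y hxy ⟨c₁, hx⟩ ⟨c₂, hy⟩ ⟨c₁', hx'⟩ ⟨c₂', hy'⟩
  rw [aff_line_eq hx hy hxy, aff_line_eq hx' hy' hxy]

theorem aff_lineMap (x y : Fin 2 → ZMod 3) : lineMap affinePlaneThree x y = -x - y := by
  by_cases hxy : x = y
  · subst hxy
    rw [lineMap_self]
    funext i
    simp only [Pi.neg_apply, Pi.sub_apply]
    exact (by decide : ∀ a : ZMod 3, a = -a - a) (x i)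
  · exact lineMap_eq_third aff_pl (aff_third_ne hxy).1 (aff_third_ne hxy).2 hxy (aff_triple_mem hxy)

theorem aff_reflClosed : ReflClosed affinePlaneThree := by
  rintro x l ⟨v, w, hw, rfl⟩
  refine ⟨-x - v, -w, neg_ne_zero.mpr hw, ?_⟩
  ext p
  simp only [Set.mem_image, Set.mem_setOf_eq]
  constructor
  · rintro ⟨y, ⟨c, rfl⟩, rfl⟩
    exact ⟨c, by rw [aff_lineMap, smul_neg]; abel⟩
  · rintro ⟨c, rfl⟩
    exact ⟨v + c • w, ⟨c, rfl⟩, by rw [aff_lineMap, smul_neg]; abel⟩

/-! ### the dual affine plane of order two -/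

/-- `z` is the third point of a line through the distinct points `x`, `y`. -/
def Third (x y z : DualAffinePoint) : Prop :=
  z ≠ x ∧ z ≠ y ∧ x ≠ y ∧ ∃ i : Fin 4, i ∉ x.val ∧ i ∉ y.val ∧ i ∉ z.val

instance (x y z : DualAffinePoint) : Decidable (Third x y z) := by
  unfold Third; infer_instance

/-- `z` is the image of `y` under the reflection in `x`. -/
def RelD (x y z : DualAffinePoint) : Prop :=
  Third x y z ∨ ((¬ ∃ z', Third x y z') ∧ z = y)

instance (x y z : DualAffinePoint) : Decidable (RelD x y z) := by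
  unfold RelD; infer_instance

theorem dual_line_ncard (i : Fin 4) : ({s : DualAffinePoint | i ∉ s.val} : Set _).ncard = 3 := by
  have h : ({s : DualAffinePoint | i ∉ s.val} : Set _).ncard
      = (Finset.univ.filter (fun s : DualAffinePoint => i ∉ s.val)).card := by
    rw [Set.ncard_eq_toFinset_card']
    congr 1
    ext s
    simp
  rw [h]
  exact (by decide : ∀ i : Fin 4,
    (Finset.univ.filter (fun s : DualAffinePoint => i ∉ s.val)).card = 3) i

theorem dual_pl : IsPartialLinear dualAffinePlaneTwo := by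
  rintro l ⟨i, rfl⟩ m ⟨j, rfl⟩ x y hxy hx hy hx' hy'
  have : i = j := (by decide : ∀ i j : Fin 4, ∀ x y : DualAffinePoint, x ≠ y → i ∉ x.val →
    i ∉ y.val → j ∉ x.val → j ∉ y.val → i = j) i j x y hxy hx hy hx' hy'
  rw [this]

theorem dual_three : ∀ l ∈ dualAffinePlaneTwo, l.ncard = 3 := by
  rintro l ⟨i, rfl⟩
  exact dual_line_ncard i

theorem dual_third_iff {x y z : DualAffinePoint} (hzx : z ≠ x) (hzy : z ≠ y) (hxy : x ≠ y) :
    ({x, y, z} : Set DualAffinePoint) ∈ dualAffinePlaneTwo ↔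
      ∃ i : Fin 4, i ∉ x.val ∧ i ∉ y.val ∧ i ∉ z.val := by
  constructor
  · rintro ⟨i, e⟩
    refine ⟨i, ?_, ?_, ?_⟩
    · have : x ∈ ({x, y, z} : Set DualAffinePoint) := by simp
      rw [e] at this; exact this
    · have : y ∈ ({x, y, z} : Set DualAffinePoint) := by simp
      rw [e] at this; exact this
    · have : z ∈ ({x, y, z} : Set DualAffinePoint) := by simp
      rw [e] at this; exact this
  · rintro ⟨i, hx, hy, hz⟩
    refine ⟨i, ?_⟩
    have hfin : ({s : DualAffinePoint | i ∉ s.val} : Set _).Finite := Set.toFinite _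
    apply Set.eq_of_subset_of_ncard_le _ _ hfin
    · intro w hw
      simp only [Set.mem_insert_iff, Set.mem_singleton_iff] at hw
      rcases hw with rfl | rfl | rfl <;> assumption
    · rw [dual_line_ncard, ncard_triple hxy (Ne.symm hzx) (Ne.symm hzy)]

theorem dual_rel (x y : DualAffinePoint) : RelD x y (lineMap dualAffinePlaneTwo x y) := by
  by_cases h : Col dualAffinePlaneTwo x y
  · obtain ⟨h1, h2, h3, h4⟩ := lineMap_spec _ x y h
    left
    exact ⟨h1, h2, h3, (dual_third_iff h1 h2 h3).mp h4⟩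
  · right
    refine ⟨?_, lineMap_of_not _ x y h⟩
    rintro ⟨z', h1, h2, h3, h4⟩
    exact h ⟨z', h1, h2, h3, (dual_third_iff h1 h2 h3).mpr h4⟩

theorem dual_reflClosed : ReflClosed dualAffinePlaneTwo := by
  rintro x l ⟨j, rfl⟩
  obtain ⟨k, hk1, hk2⟩ := (by decide : ∀ x : DualAffinePoint, ∀ j : Fin 4, ∃ k : Fin 4,
    (∀ y z : DualAffinePoint, j ∉ y.val → RelD x y z → k ∉ z.val) ∧
    (∀ z : DualAffinePoint, k ∉ z.val → ∃ y : DualAffinePoint, j ∉ y.val ∧ RelD x y z)) x j
  refine ⟨k, ?_⟩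
  ext z
  constructor
  · rintro ⟨y, hy, rfl⟩
    exact hk1 y _ hy (dual_rel x y)
  · intro hz
    obtain ⟨y, hy, hr⟩ := hk2 z hz
    refine ⟨y, hy, ?_⟩
    exact (by decide : ∀ x y z z' : DualAffinePoint, RelD x y z → RelD x y z' → z = z')
      x y _ z (dual_rel x y) hr

end Cfsg.Agent.Lib.Helper8_FischerModels
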