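import Mathlib
import Cfsg.Prelude.Def_FusionSystem
import Cfsg.Agent.Lib.Helper8_KSys
import Cfsg.Agent.Lib.Helper8_PCoreAut
import Cfsg.Agent.Lib.Helper8_PPowerNormal1

set_option autoImplicit false
set_option linter.style.haveILetI false
set_option linter.unusedVariables false
open Cfsg

/-!
# `p`-stability of fusion systems
-/

namespace Cfsg.Agent.Lib.Helper8_PStable

open Cfsg.FusionSystem Cfsg.Agent.Lib.Helper8_Fusion
open Cfsg.Agent.Lib.Helper8_GroupFusion
open Cfsg.Agent.Lib.Helper8_Saturated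
open Cfsg.Agent.Lib.Helper8_Alperin
open Cfsg.Agent.Lib.Helper8_KNorm1
open Cfsg.Agent.Lib.Helper8_KNorm2
open Cfsg.Agent.Lib.Helper8_KNorm3
open Cfsg.Agent.Lib.Helper8_KSys
open Cfsg.Agent.Lib.Helper8_PCoreAut
open Cfsg.Agent.Lib.Helper8_PPowerNormal1

variable {Ω : Type*} [Group Ω] {S : Subgroup Ω}

/-- `χ` acts quadratically on `Q`. -/
def Quad {Q : Type*} [Group Q] (χ : MulAut Q) : Prop :=
  ∀ a : Q, (χ a⁻¹) * a * (χ a⁻¹) * (χ (χ a)) = 1

/-- `χ` lies in `O_p(A)`. -/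
def InCore (p : ℕ) {Q : Type*} [Group Q] (A : Subgroup (MulAut Q)) (χ : MulAut Q) : Prop :=
  χ ∈ ((pCore p ↥A).map A.subtype : Subgroup (MulAut Q))

theorem quad_congr {P Q : Type*} [Group P] [Group Q] (e : P ≃* Q) {χ : MulAut P}
    (h : Quad χ) : Quad (MulAut.congr e χ) := by
  intro b
  obtain ⟨a, rfl⟩ := e.surjective b
  have h1 : ∀ x : P, (MulAut.congr e χ) (e x) = e (χ x) := by
    intro x
    simp [MulAut.congr]
  rw [← map_inv, h1, h1, h1, ← map_mul, ← map_mul, ← map_mul, h a, map_one]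

/-- `p`-stability at fully normalized subgroups gives `p`-stability at all subgroups. -/
theorem stable_all [Finite S] {p : ℕ} [Fact p.Prime] (F : FusionSystem S)
    (hst : ∀ Q : Subgroup Ω, F.IsFullyNormalized Q → ∀ χ : MulAut ↥Q, χ ∈ F.autGroup Q →
      Quad χ → InCore p (F.autGroup Q) χ)
    {Q : Subgroup Ω} (hQ : Q ≤ S) (χ : MulAut Q) (hχ : χ ∈ F.autGroup Q) (hq : Quad χ) :
    InCore p (F.autGroup Q) χ := by
  obtain ⟨Q', hQQ', hQ'⟩ := exists_fullyNormalized F hQ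
  obtain ⟨e, he⟩ := (isConj_iff_iso F).mp hQQ'
  have h1 := hst Q' hQ' (MulAut.congr e χ) (congr_mem_autGroup F he hχ) (quad_congr e hq)
  unfold InCore at h1 ⊢
  have h2 := map_pCore_congr (p := p) (MulAut.congr e) (F.autGroup Q)
  have h3 := map_congr_autGroup F he
  rw [h3] at h2
  rw [← h2] at h1
  obtain ⟨x, hx, hxe⟩ := h1
  have : x = χ := (MulAut.congr e).injective hxe
  rw [← this]
  exact hx

/-- `O_p` of a subgroup of automorphisms contains the `O_p`-part of an overgroup. -/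
theorem inCore_of_le {p : ℕ} [Fact p.Prime] {Q : Type*} [Group Q] {A B : Subgroup (MulAut Q)}
    (hAB : A ≤ B) {χ : MulAut Q} (hχ : χ ∈ A) (h : InCore p B χ) : InCore p A χ := by
  unfold InCore at h ⊢
  rw [mem_map_pCore_iff] at h ⊢
  obtain ⟨N, hNB, hnorm, hNp, hχN⟩ := h
  refine ⟨N ⊓ A, inf_le_right, ?_, hNp.to_le inf_le_left, ⟨hχN, hχ⟩⟩
  rintro a ha n ⟨hn1, hn2⟩
  exact ⟨hnorm a (hAB ha) n hn1, A.mul_mem (A.mul_mem ha hn2) (A.inv_mem ha)⟩

/-- A quadratic automorphism of an abelian `p`-group has `p`-power order. -/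
theorem quad_pow {Q : Type*} [Group Q] (hcomm : ∀ a b : Q, a * b = b * a) (χ : MulAut Q)
    (hq : Quad χ) (n : ℕ) (hn : ∀ a : Q, a ^ n = 1) : χ ^ n = 1 := by
  have hfix : ∀ a : Q, χ (a⁻¹ * χ a) = a⁻¹ * χ a := by
    intro a
    have h1 := hq a
    rw [map_mul]
    have h2 : χ a⁻¹ * a * χ a⁻¹ * χ (χ a) = (χ a⁻¹ * χ (χ a)) * (χ a⁻¹ * a) := by
      rw [hcomm (χ a⁻¹ * χ (χ a)), mul_assoc, mul_assoc]
    rw [h2] at h1
    have h3 : χ a⁻¹ * χ (χ a) = (χ a⁻¹ * a)⁻¹ := eq_inv_of_mul_eq_one_left h1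
    rw [h3, mul_inv_rev, map_inv, inv_inv]
  have hpow : ∀ (k : ℕ) (a : Q), (χ ^ k) a = a * (a⁻¹ * χ a) ^ k := by
    intro k
    induction k with
    | zero => intro a; simp
    | succ k ih =>
      intro a
      rw [pow_succ', MulAut.mul_apply, ih, map_mul, map_pow, hfix, pow_succ', ← mul_assoc,
        ← mul_assoc, mul_inv_cancel, one_mul]
  ext a
  rw [hpow, hn, mul_one, MulAut.one_apply]

theorem mulAut_comm_of_cyclic {Q : Type*} [Group Q] [IsCyclic Q] (α β : MulAut Q) :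
    α * β = β * α := by
  have e := IsCyclic.mulAutMulEquiv Q
  apply e.injective
  rw [map_mul, map_mul, mul_comm]

/-- Quadratic automorphisms of a cyclic `p`-group lie in `O_p` of any group of automorphisms
containing them. -/
theorem inCore_of_cyclic {p : ℕ} [Fact p.Prime] {Q : Type*} [Group Q] [Finite Q] [IsCyclic Q]
    (hQ : IsPGroup p Q) (A : Subgroup (MulAut Q)) (χ : MulAut Q) (hχ : χ ∈ A) (hq : Quad χ) :
    InCore p A χ := by
  unfold InCore
  rw [mem_map_pCore_iff]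
  refine ⟨Subgroup.zpowers χ, Subgroup.zpowers_le.mpr hχ, ?_, ?_, Subgroup.mem_zpowers χ⟩
  · intro a _ n hn
    rw [mulAut_comm_of_cyclic a n, mul_assoc, mul_inv_cancel, mul_one]
    exact hn
  · obtain ⟨k, hk⟩ := IsPGroup.iff_card.mp hQ
    have hχk : χ ^ (p ^ k) = 1 := by
      apply quad_pow (fun a b => (IsCyclic.isMulCommutative (α := Q)).is_comm.comm a b) χ hq
      intro a
      rw [← hk]
      exact pow_card_eq_one'
    rintro ⟨_, m, rfl⟩
    refine ⟨k, ?_⟩
    apply Subtype.ext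
    show (χ ^ m) ^ (p ^ k) = 1
    rw [← zpow_natCast, ← zpow_mul, mul_comm, zpow_mul, zpow_natCast, hχk, one_zpow]

/-- In the normalizer system of `Q`, `Q` is fully normalized and has the same automorphisms as
in `F`. -/
theorem normalizerSystem_self [Finite S] (F : FusionSystem S) {Q : Subgroup Ω} (hQ : Q ≤ S)
    (N : FusionSystem (normalizerIn S Q)) (hN : F.IsNormalizerSystem Q N) :
    N.IsFullyNormalized Q ∧ N.autGroup Q = F.autGroup Q := by
  have hQN : Q ≤ normalizerIn S Q := le_normalizerIn hQ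
  constructor
  · refine ⟨hQN, ?_⟩
    rintro Q' ⟨φ, hφ, rfl⟩
    rw [hN Q] at hφ
    obtain ⟨-, -, -, ψ, hψ, hψφ, hψQ⟩ := hφ
    have : φ.range = Q := by
      refine Eq.trans ?_ hψQ
      ext y
      constructor
      · rintro ⟨x, rfl⟩
        exact ⟨Subgroup.inclusion le_sup_left x, by simp [Subgroup.mem_subgroupOf], hψφ x⟩
      · rintro ⟨x, hx, rfl⟩
        have hxQ : (x : Ω) ∈ Q := by simpa [Subgroup.mem_subgroupOf] using hx
        exact ⟨⟨x, hxQ⟩, (hψφ ⟨x, hxQ⟩).symm⟩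
    rw [this]
  · apply le_antisymm
    · apply autGroup_le_of_subsystem
      intro P φ hφ
      rw [hN P] at hφ
      exact hφ.1
    · intro α hα
      rw [mem_autGroup_iff F hQ] at hα
      rw [mem_autGroup_iff N hQN]
      show _ ∈ N.Hom Q
      rw [hN Q, ← kHom_top]
      have hQNK : Q ≤ NK S Q ⊤ := by rw [NK_top]; exact hQN
      exact mem_kHom_of F hQNK le_rfl le_rfl hα (Subgroup.mem_top α) (fun q => rfl) _
        (fun x => rfl)

end Cfsg.Agent.Lib.Helper8_PStable
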