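import Mathlib
import Cfsg.Prelude.Def_FusionSystem
import Cfsg.Prelude.Def_LocalEven
import Cfsg.Agent.Lib.Helper8_PStable
import Cfsg.Agent.Lib.Helper3_Transport

set_option autoImplicit false
set_option linter.style.haveILetI false
set_option linter.unusedVariables false
open Cfsg

/-!
# `p`-stability of a group versus `p`-stability of its fusion system
-/

namespace Cfsg.Agent.Lib.Helper8_GroupStable

open Cfsg.FusionSystem Cfsg.Agent.Lib.Helper8_Fusion
open Cfsg.Agent.Lib.Helper8_GroupFusion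
open Cfsg.Agent.Lib.Helper8_Saturated
open Cfsg.Agent.Lib.Helper8_PStable
open Cfsg.Agent.Lib.Helper8_PCoreAut

variable {G : Type*} [Group G]

open scoped commutatorElement

/-- The image of `g` in `N_G(Q)/C_G(Q)` lies in `O_p` iff conjugation by `g` lies in
`O_p(Aut_G(Q))`. -/
theorem mk_mem_pCore_iff (p : ℕ) [Fact p.Prime] (Q : Subgroup G) (g : G)
    (hg : g ∈ Subgroup.normalizer (Q : Set G)) :
    (QuotientGroup.mk (s := (Subgroup.centralizer (Q : Set G)).subgroupOf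
        (Subgroup.normalizer (Q : Set G)))
      (⟨g, hg⟩ : ↥(Subgroup.normalizer (Q : Set G)))) ∈
        pCore p (↥(Subgroup.normalizer (Q : Set G)) ⧸
          (Subgroup.centralizer (Q : Set G)).subgroupOf (Subgroup.normalizer (Q : Set G))) ↔
    InCore p Q.normalizerMonoidHom.range (Q.normalizerMonoidHom ⟨g, hg⟩) := by
  have hker := Subgroup.normalizerMonoidHom_ker (H := Q)
  let e₁ := QuotientGroup.quotientMulEquivOfEq hker.symm
  let e₂ := QuotientGroup.quotientKerEquivRange Q.normalizerMonoidHom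
  let e := e₁.trans e₂
  have he : ∀ x : ↥(Subgroup.normalizer (Q : Set G)),
      ((e (QuotientGroup.mk x) : Q.normalizerMonoidHom.range) : MulAut Q) =
        Q.normalizerMonoidHom x := fun x => rfl
  have hcore := Cfsg.Agent.Lib.Helper3_Transport.pCore_map_equiv p e
  unfold InCore
  constructor
  · intro h
    refine ⟨e (QuotientGroup.mk ⟨g, hg⟩), ?_, he _⟩
    rw [← hcore]
    exact ⟨_, h, rfl⟩
  · rintro ⟨y, hy, hyg⟩
    rw [SetLike.mem_coe, ← hcore] at hy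
    obtain ⟨z, hz, hzy⟩ := hy
    have : z = QuotientGroup.mk ⟨g, hg⟩ := by
      apply e.injective
      apply Subtype.ext
      rw [he]
      have h1 : e z = y := hzy
      rw [h1]
      exact hyg
    rw [← this]
    exact hz

/-- `Aut_G(Q)` is `Aut_F(Q)` for the fusion system of `G` on `P ≥ Q`. -/
theorem range_eq_autGroup (P : Subgroup G) {Q : Subgroup G} (hQ : Q ≤ P) :
    Q.normalizerMonoidHom.range = (groupFusionSystem P).autGroup Q := by
  apply le_antisymm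
  · rintro _ ⟨x, rfl⟩
    rw [mem_autGroup_iff _ hQ]
    refine ⟨hQ, fun y => hQ (Q.normalizerMonoidHom x y).2, (x : G), fun y => rfl⟩
  · intro α hα
    rw [mem_autGroup_iff _ hQ] at hα
    obtain ⟨-, -, g, hg⟩ := hα
    have h1 : α ∈ autInducedBy ⊤ Q :=
      Subgroup.subset_closure ⟨g, Subgroup.mem_top g, fun x => hg x⟩
    rw [autInducedBy_eq] at h1
    obtain ⟨n, -, rfl⟩ := h1
    exact ⟨n, rfl⟩

theorem nmh_apply (Q : Subgroup G) (g : G) (hg : g ∈ Subgroup.normalizer (Q : Set G)) (x : Q) :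
    ((Q.normalizerMonoidHom ⟨g, hg⟩ x : Q) : G) = g * (x : G) * g⁻¹ := rfl

/-- Quadratic action in terms of the fixed points of conjugation. -/
theorem quad_iff_fix (Q : Subgroup G) (g : G) (hg : g ∈ Subgroup.normalizer (Q : Set G)) :
    Quad (Q.normalizerMonoidHom ⟨g, hg⟩) ↔
      ∀ a ∈ Q, g * (a⁻¹ * (g * a * g⁻¹)) = (a⁻¹ * (g * a * g⁻¹)) * g := by
  constructor
  · intro h a ha
    have h1 := congrArg Subtype.val (h ⟨a, ha⟩)
    simp only [Subgroup.coe_mul, nmh_apply, Subgroup.coe_inv, Subgroup.coe_one] at h1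
    have h2 : g * (a⁻¹ * (g * a * g⁻¹)) * g⁻¹ = a⁻¹ * (g * a * g⁻¹) := by
      have h3 : (g * a⁻¹ * g⁻¹ * a)⁻¹ = g * a⁻¹ * g⁻¹ * (g * (g * a * g⁻¹) * g⁻¹) :=
        inv_eq_of_mul_eq_one_right (by rw [← h1]; group)
      have h4 : g * (a⁻¹ * (g * a * g⁻¹)) * g⁻¹ = g * a⁻¹ * g⁻¹ * (g * (g * a * g⁻¹) * g⁻¹) := by
        group
      rw [h4, ← h3]
      group
    calc g * (a⁻¹ * (g * a * g⁻¹)) = g * (a⁻¹ * (g * a * g⁻¹)) * g⁻¹ * g := by group
      _ = (a⁻¹ * (g * a * g⁻¹)) * g := by rw [h2]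
  · intro h a
    apply Subtype.ext
    simp only [Subgroup.coe_mul, nmh_apply, Subgroup.coe_inv, Subgroup.coe_one]
    have h1 := h a a.2
    have h2 : g * ((a : G)⁻¹ * (g * a * g⁻¹)) * g⁻¹ = (a : G)⁻¹ * (g * a * g⁻¹) := by
      rw [h1]; group
    calc g * (a : G)⁻¹ * g⁻¹ * a * (g * (a : G)⁻¹ * g⁻¹) * (g * (g * a * g⁻¹) * g⁻¹)
        = ((a : G)⁻¹ * (g * a * g⁻¹))⁻¹ * (g * ((a : G)⁻¹ * (g * a * g⁻¹)) * g⁻¹) := by group
      _ = 1 := by rw [h2]; group

theorem pow_mul_of_commute (g b : G) (hc : Commute g (b⁻¹ * (g * b * g⁻¹))) (k : ℕ) :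
    g ^ k * b = b * (b⁻¹ * (g * b * g⁻¹)) ^ k * g ^ k := by
  induction k with
  | zero => simp
  | succ k ih =>
    have h1 : g * b = b * (b⁻¹ * (g * b * g⁻¹)) * g := by group
    have h2 : g * (b⁻¹ * (g * b * g⁻¹)) ^ k = (b⁻¹ * (g * b * g⁻¹)) ^ k * g := (hc.pow_right k).eq
    obtain ⟨u, hu⟩ : ∃ u, u = b⁻¹ * (g * b * g⁻¹) := ⟨_, rfl⟩
    rw [← hu] at ih h1 h2 ⊢
    calc g ^ (k + 1) * b = g * (g ^ k * b) := by rw [pow_succ', mul_assoc]
      _ = g * b * u ^ k * g ^ k := by rw [ih]; simp only [mul_assoc]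
      _ = b * u * (g * u ^ k) * g ^ k := by
        rw [h1]; simp only [mul_assoc]
      _ = b * u ^ (k + 1) * g ^ (k + 1) := by
        rw [h2, pow_succ' _ k, pow_succ' g k]; simp only [mul_assoc]

/-- The fixed-point form of quadratic action is the commutator condition `[Q, g, g] = 1`. -/
theorem fix_iff_comm [Finite G] (Q : Subgroup G) (g : G) :
    (∀ a ∈ Q, g * (a⁻¹ * (g * a * g⁻¹)) = (a⁻¹ * (g * a * g⁻¹)) * g) ↔
      ⁅⁅Q, Subgroup.zpowers g⁆, Subgroup.zpowers g⁆ = ⊥ := by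
  constructor
  · intro h
    rw [Subgroup.commutator_eq_bot_iff_le_centralizer, Subgroup.commutator_le]
    intro a ha z hz
    rw [← (isOfFinOrder_of_finite g).mem_powers_iff_mem_zpowers] at hz
    obtain ⟨k, rfl⟩ := hz
    have hc : Commute g ((a⁻¹)⁻¹ * (g * a⁻¹ * g⁻¹)) := h a⁻¹ (Q.inv_mem ha)
    have h1 := pow_mul_of_commute g a⁻¹ hc k
    have h2 : ⁅a, g ^ k⁆ = ((a⁻¹)⁻¹ * (g * a⁻¹ * g⁻¹)) ^ k := by
      rw [commutatorElement_def]
      calc a * g ^ k * a⁻¹ * (g ^ k)⁻¹ = a * (g ^ k * a⁻¹) * (g ^ k)⁻¹ := by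
            simp only [mul_assoc]
        _ = ((a⁻¹)⁻¹ * (g * a⁻¹ * g⁻¹)) ^ k := by rw [h1]; group
    rw [h2, Subgroup.mem_centralizer_iff]
    rintro _ ⟨m, rfl⟩
    exact ((hc.pow_right k).zpow_left m).eq
  · intro h a ha
    have h1 : ⁅a⁻¹, g⁆ ∈ ⁅Q, Subgroup.zpowers g⁆ :=
      Subgroup.commutator_mem_commutator (Q.inv_mem ha) (Subgroup.mem_zpowers g)
    have h2 : ⁅⁅a⁻¹, g⁆, g⁆ ∈ ⁅⁅Q, Subgroup.zpowers g⁆, Subgroup.zpowers g⁆ :=
      Subgroup.commutator_mem_commutator h1 (Subgroup.mem_zpowers g)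
    rw [h, Subgroup.mem_bot, commutatorElement_eq_one_iff_commute] at h2
    have h3 : ⁅a⁻¹, g⁆ = a⁻¹ * (g * a * g⁻¹) := by
      rw [commutatorElement_def]; group
    rw [h3] at h2
    exact h2.eq.symm

theorem exists_cj_le_sylow [Finite G] {p : ℕ} [Fact p.Prime] (P : Sylow p G) (Q : Subgroup G)
    (hQ : IsPGroup p Q) : ∃ h : G, cj h Q ≤ P := by
  obtain ⟨R', hR'⟩ := hQ.exists_le_sylow
  obtain ⟨m, hm⟩ := MulAction.exists_smul_eq G R' P
  refine ⟨m, ?_⟩
  rintro _ ⟨y, hy, rfl⟩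
  have h1 : y ∈ (R' : Subgroup G) := hR' hy
  have h2 : m * y * m⁻¹ ∈ ((m • R' : Sylow p G) : Subgroup G) := by
    rw [Sylow.coe_subgroup_smul, Subgroup.mem_pointwise_smul_iff_inv_smul_mem]
    have h3 : (MulAut.conj m)⁻¹ • (m * y * m⁻¹) = y := by
      rw [MulAut.smul_def, ← map_inv, MulAut.conj_apply]; group
    rw [h3]; exact h1
  rw [hm] at h2
  simpa [MulAut.conj_apply] using h2

theorem conj_mem_normalizer_cj (h : G) (Q : Subgroup G) {g : G}
    (hg : g ∈ Subgroup.normalizer (Q : Set G)) :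
    h * g * h⁻¹ ∈ Subgroup.normalizer ((cj h Q : Subgroup G) : Set G) := by
  rw [cj_normalizer]
  exact cj_mem h _ hg

/-- Conjugation by `h` as an isomorphism `Q ≃* hQh⁻¹`. -/
noncomputable def cjEquiv (h : G) (Q : Subgroup G) : Q ≃* cj h Q :=
  Q.equivMapOfInjective (MulAut.conj h).toMonoidHom
    (show Function.Injective (MulAut.conj h).toMonoidHom from (MulAut.conj h).injective)

theorem cjEquiv_apply (h : G) (Q : Subgroup G) (y : Q) :
    ((cjEquiv h Q y : cj h Q) : G) = h * (y : G) * h⁻¹ := rfl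

theorem nmh_congr (h : G) (Q : Subgroup G) {g : G}
    (hg : g ∈ Subgroup.normalizer (Q : Set G))
    (hg₁ : h * g * h⁻¹ ∈ Subgroup.normalizer ((cj h Q : Subgroup G) : Set G)) :
    (cj h Q).normalizerMonoidHom ⟨h * g * h⁻¹, hg₁⟩ =
      MulAut.congr (cjEquiv h Q) (Q.normalizerMonoidHom ⟨g, hg⟩) := by
  ext x
  obtain ⟨y, rfl⟩ := (cjEquiv h Q).surjective x
  have h1 : (MulAut.congr (cjEquiv h Q) (Q.normalizerMonoidHom ⟨g, hg⟩))
      ((cjEquiv h Q) y) =
      (cjEquiv h Q) (Q.normalizerMonoidHom ⟨g, hg⟩ y) := by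
    simp [MulAut.congr]
  rw [h1, nmh_apply, cjEquiv_apply, cjEquiv_apply, nmh_apply]
  group

theorem range_cj (h : G) (Q : Subgroup G) :
    (Q.normalizerMonoidHom.range).map (MulAut.congr (cjEquiv h Q)).toMonoidHom =
      (cj h Q).normalizerMonoidHom.range := by
  apply le_antisymm
  · rintro _ ⟨_, ⟨n, rfl⟩, rfl⟩
    refine ⟨⟨h * n * h⁻¹, conj_mem_normalizer_cj h Q n.2⟩, ?_⟩
    exact nmh_congr h Q n.2 _
  · rintro _ ⟨m, rfl⟩
    have hm : h⁻¹ * (m : G) * h ∈ Subgroup.normalizer (Q : Set G) := by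
      have h2 : (m : G) ∈ cj h (Subgroup.normalizer (Q : Set G)) := by
        rw [← cj_normalizer]; exact m.2
      rw [mem_cj] at h2
      exact h2
    refine ⟨_, ⟨⟨h⁻¹ * (m : G) * h, hm⟩, rfl⟩, ?_⟩
    have hm' : h * (h⁻¹ * (m : G) * h) * h⁻¹ ∈
        Subgroup.normalizer ((cj h Q : Subgroup G) : Set G) := conj_mem_normalizer_cj h Q hm
    have := nmh_congr h Q hm hm'
    show MulAut.congr _ _ = _
    rw [← this]
    congr 1
    apply Subtype.ext
    show h * (h⁻¹ * (m : G) * h) * h⁻¹ = m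
    group

/-- Transport of `InCore` for `Aut_G(Q)` along conjugation. -/
theorem inCore_cj {p : ℕ} [Fact p.Prime] (h : G) (Q : Subgroup G) (χ : MulAut Q)
    (hχ : InCore p (cj h Q).normalizerMonoidHom.range
      (MulAut.congr (cjEquiv h Q) χ)) :
    InCore p Q.normalizerMonoidHom.range χ := by
  unfold InCore at hχ ⊢
  have h2 := map_pCore_congr (p := p) (MulAut.congr (cjEquiv h Q))
    Q.normalizerMonoidHom.range
  rw [range_cj] at h2
  rw [← h2] at hχ
  obtain ⟨x, hx, hxe⟩ := hχ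
  have : x = χ := (MulAut.congr (cjEquiv h Q)).injective hxe
  rw [← this]
  exact hx

/-- A `p`-stable group has a `p`-stable fusion system. -/
theorem stable_of_group [Finite G] {p : ℕ} [Fact p.Prime] (P : Sylow p G)
    (hG : IsNormalizerPStable p G) (Q : Subgroup G) (hQ : Q ≤ P) (χ : MulAut Q)
    (hχ : χ ∈ (groupFusionSystem (P : Subgroup G)).autGroup Q) (hq : Quad χ) :
    InCore p ((groupFusionSystem (P : Subgroup G)).autGroup Q) χ := by
  rw [← range_eq_autGroup _ hQ] at hχ ⊢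
  obtain ⟨⟨g, hg⟩, rfl⟩ := hχ
  rw [quad_iff_fix, fix_iff_comm] at hq
  exact (mk_mem_pCore_iff p Q g hg).mp (hG Q (P.isPGroup'.to_le hQ) g hg hq)

/-- A group with a `p`-stable fusion system is `p`-stable. -/
theorem group_of_stable [Finite G] {p : ℕ} [Fact p.Prime] (P : Sylow p G)
    (hF : ∀ Q : Subgroup G, (groupFusionSystem (P : Subgroup G)).IsFullyNormalized Q →
      ∀ χ : MulAut ↥Q, χ ∈ (groupFusionSystem (P : Subgroup G)).autGroup Q → Quad χ →
        InCore p ((groupFusionSystem (P : Subgroup G)).autGroup Q) χ) :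
    IsNormalizerPStable p G := by
  intro Q hQp g hg hcomm
  rw [mk_mem_pCore_iff]
  obtain ⟨h, hh⟩ := exists_cj_le_sylow P Q hQp
  apply inCore_cj h
  have hg₁ := conj_mem_normalizer_cj h Q hg
  rw [← nmh_congr h Q hg hg₁, range_eq_autGroup _ hh]
  have hq : Quad (Q.normalizerMonoidHom ⟨g, hg⟩) := by
    rw [quad_iff_fix, fix_iff_comm]
    exact hcomm
  apply stable_all _ hF hh
  · rw [← range_eq_autGroup _ hh]
    exact ⟨_, rfl⟩
  · rw [nmh_congr h Q hg hg₁]
    exact quad_congr _ hq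

end Cfsg.Agent.Lib.Helper8_GroupStable
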