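import Mathlib
import Cfsg.Prelude.Def_FusionComponents
import Cfsg.Agent.Lib.Helper8_Solvable

set_option autoImplicit false
set_option linter.style.haveILetI false
set_option linter.unusedVariables false
open Cfsg

namespace Cfsg.Agent.Lib.Helper8_Transport

open Cfsg.FusionSystem Cfsg.Agent.Lib.Helper8_Fusion Cfsg.Agent.Lib.Helper8_Factor
open Cfsg.Agent.Lib.Helper8_Factor2
open Cfsg.Agent.Lib.Helper8_Saturated
open Cfsg.Agent.Lib.Helper8_Morphism
open Cfsg.Agent.Lib.Helper8_FactorSat
open Cfsg.Agent.Lib.Helper8_Solvable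

variable {Ω : Type*} [Group Ω] {S : Subgroup Ω} {Ω' : Type*} [Group Ω'] {S' : Subgroup Ω'}

theorem injective_of_ker_bot {θ : S →* Ω'} (hker : ∀ s : S, θ s = 1 ↔ (s : Ω) ∈ (⊥ : Subgroup Ω)) :
    Function.Injective θ := by
  rw [injective_iff_map_eq_one]
  intro s hs
  have := (hker s).mp hs
  exact Subtype.ext (Subgroup.mem_bot.mp this)

/-- The isomorphism `S ≃* S'` given by an injective `θ` with range `S'`. -/
noncomputable def isoOf {θ : S →* Ω'} (hinj : Function.Injective θ) (hrange : θ.range = S') :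
    S ≃* S' :=
  (MonoidHom.ofInjective hinj).trans (MulEquiv.subgroupCongr hrange)

theorem isoOf_coe {θ : S →* Ω'} (hinj : Function.Injective θ) (hrange : θ.range = S') (s : S) :
    ((isoOf hinj hrange s : S') : Ω') = θ s := rfl

/-- The inverse of `θ`, as a homomorphism `S' →* Ω`. -/
noncomputable def invHom {θ : S →* Ω'} (hinj : Function.Injective θ) (hrange : θ.range = S') :
    S' →* Ω :=
  S.subtype.comp (isoOf hinj hrange).symm.toMonoidHom

theorem invHom_mem {θ : S →* Ω'} (hinj : Function.Injective θ) (hrange : θ.range = S') (s' : S') :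
    invHom hinj hrange s' ∈ S := ((isoOf hinj hrange).symm s').2

theorem invHom_map {θ : S →* Ω'} (hinj : Function.Injective θ) (hrange : θ.range = S') (s : S)
    (h : θ s ∈ S') : invHom hinj hrange ⟨θ s, h⟩ = s := by
  have : (⟨θ s, h⟩ : S') = isoOf hinj hrange s := Subtype.ext rfl
  show (((isoOf hinj hrange).symm ⟨θ s, h⟩ : S) : Ω) = s
  rw [this, MulEquiv.symm_apply_apply]

theorem map_invHom {θ : S →* Ω'} (hinj : Function.Injective θ) (hrange : θ.range = S') (s' : S') :
    θ ⟨invHom hinj hrange s', invHom_mem hinj hrange s'⟩ = s' := by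
  have h1 : (⟨invHom hinj hrange s', invHom_mem hinj hrange s'⟩ : S) =
      (isoOf hinj hrange).symm s' := Subtype.ext rfl
  rw [h1, ← isoOf_coe hinj hrange, MulEquiv.apply_symm_apply]

theorem invHom_injective {θ : S →* Ω'} (hinj : Function.Injective θ) (hrange : θ.range = S') :
    Function.Injective (invHom hinj hrange) := by
  intro a b hab
  have h1 : (isoOf hinj hrange).symm a = (isoOf hinj hrange).symm b := Subtype.ext hab
  exact (isoOf hinj hrange).symm.injective h1

theorem preimage_invHom_eq {θ : S →* Ω'} (hinj : Function.Injective θ) (hrange : θ.range = S')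
    {P : Subgroup Ω} (hPS : P ≤ S) :
    preimageAlong (invHom hinj hrange) P = imageAlong θ P := by
  ext x'
  constructor
  · intro hx
    have hx'S' : x' ∈ S' := preimageAlong_le _ _ hx
    rw [mem_preimageAlong _ _ hx'S'] at hx
    have h1 := map_invHom hinj hrange ⟨x', hx'S'⟩
    have h2 : (⟨x', hx'S'⟩ : S').1 = x' := rfl
    rw [← h2, ← h1]
    exact map_mem_imageAlong θ hPS ⟨_, hx⟩
  · intro hx
    obtain ⟨y, rfl⟩ := exists_of_mem_imageAlong θ hPS hx
    have hS' : θ ⟨y, hPS y.2⟩ ∈ S' := by rw [← hrange]; exact ⟨_, rfl⟩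
    rw [mem_preimageAlong _ _ hS', invHom_map]
    exact y.2

theorem preimage_image_eq_of_injective {θ : S →* Ω'} (hinj : Function.Injective θ)
    {P : Subgroup Ω} (hPS : P ≤ S) : preimageAlong θ (imageAlong θ P) = P := by
  apply le_antisymm
  · intro y hy
    have hyS : y ∈ S := preimageAlong_le θ _ hy
    rw [mem_preimageAlong θ _ hyS] at hy
    obtain ⟨x, hx⟩ := exists_of_mem_imageAlong θ hPS hy
    have := hinj hx
    have h2 : (x : Ω) = y := congrArg Subtype.val this
    rw [← h2]; exact x.2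
  · exact le_preimage_image θ hPS

/-- **Symmetry of isomorphisms of fusion systems**: if `E` is the factor system of `F` modulo the
trivial subgroup read through `θ` (so `θ` is an isomorphism from `F` onto `E`), then `F` is the
factor system of `E` modulo the trivial subgroup read through the inverse of `θ`. -/
theorem isFactorSystem_symm {F : FusionSystem S} {θ : S →* Ω'} {E : FusionSystem S'}
    (hE : F.IsFactorSystem ⊥ θ E) :
    E.IsFactorSystem ⊥ (invHom (injective_of_ker_bot hE.2.1) hE.2.2.1) F := by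
  have hker := hE.2.1
  have hrange := hE.2.2.1
  have hinj := injective_of_ker_bot hker
  have hθ : ∀ s : S, θ s ∈ S' := fun s => by rw [← hrange]; exact ⟨s, rfl⟩
  refine ⟨bot_le, ?_, ?_, ?_⟩
  · intro s'
    constructor
    · intro h
      have h1 : invHom hinj hrange s' = invHom hinj hrange 1 := by rw [h, map_one]
      have h2 := invHom_injective hinj hrange h1
      rw [h2]; exact Subgroup.mem_bot.mpr rfl
    · intro h
      have h1 : s' = 1 := Subtype.ext (Subgroup.mem_bot.mp h)
      rw [h1, map_one]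
  · ext y
    constructor
    · rintro ⟨s', rfl⟩
      exact invHom_mem hinj hrange s'
    · intro hy
      exact ⟨⟨θ ⟨y, hy⟩, hθ _⟩, invHom_map hinj hrange ⟨y, hy⟩ _⟩
  · intro P φ
    constructor
    · intro hφ
      have hPS : P ≤ S := (F.le_of_mem hφ).1
      refine ⟨hPS, ?_⟩
      have hP'eq := preimage_invHom_eq hinj hrange hPS
      have hP'S' : preimageAlong (invHom hinj hrange) P ≤ S' := preimageAlong_le _ _
      have hpre : preimageAlong θ (preimageAlong (invHom hinj hrange) P) = P := by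
        rw [hP'eq]; exact preimage_image_eq_of_injective hinj hPS
      -- transport φ to the preimage
      have hψ : φ.comp (Subgroup.inclusion hpre.le) ∈
          F.Hom (preimageAlong θ (preimageAlong (invHom hinj hrange) P)) :=
        hom_congr F hpre.symm hφ _ (fun x hx hx' => rfl)
      obtain ⟨φ', hφ'ind⟩ := exists_induced (stronglyClosed_bot F) hker hrange hP'S' hψ
      have hφ'E : φ' ∈ E.Hom (preimageAlong (invHom hinj hrange) P) :=
        (hE.2.2.2 _ φ').mpr ⟨hP'S', _, hψ, hφ'ind⟩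
      refine ⟨φ', hφ'E, hP'S', (E.le_of_mem hφ'E).2, map_mem_of_mem_preimageAlong _ _, ?_⟩
      intro x'
      obtain ⟨hP₂, hval₂, hmap₂, hind₂⟩ := hφ'ind
      -- x' = θ y
      have hy : invHom hinj hrange ⟨x', hP'S' x'.2⟩ ∈ P := map_mem_of_mem_preimageAlong _ _ x'
      have hypre : invHom hinj hrange ⟨x', hP'S' x'.2⟩ ∈
          preimageAlong θ (preimageAlong (invHom hinj hrange) P) := by rw [hpre]; exact hy
      have h1 := hind₂ ⟨_, hypre⟩
      have h2 : (⟨θ ⟨_, hP₂ hypre⟩, hmap₂ ⟨_, hypre⟩⟩ : preimageAlong (invHom hinj hrange) P) = x' := by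
        apply Subtype.ext
        exact map_invHom hinj hrange ⟨x', hP'S' x'.2⟩
      rw [h2] at h1
      -- h1 : φ' x' = θ ⟨φ (...), _⟩
      have h3 : (⟨φ' x', (E.le_of_mem hφ'E).2 x'⟩ : S') =
          ⟨θ ⟨(φ.comp (Subgroup.inclusion hpre.le)) ⟨_, hypre⟩, hval₂ _⟩, hθ _⟩ := Subtype.ext h1
      rw [h3, invHom_map]
      rfl
    · rintro ⟨hPS, φ', hφ', hP'S', hφ'S', hmapP, hind⟩
      have hP'eq := preimage_invHom_eq hinj hrange hPS
      have hpre : preimageAlong θ (preimageAlong (invHom hinj hrange) P) = P := by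
        rw [hP'eq]; exact preimage_image_eq_of_injective hinj hPS
      obtain ⟨-, ψ, hψ, hP₂, hval₂, hmap₂, hind₂⟩ := (hE.2.2.2 _ φ').mp hφ'
      refine hom_congr F hpre hψ φ ?_
      intro y hy hy'
      have h1 := hind₂ ⟨y, hy⟩
      have h2 := hind ⟨θ ⟨y, hP₂ hy⟩, hmap₂ ⟨y, hy⟩⟩
      have h3 : (⟨invHom hinj hrange ⟨θ ⟨y, hP₂ hy⟩, hP'S' (hmap₂ ⟨y, hy⟩)⟩,
          hmapP ⟨θ ⟨y, hP₂ hy⟩, hmap₂ ⟨y, hy⟩⟩⟩ : P) = ⟨y, hy'⟩ := by
        apply Subtype.ext
        exact invHom_map hinj hrange ⟨y, hP₂ hy⟩ _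
      rw [h3] at h2
      rw [h2]
      have h4 : (⟨φ' ⟨θ ⟨y, hP₂ hy⟩, hmap₂ ⟨y, hy⟩⟩, hφ'S' _⟩ : S') =
          ⟨θ ⟨ψ ⟨y, hy⟩, hval₂ _⟩, hθ _⟩ := Subtype.ext h1
      rw [h4, invHom_map]

/-- Saturation transports backwards along an isomorphism of fusion systems. -/
theorem saturated_of_iso [Finite S] {p : ℕ} [Fact p.Prime] (hS : IsPGroup p S)
    {F : FusionSystem S} {θ : S →* Ω'} {E : FusionSystem S'}
    (hE : F.IsFactorSystem ⊥ θ E) (hEsat : E.IsSaturated p) : F.IsSaturated p := by
  have hinj := injective_of_ker_bot hE.2.1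
  have e := isoOf hinj hE.2.2.1
  haveI : Finite S' := Finite.of_equiv S e.toEquiv
  have hS' : IsPGroup p S' := hS.of_equiv e
  exact factor_saturated hS' hEsat (stronglyClosed_bot E) (isFactorSystem_symm hE)

end Cfsg.Agent.Lib.Helper8_Transport
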