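import Mathlib
import Cfsg.Prelude.Def_FusionComponents
import Cfsg.Agent.Lib.Helper8_Transport
import Cfsg.Agent.Lib.Helper8_Constrained
import Cfsg.Agent.Lib.Helper4_PCore
import Cfsg.Agent.S5076

set_option autoImplicit false
set_option linter.style.haveILetI false
set_option linter.unusedVariables false
open Cfsg

namespace Cfsg.Agent.Lib.Helper8_Realize

open Cfsg.FusionSystem Cfsg.Agent.Lib.Helper8_Fusion Cfsg.Agent.Lib.Helper8_Factor
open Cfsg.Agent.Lib.Helper8_Saturated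
open Cfsg.Agent.Lib.Helper8_Alperin
open Cfsg.Agent.Lib.Helper8_Morphism
open Cfsg.Agent.Lib.Helper8_FactorSat
open Cfsg.Agent.Lib.Helper8_Solvable
open Cfsg.Agent.Lib.Helper8_Constrained
open Cfsg.Agent.Lib.Helper8_Transport
open Cfsg.Agent.Lib.Helper4_PCore

variable {Ω : Type*} [Group Ω] {S : Subgroup Ω} {G : Type*} [Group G]

/-- A system realized by `ι` is isomorphic, through `ι`, to the fusion system of the group on the
image of `ι`. -/
theorem isFactorSystem_of_realized {F : FusionSystem S} {ι : S →* G} (h : F.IsRealizedBy ι) :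
    F.IsFactorSystem ⊥ ι (groupFusionSystem ι.range) := by
  obtain ⟨hinj, hreal⟩ := h
  have hker : ∀ s : S, ι s = 1 ↔ (s : Ω) ∈ (⊥ : Subgroup Ω) := by
    intro s
    constructor
    · intro hs
      have : s = 1 := hinj (by rw [hs, map_one])
      rw [this]; exact Subgroup.one_mem _
    · intro hs
      have : s = 1 := Subtype.ext (Subgroup.mem_bot.mp hs)
      rw [this, map_one]
  refine ⟨bot_le, hker, rfl, ?_⟩
  intro P' φ'
  constructor
  · rintro ⟨hP', hvals, g, hg⟩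
    refine ⟨hP', ?_⟩
    have hP : preimageAlong ι P' ≤ S := preimageAlong_le ι P'
    let π : preimageAlong ι P' →* P' :=
      (ι.comp (Subgroup.inclusion hP)).codRestrict P' (map_mem_of_mem_preimageAlong ι P')
    let φ : preimageAlong ι P' →* Ω :=
      (invHom hinj rfl).comp ((φ'.codRestrict ι.range hvals).comp π)
    have hφS : ∀ x : preimageAlong ι P', φ x ∈ S := fun x => invHom_mem hinj rfl _
    have hιφ : ∀ x : preimageAlong ι P', ι ⟨φ x, hφS x⟩ = φ' (π x) := fun x =>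
      map_invHom hinj rfl _
    refine ⟨φ, ?_, hP, hφS, map_mem_of_mem_preimageAlong ι P', fun x => (hιφ x).symm⟩
    rw [hreal _ hP φ hφS]
    refine ⟨g, fun x => ?_⟩
    rw [hιφ x, hg]
    rfl
  · rintro ⟨hP', φ, hφ, hP, hval, hmap, hind⟩
    obtain ⟨g, hg⟩ := (hreal _ hP φ hval).mp hφ
    have hform : ∀ y : P', ∃ x : preimageAlong ι P', y = ⟨ι ⟨x, hP x.2⟩, hmap x⟩ := by
      intro y
      obtain ⟨x, hx⟩ := surj_onto rfl hP' y
      exact ⟨x, Subtype.ext hx.symm⟩
    refine ⟨hP', ?_, g, ?_⟩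
    · intro y
      obtain ⟨x, rfl⟩ := hform y
      rw [hind x]
      exact ⟨_, rfl⟩
    · intro y
      obtain ⟨x, rfl⟩ := hform y
      rw [hind x, hg x]

/-- A realizable system (on a Sylow subgroup) is saturated. -/
theorem saturated_of_realized [Finite S] [Finite G] {p : ℕ} [Fact p.Prime] (hS : IsPGroup p S)
    {F : FusionSystem S} {ι : S →* G} (h : F.IsRealizedBy ι)
    (hT : ∃ T : Sylow p G, (T : Subgroup G) = ι.range) : F.IsSaturated p := by
  obtain ⟨T, hT⟩ := hT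
  have h1 : (groupFusionSystem (T : Subgroup G)).IsSaturated p := Cfsg.Agent.S5076.result p T
  rw [hT] at h1
  exact saturated_of_iso hS (isFactorSystem_of_realized h) h1

/-- **A fusion system with a model is constrained.** -/
theorem constrained_of_model [Finite S] {p : ℕ} [Fact p.Prime] (hS : IsPGroup p S)
    {F : FusionSystem S} {ι : S →* G} (hG : F.IsModel p G ι) : F.IsConstrained p := by
  obtain ⟨hfin, hreal, hT, hcent⟩ := hG
  haveI := hfin
  have hsat := saturated_of_realized hS hreal hT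
  obtain ⟨T, hTeq⟩ := hT
  obtain ⟨hinj, hiff⟩ := hreal
  have hOT : pCore p G ≤ ι.range := by rw [← hTeq]; exact pCore_le_sylow T
  haveI hOn : (pCore p G).Normal := pCore_normal p G
  obtain ⟨Q, hQdef⟩ : ∃ Q, Q = preimageAlong ι (pCore p G) := ⟨_, rfl⟩
  have hQS : Q ≤ S := by rw [hQdef]; exact preimageAlong_le ι _
  have hQmem : ∀ (y : Ω) (hy : y ∈ S), y ∈ Q ↔ ι ⟨y, hy⟩ ∈ pCore p G := by
    intro y hy
    rw [hQdef]; exact mem_preimageAlong ι _ hy
  haveI : Finite Q := finite_of_le hQS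
  -- Q is normal in F
  have hQN : F.IsNormal Q := by
    refine ⟨hQS, ?_⟩
    intro P φ hφ
    have hPS : P ≤ S := (F.le_of_mem hφ).1
    have hφS := (F.le_of_mem hφ).2
    obtain ⟨g, hg⟩ := (hiff P hPS φ hφS).mp hφ
    have hsupS : P ⊔ Q ≤ S := sup_le hPS hQS
    -- conjugation by g maps ι(P ⊔ Q) into ι.range
    let M : Subgroup S := ι.range.comap ((MulAut.conj g).toMonoidHom.comp ι)
    have hM : P ⊔ Q ≤ M.map S.subtype := by
      apply sup_le
      · intro x hx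
        refine ⟨⟨x, hPS hx⟩, ?_, rfl⟩
        show (MulAut.conj g) (ι ⟨x, hPS hx⟩) ∈ ι.range
        rw [MulAut.conj_apply, ← hg ⟨x, hx⟩]
        exact ⟨_, rfl⟩
      · intro x hx
        refine ⟨⟨x, hQS hx⟩, ?_, rfl⟩
        show (MulAut.conj g) (ι ⟨x, hQS hx⟩) ∈ ι.range
        rw [MulAut.conj_apply]
        exact hOT (hOn.conj_mem _ ((hQmem x (hQS hx)).mp hx) g)
    have hvals : ∀ y : ↥(P ⊔ Q), g * ι ⟨y, hsupS y.2⟩ * g⁻¹ ∈ ι.range := by
      intro y
      obtain ⟨s, hs, hsy⟩ := hM y.2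
      have : s = ⟨y, hsupS y.2⟩ := Subtype.ext hsy
      rw [← this]
      have h1 : (MulAut.conj g) (ι s) ∈ ι.range := hs
      rwa [MulAut.conj_apply] at h1
    let c : ↥(P ⊔ Q) →* ι.range :=
      (((MulAut.conj g).toMonoidHom.comp ι).comp (Subgroup.inclusion hsupS)).codRestrict ι.range
        (fun y => by
          show (MulAut.conj g) (ι ⟨y, hsupS y.2⟩) ∈ ι.range
          rw [MulAut.conj_apply]; exact hvals y)
    let ψ : ↥(P ⊔ Q) →* Ω := (invHom hinj rfl).comp c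
    have hψS : ∀ y : ↥(P ⊔ Q), ψ y ∈ S := fun y => invHom_mem hinj rfl _
    have hιψ : ∀ y : ↥(P ⊔ Q), ι ⟨ψ y, hψS y⟩ = g * ι ⟨y, hsupS y.2⟩ * g⁻¹ := by
      intro y
      have h0 : ι ⟨ψ y, hψS y⟩ = ((c y : ι.range) : G) := map_invHom hinj rfl (c y)
      rw [h0]
      show (MulAut.conj g) (ι ⟨y, hsupS y.2⟩) = _
      rw [MulAut.conj_apply]
    have hψF : ψ ∈ F.Hom (P ⊔ Q) := (hiff _ hsupS ψ hψS).mpr ⟨g, hιψ⟩
    refine ⟨ψ, hψF, ?_, ?_⟩
    · intro x
      have h1 := hιψ (Subgroup.inclusion le_sup_left x)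
      have h2 := hg x
      have h3 : ι ⟨ψ (Subgroup.inclusion le_sup_left x), hψS _⟩ = ι ⟨φ x, hφS x⟩ := by
        rw [h1, h2]; rfl
      exact congrArg Subtype.val (hinj h3)
    · apply Subgroup.eq_of_le_of_card_ge
      · rintro _ ⟨y, hy, rfl⟩
        have hyQ : (y : Ω) ∈ Q := by simpa [Subgroup.mem_subgroupOf] using hy
        rw [hQmem _ (hψS y), hιψ y]
        exact hOn.conj_mem _ ((hQmem _ (hsupS y.2)).mp hyQ) g
      · have h1 : Nat.card ((Q.subgroupOf (P ⊔ Q)).map ψ) = Nat.card (Q.subgroupOf (P ⊔ Q)) :=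
          Subgroup.card_map_of_injective (F.injective_of_mem hψF)
        rw [h1]
        exact (Nat.card_congr (Subgroup.subgroupOfEquivOfLe (le_sup_right : Q ≤ P ⊔ Q)).toEquiv).ge
  refine ⟨hsat, Q, hQN, hQS, ?_⟩
  rintro Q' ⟨φ, hφ, rfl⟩
  rw [range_eq_of_isNormal F hQN hφ]
  rintro x ⟨hxS, hxC⟩
  rw [hQmem x hxS]
  apply hcent
  show _ ∈ Subgroup.centralizer ((pCore p G : Subgroup G) : Set G)
  rw [Subgroup.mem_centralizer_iff]
  intro o ho
  obtain ⟨q, hq⟩ := hOT ho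
  have hqQ : (q : Ω) ∈ Q := by rw [hQmem _ q.2]; rw [← hq] at ho; exact ho
  have hxC' : x ∈ Subgroup.centralizer (Q : Set Ω) := hxC
  rw [Subgroup.mem_centralizer_iff] at hxC'
  have h1 := hxC' q hqQ
  have h2 : (⟨(q : Ω) * x, S.mul_mem q.2 hxS⟩ : S) = ⟨x * (q : Ω), S.mul_mem hxS q.2⟩ :=
    Subtype.ext h1
  have h3 : q * ⟨x, hxS⟩ = ⟨x, hxS⟩ * q := h2
  rw [← hq, ← map_mul, ← map_mul, h3]

end Cfsg.Agent.Lib.Helper8_Realize
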