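import Mathlib
import Cfsg.Prelude.Def_FusionComponents
import Cfsg.Agent.Lib.Helper8_Realize
import Cfsg.Agent.Lib.Helper5_Residual
import Cfsg.Agent.S5076

set_option autoImplicit false
set_option linter.style.haveILetI false
set_option linter.unusedVariables false
open Cfsg

namespace Cfsg.Agent.Lib.Helper8_NormalSub

open Cfsg.FusionSystem Cfsg.Agent.Lib.Helper8_Fusion
open Cfsg.Agent.Lib.Helper8_GroupFusion
open Cfsg.Agent.Lib.Helper8_Saturated
open Cfsg.Agent.Lib.Helper8_Realize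
open scoped Pointwise

variable {G : Type*} [Group G]

/-- `F_T(H)` is realized by the inclusion of `T` in `H`. -/
theorem subgroupSystem_realized (H T : Subgroup G) (hTH : T ≤ H) :
    (fusionSystemOfSubgroup H T hTH).IsRealizedBy (Subgroup.inclusion hTH) := by
  refine ⟨Subgroup.inclusion_injective hTH, ?_⟩
  intro P hP φ hφ
  constructor
  · rintro ⟨-, -, g, hgH, hg⟩
    refine ⟨⟨g, hgH⟩, fun x => ?_⟩
    apply Subtype.ext
    exact hg x
  · rintro ⟨g, hg⟩
    refine ⟨hP, hφ, g, g.2, fun x => ?_⟩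
    exact congrArg Subtype.val (hg x)

/-- The fusion system of a normal subgroup `H` on `S ∩ H` is saturated. -/
theorem subgroupSystem_saturated [Finite G] {p : ℕ} [Fact p.Prime] (S : Sylow p G)
    (H : Subgroup G) [H.Normal] :
    (fusionSystemOfSubgroup H ((S : Subgroup G) ⊓ H) inf_le_right).IsSaturated p := by
  have hT : IsPGroup p ↥((S : Subgroup G) ⊓ H) := S.isPGroup'.to_inf_left
  refine saturated_of_realized hT (subgroupSystem_realized H _ inf_le_right) ?_
  refine ⟨Cfsg.Agent.Lib.Helper5_Residual.sylowInfNormal S H, ?_⟩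
  rw [Cfsg.Agent.Lib.Helper5_Residual.coe_sylowInfNormal, Subgroup.inclusion_range,
    Subgroup.inf_subgroupOf_right]

/-- Membership in `Aut` of the fusion system of a group. -/
theorem mem_autGroup_group {S T : Subgroup G} (hT : T ≤ S) (α : MulAut T) :
    α ∈ (groupFusionSystem S).autGroup T ↔ ∃ g : G, ∀ x : T, ((α x : T) : G) = g * x * g⁻¹ := by
  rw [mem_autGroup_iff _ hT]
  constructor
  · rintro ⟨-, -, g, hg⟩
    exact ⟨g, hg⟩
  · rintro ⟨g, hg⟩
    exact ⟨hT, fun x => hT (α x).2, g, hg⟩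

/-- Membership in `Aut` of the fusion system of a subgroup. -/
theorem mem_autGroup_subgroup {H T : Subgroup G} (hTH : T ≤ H) (α : MulAut T) :
    α ∈ (fusionSystemOfSubgroup H T hTH).autGroup T ↔
      ∃ g ∈ H, ∀ x : T, ((α x : T) : G) = g * x * g⁻¹ := by
  rw [mem_autGroup_iff _ le_rfl]
  constructor
  · rintro ⟨-, -, g, hgH, hg⟩
    exact ⟨g, hgH, hg⟩
  · rintro ⟨g, hgH, hg⟩
    exact ⟨le_rfl, fun x => (α x).2, g, hgH, hg⟩

/-- An element inducing an automorphism of a subgroup normalizes it. -/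
theorem mem_normalizer_of_aut {T : Subgroup G} (α : MulAut T) {g : G}
    (hg : ∀ x : T, ((α x : T) : G) = g * x * g⁻¹) : g ∈ Subgroup.normalizer (T : Set G) := by
  rw [Subgroup.mem_normalizer_iff]
  intro y
  constructor
  · intro hy
    rw [← hg ⟨y, hy⟩]
    exact (α _).2
  · intro hy
    obtain ⟨x, hx⟩ := α.surjective ⟨g * y * g⁻¹, hy⟩
    have h1 := hg x
    rw [hx] at h1
    have h2 : y = x := by
      have : g * y * g⁻¹ = g * x * g⁻¹ := h1
      exact mul_left_cancel (mul_right_cancel this)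
    rw [h2]; exact x.2

/-- The group-theoretic core of the extension condition. -/
theorem exists_mul_normalizes_centralizer [Finite G] {p : ℕ} [Fact p.Prime] (S : Sylow p G)
    (H : Subgroup G) [H.Normal] {h : G} (hH : h ∈ H)
    (hN : h ∈ Subgroup.normalizer (((S : Subgroup G) ⊓ H : Subgroup G) : Set G)) :
    ∃ k ∈ H ⊓ Subgroup.centralizer (((S : Subgroup G) ⊓ H : Subgroup G) : Set G),
      cj (k * h) ((S : Subgroup G) ⊓ Subgroup.centralizer (((S : Subgroup G) ⊓ H : Subgroup G) : Set G)) =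
        (S : Subgroup G) ⊓ Subgroup.centralizer (((S : Subgroup G) ⊓ H : Subgroup G) : Set G) := by
  obtain ⟨T, hTdef⟩ : ∃ T : Subgroup G, T = (S : Subgroup G) ⊓ H := ⟨_, rfl⟩
  rw [← hTdef] at hN ⊢
  obtain ⟨N, hNdef⟩ : ∃ N : Subgroup G, N = Subgroup.normalizer (T : Set G) := ⟨_, rfl⟩
  obtain ⟨C, hCdef⟩ : ∃ C : Subgroup G, C = Subgroup.centralizer (T : Set G) := ⟨_, rfl⟩
  rw [← hCdef]
  have hSN : (S : Subgroup G) ≤ N := by
    intro s hs
    rw [hNdef, Subgroup.mem_normalizer_iff]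
    intro y
    rw [hTdef]
    constructor
    · rintro ⟨h1, h2⟩
      exact ⟨(S : Subgroup G).mul_mem ((S : Subgroup G).mul_mem hs h1) ((S : Subgroup G).inv_mem hs),
        ‹H.Normal›.conj_mem y h2 s⟩
    · rintro ⟨h1, h2⟩
      constructor
      · have h3 := (S : Subgroup G).mul_mem ((S : Subgroup G).mul_mem ((S : Subgroup G).inv_mem hs) h1) hs
        have h4 : s⁻¹ * (s * y * s⁻¹) * s = y := by group
        rw [h4] at h3; exact h3
      · have h3 := ‹H.Normal›.conj_mem _ h2 s⁻¹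
        have h4 : s⁻¹ * (s * y * s⁻¹) * s⁻¹⁻¹ = y := by group
        rw [h4] at h3; exact h3
  have hSylN : ∃ R : Sylow p N, (R : Subgroup N) = (S : Subgroup G).subgroupOf N :=
    ⟨S.subtype hSN, Sylow.coe_subtype _ _⟩
  have hCN : C ≤ N := by
    rw [hCdef, hNdef]; exact Subgroup.centralizer_le_normalizer _
  have hnormC : ∀ n ∈ N, cj n C = C := by
    intro n hn
    rw [hCdef]
    apply cj_eq_of_mem_normalizer
    rw [hNdef] at hn
    exact normalizer_le_normalizer_centralizer T hn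
  obtain ⟨D, hDdef⟩ : ∃ D : Subgroup G, D = (S : Subgroup G) ⊓ C := ⟨_, rfl⟩
  rw [← hDdef]
  have hDC : D ≤ C := by rw [hDdef]; exact inf_le_right
  have hDS : D ≤ (S : Subgroup G) := by rw [hDdef]; exact inf_le_left
  have hDsyl : ∃ R : Sylow p C, (R : Subgroup C) = D.subgroupOf C := by
    rw [hDdef]
    exact sylow_inf_normal_in N C (S : Subgroup G) hCN hSN hnormC hSylN
  have hDp : IsPGroup p D := by
    rw [hDdef]; exact S.isPGroup'.to_inf_left
  obtain ⟨K, hKdef⟩ : ∃ K : Subgroup G, K = H ⊓ C := ⟨_, rfl⟩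
  have hKC : K ≤ C := by rw [hKdef]; exact inf_le_right
  have hKH : K ≤ H := by rw [hKdef]; exact inf_le_left
  -- N normalizes K
  have hNK : ∀ n ∈ N, ∀ x, x ∈ K ↔ n * x * n⁻¹ ∈ K := by
    intro n hn x
    have hnC : n ∈ Subgroup.normalizer ((C : Subgroup G) : Set G) := by
      rw [hCdef]; rw [hNdef] at hn
      exact normalizer_le_normalizer_centralizer T hn
    rw [hKdef]
    constructor
    · rintro ⟨h1, h2⟩
      exact ⟨‹H.Normal›.conj_mem x h1 n, (Subgroup.mem_normalizer_iff.mp hnC x).mp h2⟩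
    · rintro ⟨h1, h2⟩
      refine ⟨?_, (Subgroup.mem_normalizer_iff.mp hnC x).mpr h2⟩
      have h3 := ‹H.Normal›.conj_mem _ h1 n⁻¹
      have h4 : n⁻¹ * (n * x * n⁻¹) * n⁻¹⁻¹ = x := by group
      rw [h4] at h3; exact h3
  have hDK : D ≤ Subgroup.normalizer ((K : Subgroup G) : Set G) := by
    intro d hd
    rw [Subgroup.mem_normalizer_iff]
    exact hNK d (hSN (hDS hd))
  obtain ⟨Y, hYdef⟩ : ∃ Y : Subgroup G, Y = D ⊔ K := ⟨_, rfl⟩
  have hDY : D ≤ Y := by rw [hYdef]; exact le_sup_left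
  have hKY : K ≤ Y := by rw [hYdef]; exact le_sup_right
  have hYC : Y ≤ C := by rw [hYdef]; exact sup_le hDC hKC
  have hDsylY : ∃ R : Sylow p Y, (R : Subgroup Y) = D.subgroupOf Y :=
    sylow_of_le C Y D hDY hYC hDsyl
  have hhN : h ∈ N := by rw [hNdef]; exact hN
  have hhC : h ∈ Subgroup.normalizer ((C : Subgroup G) : Set G) := by
    rw [hCdef]; exact normalizer_le_normalizer_centralizer T hN
  have hAY : cj h D ≤ Y := by
    rintro _ ⟨d, hd, rfl⟩
    show (MulAut.conj h) d ∈ Y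
    rw [MulAut.conj_apply]
    have h1 : h * d * h⁻¹ * d⁻¹ ∈ K := by
      rw [hKdef]
      constructor
      · have h2 : d * h⁻¹ * d⁻¹ ∈ H := ‹H.Normal›.conj_mem _ (H.inv_mem hH) d
        have h3 := H.mul_mem hH h2
        have h4 : h * (d * h⁻¹ * d⁻¹) = h * d * h⁻¹ * d⁻¹ := by group
        rw [h4] at h3; exact h3
      · exact C.mul_mem ((Subgroup.mem_normalizer_iff.mp hhC d).mp (hDC hd)) (C.inv_mem (hDC hd))
    have h2 : h * d * h⁻¹ = (h * d * h⁻¹ * d⁻¹) * d := by group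
    rw [h2]
    exact Y.mul_mem (hKY h1) (hDY hd)
  have hAp : IsPGroup p (cj h D) := hDp.map _
  obtain ⟨y, hyY, hy⟩ := exists_cj_le_of_sylow Y D (cj h D) hAY hAp hDsylY
  have hymul : y ∈ ((D : Set G) * (K : Set G)) := by
    rw [← Subgroup.coe_mul_of_left_le_normalizer_right D K hDK, ← hYdef]
    exact hyY
  obtain ⟨d, hd, k, hk, rfl⟩ := Set.mem_mul.mp hymul
  refine ⟨k, by rw [← hKdef]; exact hk, ?_⟩
  have hle : cj (k * h) D ≤ D := by
    rw [← cj_cj]
    have h1 : cj d (cj k (cj h D)) ≤ D := by rw [cj_cj d k]; exact hy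
    have h2 : cj d⁻¹ (cj d (cj k (cj h D))) ≤ cj d⁻¹ D := cj_mono _ h1
    rw [cj_inv_cj] at h2
    have h3 : cj d⁻¹ D = D := by
      apply cj_eq_of_mem_normalizer
      exact Subgroup.le_normalizer (D.inv_mem hd)
    rw [h3] at h2
    exact h2
  exact Subgroup.eq_of_le_of_card_ge hle (card_cj _ _).ge

/-- **The fusion system of a normal subgroup `H` on `S ∩ H` is normal in the fusion system of the
group on `S`.** -/
theorem subgroupSystem_normalIn [Finite G] {p : ℕ} [Fact p.Prime] (S : Sylow p G)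
    (H : Subgroup G) [hHn : H.Normal] :
    (fusionSystemOfSubgroup H ((S : Subgroup G) ⊓ H) inf_le_right).IsNormalIn
      (groupFusionSystem (S : Subgroup G)) p := by
  have hTS : (S : Subgroup G) ⊓ H ≤ S := inf_le_left
  have hTH : (S : Subgroup G) ⊓ H ≤ H := inf_le_right
  -- strongly closed
  have hsc : (groupFusionSystem (S : Subgroup G)).StronglyClosed ((S : Subgroup G) ⊓ H) := by
    refine ⟨hTS, ?_⟩
    rintro R hR φ ⟨hRS, hφS, g, hg⟩ x
    refine ⟨hφS x, ?_⟩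
    rw [hg x]
    exact hHn.conj_mem _ (hR x.2).2 g
  refine ⟨⟨subgroupSystem_saturated S H, Cfsg.Agent.S5076.result p S, ?_, hsc, ?_, ?_⟩, ?_⟩
  · -- subsystem
    rintro P φ ⟨hP, hφT, g, -, hg⟩
    exact ⟨hP.trans hTS, fun x => hTS (hφT x), g, hg⟩
  · -- invariance
    intro P hPT φ hφ α hα
    obtain ⟨-, hφT, h, hhH, hh⟩ := hφ
    obtain ⟨n, hn⟩ := (mem_autGroup_group hTS α).mp hα
    refine ⟨conjHom _ (n * h * n⁻¹), ⟨?_, ?_, n * h * n⁻¹, ?_, fun x => rfl⟩, ?_⟩
    · rintro _ ⟨y, -, rfl⟩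
      exact (α y).2
    · rintro ⟨_, y, hy, rfl⟩
      have hy' : (y : G) ∈ P := hy
      show n * h * n⁻¹ * ((α y : ↥((S : Subgroup G) ⊓ H)) : G) * (n * h * n⁻¹)⁻¹ ∈ _
      rw [hn y]
      have h1 : n * h * n⁻¹ * (n * y * n⁻¹) * (n * h * n⁻¹)⁻¹ = n * (h * y * h⁻¹) * n⁻¹ := by group
      rw [h1]
      have h2 := hh ⟨y, hy'⟩
      have h3 : h * (y : G) * h⁻¹ = φ ⟨y, hy'⟩ := h2.symm
      rw [h3, ← hn ⟨φ ⟨y, hy'⟩, hφT _⟩]
      exact (α _).2
    · exact hHn.conj_mem h hhH n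
    · intro x hφx hαx
      show n * h * n⁻¹ * ((α ⟨x, hPT x.2⟩ : ↥((S : Subgroup G) ⊓ H)) : G) * (n * h * n⁻¹)⁻¹ = _
      rw [hn, hn]
      show _ = n * φ x * n⁻¹
      rw [hh x]
      show n * h * n⁻¹ * (n * (x : G) * n⁻¹) * (n * h * n⁻¹)⁻¹ = _
      group
  · -- Frattini
    intro P hPT φ hφ
    obtain ⟨hPS, hφS, g, hg⟩ := hφ
    have hfr : Subgroup.normalizer ((((S : Subgroup G) ⊓ H : Subgroup G)) : Set G) ⊔ H = ⊤ := by
      have := Sylow.normalizer_sup_eq_top (Cfsg.Agent.Lib.Helper5_Residual.sylowInfNormal S H)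
      rwa [Cfsg.Agent.Lib.Helper5_Residual.map_sylowInfNormal] at this
    have hg' : g ∈ ((Subgroup.normalizer ((((S : Subgroup G) ⊓ H : Subgroup G)) : Set G) ⊔ H :
        Subgroup G) : Set G) := by
      rw [hfr]; trivial
    rw [Subgroup.mul_normal] at hg'
    obtain ⟨n, hn, h, hh, rfl⟩ := Set.mem_mul.mp hg'
    refine ⟨((S : Subgroup G) ⊓ H).normalizerMonoidHom ⟨n, hn⟩, ?_, conjHom P h, ?_, ?_⟩
    · rw [mem_autGroup_group hTS]
      exact ⟨n, fun x => rfl⟩
    · refine ⟨hPT, ?_, h, hh, fun x => rfl⟩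
      intro x
      have h1 : φ x ∈ (S : Subgroup G) ⊓ H := hsc.2 P hPT φ ⟨hPS, hφS, n * h, hg⟩ x
      rw [hg x] at h1
      have h2 := (Subgroup.mem_normalizer_iff.mp (Subgroup.inv_mem _ hn) _).mp h1
      show h * (x : G) * h⁻¹ ∈ _
      have h3 : n⁻¹ * (n * h * ↑x * (n * h)⁻¹) * n⁻¹⁻¹ = h * (x : G) * h⁻¹ := by group
      rw [h3] at h2
      exact h2
    · intro x hx
      rw [hg x]
      show _ = n * (h * (x : G) * h⁻¹) * n⁻¹
      group
  · -- extension condition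
    intro α hα
    obtain ⟨h, hhH, hh⟩ := (mem_autGroup_subgroup hTH α).mp hα
    have hhN := mem_normalizer_of_aut α hh
    obtain ⟨k, hk, hkD⟩ := exists_mul_normalizes_centralizer S H hhH hhN
    have hkN : k ∈ Subgroup.normalizer ((((S : Subgroup G) ⊓ H : Subgroup G)) : Set G) :=
      Subgroup.centralizer_le_normalizer _ hk.2
    have hg₀T : cj (k * h) ((S : Subgroup G) ⊓ H) = (S : Subgroup G) ⊓ H :=
      cj_eq_of_mem_normalizer (Subgroup.mul_mem _ hkN hhN)
    have hg₀ : k * h ∈ Subgroup.normalizer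
        ((((S : Subgroup G) ⊓ H) ⊔ centralizerIn (S : Subgroup G) ((S : Subgroup G) ⊓ H) :
          Subgroup G) : Set G) := by
      apply mem_normalizer_of_cj_eq
      show Subgroup.map _ _ = _
      rw [Subgroup.map_sup]
      show cj (k * h) _ ⊔ cj (k * h) _ = _
      rw [hg₀T]
      show _ ⊔ cj (k * h) ((S : Subgroup G) ⊓ Subgroup.centralizer _) = _
      rw [hkD]
      rfl
    have hsupS : ((S : Subgroup G) ⊓ H) ⊔ centralizerIn (S : Subgroup G) ((S : Subgroup G) ⊓ H) ≤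
        (S : Subgroup G) := sup_le hTS inf_le_left
    refine ⟨Subgroup.normalizerMonoidHom _ ⟨k * h, hg₀⟩, ?_, ?_, ?_⟩
    · rw [mem_autGroup_group hsupS]
      exact ⟨k * h, fun x => rfl⟩
    · intro x
      show k * h * (x : G) * (k * h)⁻¹ = _
      have h1 := hh x
      have h2 := Subgroup.mem_centralizer_iff.mp hk.2 _ (α x).2
      rw [h1] at h2 ⊢
      have h3 : k * h * (x : G) * (k * h)⁻¹ = k * (h * x * h⁻¹) * k⁻¹ := by group
      rw [h3, ← h2]
      group
    · intro c hc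
      show (c : G)⁻¹ * (k * h * (c : G) * (k * h)⁻¹) ∈ _
      have hcD : k * h * (c : G) * (k * h)⁻¹ ∈
          (S : Subgroup G) ⊓ Subgroup.centralizer ((((S : Subgroup G) ⊓ H : Subgroup G)) : Set G) := by
        have hc'' : (c : G) ∈
            (S : Subgroup G) ⊓ Subgroup.centralizer ((((S : Subgroup G) ⊓ H : Subgroup G)) : Set G) := hc
        obtain ⟨c₀, hc₀⟩ : ∃ c₀ : G, c₀ = (c : G) := ⟨_, rfl⟩
        rw [← hc₀] at hc'' ⊢
        have := cj_mem (k * h) _ hc''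
        rw [hkD] at this
        exact this
      have hc' : (c : G) ∈
          (S : Subgroup G) ⊓ Subgroup.centralizer ((((S : Subgroup G) ⊓ H : Subgroup G)) : Set G) := hc
      have hg₀H : k * h ∈ H := H.mul_mem hk.1 hhH
      refine ⟨⟨?_, ?_⟩, ?_⟩
      · exact Subgroup.mul_mem _ (Subgroup.inv_mem _ hc'.1) hcD.1
      · have h1 : (c : G)⁻¹ * (k * h) * (c : G)⁻¹⁻¹ ∈ H := hHn.conj_mem _ hg₀H _
        have h2 := H.mul_mem h1 (H.inv_mem hg₀H)
        have h3 : (c : G)⁻¹ * (k * h) * (c : G)⁻¹⁻¹ * (k * h)⁻¹ =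
            (c : G)⁻¹ * (k * h * (c : G) * (k * h)⁻¹) := by group
        rw [h3] at h2; exact h2
      · exact Subgroup.mul_mem _ (Subgroup.inv_mem _ hc'.2) hcD.2

end Cfsg.Agent.Lib.Helper8_NormalSub
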