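import Mathlib
import Cfsg.Prelude.Def_FusionComponents
import Cfsg.Agent.Lib.Helper8_NormalSub
import Cfsg.Agent.Lib.Helper8_Hyperfocal
import Cfsg.Agent.Lib.Helper8_FactorHyp
import Cfsg.Agent.Lib.Helper3_PResidual
import Cfsg.Agent.Lib.Helper5_Residual
import Cfsg.Agent.S5076

set_option autoImplicit false
set_option linter.style.haveILetI false
set_option linter.unusedVariables false
open Cfsg

namespace Cfsg.Agent.Lib.Helper8_HyperfocalThm

open Cfsg.FusionSystem Cfsg.Agent.Lib.Helper8_Fusion
open Cfsg.Agent.Lib.Helper8_GroupFusion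
open Cfsg.Agent.Lib.Helper8_Saturated
open Cfsg.Agent.Lib.Helper8_Hyperfocal
open Cfsg.Agent.Lib.Helper8_FactorHyp
open Cfsg.Agent.Lib.Helper8_NormalSub
open Cfsg.Agent.Lib.Helper3_PResidual
open scoped commutatorElement

universe u

/-- The focal subgroup of the fusion system of a group is the focal subgroup of the subgroup. -/
theorem groupFocal_eq {G : Type*} [Group G] (S : Subgroup G) :
    (groupFusionSystem S).focalSubgroup = Subgroup.focalSubgroup S := by
  apply le_antisymm
  · rw [focalSubgroup, Subgroup.closure_le]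
    rintro y ⟨P, φ, x, ⟨hPS, hφS, g, hg⟩, rfl⟩
    apply Subgroup.subset_closure
    refine ⟨S.mul_mem (S.inv_mem (hPS x.2)) (hφS x), (x : G)⁻¹, S.inv_mem (hPS x.2), g, ?_⟩
    rw [hg x, commutatorElement_def]
    group
  · rw [Subgroup.focalSubgroup, Subgroup.closure_le]
    rintro y ⟨hyS, x, hxS, u, rfl⟩
    apply Subgroup.subset_closure
    have hxu : u * x⁻¹ * u⁻¹ ∈ S := by
      have h1 : u * x⁻¹ * u⁻¹ = x⁻¹ * ⁅x, u⁆ := by rw [commutatorElement_def]; group
      rw [h1]; exact S.mul_mem (S.inv_mem hxS) hyS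
    have hP : Subgroup.zpowers x⁻¹ ≤ S := by
      rw [Subgroup.zpowers_le]; exact S.inv_mem hxS
    refine ⟨Subgroup.zpowers x⁻¹, conjHom _ u, ⟨x⁻¹, Subgroup.mem_zpowers _⟩,
      ⟨hP, ?_, u, fun z => rfl⟩, ?_⟩
    · rintro ⟨z, hz⟩
      obtain ⟨k, rfl⟩ := Subgroup.mem_zpowers_iff.mp hz
      show u * (x⁻¹ ^ k) * u⁻¹ ∈ S
      have h1 : u * (x⁻¹ ^ k) * u⁻¹ = (u * x⁻¹ * u⁻¹) ^ k := by
        rw [← MulAut.conj_apply, map_zpow, MulAut.conj_apply]
      rw [h1]; exact S.zpow_mem hxu k
    · show ⁅x, u⁆ = (x⁻¹)⁻¹ * (u * x⁻¹ * u⁻¹)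
      rw [commutatorElement_def]; group

/-- A normal subgroup of a finite `p`-group which together with the commutator subgroup generates the
whole group is the whole group. -/
theorem eq_of_sup_commutator {G : Type*} [Group G] {S : Subgroup G} [Finite S] {p : ℕ}
    [Fact p.Prime] (hS : IsPGroup p S) {N : Subgroup G} (hNS : N ≤ S)
    (hnorm : ∀ s ∈ S, ∀ n ∈ N, s * n * s⁻¹ ∈ N) (hsup : N ⊔ ⁅S, S⁆ = S) : N = S := by
  haveI hN' : (N.subgroupOf S).Normal := by
    constructor
    intro n hn s
    exact hnorm s s.2 n hn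
  have h1 : N.subgroupOf S ⊔ _root_.commutator S = ⊤ := by
    apply Subgroup.map_injective S.subtype_injective
    rw [Subgroup.map_sup, Subgroup.subgroupOf_map_subtype, Subgroup.map_subtype_commutator,
      inf_eq_left.mpr hNS, hsup, ← MonoidHom.range_eq_map, Subgroup.range_subtype]
  have hQp : IsPGroup p (S ⧸ N.subgroupOf S) := hS.to_quotient _
  haveI : Group.IsNilpotent (S ⧸ N.subgroupOf S) := hQp.isNilpotent
  have h2 : _root_.commutator (S ⧸ N.subgroupOf S) = ⊤ := by
    have h3 : (_root_.commutator S).map (QuotientGroup.mk' (N.subgroupOf S)) =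
        _root_.commutator (S ⧸ N.subgroupOf S) := by
      rw [_root_.commutator_def, _root_.commutator_def, Subgroup.map_commutator,
        ← MonoidHom.range_eq_map, MonoidHom.range_eq_top.mpr (QuotientGroup.mk'_surjective _)]
    rw [← h3]
    have h4 : (N.subgroupOf S ⊔ _root_.commutator S).map (QuotientGroup.mk' (N.subgroupOf S)) = ⊤ := by
      rw [h1, ← MonoidHom.range_eq_map, MonoidHom.range_eq_top.mpr (QuotientGroup.mk'_surjective _)]
    rw [Subgroup.map_sup] at h4
    have h5 : (N.subgroupOf S).map (QuotientGroup.mk' (N.subgroupOf S)) = ⊥ := by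
      rw [eq_bot_iff]
      rintro _ ⟨n, hn, rfl⟩
      rw [Subgroup.mem_bot]
      exact (QuotientGroup.eq_one_iff n).mpr hn
    rw [h5, bot_sup_eq] at h4
    exact h4
  have h6 : Subsingleton (S ⧸ N.subgroupOf S) := by
    by_contra hne
    rw [not_subsingleton_iff_nontrivial] at hne
    exact (Group.IsSolvable.commutator_lt_top_of_nontrivial (S ⧸ N.subgroupOf S)).ne h2
  have h7 : N.subgroupOf S = ⊤ := QuotientGroup.subgroup_eq_top_of_subsingleton _ h6
  apply le_antisymm hNS
  intro s hs
  have : (⟨s, hs⟩ : S) ∈ N.subgroupOf S := by rw [h7]; trivial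
  exact this

/-- The conjugation homomorphism from `N_G(P)` onto `Aut_F(P)` for the fusion system of a group. -/
def normToAut {G : Type*} [Group G] (S : Subgroup G) {P : Subgroup G} (hPS : P ≤ S) :
    ↥(Subgroup.normalizer (P : Set G)) →* (groupFusionSystem S).autGroup P :=
  (P.normalizerMonoidHom).codRestrict _
    (fun g => (mem_autGroup_group hPS _).mpr ⟨g, fun x => rfl⟩)

theorem normToAut_surjective {G : Type*} [Group G] (S : Subgroup G) {P : Subgroup G}
    (hPS : P ≤ S) : Function.Surjective (normToAut S hPS) := by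
  intro β
  obtain ⟨g, hg⟩ := (mem_autGroup_group hPS β.1).mp β.2
  refine ⟨⟨g, mem_normalizer_of_aut β.1 hg⟩, ?_⟩
  apply Subtype.ext
  ext z
  exact (hg z).symm

/-- The easy half of the hyperfocal subgroup theorem. -/
theorem hyperfocal_le_pResidual {G : Type*} [Group G] [Finite G] {p : ℕ} [Fact p.Prime]
    (S : Subgroup G) : (groupFusionSystem S).hyperfocalSubgroup p ≤ pResidual p G := by
  rw [hyperfocalSubgroup, Subgroup.closure_le]
  rintro y ⟨P, α, x, hPS, hα, rfl⟩
  have h1 := pResidual_le_map_of_surjective p (normToAut S hPS) (normToAut_surjective S hPS) hα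
  obtain ⟨g, hg, rfl⟩ := h1
  have h2 : (g : G) ∈ pResidual p G :=
    map_pResidual_le p (Subgroup.normalizer (P : Set G)).subtype ⟨g, hg, rfl⟩
  show (x : G)⁻¹ * ((g : G) * x * (g : G)⁻¹) ∈ _
  have h3 : (x : G)⁻¹ * g * (x : G)⁻¹⁻¹ ∈ pResidual p G := (pResidual_normal p G).conj_mem _ h2 _
  have h4 := (pResidual p G).mul_mem h3 ((pResidual p G).inv_mem h2)
  have h5 : (x : G)⁻¹ * g * (x : G)⁻¹⁻¹ * (g : G)⁻¹ = (x : G)⁻¹ * ((g : G) * x * (g : G)⁻¹) := by group
  rw [h5] at h4; exact h4

/-- The hyperfocal subgroup of the fusion system of a subgroup `A` lies in that of the group. -/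
theorem map_hyperfocal_le {G : Type*} [Group G] {p : ℕ} (A : Subgroup G) (S₁ : Subgroup A)
    (S : Subgroup G) (hle : S₁.map A.subtype ≤ S) :
    ((groupFusionSystem S₁).hyperfocalSubgroup p).map A.subtype ≤
      (groupFusionSystem S).hyperfocalSubgroup p := by
  rw [Subgroup.map_le_iff_le_comap]
  conv_lhs => rw [hyperfocalSubgroup]
  rw [Subgroup.closure_le]
  rintro y ⟨P, α, x, hPS, hα, rfl⟩
  have hP' : P.map A.subtype ≤ S := (Subgroup.map_mono hPS).trans hle
  obtain ⟨e, he⟩ : ∃ e : P ≃* P.map A.subtype, ∀ w : P, ((e w : P.map A.subtype) : G) = ((w : A) : G) :=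
    ⟨P.equivMapOfInjective A.subtype A.subtype_injective, fun w => rfl⟩
  have hmem : ∀ β : (groupFusionSystem S₁).autGroup P,
      ((MulAut.congr e).toMonoidHom.comp (Subgroup.subtype _)) β ∈
        (groupFusionSystem S).autGroup (P.map A.subtype) := by
    intro β
    obtain ⟨g, hg⟩ := (mem_autGroup_group hPS β.1).mp β.2
    rw [mem_autGroup_group hP']
    refine ⟨(g : G), fun z => ?_⟩
    obtain ⟨w, rfl⟩ := e.surjective z
    show ((e ((β : MulAut P) (e.symm (e w))) : P.map A.subtype) : G) = _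
    rw [he, hg, MulEquiv.symm_apply_apply, he]
    rfl
  let Φ : (groupFusionSystem S₁).autGroup P →* (groupFusionSystem S).autGroup (P.map A.subtype) :=
    ((MulAut.congr e).toMonoidHom.comp (Subgroup.subtype _)).codRestrict _ hmem
  have h1 : Φ α ∈ pResidual p _ := map_pResidual_le p Φ ⟨α, hα, rfl⟩
  have h2 := inv_mul_apply_mem_hyperfocal (groupFusionSystem S) p hP' h1 (e x)
  show _ ∈ Subgroup.comap A.subtype _
  rw [Subgroup.mem_comap]
  show ((x : A) : G)⁻¹ * ((((α : MulAut P) x : P) : A) : G) ∈ _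
  have h3 : (((Φ α : MulAut (P.map A.subtype)) (e x) : P.map A.subtype) : G) =
      ((((α : MulAut P) x : P) : A) : G) := by
    show ((e ((α : MulAut P) (e.symm (e x))) : P.map A.subtype) : G) = _
    rw [he, MulEquiv.symm_apply_apply]
  rw [h3, he] at h2
  exact h2

/-- The hard half of the hyperfocal subgroup theorem, by induction on the order of the group. -/
theorem inf_pResidual_le_hyperfocal {p : ℕ} [Fact p.Prime] :
    ∀ (n : ℕ) (G : Type u) [Group G] [Finite G] (S : Sylow p G), Nat.card G = n →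
      (S : Subgroup G) ⊓ pResidual p G ≤
        (groupFusionSystem (S : Subgroup G)).hyperfocalSubgroup p := by
  intro n
  induction n using Nat.strong_induction_on with
  | _ n ih =>
    intro G _ _ S hn
    obtain ⟨F, hFdef⟩ : ∃ F, F = groupFusionSystem (S : Subgroup G) := ⟨_, rfl⟩
    rw [← hFdef]
    have hsat : F.IsSaturated p := by rw [hFdef]; exact Cfsg.Agent.S5076.result p S
    have hSp : IsPGroup p (S : Subgroup G) := S.isPGroup'
    obtain ⟨A, hAdef⟩ : ∃ A : Subgroup G, A = (Subgroup.transferFocal (S : Subgroup G)).ker :=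
      ⟨_, rfl⟩
    have hA1 : A ⊓ S = Subgroup.focalSubgroup (S : Subgroup G) := by
      rw [hAdef]; exact Subgroup.ker_transferFocal_inf_eq_focalSubgroup S
    have hA2 : pResidual p G ≤ A := by
      rw [pResidual, Subgroup.closure_le]
      intro g hg
      rw [hAdef]
      show g ∈ MonoidHom.ker _
      rw [MonoidHom.mem_ker]
      have hQ : IsPGroup p ((S : Subgroup G) ⧸ (S : Subgroup G).focalSubgroupOf) :=
        hSp.to_quotient _
      obtain ⟨k, hk⟩ := hQ (Subgroup.transferFocal (S : Subgroup G) g)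
      have h1 : orderOf (Subgroup.transferFocal (S : Subgroup G) g) ∣ p ^ k :=
        orderOf_dvd_of_pow_eq_one hk
      have h2 : orderOf (Subgroup.transferFocal (S : Subgroup G) g) ∣ orderOf g :=
        orderOf_map_dvd _ g
      have hcop : Nat.Coprime (orderOf g) (p ^ k) := Nat.Coprime.pow_right k hg
      have h3 : orderOf (Subgroup.transferFocal (S : Subgroup G) g) = 1 :=
        Nat.eq_one_of_dvd_coprimes hcop h2 h1
      exact orderOf_eq_one_iff.mp h3
    by_cases hAtop : A = ⊤
    · have h1 : Subgroup.focalSubgroup (S : Subgroup G) = S := by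
        rw [← hA1, hAtop, top_inf_eq]
      have h2 : F.focalSubgroup =
          F.hyperfocalSubgroup p ⊔ ⁅(S : Subgroup G), (S : Subgroup G)⁆ := focal_eq hSp F hsat
      have h2' : F.focalSubgroup = S := by rw [hFdef, groupFocal_eq, h1]
      rw [h2'] at h2
      have h3 : F.hyperfocalSubgroup p = S :=
        eq_of_sup_commutator hSp (hyperfocal_le F p)
          (fun s hs n hn => hyperfocal_conj_mem F p hs hn) h2.symm
      rw [h3]; exact inf_le_left
    · haveI : A.Normal := by rw [hAdef]; exact MonoidHom.normal_ker _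
      have hcard : Nat.card A < n := by
        rw [← hn]
        exact lt_of_le_of_ne (Subgroup.card_le_card_group A)
          (fun h => hAtop ((Subgroup.card_eq_iff_eq_top A).mp h))
      have hIH := ih (Nat.card A) hcard A (Cfsg.Agent.Lib.Helper5_Residual.sylowInfNormal S A) rfl
      rw [Cfsg.Agent.Lib.Helper5_Residual.coe_sylowInfNormal] at hIH
      rintro x ⟨hxS, hxR⟩
      have hxA : x ∈ A := hA2 hxR
      have hx1 : (⟨x, hxA⟩ : A) ∈ (S : Subgroup G).subgroupOf A := hxS
      have hx2 : (⟨x, hxA⟩ : A) ∈ pResidual p A := by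
        have hle : pResidual p G ≤ (pResidual p A).map A.subtype := by
          conv_lhs => rw [pResidual]
          rw [Subgroup.closure_le]
          intro g hg
          have hgA : g ∈ A := hA2 (Subgroup.subset_closure hg)
          refine ⟨⟨g, hgA⟩, Subgroup.subset_closure ?_, rfl⟩
          show Nat.Coprime (orderOf (⟨g, hgA⟩ : A)) p
          rw [Subgroup.orderOf_mk]; exact hg
        obtain ⟨a, ha, hax⟩ := hle hxR
        have : a = ⟨x, hxA⟩ := Subtype.ext hax
        rw [← this]; exact ha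
      have hx3 := hIH ⟨hx1, hx2⟩
      have hle2 := map_hyperfocal_le (p := p) A ((S : Subgroup G).subgroupOf A) (S : Subgroup G)
        (by rw [Subgroup.subgroupOf_map_subtype]; exact inf_le_left)
      rw [hFdef]
      exact hle2 ⟨⟨x, hxA⟩, hx3, rfl⟩

/-- **The hyperfocal subgroup theorem.** -/
theorem hyperfocal_eq {G : Type u} [Group G] [Finite G] {p : ℕ} [Fact p.Prime] (S : Sylow p G) :
    (groupFusionSystem (S : Subgroup G)).hyperfocalSubgroup p = (S : Subgroup G) ⊓ pResidual p G :=
  le_antisymm (le_inf (hyperfocal_le _ p) (hyperfocal_le_pResidual _))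
    (inf_pResidual_le_hyperfocal _ G S rfl)

end Cfsg.Agent.Lib.Helper8_HyperfocalThm
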