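import Mathlib
import Cfsg.Prelude.Def_FusionSystem
import Cfsg.Agent.Lib.Helper8_Frobenius

set_option autoImplicit false
set_option linter.style.haveILetI false
set_option linter.unusedVariables false
open Cfsg

namespace Cfsg.Agent.Lib.Helper8_Inner

open Cfsg.FusionSystem
open Cfsg.Agent.Lib.Helper8_Fusion
open Cfsg.Agent.Lib.Helper8_GroupFusion
open Cfsg.Agent.Lib.Helper8_Saturated
open Cfsg.Agent.Lib.Helper8_Alperin
open Cfsg.Agent.Lib.Helper8_Frobenius

variable {Ω : Type*} [Group Ω]

/-- In the inner system of `Q`, the automorphism group of `P ≤ Q` is contained in `Aut_Q(P)`. -/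
theorem inner_autGroup_le {Q P : Subgroup Ω} [Finite Q] (hP : P ≤ Q) :
    (innerFusionSystem Q).autGroup P ≤ autInducedBy Q P := by
  haveI : Finite P := finite_of_le hP
  intro α hα
  obtain ⟨-, g, hg, hαg⟩ := (mem_autGroup_iff _ hP α).mp hα
  rw [mem_autInducedBy_iff]
  refine ⟨g, hg, ?_, fun x => hαg x⟩
  haveI : Finite ((P : Set Ω)) := ‹Finite P›
  apply Subgroup.mem_normalizer_fintype
  intro y hy
  have := hαg ⟨y, hy⟩
  show g * y * g⁻¹ ∈ P
  rw [← this]
  exact (α ⟨y, hy⟩).2

/-- The inner fusion system of a finite `p`-group is saturated. -/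
theorem inner_saturated {Q : Subgroup Ω} [Finite Q] {p : ℕ} [Fact p.Prime] (hQ : IsPGroup p Q) :
    (innerFusionSystem Q).IsSaturated p := by
  intro P hP
  haveI : Finite P := finite_of_le hP
  refine ⟨P, isConj_refl _ hP, ⟨hP, ?_⟩, hP, ?_⟩
  · have hA : IsPGroup p ((innerFusionSystem Q).autGroup P) :=
      (autInducedBy_isPGroup hQ P).to_le (inner_autGroup_le hP)
    obtain ⟨R⟩ : Nonempty (Sylow p ((innerFusionSystem Q).autGroup P)) := inferInstance
    refine ⟨R, ?_⟩
    have hRtop : (R : Subgroup ((innerFusionSystem Q).autGroup P)) = ⊤ := by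
      have h1 : IsPGroup p (⊤ : Subgroup ((innerFusionSystem Q).autGroup P)) :=
        hA.of_equiv Subgroup.topEquiv.symm
      exact (R.is_maximal' h1 le_top).symm
    rw [hRtop]
    symm
    rw [eq_top_iff]
    intro a _
    exact inner_autGroup_le hP a.2
  · intro R φ hφ hr
    obtain ⟨hRQ, g, hg, hφg⟩ := hφ
    have hES : extender Q R φ ≤ Q := (extender_le_normalizerIn R φ).trans inf_le_left
    refine ⟨conjHom (extender Q R φ) g, (innerFusionSystem Q).conj_mem hES hg, ?_⟩
    intro x hxR hxN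
    rw [hφg]
    rfl

end Cfsg.Agent.Lib.Helper8_Inner
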