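import Mathlib
import Cfsg.Prelude.Def_FusionComponents
import Cfsg.Agent.Lib.Helper8_PPowerNormal1

set_option autoImplicit false
set_option linter.style.haveILetI false
set_option linter.unusedVariables false
open Cfsg

/-!
# The largest `Aut_F(T)`-invariant subsystem of a subsystem over `T`
-/

namespace Cfsg.Agent.Lib.Helper8_InvCore

open Cfsg.FusionSystem Cfsg.Agent.Lib.Helper8_Fusion
open Cfsg.Agent.Lib.Helper8_Saturated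
open Cfsg.Agent.Lib.Helper8_Alperin
open Cfsg.Agent.Lib.Helper8_NormalClosure
open Cfsg.Agent.Lib.Helper8_Generating
open Cfsg.Agent.Lib.Helper8_StrongInv
open Cfsg.Agent.Lib.Helper8_PPowerNormal1

variable {Ω : Type*} [Group Ω] {S : Subgroup Ω}

/-- All `Aut_F(T)`-conjugates of the map `φ` lie in `E`. -/
def InvPr (F : FusionSystem S) {T : Subgroup Ω} (E : FusionSystem T) (P : Subgroup Ω)
    (φ : P →* Ω) : Prop :=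
  ∀ α ∈ F.autGroup T, ∃ χ ∈ E.Hom (img α P), ∀ (t : T) (ht : (t : Ω) ∈ P)
    (hφ : φ ⟨t, ht⟩ ∈ T) (h : ((α t : T) : Ω) ∈ img α P),
    χ ⟨((α t : T) : Ω), h⟩ = ((α ⟨φ ⟨t, ht⟩, hφ⟩ : T) : Ω)

theorem invPr_conj (F : FusionSystem S) {T : Subgroup Ω} (E : FusionSystem T) {P : Subgroup Ω}
    {g : Ω} (hPT : P ≤ T) (hg : g ∈ T) : InvPr F E P (conjHom P g) := by
  intro α hα
  refine ⟨conjHom (img α P) ((α ⟨g, hg⟩ : T) : Ω), E.conj_mem (img_le α P) (α ⟨g, hg⟩).2, ?_⟩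
  intro t ht hφ h
  show ((α ⟨g, hg⟩ : T) : Ω) * ((α t : T) : Ω) * ((α ⟨g, hg⟩ : T) : Ω)⁻¹ = _
  have h2 : (⟨conjHom P g ⟨t, ht⟩, hφ⟩ : T) = ⟨g, hg⟩ * t * ⟨g, hg⟩⁻¹ := Subtype.ext rfl
  rw [h2, map_mul, map_mul, map_inv]
  rfl

theorem invPr_comp (F : FusionSystem S) {T : Subgroup Ω} (E : FusionSystem T)
    {P Q : Subgroup Ω} {φ : P →* Ω} {ψ : Q →* Ω} (hφ : φ ∈ E.Hom P) (hψ : ψ ∈ E.Hom Q)
    (h1 : InvPr F E P φ) (h2 : InvPr F E Q ψ) (hv : ∀ x : P, φ x ∈ Q) :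
    InvPr F E P (ψ.comp (φ.codRestrict Q hv)) := by
  intro α hα
  obtain ⟨χ₁, hχ₁, hχ₁eq⟩ := h1 α hα
  obtain ⟨χ₂, hχ₂, hχ₂eq⟩ := h2 α hα
  have hPT : P ≤ T := (E.le_of_mem hφ).1
  have hQT : Q ≤ T := (E.le_of_mem hψ).1
  have hvals : ∀ y : img α P, χ₁ y ∈ img α Q := by
    rintro ⟨y, hy⟩
    obtain ⟨t, ht, rfl⟩ := (mem_img α P y).mp hy
    rw [hχ₁eq t ht (hQT (hv ⟨t, ht⟩)) hy]
    exact (mem_img α Q _).mpr ⟨⟨φ ⟨t, ht⟩, hQT (hv ⟨t, ht⟩)⟩, hv ⟨t, ht⟩, rfl⟩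
  refine ⟨χ₂.comp (χ₁.codRestrict (img α Q) hvals), E.comp_mem hχ₁ hχ₂ hvals, ?_⟩
  intro t ht hφt h
  show χ₂ ⟨χ₁ ⟨((α t : T) : Ω), h⟩, hvals _⟩ = _
  have h3 := hχ₁eq t ht (hQT (hv ⟨t, ht⟩)) h
  have h4 : (⟨χ₁ ⟨((α t : T) : Ω), h⟩, hvals _⟩ : img α Q) =
      ⟨((α ⟨φ ⟨t, ht⟩, hQT (hv ⟨t, ht⟩)⟩ : T) : Ω),
        (mem_img α Q _).mpr ⟨⟨φ ⟨t, ht⟩, hQT (hv ⟨t, ht⟩)⟩, hv ⟨t, ht⟩, rfl⟩⟩ :=
    Subtype.ext h3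
  rw [h4]
  exact hχ₂eq ⟨φ ⟨t, ht⟩, hQT (hv ⟨t, ht⟩)⟩ (hv ⟨t, ht⟩) hφt _

theorem invPr_inv (F : FusionSystem S) {T : Subgroup Ω} (E : FusionSystem T)
    {P : Subgroup Ω} {φ : P →* Ω} (hφ : φ ∈ E.Hom P) (h1 : InvPr F E P φ)
    (ψ : φ.range →* Ω) (hψ : ψ ∈ E.Hom φ.range) (hψφ : ∀ x : P, ψ ⟨φ x, ⟨x, rfl⟩⟩ = (x : Ω)) :
    InvPr F E φ.range ψ := by
  intro α hα
  obtain ⟨χ₁, hχ₁, hχ₁eq⟩ := h1 α hα
  have hPT : P ≤ T := (E.le_of_mem hφ).1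
  have hφT : ∀ x : P, φ x ∈ T := (E.le_of_mem hφ).2
  obtain ⟨θ, hθ, hθeq⟩ := E.inv_mem hχ₁
  have hle : img α φ.range ≤ χ₁.range := by
    intro y hy
    obtain ⟨t, ⟨x, hx⟩, rfl⟩ := (mem_img α φ.range y).mp hy
    have hmem : ((α ⟨x, hPT x.2⟩ : T) : Ω) ∈ img α P :=
      (mem_img α P _).mpr ⟨⟨x, hPT x.2⟩, x.2, rfl⟩
    refine ⟨⟨((α ⟨x, hPT x.2⟩ : T) : Ω), hmem⟩, ?_⟩
    rw [hχ₁eq ⟨x, hPT x.2⟩ x.2 (hφT x) hmem]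
    congr 2
    exact Subtype.ext hx
  refine ⟨θ.comp (Subgroup.inclusion hle), restrict_mem E hle hθ, ?_⟩
  intro t ht hψt h
  obtain ⟨x, hx⟩ := ht
  show θ ⟨((α t : T) : Ω), hle h⟩ = _
  have hmem : ((α ⟨x, hPT x.2⟩ : T) : Ω) ∈ img α P :=
    (mem_img α P _).mpr ⟨⟨x, hPT x.2⟩, x.2, rfl⟩
  have h3 := hχ₁eq ⟨x, hPT x.2⟩ x.2 (hφT x) hmem
  have h4 : (⟨((α t : T) : Ω), hle h⟩ : χ₁.range) =
      ⟨χ₁ ⟨((α ⟨x, hPT x.2⟩ : T) : Ω), hmem⟩, ⟨_, rfl⟩⟩ := by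
    apply Subtype.ext
    show ((α t : T) : Ω) = χ₁ ⟨((α ⟨x, hPT x.2⟩ : T) : Ω), hmem⟩
    rw [h3]
    congr 2
    exact Subtype.ext hx.symm
  rw [h4, hθeq]
  show ((α ⟨x, hPT x.2⟩ : T) : Ω) = _
  congr 2
  apply Subtype.ext
  show (x : Ω) = ψ ⟨(t : Ω), _⟩
  have h5 := hψφ x
  rw [← h5]
  congr 2

/-- The largest `Aut_F(T)`-invariant subsystem of `E`. -/
def invCore (F : FusionSystem S) {T : Subgroup Ω} (E : FusionSystem T) : FusionSystem T :=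
  subsystemOfProp E (InvPr F E)
    (fun hP hg => invPr_conj F E hP hg)
    (fun hφ hψ h1 h2 hv => invPr_comp F E hφ hψ h1 h2 hv)
    (fun hφ h1 ψ hψ hψφ => invPr_inv F E hφ h1 ψ hψ hψφ)

theorem mem_invCore (F : FusionSystem S) {T : Subgroup Ω} (E : FusionSystem T) {P : Subgroup Ω}
    {φ : P →* Ω} : φ ∈ (invCore F E).Hom P ↔ φ ∈ E.Hom P ∧ InvPr F E P φ := Iff.rfl

theorem invCore_le (F : FusionSystem S) {T : Subgroup Ω} (E : FusionSystem T) (P : Subgroup Ω) :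
    (invCore F E).Hom P ⊆ E.Hom P := fun φ hφ => hφ.1

theorem img_mul {T : Subgroup Ω} (α β : MulAut T) (P : Subgroup Ω) :
    img (β * α) P = img β (img α P) := by
  ext y
  rw [mem_img, mem_img]
  constructor
  · rintro ⟨t, ht, rfl⟩
    exact ⟨α t, (mem_img α P _).mpr ⟨t, ht, rfl⟩, rfl⟩
  · rintro ⟨t', ht', rfl⟩
    obtain ⟨t, ht, h⟩ := (mem_img α P _).mp ht'
    have h2 : α t = t' := Subtype.ext h
    exact ⟨t, ht, by rw [← h2]; rfl⟩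

theorem autInv_invCore (F : FusionSystem S) {T : Subgroup Ω} (E : FusionSystem T) :
    AutInv F (invCore F E) := by
  intro P hPT φ hφ α hα
  obtain ⟨χ, hχ, hχeq⟩ := hφ.2 α hα
  have hφT : ∀ x : P, φ x ∈ T := (E.le_of_mem hφ.1).2
  refine ⟨χ, ⟨hχ, ?_⟩, fun x hφx hαx => hχeq ⟨x, hPT x.2⟩ x.2 hφx hαx⟩
  intro β hβ
  obtain ⟨χ', hχ', hχ'eq⟩ := hφ.2 (β * α) (Subgroup.mul_mem _ hβ hα)
  have himg := img_mul α β P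
  refine ⟨χ'.comp (Subgroup.inclusion (le_of_eq himg.symm)),
    restrict_mem E (le_of_eq himg.symm) hχ', ?_⟩
  intro t' ht' hχt' h
  obtain ⟨t, ht, h1⟩ := (mem_img α P _).mp ht'
  have h2 : α t = t' := Subtype.ext h1
  subst h2
  show χ' ⟨((β (α t) : T) : Ω), _⟩ = _
  have h3 := hχ'eq t ht (hφT ⟨t, ht⟩) (by rw [himg]; exact h)
  have h4 := hχeq t ht (hφT ⟨t, ht⟩) ht'
  rw [show χ' ⟨((β (α t) : T) : Ω), _⟩ = (((β * α) ⟨φ ⟨t, ht⟩, hφT ⟨t, ht⟩⟩ : T) : Ω) from h3]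
  show ((β (α ⟨φ ⟨t, ht⟩, hφT ⟨t, ht⟩⟩) : T) : Ω) = _
  congr 2
  exact Subtype.ext h4.symm

end Cfsg.Agent.Lib.Helper8_InvCore
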