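import Mathlib
import Cfsg.Prelude.Def_FusionComponents
import Cfsg.Agent.Lib.Helper8_Realize
import Cfsg.Agent.Lib.Helper8_NormalSub
import Cfsg.Agent.Lib.Helper8_StrongInv
import Cfsg.Agent.Lib.Helper5_Residual
import Cfsg.Agent.Lib.Helper5_PPrime

set_option autoImplicit false
set_option linter.style.haveILetI false
set_option linter.unusedVariables false
open Cfsg

namespace Cfsg.Agent.Lib.Helper8_SimpleRealize

open Cfsg.FusionSystem Cfsg.Agent.Lib.Helper8_Fusion Cfsg.Agent.Lib.Helper8_Factor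
open Cfsg.Agent.Lib.Helper8_GroupFusion
open Cfsg.Agent.Lib.Helper8_Saturated
open Cfsg.Agent.Lib.Helper8_Alperin
open Cfsg.Agent.Lib.Helper8_FactorSat
open Cfsg.Agent.Lib.Helper8_PPower
open Cfsg.Agent.Lib.Helper8_Transport
open Cfsg.Agent.Lib.Helper8_Realize
open Cfsg.Agent.Lib.Helper8_NormalSub
open Cfsg.Agent.Lib.Helper8_StrongInv

variable {Ω : Type*} [Group Ω] {S : Subgroup Ω} {G : Type*} [Group G]

/-- Conjugation by `g` in `G`, pulled back along an injective `ι : S →* G` to a homomorphism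
`P →* Ω` (for `P ≤ S` whose image is conjugated into the image of `ι`). -/
noncomputable def pc {ι : S →* G} (hinj : Function.Injective ι) (P : Subgroup Ω) (hP : P ≤ S) (g : G)
    (hg : ∀ x : P, g * ι ⟨x, hP x.2⟩ * g⁻¹ ∈ ι.range) : P →* Ω :=
  (invHom hinj rfl).comp
    ((((MulAut.conj g).toMonoidHom.comp ι).comp (Subgroup.inclusion hP)).codRestrict ι.range
      (fun x => by
        show (MulAut.conj g) (ι ⟨x, hP x.2⟩) ∈ ι.range
        rw [MulAut.conj_apply]; exact hg x))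

theorem pc_mem {ι : S →* G} (hinj : Function.Injective ι) (P : Subgroup Ω) (hP : P ≤ S) (g : G)
    (hg : ∀ x : P, g * ι ⟨x, hP x.2⟩ * g⁻¹ ∈ ι.range) (x : P) : pc hinj P hP g hg x ∈ S :=
  invHom_mem hinj rfl _

theorem map_pc {ι : S →* G} (hinj : Function.Injective ι) (P : Subgroup Ω) (hP : P ≤ S) (g : G)
    (hg : ∀ x : P, g * ι ⟨x, hP x.2⟩ * g⁻¹ ∈ ι.range) (x : P) (h : pc hinj P hP g hg x ∈ S) :
    ι ⟨pc hinj P hP g hg x, h⟩ = g * ι ⟨x, hP x.2⟩ * g⁻¹ := by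
  have h0 := map_invHom hinj rfl
    (((((MulAut.conj g).toMonoidHom.comp ι).comp (Subgroup.inclusion hP)).codRestrict ι.range
      (fun x => by
        show (MulAut.conj g) (ι ⟨x, hP x.2⟩) ∈ ι.range
        rw [MulAut.conj_apply]; exact hg x)) x)
  refine h0.trans ?_
  show (MulAut.conj g) (ι ⟨x, hP x.2⟩) = _
  rw [MulAut.conj_apply]

theorem pc_mem_hom {F : FusionSystem S} {ι : S →* G} (h : F.IsRealizedBy ι) (P : Subgroup Ω)
    (hP : P ≤ S) (g : G) (hg : ∀ x : P, g * ι ⟨x, hP x.2⟩ * g⁻¹ ∈ ι.range) :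
    pc h.1 P hP g hg ∈ F.Hom P :=
  (h.2 P hP _ (pc_mem h.1 P hP g hg)).mpr ⟨g, fun x => map_pc h.1 P hP g hg x _⟩

/-- `φ`, read through `ι`, is conjugation by an element of `N`. -/
def ConjIn (ι : S →* G) (N : Subgroup G) (P : Subgroup Ω) (φ : P →* Ω) : Prop :=
  ∃ g ∈ N, ∀ (x : P) (h1 : (x : Ω) ∈ S) (h2 : φ x ∈ S), ι ⟨φ x, h2⟩ = g * ι ⟨x, h1⟩ * g⁻¹

/-- The subsystem of `F` (realized through `ι`) induced by the subgroup `N` of `G`, over the
preimage of `N` in `S`. -/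
def subSystem (F : FusionSystem S) (ι : S →* G) (N : Subgroup G) :
    FusionSystem (preimageAlong ι N) :=
  subsystemOfProp (restrictSystem F (preimageAlong ι N) (preimageAlong_le ι N)) (ConjIn ι N)
    (by
      intro P g hP hg
      have hgS : g ∈ S := preimageAlong_le ι N hg
      refine ⟨ι ⟨g, hgS⟩, (mem_preimageAlong ι N hgS).mp hg, ?_⟩
      intro x h1 h2
      have : (⟨conjHom P g x, h2⟩ : S) = ⟨g, hgS⟩ * ⟨x, h1⟩ * ⟨g, hgS⟩⁻¹ := Subtype.ext rfl
      rw [this, map_mul, map_mul, map_inv])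
    (by
      rintro P Q φ ψ hφ hψ ⟨g, hgN, hg⟩ ⟨k, hkN, hk⟩ h
      refine ⟨k * g, N.mul_mem hkN hgN, ?_⟩
      intro x h1 h2
      have hφS : φ x ∈ S := (F.le_of_mem hφ.1).2 x
      have h3 : ι ⟨ψ ⟨φ x, h x⟩, h2⟩ = k * ι ⟨φ x, hφS⟩ * k⁻¹ := hk ⟨φ x, h x⟩ hφS h2
      show ι ⟨ψ ⟨φ x, h x⟩, h2⟩ = _
      rw [h3, hg x h1 hφS]
      group)
    (by
      rintro P φ hφ ⟨g, hgN, hg⟩ ψ hψ hψφ
      refine ⟨g⁻¹, N.inv_mem hgN, ?_⟩
      rintro ⟨_, x, rfl⟩ h1 h2
      have hxS : (x : Ω) ∈ S := (F.le_of_mem hφ.1).1 x.2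
      have h3 : (⟨ψ ⟨φ x, ⟨x, rfl⟩⟩, h2⟩ : S) = ⟨x, hxS⟩ := Subtype.ext (hψφ x)
      rw [h3]
      show ι ⟨x, hxS⟩ = g⁻¹ * ι ⟨φ x, h1⟩ * g⁻¹⁻¹
      rw [hg x hxS h1]
      group)

theorem mem_subSystem (F : FusionSystem S) (ι : S →* G) (N : Subgroup G) {P : Subgroup Ω}
    {φ : P →* Ω} : φ ∈ (subSystem F ι N).Hom P ↔
      (φ ∈ F.Hom P ∧ P ≤ preimageAlong ι N ∧ ∀ x : P, φ x ∈ preimageAlong ι N) ∧
        ConjIn ι N P φ := Iff.rfl

/-- The restriction of `ι` to the preimage of `N`, as a map into `N`. -/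
def resTo (ι : S →* G) (N : Subgroup G) : preimageAlong ι N →* N :=
  (ι.comp (Subgroup.inclusion (preimageAlong_le ι N))).codRestrict N
    (map_mem_of_mem_preimageAlong ι N)

theorem resTo_coe (ι : S →* G) (N : Subgroup G) (x : preimageAlong ι N) :
    ((resTo ι N x : N) : G) = ι ⟨x, preimageAlong_le ι N x.2⟩ := rfl

theorem subSystem_realized {F : FusionSystem S} {ι : S →* G} (h : F.IsRealizedBy ι)
    (N : Subgroup G) : (subSystem F ι N).IsRealizedBy (resTo ι N) := by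
  obtain ⟨hinj, hiff⟩ := h
  constructor
  · intro a b hab
    have h1 : ι ⟨a, preimageAlong_le ι N a.2⟩ = ι ⟨b, preimageAlong_le ι N b.2⟩ :=
      congrArg Subtype.val hab
    have h2 := hinj h1
    have h3 : ((⟨a, preimageAlong_le ι N a.2⟩ : S) : Ω) = ((⟨b, preimageAlong_le ι N b.2⟩ : S) : Ω) :=
      congrArg Subtype.val h2
    exact Subtype.ext h3
  · intro P hP φ hφ
    constructor
    · rintro ⟨-, g, hgN, hg⟩
      refine ⟨⟨g, hgN⟩, fun x => ?_⟩
      apply Subtype.ext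
      exact hg x (preimageAlong_le ι N (hP x.2)) (preimageAlong_le ι N (hφ x))
    · rintro ⟨g, hg⟩
      have hg' : ∀ x : P, ι ⟨φ x, preimageAlong_le ι N (hφ x)⟩ =
          (g : G) * ι ⟨x, preimageAlong_le ι N (hP x.2)⟩ * (g : G)⁻¹ :=
        fun x => congrArg Subtype.val (hg x)
      refine ⟨⟨(hiff P (hP.trans (preimageAlong_le ι N)) φ
        (fun x => preimageAlong_le ι N (hφ x))).mpr ⟨g, hg'⟩, hP, hφ⟩, g, g.2, ?_⟩
      intro x h1 h2
      exact hg' x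

theorem resTo_range (ι : S →* G) (N : Subgroup G) : (resTo ι N).range = ι.range.subgroupOf N := by
  ext n
  constructor
  · rintro ⟨x, rfl⟩
    exact ⟨⟨x, preimageAlong_le ι N x.2⟩, rfl⟩
  · rintro ⟨s, hs⟩
    have hsN : ι s ∈ N := by rw [hs]; exact n.2
    refine ⟨⟨s, (mem_preimageAlong ι N s.2).mpr hsN⟩, ?_⟩
    apply Subtype.ext
    exact hs

theorem subSystem_saturated [Finite S] [Finite G] {p : ℕ} [Fact p.Prime] (hS : IsPGroup p S)
    {F : FusionSystem S} {ι : S →* G} (h : F.IsRealizedBy ι)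
    (hT : ∃ T : Sylow p G, (T : Subgroup G) = ι.range) (N : Subgroup G) [N.Normal] :
    (subSystem F ι N).IsSaturated p := by
  haveI : Finite (preimageAlong ι N) := finite_of_le (preimageAlong_le ι N)
  refine saturated_of_realized (hS.to_le (preimageAlong_le ι N)) (subSystem_realized h N) ?_
  obtain ⟨T, hT⟩ := hT
  refine ⟨Cfsg.Agent.Lib.Helper5_Residual.sylowInfNormal T N, ?_⟩
  rw [Cfsg.Agent.Lib.Helper5_Residual.coe_sylowInfNormal, resTo_range, hT]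

theorem preimage_stronglyClosed {F : FusionSystem S} {ι : S →* G} (h : F.IsRealizedBy ι)
    (N : Subgroup G) [hN : N.Normal] : F.StronglyClosed (preimageAlong ι N) := by
  refine ⟨preimageAlong_le ι N, ?_⟩
  intro R hR φ hφ x
  have hRS : R ≤ S := (F.le_of_mem hφ).1
  have hφS := (F.le_of_mem hφ).2
  obtain ⟨g, hg⟩ := (h.2 R hRS φ hφS).mp hφ
  rw [mem_preimageAlong ι N (hφS x), hg x]
  exact hN.conj_mem _ ((mem_preimageAlong ι N (hRS x.2)).mp (hR x.2)) g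

theorem subSystem_le (F : FusionSystem S) (ι : S →* G) (N : Subgroup G) :
    (subSystem F ι N).IsSubsystemOf F := fun P φ hφ => hφ.1.1

theorem subSystem_strongInv {F : FusionSystem S} {ι : S →* G} (h : F.IsRealizedBy ι)
    (N : Subgroup G) [hN : N.Normal] : StrongInv F (subSystem F ι N) := by
  have hsc := preimage_stronglyClosed h N
  intro P Q hPQ hQT φ hφ hφQ ψ hψ
  obtain ⟨⟨hφF, hPN, hφN⟩, n, hnN, hn⟩ := hφ
  have hQS : Q ≤ S := hQT.trans (preimageAlong_le ι N)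
  have hPS : P ≤ S := hPQ.trans hQS
  have hψS := (F.le_of_mem hψ).2
  obtain ⟨g, hg⟩ := (h.2 Q hQS ψ hψS).mp hψ
  obtain ⟨P', hP'def⟩ : ∃ P', P' = (P.subgroupOf Q).map ψ := ⟨_, rfl⟩
  have he := restrictEquiv_mem F hψ hPQ hP'def.symm
  obtain ⟨e, hedef⟩ : ∃ e : P ≃* P', e = restrictEquiv ψ (F.injective_of_mem hψ) hPQ hP'def.symm :=
    ⟨_, rfl⟩
  rw [← hedef] at he
  have hex : ∀ x : P, ((e x : P') : Ω) = ψ (Subgroup.inclusion hPQ x) := by
    intro x; rw [hedef]; rfl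
  have hχF : (ψ.comp (φ.codRestrict Q hφQ)).comp e.symm.toMonoidHom ∈ F.Hom P' :=
    hom_comp_iso F (iso_symm F he) (F.comp_mem hφF hψ hφQ)
  have hP'N : P' ≤ preimageAlong ι N := by
    rw [hP'def]
    rintro _ ⟨y, -, rfl⟩
    exact hsc.2 Q hQT ψ hψ y
  rw [← hP'def]
  refine ⟨(ψ.comp (φ.codRestrict Q hφQ)).comp e.symm.toMonoidHom,
    ⟨⟨hχF, hP'N, fun y => hsc.2 Q hQT ψ hψ _⟩, g * n * g⁻¹, hN.conj_mem n hnN g, ?_⟩, ?_⟩
  · intro y h1 h2
    obtain ⟨x, rfl⟩ := e.surjective y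
    show ι ⟨ψ ⟨φ (e.symm (e x)), hφQ _⟩, h2⟩ = _
    have hsymm : e.symm (e x) = x := MulEquiv.symm_apply_apply e x
    have h3 := hg ⟨φ (e.symm (e x)), hφQ _⟩
    have h4 : ι ⟨ψ ⟨φ (e.symm (e x)), hφQ _⟩, h2⟩ =
        g * ι ⟨φ (e.symm (e x)), hQS (hφQ _)⟩ * g⁻¹ := h3
    rw [h4]
    have h5 : ι ⟨φ (e.symm (e x)), hQS (hφQ _)⟩ = n * ι ⟨(e.symm (e x) : P), hPS (e.symm (e x)).2⟩ * n⁻¹ :=
      hn _ _ _
    rw [h5]
    have h6 : ι ⟨((e x : P') : Ω), h1⟩ = g * ι ⟨(x : Ω), hPS x.2⟩ * g⁻¹ := by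
      have h7 := hg (Subgroup.inclusion hPQ x)
      have h8 : (⟨((e x : P') : Ω), h1⟩ : S) = ⟨ψ (Subgroup.inclusion hPQ x), hψS _⟩ :=
        Subtype.ext (hex x)
      rw [h8]
      exact h7
    rw [h6]
    have h9 : (⟨((e.symm (e x) : P) : Ω), hPS (e.symm (e x)).2⟩ : S) = ⟨(x : Ω), hPS x.2⟩ := by
      apply Subtype.ext
      show ((e.symm (e x) : P) : Ω) = x
      rw [hsymm]
    rw [h9]
    group
  · intro x hx
    show ψ ⟨φ (e.symm ⟨ψ (Subgroup.inclusion hPQ x), hx⟩), hφQ _⟩ = ψ ⟨φ x, hφQ x⟩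
    have h1 : (⟨ψ (Subgroup.inclusion hPQ x), hx⟩ : P') = e x := Subtype.ext (hex x).symm
    have h2 : e.symm ⟨ψ (Subgroup.inclusion hPQ x), hx⟩ = x := by
      rw [h1, MulEquiv.symm_apply_apply]
    congr 2
    rw [h2]

theorem subSystem_invariant [Finite S] {p : ℕ} [Fact p.Prime] (hS : IsPGroup p S)
    {F : FusionSystem S} (hF : F.IsSaturated p) {ι : S →* G} (h : F.IsRealizedBy ι)
    (N : Subgroup G) [hN : N.Normal] : (subSystem F ι N).IsInvariantIn F :=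
  (invariant_iff_strongInv hS F hF (subSystem F ι N) (subSystem_le F ι N)
    (preimage_stronglyClosed h N)).mpr (subSystem_strongInv h N)

theorem subSystem_normalIn [Finite S] [Finite G] {p : ℕ} [Fact p.Prime] (hS : IsPGroup p S)
    {F : FusionSystem S} (hF : F.IsSaturated p) {ι : S →* G} (h : F.IsRealizedBy ι)
    (hT : ∃ T : Sylow p G, (T : Subgroup G) = ι.range) (N : Subgroup G) [hN : N.Normal] :
    (subSystem F ι N).IsNormalIn F p := by
  refine ⟨⟨subSystem_saturated hS h hT N, hF, subSystem_invariant hS hF h N⟩, ?_⟩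
  have hsc := preimage_stronglyClosed h N
  obtain ⟨Tsyl, hTeq⟩ := hT
  obtain ⟨hinj, hiff⟩ := h
  intro α hα
  have hSNS : preimageAlong ι N ≤ S := preimageAlong_le ι N
  obtain ⟨-, hh, hhN, hhα⟩ := (mem_autGroup_iff (subSystem F ι N) le_rfl α).mp hα
  have hhα' : ∀ x : preimageAlong ι N, ι ⟨((α x : preimageAlong ι N) : Ω), hSNS (α x).2⟩ =
      hh * ι ⟨x, hSNS x.2⟩ * hh⁻¹ := fun x => hhα x _ _
  have f1 : ∀ s : S, ι s ∈ (Tsyl : Subgroup G) := fun s => by rw [hTeq]; exact ⟨s, rfl⟩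
  have f2 : ∀ y ∈ (Tsyl : Subgroup G) ⊓ N, ∃ s : S, (s : Ω) ∈ preimageAlong ι N ∧ ι s = y := by
    rintro y ⟨hyT, hyN⟩
    rw [hTeq] at hyT
    obtain ⟨s, rfl⟩ := hyT
    exact ⟨s, (mem_preimageAlong ι N s.2).mpr hyN, rfl⟩
  have f2' : ∀ x (hx : x ∈ preimageAlong ι N), ι ⟨x, hSNS hx⟩ ∈ (Tsyl : Subgroup G) ⊓ N :=
    fun x hx => ⟨f1 _, (mem_preimageAlong ι N (hSNS hx)).mp hx⟩
  have hhNorm : hh ∈ Subgroup.normalizer ((((Tsyl : Subgroup G) ⊓ N : Subgroup G)) : Set G) := by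
    apply mem_normalizer_of_cj_eq
    apply Subgroup.eq_of_le_of_card_ge _ (card_cj _ _).ge
    rintro _ ⟨y, hy, rfl⟩
    show (MulAut.conj hh) y ∈ _
    rw [MulAut.conj_apply]
    obtain ⟨s, hs, rfl⟩ := f2 y hy
    have h1 := hhα' ⟨s, hs⟩
    have h2 : (⟨((⟨(s : Ω), hs⟩ : preimageAlong ι N) : Ω), hSNS hs⟩ : S) = s := Subtype.ext rfl
    rw [h2] at h1
    rw [← h1]
    exact f2' _ (α ⟨s, hs⟩).2
  obtain ⟨k, hk, hkD⟩ := exists_mul_normalizes_centralizer Tsyl N hhN hhNorm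
  have hkN : k ∈ Subgroup.normalizer ((((Tsyl : Subgroup G) ⊓ N : Subgroup G)) : Set G) :=
    Subgroup.centralizer_le_normalizer _ hk.2
  have hg₀T : cj (k * hh) ((Tsyl : Subgroup G) ⊓ N) = (Tsyl : Subgroup G) ⊓ N :=
    cj_eq_of_mem_normalizer (Subgroup.mul_mem _ hkN hhNorm)
  have hg₀N : k * hh ∈ N := N.mul_mem hk.1 hhN
  -- centralizers correspond
  have f5 : ∀ x (hx : x ∈ centralizerIn S (preimageAlong ι N)), ι ⟨x, hx.1⟩ ∈
      (Tsyl : Subgroup G) ⊓ Subgroup.centralizer ((((Tsyl : Subgroup G) ⊓ N : Subgroup G)) : Set G) := by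
    intro x hx
    refine ⟨f1 _, ?_⟩
    show _ ∈ Subgroup.centralizer ((((Tsyl : Subgroup G) ⊓ N : Subgroup G)) : Set G)
    rw [Subgroup.mem_centralizer_iff]
    intro y hy
    obtain ⟨s, hs, rfl⟩ := f2 y hy
    have hxC : x ∈ Subgroup.centralizer ((preimageAlong ι N : Subgroup Ω) : Set Ω) := hx.2
    rw [Subgroup.mem_centralizer_iff] at hxC
    have h1 := hxC s hs
    rw [← map_mul, ← map_mul]
    congr 1
    exact Subtype.ext h1
  have f6 : ∀ s : S, ι s ∈ (Tsyl : Subgroup G) ⊓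
      Subgroup.centralizer ((((Tsyl : Subgroup G) ⊓ N : Subgroup G)) : Set G) →
      (s : Ω) ∈ centralizerIn S (preimageAlong ι N) := by
    intro s hs
    refine ⟨s.2, ?_⟩
    show (s : Ω) ∈ Subgroup.centralizer ((preimageAlong ι N : Subgroup Ω) : Set Ω)
    rw [Subgroup.mem_centralizer_iff]
    intro y hy
    have hsC : ι s ∈ Subgroup.centralizer ((((Tsyl : Subgroup G) ⊓ N : Subgroup G)) : Set G) := hs.2
    rw [Subgroup.mem_centralizer_iff] at hsC
    have h1 := hsC _ (f2' y hy)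
    rw [← map_mul, ← map_mul] at h1
    have h2 := hinj h1
    exact congrArg Subtype.val h2
  have hU : preimageAlong ι N ⊔ centralizerIn S (preimageAlong ι N) ≤ S := sup_le hSNS inf_le_left
  -- conjugation by `k * hh` on `ι(U)`
  have hconjN : ∀ x (hx : x ∈ preimageAlong ι N), (k * hh) * ι ⟨x, hSNS hx⟩ * (k * hh)⁻¹ ∈
      (Tsyl : Subgroup G) ⊓ N := by
    intro x hx
    have := cj_mem (k * hh) _ (f2' x hx)
    rw [hg₀T] at this
    exact this
  have hconjC : ∀ x (hx : x ∈ centralizerIn S (preimageAlong ι N)),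
      (k * hh) * ι ⟨x, hx.1⟩ * (k * hh)⁻¹ ∈ (Tsyl : Subgroup G) ⊓
        Subgroup.centralizer ((((Tsyl : Subgroup G) ⊓ N : Subgroup G)) : Set G) := by
    intro x hx
    have := cj_mem (k * hh) _ (f5 x hx)
    rw [hkD] at this
    exact this
  have hM : preimageAlong ι N ⊔ centralizerIn S (preimageAlong ι N) ≤
      (ι.range.comap ((MulAut.conj (k * hh)).toMonoidHom.comp ι)).map S.subtype := by
    apply sup_le
    · intro x hx
      refine ⟨⟨x, hSNS hx⟩, ?_, rfl⟩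
      show (MulAut.conj (k * hh)) (ι ⟨x, hSNS hx⟩) ∈ ι.range
      rw [MulAut.conj_apply, ← hTeq]
      exact (hconjN x hx).1
    · intro x hx
      refine ⟨⟨x, hx.1⟩, ?_, rfl⟩
      show (MulAut.conj (k * hh)) (ι ⟨x, hx.1⟩) ∈ ι.range
      rw [MulAut.conj_apply, ← hTeq]
      exact (hconjC x hx).1
  have hg₀ : ∀ x : ↥(preimageAlong ι N ⊔ centralizerIn S (preimageAlong ι N)),
      (k * hh) * ι ⟨x, hU x.2⟩ * (k * hh)⁻¹ ∈ ι.range := by
    intro x
    obtain ⟨s, hs, hsx⟩ := hM x.2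
    have : s = ⟨x, hU x.2⟩ := Subtype.ext hsx
    rw [← this]
    have h1 : (MulAut.conj (k * hh)) (ι s) ∈ ι.range := hs
    rwa [MulAut.conj_apply] at h1
  obtain ⟨β₀, hβ₀def⟩ : ∃ β₀, β₀ = pc hinj _ hU (k * hh) hg₀ := ⟨_, rfl⟩
  have hβ₀S : ∀ x, β₀ x ∈ S := fun x => by rw [hβ₀def]; exact pc_mem hinj _ hU _ hg₀ x
  have hβ₀ι : ∀ x, ι ⟨β₀ x, hβ₀S x⟩ = (k * hh) * ι ⟨x, hU x.2⟩ * (k * hh)⁻¹ := by
    subst hβ₀def
    intro x
    exact map_pc hinj _ hU (k * hh) hg₀ x _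
  have hβ₀F : β₀ ∈ F.Hom _ := by
    rw [hβ₀def]; exact pc_mem_hom ⟨hinj, hiff⟩ _ hU _ hg₀
  have hβ₀N : ∀ x (hx : x ∈ preimageAlong ι N),
      β₀ ⟨x, (le_sup_left : preimageAlong ι N ≤ _) hx⟩ ∈ preimageAlong ι N := by
    intro x hx
    rw [mem_preimageAlong ι N (hβ₀S _), hβ₀ι]
    exact (hconjN x hx).2
  have hβ₀C : ∀ x (hx : x ∈ centralizerIn S (preimageAlong ι N)),
      β₀ ⟨x, (le_sup_right : centralizerIn S (preimageAlong ι N) ≤ _) hx⟩ ∈
        centralizerIn S (preimageAlong ι N) := by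
    intro x hx
    have := f6 ⟨β₀ ⟨x, (le_sup_right : centralizerIn S (preimageAlong ι N) ≤ _) hx⟩, hβ₀S _⟩ (by
      rw [hβ₀ι]; exact hconjC x hx)
    exact this
  have hvals := sup_vals β₀ hβ₀N hβ₀C
  haveI : Finite ↥(preimageAlong ι N ⊔ centralizerIn S (preimageAlong ι N)) := finite_of_le hU
  obtain ⟨e, he, hee⟩ := iso_of_hom F hβ₀F (range_eq_of_vals (F.injective_of_mem hβ₀F) hvals)
  refine ⟨e, (mem_autGroup_iff F hU e).mpr he, ?_, ?_⟩
  · intro x
    rw [hee]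
    have h1 := hβ₀ι (Subgroup.inclusion le_sup_left x)
    have h2 := hhα' x
    have h3 : ι ⟨β₀ (Subgroup.inclusion le_sup_left x), hβ₀S _⟩ =
        ι ⟨((α x : preimageAlong ι N) : Ω), hSNS (α x).2⟩ := by
      rw [h1, h2]
      have h4 : (⟨((Subgroup.inclusion (le_sup_left : preimageAlong ι N ≤
          preimageAlong ι N ⊔ centralizerIn S (preimageAlong ι N)) x :
          ↥(preimageAlong ι N ⊔ centralizerIn S (preimageAlong ι N))) : Ω),
          hU (Subgroup.inclusion (le_sup_left : preimageAlong ι N ≤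
          preimageAlong ι N ⊔ centralizerIn S (preimageAlong ι N)) x).2⟩ : S) =
          ⟨x, hSNS x.2⟩ := Subtype.ext rfl
      rw [h4]
      have hkc : k ∈ Subgroup.centralizer ((((Tsyl : Subgroup G) ⊓ N : Subgroup G)) : Set G) := hk.2
      rw [Subgroup.mem_centralizer_iff] at hkc
      have h5 := hkc _ (f2' _ (α x).2)
      rw [h2] at h5
      have h6 : k * hh * ι ⟨x, hSNS x.2⟩ * (k * hh)⁻¹ =
          k * (hh * ι ⟨x, hSNS x.2⟩ * hh⁻¹) * k⁻¹ := by group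
      rw [h6, ← h5]
      group
    exact congrArg Subtype.val (hinj h3)
  · intro c hc
    rw [hee]
    have hβc := hβ₀C c hc
    have h0 : (⟨(c : Ω), (le_sup_right : centralizerIn S (preimageAlong ι N) ≤ _) hc⟩ :
        ↥(preimageAlong ι N ⊔ centralizerIn S (preimageAlong ι N))) = c := Subtype.ext rfl
    rw [h0] at hβc
    have hz : (c : Ω)⁻¹ * β₀ c ∈ centralizerIn S (preimageAlong ι N) :=
      Subgroup.mul_mem _ (Subgroup.inv_mem _ hc) hβc
    refine ⟨?_, hz.2⟩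
    show (c : Ω)⁻¹ * β₀ c ∈ preimageAlong ι N
    rw [mem_preimageAlong ι N hz.1]
    have h1 : (⟨(c : Ω)⁻¹ * β₀ c, hz.1⟩ : S) = ⟨c, hU c.2⟩⁻¹ * ⟨β₀ c, hβ₀S c⟩ := Subtype.ext rfl
    rw [h1, map_mul, map_inv, hβ₀ι]
    have h2 : (ι ⟨c, hU c.2⟩)⁻¹ * (k * hh * ι ⟨c, hU c.2⟩ * (k * hh)⁻¹) =
        ((ι ⟨c, hU c.2⟩)⁻¹ * (k * hh) * (ι ⟨c, hU c.2⟩)⁻¹⁻¹) * (k * hh)⁻¹ := by group
    rw [h2]
    exact N.mul_mem (hN.conj_mem _ hg₀N _) (N.inv_mem hg₀N)

/-- In `A ⊔ N` with `N` normal of order prime to `p` and `A` a `p`-group, `A` is a Sylow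
`p`-subgroup. -/
theorem sylow_sup_of_coprime [Finite G] {p : ℕ} [Fact p.Prime] (A N : Subgroup G) [hN : N.Normal]
    (hA : IsPGroup p A) (hcop : (Nat.card N).Coprime p) :
    ∃ R : Sylow p ↥(A ⊔ N), (R : Subgroup ↥(A ⊔ N)) = A.subgroupOf (A ⊔ N) := by
  have hAM : IsPGroup p (A.subgroupOf (A ⊔ N)) := hA.comap_subtype
  rw [sylow_iff_max _ hAM]
  intro Y hY
  have hcardA : Nat.card (A.subgroupOf (A ⊔ N)) = Nat.card A :=
    Nat.card_congr (Subgroup.subgroupOfEquivOfLe (le_sup_left : A ≤ A ⊔ N)).toEquiv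
  rw [hcardA]
  obtain ⟨f, hfdef⟩ : ∃ f : ↥(A ⊔ N) →* G ⧸ N, f = (QuotientGroup.mk' N).comp (A ⊔ N).subtype :=
    ⟨_, rfl⟩
  have hinj : Function.Injective (f.comp Y.subtype) := by
    rw [injective_iff_map_eq_one]
    intro y hy
    have h1 : ((y : ↥(A ⊔ N)) : G) ∈ N := by
      rw [hfdef] at hy
      exact (QuotientGroup.eq_one_iff _).mp hy
    have h2 : ((y : ↥(A ⊔ N)) : G) ∈ (Y.map (A ⊔ N).subtype) ⊓ N :=
      ⟨⟨y, y.2, rfl⟩, h1⟩
    rw [Cfsg.Agent.Lib.Helper5_PPrime.inf_eq_bot_of_pGroup_of_coprime (hY.map _) hcop,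
      Subgroup.mem_bot] at h2
    apply Subtype.ext
    apply Subtype.ext
    exact h2
  have h1 : Nat.card Y = Nat.card (f.comp Y.subtype).range :=
    Nat.card_congr (MonoidHom.ofInjective hinj).toEquiv
  have h2 : (f.comp Y.subtype).range ≤ A.map (QuotientGroup.mk' N) := by
    rintro _ ⟨y, rfl⟩
    have hy : ((y : ↥(A ⊔ N)) : G) ∈ ((A ⊔ N : Subgroup G) : Set G) := (y : ↥(A ⊔ N)).2
    rw [Subgroup.mul_normal] at hy
    obtain ⟨a, ha, n, hn, han⟩ := Set.mem_mul.mp hy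
    refine ⟨a, ha, ?_⟩
    show (QuotientGroup.mk' N) a = f (y : ↥(A ⊔ N))
    rw [hfdef]
    show _ = (QuotientGroup.mk' N) ((y : ↥(A ⊔ N)) : G)
    rw [← han, map_mul]
    have : (QuotientGroup.mk' N) n = 1 := (QuotientGroup.eq_one_iff _).mpr hn
    rw [this, mul_one]
  haveI : Finite A := inferInstance
  calc Nat.card Y = Nat.card (f.comp Y.subtype).range := h1
    _ ≤ Nat.card (A.map (QuotientGroup.mk' N)) := Subgroup.card_le_of_le h2
    _ ≤ Nat.card A := Nat.le_of_dvd Nat.card_pos (Subgroup.card_map_dvd _ _)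

theorem coprime_of_inf_eq_bot [Finite G] {p : ℕ} [Fact p.Prime] (T : Sylow p G) (N : Subgroup G)
    [N.Normal] (h : (T : Subgroup G) ⊓ N = ⊥) : (Nat.card N).Coprime p := by
  have hp : p.Prime := Fact.out
  apply Nat.Coprime.symm
  rw [Nat.Prime.coprime_iff_not_dvd hp]
  intro hdvd
  have h1 := (Cfsg.Agent.Lib.Helper5_Residual.sylowInfNormal T N).ne_bot_of_dvd_card hdvd
  apply h1
  rw [Cfsg.Agent.Lib.Helper5_Residual.coe_sylowInfNormal, ← Subgroup.inf_subgroupOf_right, h]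
  exact Subgroup.bot_subgroupOf _

/-- If `G` realizes `F` on a Sylow subgroup and `N` is a normal subgroup meeting the image of `S`
trivially, then `G ⧸ N` realizes `F` on a Sylow subgroup. -/
theorem quotient_realized [Finite S] [Finite G] {p : ℕ} [Fact p.Prime] {F : FusionSystem S}
    {ι : S →* G} (h : F.IsRealizedBy ι) (hT : ∃ T : Sylow p G, (T : Subgroup G) = ι.range)
    (N : Subgroup G) [hN : N.Normal] (hbot : ι.range ⊓ N = ⊥) :
    F.IsRealizedBy ((QuotientGroup.mk' N).comp ι) ∧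
      ∃ T' : Sylow p (G ⧸ N),
        (T' : Subgroup (G ⧸ N)) = ((QuotientGroup.mk' N).comp ι).range := by
  obtain ⟨hinj, hiff⟩ := h
  obtain ⟨Tsyl, hTeq⟩ := hT
  have hcop : (Nat.card N).Coprime p := coprime_of_inf_eq_bot Tsyl N (by rw [hTeq]; exact hbot)
  have hπ1 : ∀ n : G, (QuotientGroup.mk' N) n = 1 ↔ n ∈ N := fun n => QuotientGroup.eq_one_iff n
  refine ⟨⟨?_, ?_⟩, ?_⟩
  · rw [injective_iff_map_eq_one]
    intro s hs
    have h1 : ι s ∈ N := (hπ1 _).mp hs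
    have h2 : ι s ∈ ι.range ⊓ N := ⟨⟨s, rfl⟩, h1⟩
    rw [hbot, Subgroup.mem_bot] at h2
    exact (injective_iff_map_eq_one ι).mp hinj s h2
  · intro P hP φ hφ
    constructor
    · intro hφF
      obtain ⟨g, hg⟩ := (hiff P hP φ hφ).mp hφF
      refine ⟨(QuotientGroup.mk' N) g, fun x => ?_⟩
      show (QuotientGroup.mk' N) (ι ⟨φ x, hφ x⟩) = _
      rw [hg x, map_mul, map_mul, map_inv]
      rfl
    · rintro ⟨gbar, hgbar⟩
      obtain ⟨g, rfl⟩ := QuotientGroup.mk'_surjective N gbar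
      have hg : ∀ x : P, (QuotientGroup.mk' N) (ι ⟨φ x, hφ x⟩) =
          (QuotientGroup.mk' N) (g * ι ⟨x, hP x.2⟩ * g⁻¹) := by
        intro x
        rw [map_mul, map_mul, map_inv]
        exact hgbar x
      -- the two p-subgroups
      obtain ⟨φ', hφ'def⟩ : ∃ φ' : P →* G, φ' = ι.comp (φ.codRestrict S hφ) := ⟨_, rfl⟩
      obtain ⟨ψ', hψ'def⟩ : ∃ ψ' : P →* G,
          ψ' = (MulAut.conj g).toMonoidHom.comp (ι.comp (Subgroup.inclusion hP)) := ⟨_, rfl⟩
      have hφ'x : ∀ x : P, φ' x = ι ⟨φ x, hφ x⟩ := fun x => by rw [hφ'def]; rfl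
      have hψ'x : ∀ x : P, ψ' x = g * ι ⟨x, hP x.2⟩ * g⁻¹ := fun x => by
        rw [hψ'def]
        show (MulAut.conj g) (ι ⟨x, hP x.2⟩) = _
        rw [MulAut.conj_apply]
      have hArange : φ'.range ≤ ι.range := by
        rintro _ ⟨x, rfl⟩
        rw [hφ'x]; exact ⟨_, rfl⟩
      have hAp : IsPGroup p φ'.range := by
        have : IsPGroup p ι.range := by rw [← hTeq]; exact Tsyl.isPGroup'
        exact this.to_le hArange
      have hdiff : ∀ x : P, (φ' x)⁻¹ * ψ' x ∈ N := by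
        intro x
        rw [← hπ1, map_mul, map_inv, hφ'x, hψ'x, hg x]
        exact inv_mul_cancel _
      have hBM : ψ'.range ≤ φ'.range ⊔ N := by
        rintro _ ⟨x, rfl⟩
        have h1 : ψ' x = φ' x * ((φ' x)⁻¹ * ψ' x) := by group
        rw [h1]
        exact Subgroup.mul_mem _ ((le_sup_left : φ'.range ≤ φ'.range ⊔ N) ⟨x, rfl⟩)
          ((le_sup_right : N ≤ φ'.range ⊔ N) (hdiff x))
      have hBp : IsPGroup p ψ'.range := by
        have h1 : IsPGroup p P := by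
          have : IsPGroup p ι.range := by rw [← hTeq]; exact Tsyl.isPGroup'
          have h2 : IsPGroup p S := this.of_injective ι.rangeRestrict (by
            intro a b hab
            exact hinj (congrArg Subtype.val hab))
          exact h2.to_le hP
        exact h1.of_surjective ψ'.rangeRestrict ψ'.rangeRestrict_surjective
      obtain ⟨m, hmM, hm⟩ := exists_cj_le_of_sylow (φ'.range ⊔ N) φ'.range ψ'.range hBM hBp
        (sylow_sup_of_coprime φ'.range N hAp hcop)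
      have hm' : m ∈ ((φ'.range ⊔ N : Subgroup G) : Set G) := hmM
      rw [Subgroup.mul_normal] at hm'
      obtain ⟨a, ha, n, hn, rfl⟩ := Set.mem_mul.mp hm'
      have hle : cj n ψ'.range ≤ φ'.range := by
        have h1 : cj a (cj n ψ'.range) ≤ φ'.range := by rw [cj_cj]; exact hm
        have h2 : cj a⁻¹ (cj a (cj n ψ'.range)) ≤ cj a⁻¹ φ'.range := cj_mono _ h1
        rw [cj_inv_cj] at h2
        have h3 : cj a⁻¹ φ'.range = φ'.range := by
          apply cj_eq_of_mem_normalizer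
          exact Subgroup.le_normalizer (Subgroup.inv_mem _ ha)
        rw [h3] at h2
        exact h2
      refine (hiff P hP φ hφ).mpr ⟨n * g, fun x => ?_⟩
      have h1 : n * ψ' x * n⁻¹ ∈ φ'.range := hle (cj_mem n _ ⟨x, rfl⟩)
      have h2 : (φ' x)⁻¹ * (n * ψ' x * n⁻¹) ∈ ι.range ⊓ N := by
        constructor
        · exact Subgroup.mul_mem _ (Subgroup.inv_mem _ (hArange ⟨x, rfl⟩)) (hArange h1)
        · have h3 : (φ' x)⁻¹ * (n * ψ' x * n⁻¹) =
              ((φ' x)⁻¹ * n * (φ' x)⁻¹⁻¹) * ((φ' x)⁻¹ * ψ' x) * n⁻¹ := by group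
          rw [h3]
          exact N.mul_mem (N.mul_mem (hN.conj_mem n hn _) (hdiff x)) (N.inv_mem hn)
      rw [hbot, Subgroup.mem_bot] at h2
      have h4 : φ' x = n * ψ' x * n⁻¹ := by
        have := eq_of_inv_mul_eq_one h2
        exact this
      rw [← hφ'x, h4, hψ'x]
      group
  · refine ⟨Tsyl.mapSurjective (QuotientGroup.mk'_surjective N), ?_⟩
    rw [Sylow.coe_mapSurjective, hTeq, MonoidHom.range_comp]

/-- If the subsystem induced by `N ≥ ι(S)` is all of `F`, then `N` realizes `F`. -/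
theorem subgroup_realized [Finite G] {p : ℕ} [Fact p.Prime] {F : FusionSystem S}
    {ι : S →* G} (h : F.IsRealizedBy ι) (hT : ∃ T : Sylow p G, (T : Subgroup G) = ι.range)
    (N : Subgroup G) (hTN : ∀ s : S, ι s ∈ N)
    (hEF : ∀ P : Subgroup Ω, (subSystem F ι N).Hom P = F.Hom P) :
    F.IsRealizedBy (ι.codRestrict N hTN) ∧
      ∃ T' : Sylow p N, (T' : Subgroup N) = (ι.codRestrict N hTN).range := by
  obtain ⟨hinj, hiff⟩ := h
  obtain ⟨Tsyl, hTeq⟩ := hT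
  refine ⟨⟨?_, ?_⟩, ?_⟩
  · intro a b hab
    exact hinj (congrArg Subtype.val hab)
  · intro P hP φ hφ
    constructor
    · intro hφF
      rw [← hEF P] at hφF
      obtain ⟨-, g, hgN, hg⟩ := hφF
      exact ⟨⟨g, hgN⟩, fun x => Subtype.ext (hg x _ _)⟩
    · rintro ⟨g, hg⟩
      exact (hiff P hP φ hφ).mpr ⟨(g : G), fun x => congrArg Subtype.val (hg x)⟩
  · have hle : (Tsyl : Subgroup G) ≤ N := by
      rw [hTeq]
      rintro _ ⟨s, rfl⟩
      exact hTN s
    refine ⟨Tsyl.subtype hle, ?_⟩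
    rw [Sylow.coe_subtype, hTeq]
    ext n
    constructor
    · rintro ⟨s, hs⟩
      exact ⟨s, Subtype.ext hs⟩
    · rintro ⟨s, rfl⟩
      exact ⟨s, rfl⟩

universe u

/-- **A realizable simple fusion system is realized by a finite simple group.** -/
theorem exists_simple_realizing {Ω : Type u} [Group Ω] {S : Subgroup Ω} [Finite S] {p : ℕ}
    [Fact p.Prime] (hS : IsPGroup p S) (F : FusionSystem S) (hsimple : F.IsSimple p)
    (hreal : F.IsRealizable p) :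
    ∃ (G : Type u) (_ : Group G) (_ : Finite G) (_ : IsSimpleGroup G) (ι : ↥S →* G),
      F.IsRealizedBy ι ∧ ∃ T : Sylow p G, (T : Subgroup G) = ι.range := by
  classical
  have hex : ∃ n : ℕ, ∃ (G : Type u) (_ : Group G) (_ : Finite G) (ι : S →* G),
      Nat.card G = n ∧ F.IsRealizedBy ι ∧ ∃ T : Sylow p G, (T : Subgroup G) = ι.range := by
    obtain ⟨G, i1, i2, ι, h1, h2⟩ := hreal
    exact ⟨Nat.card G, G, i1, i2, ι, rfl, h1, h2⟩
  obtain ⟨G, iG, iF, ι, hcard, hι, hT⟩ := Nat.find_spec hex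
  have hmin : ∀ m < Nat.find hex, ¬ ∃ (G : Type u) (_ : Group G) (_ : Finite G) (ι : S →* G),
      Nat.card G = m ∧ F.IsRealizedBy ι ∧ ∃ T : Sylow p G, (T : Subgroup G) = ι.range :=
    fun m hm => Nat.find_min hex hm
  obtain ⟨hsat, hSne, hall⟩ := hsimple
  haveI : Nontrivial G := by
    by_contra hnt
    rw [not_nontrivial_iff_subsingleton] at hnt
    apply hSne
    rw [eq_bot_iff]
    intro x hx
    have h1 : ι ⟨x, hx⟩ = ι 1 := Subsingleton.elim _ _
    have h2 := hι.1 h1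
    rw [Subgroup.mem_bot]
    exact congrArg Subtype.val h2
  refine ⟨G, iG, iF, IsSimpleGroup.mk ?_, ι, hι, hT⟩
  intro N hN
  haveI := hN
  rcases hall _ _ (subSystem_normalIn hS hsat hι hT N) with h0 | ⟨h1, h2⟩
  · left
    by_contra hne
    have hbot : ι.range ⊓ N = ⊥ := by
      rw [eq_bot_iff]
      rintro _ ⟨⟨s, rfl⟩, hsN⟩
      have h3 : (s : Ω) ∈ preimageAlong ι N := (mem_preimageAlong ι N s.2).mpr hsN
      rw [h0, Subgroup.mem_bot] at h3
      have h4 : s = 1 := Subtype.ext h3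
      rw [h4, map_one]
      exact Subgroup.one_mem _
    obtain ⟨hq1, hq2⟩ := quotient_realized hι hT N hbot
    refine hmin (Nat.card (G ⧸ N)) ?_ ⟨G ⧸ N, inferInstance, inferInstance, _, rfl, hq1, hq2⟩
    rw [← hcard, Subgroup.card_eq_card_quotient_mul_card_subgroup N]
    have h5 : 1 < Nat.card N := by
      rw [Subgroup.one_lt_card_iff_ne_bot]
      exact hne
    have h6 : 0 < Nat.card (G ⧸ N) := Nat.card_pos
    nlinarith
  · right
    by_contra hne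
    have hTN : ∀ s : S, ι s ∈ N := by
      intro s
      have h3 : (s : Ω) ∈ preimageAlong ι N := by rw [h1]; exact s.2
      exact (mem_preimageAlong ι N s.2).mp h3
    obtain ⟨hr1, hr2⟩ := subgroup_realized hι hT N hTN h2
    refine hmin (Nat.card N) ?_ ⟨N, inferInstance, inferInstance, _, rfl, hr1, hr2⟩
    rw [← hcard]
    exact lt_of_le_of_ne (Subgroup.card_le_card_group N)
      (fun h => hne ((Subgroup.card_eq_iff_eq_top N).mp h))

end Cfsg.Agent.Lib.Helper8_SimpleRealize
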