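import Mathlib
import Cfsg.Prelude.Def_FusionComponents
import Cfsg.Agent.Lib.Helper8_SimpleRealize

set_option autoImplicit false
set_option linter.style.haveILetI false
set_option linter.unusedVariables false
open Cfsg

/-!
# Models: `O_p(G)` versus subgroups normal in the fusion system
-/

namespace Cfsg.Agent.Lib.Helper8_Model

open Cfsg.FusionSystem Cfsg.Agent.Lib.Helper8_Fusion Cfsg.Agent.Lib.Helper8_Factor
open Cfsg.Agent.Lib.Helper8_GroupFusion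
open Cfsg.Agent.Lib.Helper8_Saturated
open Cfsg.Agent.Lib.Helper8_Alperin
open Cfsg.Agent.Lib.Helper8_Transport
open Cfsg.Agent.Lib.Helper8_Realize
open Cfsg.Agent.Lib.Helper8_SimpleRealize
open Cfsg.Agent.Lib.Helper4_PCore

variable {Ω : Type*} [Group Ω] {S : Subgroup Ω} {G : Type*} [Group G]

/-- In a model, the preimage of `O_p(G)` is normal in the fusion system. -/
theorem preimage_pCore_isNormal [Finite S] {p : ℕ} [Fact p.Prime] (hS : IsPGroup p S)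
    {F : FusionSystem S} {ι : S →* G} (hG : F.IsModel p G ι) :
    F.IsNormal (preimageAlong ι (pCore p G)) := by
  obtain ⟨hfin, hreal, ⟨T, hTeq⟩, hcent⟩ := hG
  haveI := hfin
  have hinj := hreal.1
  have hOT : pCore p G ≤ ι.range := by rw [← hTeq]; exact pCore_le_sylow T
  haveI hOn : (pCore p G).Normal := pCore_normal p G
  obtain ⟨Q, hQdef⟩ : ∃ Q, Q = preimageAlong ι (pCore p G) := ⟨_, rfl⟩
  rw [← hQdef]
  have hQS : Q ≤ S := by rw [hQdef]; exact preimageAlong_le ι _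
  have hQmem : ∀ (y : Ω) (hy : y ∈ S), y ∈ Q ↔ ι ⟨y, hy⟩ ∈ pCore p G := by
    intro y hy
    rw [hQdef]; exact mem_preimageAlong ι _ hy
  haveI : Finite Q := finite_of_le hQS
  refine ⟨hQS, ?_⟩
  intro P φ hφ
  have hPS : P ≤ S := (F.le_of_mem hφ).1
  have hφS := (F.le_of_mem hφ).2
  obtain ⟨g, hg⟩ := (hreal.2 P hPS φ hφS).mp hφ
  have hsupS : P ⊔ Q ≤ S := sup_le hPS hQS
  let M : Subgroup S := ι.range.comap ((MulAut.conj g).toMonoidHom.comp ι)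
  have hM : P ⊔ Q ≤ M.map S.subtype := by
    apply sup_le
    · intro x hx
      refine ⟨⟨x, hPS hx⟩, ?_, rfl⟩
      show (MulAut.conj g) (ι ⟨x, hPS hx⟩) ∈ ι.range
      rw [MulAut.conj_apply, ← hg ⟨x, hx⟩]
      exact ⟨_, rfl⟩
    · intro x hx
      refine ⟨⟨x, hQS hx⟩, ?_, rfl⟩
      show (MulAut.conj g) (ι ⟨x, hQS hx⟩) ∈ ι.range
      rw [MulAut.conj_apply]
      exact hOT (hOn.conj_mem _ ((hQmem x (hQS hx)).mp hx) g)
  have hvals : ∀ y : ↥(P ⊔ Q), g * ι ⟨y, hsupS y.2⟩ * g⁻¹ ∈ ι.range := by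
    intro y
    obtain ⟨s, hs, hsy⟩ := hM y.2
    have : s = ⟨y, hsupS y.2⟩ := Subtype.ext hsy
    rw [← this]
    have h1 : (MulAut.conj g) (ι s) ∈ ι.range := hs
    rwa [MulAut.conj_apply] at h1
  have hψF := pc_mem_hom hreal (P ⊔ Q) hsupS g hvals
  have hψS := pc_mem hinj (P ⊔ Q) hsupS g hvals
  have hιψ := fun y => map_pc hinj (P ⊔ Q) hsupS g hvals y (hψS y)
  refine ⟨pc hinj (P ⊔ Q) hsupS g hvals, hψF, ?_, ?_⟩
  · intro x
    have h1 := hιψ (Subgroup.inclusion le_sup_left x)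
    have h2 := hg x
    have h3 : ι ⟨pc hinj (P ⊔ Q) hsupS g hvals (Subgroup.inclusion le_sup_left x), hψS _⟩ =
        ι ⟨φ x, hφS x⟩ := by
      rw [h1, h2]; rfl
    exact congrArg Subtype.val (hinj h3)
  · apply Subgroup.eq_of_le_of_card_ge
    · rintro _ ⟨y, hy, rfl⟩
      have hyQ : (y : Ω) ∈ Q := by simpa [Subgroup.mem_subgroupOf] using hy
      rw [hQmem _ (hψS y), hιψ y]
      exact hOn.conj_mem _ ((hQmem _ (hsupS y.2)).mp hyQ) g
    · have h1 : Nat.card ((Q.subgroupOf (P ⊔ Q)).map (pc hinj (P ⊔ Q) hsupS g hvals)) =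
          Nat.card (Q.subgroupOf (P ⊔ Q)) :=
        Subgroup.card_map_of_injective (F.injective_of_mem hψF)
      rw [h1]
      exact (Nat.card_congr (Subgroup.subgroupOfEquivOfLe (le_sup_right : Q ≤ P ⊔ Q)).toEquiv).ge

/-- In a model, a subgroup normal in the fusion system and containing the preimage of `O_p(G)`
has its image inside `O_p(G)`. -/
theorem map_le_pCore_of_isNormal [Finite S] {p : ℕ} [Fact p.Prime] (hS : IsPGroup p S)
    {F : FusionSystem S} {ι : S →* G} (hG : F.IsModel p G ι) {Q' : Subgroup Ω}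
    (hQ' : F.IsNormal Q') (hle : preimageAlong ι (pCore p G) ≤ Q') :
    (Q'.subgroupOf S).map ι ≤ pCore p G := by
  obtain ⟨hfin, hreal, ⟨T, hTeq⟩, hcent⟩ := hG
  haveI := hfin
  have hinj := hreal.1
  have hOT : pCore p G ≤ ι.range := by rw [← hTeq]; exact pCore_le_sylow T
  haveI hOn : (pCore p G).Normal := pCore_normal p G
  have hQ'S : Q' ≤ S := hQ'.1
  obtain ⟨U₀, hU₀def⟩ : ∃ U₀, U₀ = preimageAlong ι (pCore p G) := ⟨_, rfl⟩
  rw [← hU₀def] at hle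
  have hU₀S : U₀ ≤ S := by rw [hU₀def]; exact preimageAlong_le ι _
  have hU₀mem : ∀ (y : Ω) (hy : y ∈ S), y ∈ U₀ ↔ ι ⟨y, hy⟩ ∈ pCore p G := by
    intro y hy
    rw [hU₀def]; exact mem_preimageAlong ι _ hy
  obtain ⟨X, hX⟩ : ∃ X, X = (Q'.subgroupOf S).map ι := ⟨_, rfl⟩
  rw [← hX]
  have hXmem : ∀ (q : Ω) (hq : q ∈ Q'), ι ⟨q, hQ'S hq⟩ ∈ X := by
    intro q hq
    rw [hX]
    exact ⟨⟨q, hQ'S hq⟩, by simpa [Subgroup.mem_subgroupOf] using hq, rfl⟩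
  have hXp : IsPGroup p X := by
    rw [hX]
    exact (hS.to_subgroup _).map _
  have hUX : pCore p G ≤ X := by
    intro o ho
    obtain ⟨u, rfl⟩ := hOT ho
    have huU₀ : (u : Ω) ∈ U₀ := (hU₀mem _ u.2).mpr ho
    exact hXmem _ (hle huU₀)
  have hXnormal : X.Normal := by
    constructor
    intro n hn g
    -- the conjugation by `g` on `U₀`
    have hvalsU : ∀ u : U₀, g * ι ⟨u, hU₀S u.2⟩ * g⁻¹ ∈ ι.range := fun u =>
      hOT (hOn.conj_mem _ ((hU₀mem _ (hU₀S u.2)).mp u.2) g)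
    have hφg := pc_mem_hom hreal U₀ hU₀S g hvalsU
    have hφgS := pc_mem hinj U₀ hU₀S g hvalsU
    have hιφg := fun u => map_pc hinj U₀ hU₀S g hvalsU u (hφgS u)
    obtain ⟨ψ, hψ, hψU, hψQ⟩ := hQ'.2 U₀ _ hφg
    have hsup : U₀ ⊔ Q' ≤ S := (F.le_of_mem hψ).1
    have hψS := (F.le_of_mem hψ).2
    obtain ⟨h, hh⟩ := (hreal.2 (U₀ ⊔ Q') hsup ψ hψS).mp hψ
    -- `h⁻¹ g` centralizes `O_p(G)`
    have hz : h⁻¹ * g ∈ Subgroup.centralizer ((pCore p G : Subgroup G) : Set G) := by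
      rw [Subgroup.mem_centralizer_iff]
      intro o ho
      obtain ⟨u, rfl⟩ := hOT ho
      have huU₀ : (u : Ω) ∈ U₀ := (hU₀mem _ u.2).mpr ho
      have h1 := hh (Subgroup.inclusion le_sup_left ⟨u, huU₀⟩)
      have h2 := hιφg ⟨u, huU₀⟩
      have h3 : ι ⟨ψ (Subgroup.inclusion le_sup_left ⟨u, huU₀⟩), hψS _⟩ =
          ι ⟨pc hinj U₀ hU₀S g hvalsU ⟨u, huU₀⟩, hφgS _⟩ := by
        congr 1
        exact Subtype.ext (hψU ⟨u, huU₀⟩)
      have h4 : h * ι u * h⁻¹ = g * ι u * g⁻¹ := h1.symm.trans (h3.trans h2)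
      calc ι u * (h⁻¹ * g) = h⁻¹ * (h * ι u * h⁻¹) * g := by group
        _ = h⁻¹ * (g * ι u * g⁻¹) * g := by rw [h4]
        _ = h⁻¹ * g * ι u := by group
    have hzX : h⁻¹ * g ∈ X := hUX (hcent hz)
    -- `h` maps `X` into `X`
    have hhX : ∀ m ∈ X, h * m * h⁻¹ ∈ X := by
      intro m hm
      rw [hX] at hm
      obtain ⟨q, hq, rfl⟩ := hm
      have hqQ' : (q : Ω) ∈ Q' := by simpa [Subgroup.mem_subgroupOf] using hq
      have h1 := hh (Subgroup.inclusion le_sup_right ⟨q, hqQ'⟩)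
      have e1 : ι ⟨((Subgroup.inclusion (le_sup_right : Q' ≤ U₀ ⊔ Q') ⟨q, hqQ'⟩ : ↥(U₀ ⊔ Q')) : Ω),
          hsup (Subgroup.inclusion (le_sup_right : Q' ≤ U₀ ⊔ Q') ⟨q, hqQ'⟩).2⟩ = ι q := rfl
      rw [e1] at h1
      rw [← h1]
      apply hXmem
      have h2 : ψ (Subgroup.inclusion le_sup_right ⟨q, hqQ'⟩) ∈ (Q'.subgroupOf (U₀ ⊔ Q')).map ψ :=
        ⟨_, by simpa [Subgroup.mem_subgroupOf] using hqQ', rfl⟩
      rw [hψQ] at h2
      exact h2
    have e : g * n * g⁻¹ = h * ((h⁻¹ * g) * n * (h⁻¹ * g)⁻¹) * h⁻¹ := by group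
    rw [e]
    exact hhX _ (X.mul_mem (X.mul_mem hzX hn) (X.inv_mem hzX))
  exact le_pCore X hXnormal hXp

end Cfsg.Agent.Lib.Helper8_Model
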