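import Mathlib
import Cfsg.Prelude.Def_FusionComponents
import Cfsg.Agent.Lib.Helper8_InvCore
import Cfsg.Agent.Lib.Helper8_AlperinIH
import Cfsg.Agent.Lib.Helper8_Centric

set_option autoImplicit false
set_option linter.style.haveILetI false
set_option linter.unusedVariables false
open Cfsg

/-!
# Subsystems of index prime to `p`: it suffices to check the condition at centric subgroups
-/

namespace Cfsg.Agent.Lib.Helper8_PrimeToP

open Cfsg.FusionSystem Cfsg.Agent.Lib.Helper8_Fusion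
open Cfsg.Agent.Lib.Helper8_Saturated
open Cfsg.Agent.Lib.Helper8_Alperin
open Cfsg.Agent.Lib.Helper8_AlperinIH
open Cfsg.Agent.Lib.Helper8_NormalClosure
open Cfsg.Agent.Lib.Helper8_Generating
open Cfsg.Agent.Lib.Helper8_StrongInv
open Cfsg.Agent.Lib.Helper8_PPowerNormal1
open Cfsg.Agent.Lib.Helper8_InvCore
open Cfsg.Agent.Lib.Helper8_Centric
open Cfsg.Agent.Lib.Helper5_Residual

variable {Ω : Type*} [Group Ω] {S : Subgroup Ω}

/-- `O^{p'}(X)`: the subgroup generated by the elements of `p`-power order. -/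
abbrev opp (p : ℕ) (X : Type*) [Group X] : Subgroup X :=
  Subgroup.closure {α : X | ∃ k : ℕ, orderOf α = p ^ k}

theorem opp_normal (p : ℕ) (X : Type*) [Group X] : (opp p X).Normal := by
  apply Cfsg.Agent.Lib.Helper3_PResidual.closure_normal_of_conj_invariant
  rintro n ⟨k, hk⟩ g
  refine ⟨k, ?_⟩
  have : orderOf (g * n * g⁻¹) = orderOf n := by
    simpa [MulAut.conj_apply] using (MulAut.conj g).orderOf_eq n
  rw [this, hk]

theorem map_opp_le {X Y : Type*} [Group X] [Group Y] (p : ℕ) [Fact p.Prime] (f : X →* Y) :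
    (opp p X).map f ≤ opp p Y := by
  rw [Subgroup.map_le_iff_le_comap, Subgroup.closure_le]
  rintro x ⟨k, hk⟩
  show f x ∈ Subgroup.closure _
  apply Subgroup.subset_closure
  have h1 : orderOf (f x) ∣ p ^ k := hk ▸ orderOf_map_dvd f x
  obtain ⟨j, -, hj⟩ := (Nat.dvd_prime_pow Fact.out).mp h1
  exact ⟨j, hj⟩

theorem opp_transport {X Y : Type*} [Group X] [Group Y] (p : ℕ) [Fact p.Prime] {A : Subgroup X}
    {B : Subgroup Y} (f : A →* Y) (hf : ∀ a : A, f a ∈ B) {a : A} (ha : a ∈ opp p A) :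
    (⟨f a, hf a⟩ : B) ∈ opp p B :=
  map_opp_le p (f.codRestrict B hf) (Subgroup.mem_map_of_mem (f.codRestrict B hf) ha)

theorem sylow_le_opp {X : Type*} [Group X] (p : ℕ) [Fact p.Prime] (R : Sylow p X) :
    (R : Subgroup X) ≤ opp p X := by
  intro g hg
  apply Subgroup.subset_closure
  obtain ⟨k, hk⟩ := R.isPGroup' ⟨g, hg⟩
  have h1 : g ^ (p ^ k) = 1 := congrArg Subtype.val hk
  obtain ⟨j, -, hj⟩ := (Nat.dvd_prime_pow Fact.out).mp (orderOf_dvd_of_pow_eq_one h1)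
  exact ⟨j, hj⟩

theorem exists_conj_mem_sylow {G : Type*} [Group G] [Finite G] {p : ℕ} [Fact p.Prime]
    (R : Sylow p G) (x : G) (hx : ∃ k : ℕ, orderOf x = p ^ k) :
    ∃ g : G, g * x * g⁻¹ ∈ (R : Subgroup G) := by
  obtain ⟨k, hk⟩ := hx
  have hzp : IsPGroup p (Subgroup.zpowers x) :=
    IsPGroup.of_card (n := k) (by rw [Nat.card_zpowers, hk])
  obtain ⟨Q, hQ⟩ := hzp.exists_le_sylow
  obtain ⟨g, hg⟩ := MulAction.exists_smul_eq G Q R
  refine ⟨g, ?_⟩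
  rw [← hg, Sylow.coe_subgroup_smul, Subgroup.mem_pointwise_smul_iff_inv_smul_mem]
  have h1 : (MulAut.conj g)⁻¹ • (g * x * g⁻¹) = x := by
    simp [MulAut.smul_def, mul_assoc]
  rw [h1]
  exact hQ (Subgroup.mem_zpowers x)

/-- The hypothesis: `Aut_E(P) ≥ O^{p'}(Aut_F(P))` for all `F`-centric `P`. -/
def CentricHyp (F E : FusionSystem S) (p : ℕ) : Prop :=
  ∀ P : Subgroup Ω, F.IsCentric P →
    (opp p (F.autGroup P)).map (F.autGroup P).subtype ≤ E.autGroup P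

theorem centricHyp_invCore {p : ℕ} [Fact p.Prime] (F E : FusionSystem S)
    (h : CentricHyp F E p) : CentricHyp F (invCore F E) p := by
  intro P hPc
  rintro _ ⟨κ, hκ, rfl⟩
  have hPS := hPc.1
  have hκE : (κ : MulAut P) ∈ E.autGroup P := h P hPc ⟨κ, hκ, rfl⟩
  rw [mem_autGroup_iff (invCore F E) hPS]
  show P.subtype.comp (κ : MulAut P).toMonoidHom ∈ (invCore F E).Hom P
  refine ⟨(mem_autGroup_iff E hPS _).mp hκE, ?_⟩
  intro α hα
  have he := imgIso_mem F le_rfl hα hPS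
  have hc : F.IsCentric (img α P) := isCentric_of_isConj F hPc ((isConj_iff_iso F).mpr ⟨_, he⟩)
  have h2 := opp_transport p (A := F.autGroup P) (B := F.autGroup (img α P))
    ((MulAut.congr (imgIso α hPS)).toMonoidHom.comp (F.autGroup P).subtype)
    (fun a => congr_mem_autGroup F he a.2) hκ
  have h3 : MulAut.congr (imgIso α hPS) (κ : MulAut P) ∈ E.autGroup (img α P) :=
    h (img α P) hc ⟨_, h2, rfl⟩
  rw [mem_autGroup_iff E (img_le α P)] at h3
  refine ⟨_, h3, ?_⟩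
  intro t ht hφt hh
  show ((imgIso α hPS ((κ : MulAut P) ((imgIso α hPS).symm ⟨((α t : S) : Ω), hh⟩)) :
    img α P) : Ω) = _
  rw [imgIso_symm_apply α hPS t ht hh, imgIso_apply]
  rfl

/-- Frattini: every map of `F` is an element of `Aut_F(S)` composed with a map of `E`, for an
`Aut_F(S)`-invariant subsystem `E` with `Aut_E(P) ≥ O^{p'}(Aut_F(P))` for centric `P`. -/
theorem le_decSystem [Finite S] {p : ℕ} [Fact p.Prime] (hS : IsPGroup p S)
    (F : FusionSystem S) (hF : F.IsSaturated p) (E : FusionSystem S)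
    (hEF : E.IsSubsystemOf F) (hinv : AutInv F E) (h : CentricHyp F E p) :
    F ≤ decSystem F E le_rfl hinv := by
  apply alperin_ih hS F hF
  intro P hP IH
  by_cases hPS : P = S
  · subst hPS
    intro α hα
    rw [mem_autGroup_iff _ le_rfl]
    exact ⟨⟨(mem_autGroup_iff F le_rfl α).mp hα, le_rfl, fun x => (α x).2⟩, α, hα, P.subtype,
      subtype_mem E le_rfl, fun x hx => rfl⟩
  · have hess : F.IsEssential p P := hP.resolve_left hPS
    obtain ⟨hPc, hPn, -⟩ := hess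
    have hPle : P ≤ S := hPn.1
    haveI : Finite P := finite_of_le hPle
    obtain ⟨-, -, Rsyl, hRsyl⟩ := fullyNormalized_facts hS F hF hPn
    have hrec := receptive_of_fullyNormalized hS F hF hPn
    haveI hKn : (opp p (F.autGroup P)).Normal := opp_normal p _
    have hfr := Sylow.normalizer_sup_eq_top (sylowInfNormal Rsyl (opp p (F.autGroup P)))
    rw [map_sylowInfNormal] at hfr
    have hRK : (Rsyl : Subgroup (F.autGroup P)) ⊓ opp p (F.autGroup P) = Rsyl :=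
      inf_eq_left.mpr (sylow_le_opp p Rsyl)
    rw [hRK] at hfr
    intro β hβ
    have hβ' : (⟨β, hβ⟩ : F.autGroup P) ∈
        ((Subgroup.normalizer ((Rsyl : Subgroup (F.autGroup P)) : Set (F.autGroup P)) ⊔
          opp p (F.autGroup P) : Subgroup (F.autGroup P)) : Set (F.autGroup P)) := by
      rw [hfr]; trivial
    rw [Subgroup.mul_normal] at hβ'
    obtain ⟨ν, hν, κ, hκ, hνκ⟩ := Set.mem_mul.mp hβ'
    have hκE : (κ : MulAut P) ∈ E.autGroup P := h P hPc ⟨κ, hκ, rfl⟩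
    have hκD : (κ : MulAut P) ∈ (decSystem F E le_rfl hinv).autGroup P := by
      rw [mem_autGroup_iff _ hPle]
      exact mem_decSystem_of_mem F E le_rfl hEF hinv ((mem_autGroup_iff E hPle _).mp hκE)
    have hνD : (ν : MulAut P) ∈ (decSystem F E le_rfl hinv).autGroup P := by
      have hν'F : P.subtype.comp (ν : MulAut P).toMonoidHom ∈ F.Hom P :=
        (mem_autGroup_iff F hPle _).mp ν.2
      have hPN : P ≤ normalizerIn S P := le_normalizerIn hPle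
      obtain ⟨ψ, hψ, hψeq⟩ := receptive_extend F hrec hν'F (range_subtype_comp _)
        (normalizerIn S P) hPN (by
          rintro g ⟨hgS, hgN⟩
          refine ⟨hgS, hgN, ?_⟩
          have hcF : P.normalizerMonoidHom ⟨g, hgN⟩ ∈ F.autGroup P :=
            conjAut_mem F hPle hgS hgN
          have h1 : (⟨P.normalizerMonoidHom ⟨g, hgN⟩, hcF⟩ : F.autGroup P) ∈
              (Rsyl : Subgroup (F.autGroup P)) := by
            rw [hRsyl, Subgroup.mem_subgroupOf]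
            exact (mem_autInducedBy_iff S P _).mpr ⟨g, hgS, hgN, fun x => rfl⟩
          have h3 : (ν * ⟨P.normalizerMonoidHom ⟨g, hgN⟩, hcF⟩ * ν⁻¹ : F.autGroup P) ∈
              (Rsyl : Subgroup (F.autGroup P)) := (Subgroup.mem_normalizer_iff.mp hν _).mp h1
          rw [hRsyl, Subgroup.mem_subgroupOf] at h3
          obtain ⟨k, hkS, hkN, hk⟩ := (mem_autInducedBy_iff S P _).mp h3
          refine ⟨k, hkS, ?_⟩
          intro x hx
          show (((ν : MulAut P) ⟨g * x * g⁻¹, hx⟩ : P) : Ω) =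
            k * (((ν : MulAut P) x : P) : Ω) * k⁻¹
          have h4 := hk ((ν : MulAut P) x)
          rw [← h4]
          show _ = ((((ν : MulAut P) * P.normalizerMonoidHom ⟨g, hgN⟩ * (ν : MulAut P)⁻¹)
            ((ν : MulAut P) x) : P) : Ω)
          have h5 : ((ν : MulAut P) * P.normalizerMonoidHom ⟨g, hgN⟩ * (ν : MulAut P)⁻¹)
              ((ν : MulAut P) x) = (ν : MulAut P) (P.normalizerMonoidHom ⟨g, hgN⟩ x) := by
            simp [MulAut.mul_apply]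
          rw [h5]
          rfl)
      have hcard : Nat.card P < Nat.card (normalizerIn S P) :=
        card_lt_card_normalizerIn hS hPle hPS
      have hψD := IH (normalizerIn S P) inf_le_left hcard hψ
      exact aut_mem_of_extends (decSystem F E le_rfl hinv) hPN hψD (fun x => hψeq x)
    have hβeq : β = (ν : MulAut P) * (κ : MulAut P) := (congrArg Subtype.val hνκ).symm
    rw [hβeq]
    exact Subgroup.mul_mem _ hνD hκD

theorem dec_of_centricHyp [Finite S] {p : ℕ} [Fact p.Prime] (hS : IsPGroup p S)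
    (F : FusionSystem S) (hF : F.IsSaturated p) (E : FusionSystem S)
    (hEF : E.IsSubsystemOf F) (h : CentricHyp F E p) :
    ∀ (P : Subgroup Ω) (φ : P →* Ω), φ ∈ F.Hom P → Dec F E P φ := by
  intro P φ hφ
  have hle := le_decSystem hS F hF (invCore F E) (fun P φ hφ => hEF P hφ.1) (autInv_invCore F E)
    (centricHyp_invCore F E h)
  obtain ⟨α, hα, φ₀, hφ₀, heq⟩ := ((mem_decSystem F (invCore F E) le_rfl _).mp (hle P hφ)).2
  exact ⟨α, hα, φ₀, hφ₀.1, heq⟩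

theorem centric_iff_of_dec (F E : FusionSystem S) (hEF : E.IsSubsystemOf F)
    (hdec : ∀ (P : Subgroup Ω) (φ : P →* Ω), φ ∈ F.Hom P → Dec F E P φ) :
    ∀ P : Subgroup Ω, E.IsCentric P ↔ F.IsCentric P := by
  intro P
  constructor
  · rintro ⟨hPS, hc⟩
    refine ⟨hPS, ?_⟩
    rintro Q ⟨φ, hφ, rfl⟩
    obtain ⟨α, hα, φ₀, hφ₀, heq⟩ := hdec P φ hφ
    have hφ₀S := (E.le_of_mem hφ₀).2
    have h1 := hc φ₀.range ⟨φ₀, hφ₀, rfl⟩
    intro c hc'
    obtain ⟨hcS, hcC⟩ := Subgroup.mem_inf.mp hc'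
    have hc'' : ((α⁻¹ ⟨c, hcS⟩ : S) : Ω) ∈ centralizerIn S φ₀.range := by
      refine Subgroup.mem_inf.mpr ⟨(α⁻¹ _).2, ?_⟩
      rw [Subgroup.mem_centralizer_iff]
      rintro _ ⟨x, rfl⟩
      have h2 : φ x * c = c * φ x := Subgroup.mem_centralizer_iff.mp hcC (φ x) ⟨x, rfl⟩
      rw [heq x (hφ₀S x)] at h2
      have h3 : α ⟨φ₀ x, hφ₀S x⟩ * ⟨c, hcS⟩ = ⟨c, hcS⟩ * α ⟨φ₀ x, hφ₀S x⟩ := Subtype.ext h2
      have h4 := congrArg (fun z => ((α⁻¹ z : S) : Ω)) h3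
      simp only [map_mul, MulAut.inv_apply_self] at h4
      exact h4
    obtain ⟨x, hx⟩ := h1 hc''
    refine ⟨x, ?_⟩
    rw [heq x (hφ₀S x)]
    have h5 : (⟨φ₀ x, hφ₀S x⟩ : S) = α⁻¹ ⟨c, hcS⟩ := Subtype.ext hx
    rw [h5]
    simp
  · intro h
    exact ⟨h.1, fun Q ⟨φ, hφ, hr⟩ => h.2 Q ⟨φ, hEF P hφ, hr⟩⟩

theorem opp_le_of_dec [Finite S] {p : ℕ} [Fact p.Prime] (hS : IsPGroup p S)
    (F : FusionSystem S) (hF : F.IsSaturated p) (E : FusionSystem S)
    (hdec : ∀ (P : Subgroup Ω) (φ : P →* Ω), φ ∈ F.Hom P → Dec F E P φ) :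
    ∀ P : Subgroup Ω, P ≤ S →
      (opp p (F.autGroup P)).map (F.autGroup P).subtype ≤ E.autGroup P := by
  intro P hPS
  haveI : Finite P := finite_of_le hPS
  rw [Subgroup.map_le_iff_le_comap, Subgroup.closure_le]
  rintro δ ⟨k, hk⟩
  show (δ : MulAut P) ∈ E.autGroup P
  obtain ⟨Q, hPQ, hQn⟩ := exists_fullyNormalized F hPS
  obtain ⟨e, he⟩ := (isConj_iff_iso F).mp hPQ
  have hQS := hQn.1
  haveI : Finite Q := finite_of_le hQS
  obtain ⟨-, -, Rsyl, hRsyl⟩ := fullyNormalized_facts hS F hF hQn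
  have hδ' : MulAut.congr e (δ : MulAut P) ∈ F.autGroup Q := congr_mem_autGroup F he δ.2
  have hord : ∃ k : ℕ, orderOf (⟨MulAut.congr e δ, hδ'⟩ : F.autGroup Q) = p ^ k := by
    refine ⟨k, ?_⟩
    rw [← hk, Subgroup.orderOf_mk, ← Subgroup.orderOf_coe]
    exact (MulAut.congr e).orderOf_eq _
  obtain ⟨g, hg⟩ := exists_conj_mem_sylow Rsyl _ hord
  rw [hRsyl, Subgroup.mem_subgroupOf] at hg
  obtain ⟨s, hsS, hsN, hs⟩ := (mem_autInducedBy_iff S Q _).mp hg
  have hψ : e.trans (g : MulAut Q) ∈ Iso F P Q :=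
    iso_trans F he ((mem_autGroup_iff F hQS _).mp g.2)
  obtain ⟨α, hα, ψ₀, hψ₀, hψeq⟩ := hdec P _ hψ
  have hψ₀S : ∀ x, ψ₀ x ∈ S := (E.le_of_mem hψ₀).2
  have key : ∀ x : P, ψ₀ ((δ : MulAut P) x) =
      ((α⁻¹ ⟨s, hsS⟩ : S) : Ω) * ψ₀ x * ((α⁻¹ ⟨s, hsS⟩ : S) : Ω)⁻¹ := by
    intro x
    have h1 := hs ((g : MulAut Q) (e x))
    have h2 : ((g * ⟨MulAut.congr e δ, hδ'⟩ * g⁻¹ : F.autGroup Q) : MulAut Q)
        ((g : MulAut Q) (e x)) = (g : MulAut Q) (e ((δ : MulAut P) x)) := by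
      simp [MulAut.congr, MulAut.mul_apply]
    rw [h2] at h1
    have h3 := hψeq ((δ : MulAut P) x) (hψ₀S _)
    have h4 := hψeq x (hψ₀S _)
    have h5 : ((α ⟨ψ₀ ((δ : MulAut P) x), hψ₀S _⟩ : S) : Ω) =
        s * ((α ⟨ψ₀ x, hψ₀S _⟩ : S) : Ω) * s⁻¹ := by
      rw [← h3, ← h4]
      exact h1
    have h6 : α ⟨ψ₀ ((δ : MulAut P) x), hψ₀S _⟩ =
        ⟨s, hsS⟩ * α ⟨ψ₀ x, hψ₀S _⟩ * ⟨s, hsS⟩⁻¹ := Subtype.ext h5
    have h7 := congrArg (fun z => ((α⁻¹ z : S) : Ω)) h6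
    simp only [map_mul, map_inv, MulAut.inv_apply_self] at h7
    exact h7
  rw [mem_autGroup_iff E hPS]
  show P.subtype.comp (δ : MulAut P).toMonoidHom ∈ E.Hom P
  obtain ⟨θ, hθ, hθeq⟩ := E.inv_mem hψ₀
  have hrS : ψ₀.range ≤ S := by
    rintro _ ⟨x, rfl⟩
    exact hψ₀S x
  have hconj : conjHom ψ₀.range ((α⁻¹ ⟨s, hsS⟩ : S) : Ω) ∈ E.Hom ψ₀.range :=
    E.conj_mem hrS (α⁻¹ ⟨s, hsS⟩).2
  have hρ := E.comp_mem hψ₀ hconj (fun x => ⟨x, rfl⟩)
  have hρeq : ∀ x : P, ((conjHom ψ₀.range ((α⁻¹ ⟨s, hsS⟩ : S) : Ω)).comp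
      (ψ₀.codRestrict ψ₀.range (fun x => ⟨x, rfl⟩))) x = ψ₀ ((δ : MulAut P) x) := by
    intro x
    rw [key x]
    rfl
  have hρv : ∀ x : P, ((conjHom ψ₀.range ((α⁻¹ ⟨s, hsS⟩ : S) : Ω)).comp
      (ψ₀.codRestrict ψ₀.range (fun x => ⟨x, rfl⟩))) x ∈ ψ₀.range := by
    intro x
    rw [hρeq x]
    exact ⟨_, rfl⟩
  have hfin := E.comp_mem hρ hθ hρv
  have heq : P.subtype.comp (δ : MulAut P).toMonoidHom =
      θ.comp (((conjHom ψ₀.range ((α⁻¹ ⟨s, hsS⟩ : S) : Ω)).comp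
        (ψ₀.codRestrict ψ₀.range (fun x => ⟨x, rfl⟩))).codRestrict ψ₀.range hρv) := by
    ext x
    show (((δ : MulAut P) x : P) : Ω) = θ ⟨_, hρv x⟩
    have h8 : (⟨_, hρv x⟩ : ψ₀.range) = ⟨ψ₀ ((δ : MulAut P) x), ⟨_, rfl⟩⟩ :=
      Subtype.ext (hρeq x)
    rw [h8, hθeq]
  rw [heq]
  exact hfin

end Cfsg.Agent.Lib.Helper8_PrimeToP
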