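import Mathlib
import Cfsg.Prelude.Def_FusionComponents
import Cfsg.Agent.Lib.Helper8_Saturated

set_option autoImplicit false
set_option linter.style.haveILetI false
set_option linter.unusedVariables false
open Cfsg

/-!
# Direct products of fusion systems, part 1: group-theoretic preliminaries
-/

namespace Cfsg.Agent.Lib.Helper8_Prod1

/-- A subgroup `B` of a finite group has a conjugate meeting a given Sylow `p`-subgroup `R` in a
Sylow `p`-subgroup of the conjugate. -/
theorem exists_conj_inf_sylow {G : Type*} [Group G] [Finite G] {p : ℕ} [Fact p.Prime]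
    (R : Sylow p G) (B : Subgroup G) :
    ∃ a : G, Nat.card ↥((R : Subgroup G) ⊓ B.map (MulAut.conj a).toMonoidHom) =
      p ^ (Nat.card B).factorization p := by
  obtain ⟨T⟩ : Nonempty (Sylow p B) := inferInstance
  have hT' : IsPGroup p ((T : Subgroup B).map B.subtype) := T.isPGroup'.map _
  obtain ⟨R', hR'⟩ := hT'.exists_le_sylow
  obtain ⟨g, hg⟩ := MulAction.exists_smul_eq G R' R
  refine ⟨g, ?_⟩
  have hcardT : Nat.card (T : Subgroup B) = p ^ (Nat.card B).factorization p :=
    T.card_eq_multiplicity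
  -- the conjugate of `T` lies in the intersection
  have hle : ((T : Subgroup B).map B.subtype).map (MulAut.conj g).toMonoidHom ≤
      (R : Subgroup G) ⊓ B.map (MulAut.conj g).toMonoidHom := by
    rintro _ ⟨_, ⟨t, ht, rfl⟩, rfl⟩
    refine Subgroup.mem_inf.mpr ⟨?_, ⟨t, t.2, rfl⟩⟩
    have h1 : (t : G) ∈ (R' : Subgroup G) := hR' ⟨t, ht, rfl⟩
    rw [← hg, Sylow.coe_subgroup_smul, Subgroup.mem_pointwise_smul_iff_inv_smul_mem]
    have h2 : (MulAut.conj g)⁻¹ • ((MulAut.conj g).toMonoidHom (B.subtype t)) = (t : G) := by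
      show (MulAut.conj g)⁻¹ ((MulAut.conj g) (t : G)) = (t : G)
      exact MulAut.inv_apply_self _ _ _
    rw [h2]
    exact h1
  have hcard1 : Nat.card ↥(((T : Subgroup B).map B.subtype).map (MulAut.conj g).toMonoidHom) =
      p ^ (Nat.card B).factorization p := by
    rw [Subgroup.card_map_of_injective (MulAut.conj g).injective,
      Subgroup.card_map_of_injective B.subtype_injective, hcardT]
  -- the intersection is a `p`-group inside the conjugate of `B`
  have hp : IsPGroup p ↥((R : Subgroup G) ⊓ B.map (MulAut.conj g).toMonoidHom) :=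
    R.isPGroup'.to_le inf_le_left
  obtain ⟨k, hk⟩ := IsPGroup.iff_card.mp hp
  have hdvd : Nat.card ↥((R : Subgroup G) ⊓ B.map (MulAut.conj g).toMonoidHom) ∣ Nat.card B := by
    have h1 := Subgroup.card_dvd_of_le
      (inf_le_right : (R : Subgroup G) ⊓ B.map (MulAut.conj g).toMonoidHom ≤ _)
    rwa [Subgroup.card_map_of_injective (MulAut.conj g).injective] at h1
  have hpos : Nat.card B ≠ 0 := Nat.card_pos.ne'
  have hkle : k ≤ (Nat.card B).factorization p := by
    rw [hk] at hdvd
    exact (Nat.Prime.pow_dvd_iff_le_factorization Fact.out hpos).mp hdvd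
  have hge := Subgroup.card_le_of_le hle
  rw [hcard1, hk] at hge
  have hkge : (Nat.card B).factorization p ≤ k :=
    (Nat.pow_le_pow_iff_right (Fact.out : p.Prime).one_lt).mp hge
  rw [hk, le_antisymm hkle hkge]

/-- The product of two subgroups of Sylow cardinality has Sylow cardinality in the product. -/
theorem card_prod_sylow {G₁ G₂ : Type*} [Group G₁] [Group G₂] [Finite G₁] [Finite G₂] {p : ℕ}
    [Fact p.Prime] (R₁ : Sylow p G₁) (R₂ : Sylow p G₂) :
    Nat.card ↥((R₁ : Subgroup G₁).prod (R₂ : Subgroup G₂)) =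
      p ^ (Nat.card (G₁ × G₂)).factorization p := by
  have h1 : Nat.card ↥((R₁ : Subgroup G₁).prod (R₂ : Subgroup G₂)) =
      Nat.card (R₁ : Subgroup G₁) * Nat.card (R₂ : Subgroup G₂) := by
    rw [← Nat.card_prod]
    exact Nat.card_congr (Subgroup.prodEquiv _ _).toEquiv
  rw [h1, R₁.card_eq_multiplicity, R₂.card_eq_multiplicity, Nat.card_prod,
    Nat.factorization_mul Nat.card_pos.ne' Nat.card_pos.ne', Finsupp.add_apply, pow_add]

end Cfsg.Agent.Lib.Helper8_Prod1
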