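import Mathlib
import Cfsg.Prelude.Def_FusionComponents
import Cfsg.Agent.Lib.Helper8_Prod1

set_option autoImplicit false
set_option linter.style.haveILetI false
set_option linter.unusedVariables false
open Cfsg

/-!
# Direct products of fusion systems, part 2: product maps, stabilizers
-/

namespace Cfsg.Agent.Lib.Helper8_Prod2

open Cfsg.FusionSystem

variable {Ω₁ : Type*} {Ω₂ : Type*} [Group Ω₁] [Group Ω₂]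

/-- First projection of a subgroup of a product. -/
abbrev pr₁ (P : Subgroup (Ω₁ × Ω₂)) : Subgroup Ω₁ := P.map (MonoidHom.fst Ω₁ Ω₂)

/-- Second projection of a subgroup of a product. -/
abbrev pr₂ (P : Subgroup (Ω₁ × Ω₂)) : Subgroup Ω₂ := P.map (MonoidHom.snd Ω₁ Ω₂)

theorem le_pr (P : Subgroup (Ω₁ × Ω₂)) : P ≤ (pr₁ P).prod (pr₂ P) := by
  intro x hx
  exact Subgroup.mem_prod.mpr ⟨⟨x, hx, rfl⟩, ⟨x, hx, rfl⟩⟩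

theorem pr₁_le_of_le {P : Subgroup (Ω₁ × Ω₂)} {Q₁ : Subgroup Ω₁} {Q₂ : Subgroup Ω₂}
    (h : P ≤ Q₁.prod Q₂) : pr₁ P ≤ Q₁ := by
  rintro _ ⟨x, hx, rfl⟩
  exact (Subgroup.mem_prod.mp (h hx)).1

theorem pr₂_le_of_le {P : Subgroup (Ω₁ × Ω₂)} {Q₁ : Subgroup Ω₁} {Q₂ : Subgroup Ω₂}
    (h : P ≤ Q₁.prod Q₂) : pr₂ P ≤ Q₂ := by
  rintro _ ⟨x, hx, rfl⟩
  exact (Subgroup.mem_prod.mp (h hx)).2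

/-- The restriction to `Q ≤ Q₁ × Q₂` of the product of two homomorphisms. -/
def pmap {Q : Subgroup (Ω₁ × Ω₂)} {Q₁ : Subgroup Ω₁} {Q₂ : Subgroup Ω₂} (hQ : Q ≤ Q₁.prod Q₂)
    (φ₁ : Q₁ →* Ω₁) (φ₂ : Q₂ →* Ω₂) : Q →* Ω₁ × Ω₂ :=
  MonoidHom.prod
    (φ₁.comp (((MonoidHom.fst Ω₁ Ω₂).comp Q.subtype).codRestrict Q₁
      (fun x => (Subgroup.mem_prod.mp (hQ x.2)).1)))
    (φ₂.comp (((MonoidHom.snd Ω₁ Ω₂).comp Q.subtype).codRestrict Q₂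
      (fun x => (Subgroup.mem_prod.mp (hQ x.2)).2)))

theorem pmap_apply {Q : Subgroup (Ω₁ × Ω₂)} {Q₁ : Subgroup Ω₁} {Q₂ : Subgroup Ω₂}
    (hQ : Q ≤ Q₁.prod Q₂) (φ₁ : Q₁ →* Ω₁) (φ₂ : Q₂ →* Ω₂) (x : Q) :
    pmap hQ φ₁ φ₂ x = (φ₁ ⟨(x : Ω₁ × Ω₂).1, (Subgroup.mem_prod.mp (hQ x.2)).1⟩,
      φ₂ ⟨(x : Ω₁ × Ω₂).2, (Subgroup.mem_prod.mp (hQ x.2)).2⟩) := rfl

variable {S₁ : Subgroup Ω₁} {S₂ : Subgroup Ω₂}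

theorem mem_prodSystem_iff {F₁ : FusionSystem S₁} {F₂ : FusionSystem S₂}
    {E : FusionSystem (S₁.prod S₂)} (hE : IsProductSystem F₁ F₂ E) (P : Subgroup (Ω₁ × Ω₂))
    (φ : P →* Ω₁ × Ω₂) :
    φ ∈ E.Hom P ↔ P ≤ S₁.prod S₂ ∧ ∃ φ₁ ∈ F₁.Hom (pr₁ P), ∃ φ₂ ∈ F₂.Hom (pr₂ P),
      φ = pmap (le_pr P) φ₁ φ₂ := by
  rw [hE P φ]
  constructor
  · rintro ⟨hP, φ₁, hφ₁, φ₂, hφ₂, h⟩
    exact ⟨hP, φ₁, hφ₁, φ₂, hφ₂, MonoidHom.ext fun x => h x _ _⟩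
  · rintro ⟨hP, φ₁, hφ₁, φ₂, hφ₂, rfl⟩
    exact ⟨hP, φ₁, hφ₁, φ₂, hφ₂, fun x h₁ h₂ => rfl⟩

theorem mem_prodSystem_iff' {F₁ : FusionSystem S₁} {F₂ : FusionSystem S₂}
    {E : FusionSystem (S₁.prod S₂)} (hE : IsProductSystem F₁ F₂ E) {Q : Subgroup (Ω₁ × Ω₂)}
    {Q₁ : Subgroup Ω₁} {Q₂ : Subgroup Ω₂} (h₁ : pr₁ Q = Q₁) (h₂ : pr₂ Q = Q₂)
    (hQ : Q ≤ Q₁.prod Q₂) (φ : Q →* Ω₁ × Ω₂) :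
    φ ∈ E.Hom Q ↔ Q ≤ S₁.prod S₂ ∧ ∃ φ₁ ∈ F₁.Hom Q₁, ∃ φ₂ ∈ F₂.Hom Q₂, φ = pmap hQ φ₁ φ₂ := by
  subst h₁ h₂
  exact mem_prodSystem_iff hE Q φ

/-- Range of a product map: first projection. -/
theorem pr₁_range_pmap {Q : Subgroup (Ω₁ × Ω₂)} {Q₁ : Subgroup Ω₁} {Q₂ : Subgroup Ω₂}
    (hQ : Q ≤ Q₁.prod Q₂) (h₁ : pr₁ Q = Q₁) (φ₁ : Q₁ →* Ω₁) (φ₂ : Q₂ →* Ω₂) :
    pr₁ (pmap hQ φ₁ φ₂).range = φ₁.range := by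
  ext y
  constructor
  · rintro ⟨_, ⟨x, rfl⟩, rfl⟩
    exact ⟨_, rfl⟩
  · rintro ⟨x₁, rfl⟩
    have hx₁ : (x₁ : Ω₁) ∈ pr₁ Q := by rw [h₁]; exact x₁.2
    obtain ⟨x, hx, hxe⟩ := hx₁
    refine ⟨pmap hQ φ₁ φ₂ ⟨x, hx⟩, ⟨_, rfl⟩, ?_⟩
    show φ₁ ⟨x.1, _⟩ = φ₁ x₁
    congr 1
    exact Subtype.ext hxe

theorem pr₂_range_pmap {Q : Subgroup (Ω₁ × Ω₂)} {Q₁ : Subgroup Ω₁} {Q₂ : Subgroup Ω₂}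
    (hQ : Q ≤ Q₁.prod Q₂) (h₂ : pr₂ Q = Q₂) (φ₁ : Q₁ →* Ω₁) (φ₂ : Q₂ →* Ω₂) :
    pr₂ (pmap hQ φ₁ φ₂).range = φ₂.range := by
  ext y
  constructor
  · rintro ⟨_, ⟨x, rfl⟩, rfl⟩
    exact ⟨_, rfl⟩
  · rintro ⟨x₂, rfl⟩
    have hx₂ : (x₂ : Ω₂) ∈ pr₂ Q := by rw [h₂]; exact x₂.2
    obtain ⟨x, hx, hxe⟩ := hx₂
    refine ⟨pmap hQ φ₁ φ₂ ⟨x, hx⟩, ⟨_, rfl⟩, ?_⟩
    show φ₂ ⟨x.2, _⟩ = φ₂ x₂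
    congr 1
    exact Subtype.ext hxe

/-- Components of a product map are determined by the map, when the projections are onto. -/
theorem pmap_inj {Q : Subgroup (Ω₁ × Ω₂)} {Q₁ : Subgroup Ω₁} {Q₂ : Subgroup Ω₂}
    (hQ : Q ≤ Q₁.prod Q₂) (h₁ : pr₁ Q = Q₁) (h₂ : pr₂ Q = Q₂) {φ₁ ψ₁ : Q₁ →* Ω₁}
    {φ₂ ψ₂ : Q₂ →* Ω₂} (h : pmap hQ φ₁ φ₂ = pmap hQ ψ₁ ψ₂) : φ₁ = ψ₁ ∧ φ₂ = ψ₂ := by
  constructor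
  · ext x₁
    have hx₁ : (x₁ : Ω₁) ∈ pr₁ Q := by rw [h₁]; exact x₁.2
    obtain ⟨x, hx, hxe⟩ := hx₁
    have h3 := congrArg Prod.fst (DFunLike.congr_fun h ⟨x, hx⟩)
    have h4 : (⟨x.1, (Subgroup.mem_prod.mp (hQ hx)).1⟩ : Q₁) = x₁ := Subtype.ext hxe
    rw [pmap_apply, pmap_apply] at h3
    simp only [h4] at h3
    exact h3
  · ext x₂
    have hx₂ : (x₂ : Ω₂) ∈ pr₂ Q := by rw [h₂]; exact x₂.2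
    obtain ⟨x, hx, hxe⟩ := hx₂
    have h3 := congrArg Prod.snd (DFunLike.congr_fun h ⟨x, hx⟩)
    have h4 : (⟨x.2, (Subgroup.mem_prod.mp (hQ hx)).2⟩ : Q₂) = x₂ := Subtype.ext hxe
    rw [pmap_apply, pmap_apply] at h3
    simp only [h4] at h3
    exact h3

end Cfsg.Agent.Lib.Helper8_Prod2
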