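import Mathlib
import Cfsg.Prelude.Def_FusionComponents
import Cfsg.Agent.Lib.Helper8_Prod2

set_option autoImplicit false
set_option linter.style.haveILetI false
set_option linter.unusedVariables false
open Cfsg

/-!
# Direct products of fusion systems, part 3: the action of `Aut(Q₁) × Aut(Q₂)` on subgroups
-/

namespace Cfsg.Agent.Lib.Helper8_Prod3

open Cfsg.FusionSystem Cfsg.Agent.Lib.Helper8_Prod2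

variable {Ω₁ : Type*} {Ω₂ : Type*} [Group Ω₁] [Group Ω₂]
variable {Q₁ : Subgroup Ω₁} {Q₂ : Subgroup Ω₂}

/-- The translate of a subgroup of `Ω₁ × Ω₂` by a pair of automorphisms of `Q₁`, `Q₂` (only the
part inside `Q₁ × Q₂` matters). -/
def trQ (a : MulAut ↥Q₁ × MulAut ↥Q₂) (Q : Subgroup (Ω₁ × Ω₂)) : Subgroup (Ω₁ × Ω₂) :=
  (Q.comap (Q₁.subtype.prodMap Q₂.subtype)).map
    ((Q₁.subtype.prodMap Q₂.subtype).comp (MulEquiv.prodCongr a.1 a.2).toMonoidHom)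

theorem mem_trQ' (a : MulAut ↥Q₁ × MulAut ↥Q₂) (Q : Subgroup (Ω₁ × Ω₂)) (y : Ω₁ × Ω₂) :
    y ∈ trQ a Q ↔ ∃ x₁ : Q₁, ∃ x₂ : Q₂, ((x₁ : Ω₁), (x₂ : Ω₂)) ∈ Q ∧
      y = (((a.1 x₁ : Q₁) : Ω₁), ((a.2 x₂ : Q₂) : Ω₂)) := by
  constructor
  · rintro ⟨⟨x₁, x₂⟩, hx, rfl⟩
    exact ⟨x₁, x₂, hx, rfl⟩
  · rintro ⟨x₁, x₂, hx, rfl⟩
    exact ⟨⟨x₁, x₂⟩, hx, rfl⟩

theorem mem_trQ (a : MulAut ↥Q₁ × MulAut ↥Q₂) (Q : Subgroup (Ω₁ × Ω₂)) (x₁ : Q₁) (x₂ : Q₂) :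
    ((x₁ : Ω₁), (x₂ : Ω₂)) ∈ trQ a Q ↔
      (((a.1⁻¹ x₁ : Q₁) : Ω₁), ((a.2⁻¹ x₂ : Q₂) : Ω₂)) ∈ Q := by
  rw [mem_trQ']
  constructor
  · rintro ⟨y₁, y₂, hy, h⟩
    have h1 : x₁ = a.1 y₁ := Subtype.ext (congrArg Prod.fst h)
    have h2 : x₂ = a.2 y₂ := Subtype.ext (congrArg Prod.snd h)
    rw [h1, h2, MulAut.inv_apply_self, MulAut.inv_apply_self]
    exact hy
  · intro h
    refine ⟨a.1⁻¹ x₁, a.2⁻¹ x₂, h, ?_⟩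
    rw [MulAut.apply_inv_self, MulAut.apply_inv_self]

theorem trQ_le (a : MulAut ↥Q₁ × MulAut ↥Q₂) (Q : Subgroup (Ω₁ × Ω₂)) :
    trQ a Q ≤ Q₁.prod Q₂ := by
  intro y hy
  obtain ⟨x₁, x₂, -, rfl⟩ := (mem_trQ' a Q y).mp hy
  exact Subgroup.mem_prod.mpr ⟨(a.1 x₁).2, (a.2 x₂).2⟩

theorem pr₁_trQ (a : MulAut ↥Q₁ × MulAut ↥Q₂) {Q : Subgroup (Ω₁ × Ω₂)} (hQ : Q ≤ Q₁.prod Q₂)
    (h₁ : pr₁ Q = Q₁) : pr₁ (trQ a Q) = Q₁ := by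
  apply le_antisymm (pr₁_le_of_le (trQ_le a Q))
  intro y hy
  have h1 : ((a.1⁻¹ ⟨y, hy⟩ : Q₁) : Ω₁) ∈ pr₁ Q := by rw [h₁]; exact (a.1⁻¹ ⟨y, hy⟩).2
  obtain ⟨x, hx, hxe⟩ := h1
  have hx2 : x.2 ∈ Q₂ := (Subgroup.mem_prod.mp (hQ hx)).2
  refine ⟨(y, ((a.2 ⟨x.2, hx2⟩ : Q₂) : Ω₂)), ?_, rfl⟩
  have h2 := (mem_trQ a Q ⟨y, hy⟩ (a.2 ⟨x.2, hx2⟩)).mpr (by
    rw [MulAut.inv_apply_self]
    have h3 : (((a.1⁻¹ ⟨y, hy⟩ : Q₁) : Ω₁), (x.2 : Ω₂)) = x := by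
      apply Prod.ext
      · exact hxe.symm
      · rfl
    show (((a.1⁻¹ ⟨y, hy⟩ : Q₁) : Ω₁), (x.2 : Ω₂)) ∈ Q
    rw [h3]
    exact hx)
  exact h2

theorem pr₂_trQ (a : MulAut ↥Q₁ × MulAut ↥Q₂) {Q : Subgroup (Ω₁ × Ω₂)} (hQ : Q ≤ Q₁.prod Q₂)
    (h₂ : pr₂ Q = Q₂) : pr₂ (trQ a Q) = Q₂ := by
  apply le_antisymm (pr₂_le_of_le (trQ_le a Q))
  intro y hy
  have h1 : ((a.2⁻¹ ⟨y, hy⟩ : Q₂) : Ω₂) ∈ pr₂ Q := by rw [h₂]; exact (a.2⁻¹ ⟨y, hy⟩).2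
  obtain ⟨x, hx, hxe⟩ := h1
  have hx1 : x.1 ∈ Q₁ := (Subgroup.mem_prod.mp (hQ hx)).1
  refine ⟨(((a.1 ⟨x.1, hx1⟩ : Q₁) : Ω₁), y), ?_, rfl⟩
  have h2 := (mem_trQ a Q (a.1 ⟨x.1, hx1⟩) ⟨y, hy⟩).mpr (by
    rw [MulAut.inv_apply_self]
    have h3 : ((x.1 : Ω₁), ((a.2⁻¹ ⟨y, hy⟩ : Q₂) : Ω₂)) = x := by
      apply Prod.ext
      · rfl
      · exact hxe.symm
    show ((x.1 : Ω₁), ((a.2⁻¹ ⟨y, hy⟩ : Q₂) : Ω₂)) ∈ Q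
    rw [h3]
    exact hx)
  exact h2

/-- The stabilizer of `Q` in a product of two groups of automorphisms. -/
def StabG (A₁ : Subgroup (MulAut ↥Q₁)) (A₂ : Subgroup (MulAut ↥Q₂)) (Q : Subgroup (Ω₁ × Ω₂)) :
    Subgroup (↥A₁ × ↥A₂) where
  carrier := {a | ∀ (x₁ : Q₁) (x₂ : Q₂), ((x₁ : Ω₁), (x₂ : Ω₂)) ∈ Q ↔
    ((((a.1 : MulAut ↥Q₁) x₁ : Q₁) : Ω₁), (((a.2 : MulAut ↥Q₂) x₂ : Q₂) : Ω₂)) ∈ Q}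
  one_mem' := fun x₁ x₂ => Iff.rfl
  mul_mem' := by
    intro a b ha hb x₁ x₂
    rw [hb x₁ x₂, ha ((b.1 : MulAut ↥Q₁) x₁) ((b.2 : MulAut ↥Q₂) x₂)]
    rfl
  inv_mem' := by
    intro a ha x₁ x₂
    rw [ha (((a⁻¹).1 : MulAut ↥Q₁) x₁) (((a⁻¹).2 : MulAut ↥Q₂) x₂)]
    have h1 : (a.1 : MulAut ↥Q₁) (((a⁻¹).1 : MulAut ↥Q₁) x₁) = x₁ := by
      show (a.1 : MulAut ↥Q₁) ((a.1 : MulAut ↥Q₁)⁻¹ x₁) = x₁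
      exact MulAut.apply_inv_self _ _ _
    have h2 : (a.2 : MulAut ↥Q₂) (((a⁻¹).2 : MulAut ↥Q₂) x₂) = x₂ := by
      show (a.2 : MulAut ↥Q₂) ((a.2 : MulAut ↥Q₂)⁻¹ x₂) = x₂
      exact MulAut.apply_inv_self _ _ _
    rw [h1, h2]

theorem mem_stabG {A₁ : Subgroup (MulAut ↥Q₁)} {A₂ : Subgroup (MulAut ↥Q₂)}
    {Q : Subgroup (Ω₁ × Ω₂)} {a : ↥A₁ × ↥A₂} :
    a ∈ StabG A₁ A₂ Q ↔ ∀ (x₁ : Q₁) (x₂ : Q₂), ((x₁ : Ω₁), (x₂ : Ω₂)) ∈ Q ↔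
      ((((a.1 : MulAut ↥Q₁) x₁ : Q₁) : Ω₁), (((a.2 : MulAut ↥Q₂) x₂ : Q₂) : Ω₂)) ∈ Q := Iff.rfl

/-- The pair of automorphisms underlying an element of `A₁ × A₂`. -/
def toPair {A₁ : Subgroup (MulAut ↥Q₁)} {A₂ : Subgroup (MulAut ↥Q₂)} (a : ↥A₁ × ↥A₂) :
    MulAut ↥Q₁ × MulAut ↥Q₂ := ((a.1 : MulAut ↥Q₁), (a.2 : MulAut ↥Q₂))

theorem stabG_trQ (A₁ : Subgroup (MulAut ↥Q₁)) (A₂ : Subgroup (MulAut ↥Q₂))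
    (Q : Subgroup (Ω₁ × Ω₂)) (a : ↥A₁ × ↥A₂) :
    StabG A₁ A₂ (trQ (toPair a) Q) = (StabG A₁ A₂ Q).map (MulAut.conj a).toMonoidHom := by
  ext b
  have key : b ∈ StabG A₁ A₂ (trQ (toPair a) Q) ↔ a⁻¹ * b * a ∈ StabG A₁ A₂ Q := by
    rw [mem_stabG, mem_stabG]
    constructor
    · intro h x₁ x₂
      have h1 := h ((a.1 : MulAut ↥Q₁) x₁) ((a.2 : MulAut ↥Q₂) x₂)
      rw [mem_trQ, mem_trQ] at h1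
      have e1 : ((toPair a).1)⁻¹ ((a.1 : MulAut ↥Q₁) x₁) = x₁ := MulAut.inv_apply_self _ _ _
      have e2 : ((toPair a).2)⁻¹ ((a.2 : MulAut ↥Q₂) x₂) = x₂ := MulAut.inv_apply_self _ _ _
      rw [e1, e2] at h1
      exact h1
    · intro h x₁ x₂
      rw [mem_trQ, mem_trQ]
      have h1 := h (((toPair a).1)⁻¹ x₁) (((toPair a).2)⁻¹ x₂)
      have e1 : (((a⁻¹ * b * a).1 : ↥A₁) : MulAut ↥Q₁) (((toPair a).1)⁻¹ x₁) =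
          ((toPair a).1)⁻¹ ((b.1 : MulAut ↥Q₁) x₁) := by
        show (a.1 : MulAut ↥Q₁)⁻¹ ((b.1 : MulAut ↥Q₁) ((a.1 : MulAut ↥Q₁)
          ((a.1 : MulAut ↥Q₁)⁻¹ x₁))) = _
        rw [MulAut.apply_inv_self]
        rfl
      have e2 : (((a⁻¹ * b * a).2 : ↥A₂) : MulAut ↥Q₂) (((toPair a).2)⁻¹ x₂) =
          ((toPair a).2)⁻¹ ((b.2 : MulAut ↥Q₂) x₂) := by
        show (a.2 : MulAut ↥Q₂)⁻¹ ((b.2 : MulAut ↥Q₂) ((a.2 : MulAut ↥Q₂)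
          ((a.2 : MulAut ↥Q₂)⁻¹ x₂))) = _
        rw [MulAut.apply_inv_self]
        rfl
      rw [e1, e2] at h1
      exact h1
  rw [key]
  constructor
  · intro h
    exact ⟨a⁻¹ * b * a, h, by simp [MulAut.conj_apply, mul_assoc]⟩
  · rintro ⟨c, hc, rfl⟩
    have : a⁻¹ * (MulAut.conj a).toMonoidHom c * a = c := by
      simp [MulAut.conj_apply, mul_assoc]
    rw [this]
    exact hc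

end Cfsg.Agent.Lib.Helper8_Prod3
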