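import Mathlib
import Cfsg.Prelude.Def_FusionComponents
import Cfsg.Agent.Lib.Helper8_Prod3

set_option autoImplicit false
set_option linter.style.haveILetI false
set_option linter.unusedVariables false
open Cfsg

/-!
# Direct products of fusion systems, part 4: automizers in the product system
-/

namespace Cfsg.Agent.Lib.Helper8_Prod4

open Cfsg.FusionSystem Cfsg.Agent.Lib.Helper8_Prod2 Cfsg.Agent.Lib.Helper8_Prod3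
open Cfsg.Agent.Lib.Helper8_Fusion Cfsg.Agent.Lib.Helper8_Saturated Cfsg.Agent.Lib.Helper8_Prod1

variable {Ω₁ : Type*} {Ω₂ : Type*} [Group Ω₁] [Group Ω₂]
variable {Q₁ : Subgroup Ω₁} {Q₂ : Subgroup Ω₂}

/-- The endomorphism of `Q` induced by a stabilizing pair. -/
def rhoHom {Q : Subgroup (Ω₁ × Ω₂)} (hQ : Q ≤ Q₁.prod Q₂) {A₁ : Subgroup (MulAut ↥Q₁)}
    {A₂ : Subgroup (MulAut ↥Q₂)} (a : ↥(StabG A₁ A₂ Q)) : Q →* Q :=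
  (pmap hQ (Q₁.subtype.comp ((a : ↥A₁ × ↥A₂).1 : MulAut ↥Q₁).toMonoidHom)
    (Q₂.subtype.comp ((a : ↥A₁ × ↥A₂).2 : MulAut ↥Q₂).toMonoidHom)).codRestrict Q (fun x =>
      (mem_stabG.mp a.2 ⟨(x : Ω₁ × Ω₂).1, (Subgroup.mem_prod.mp (hQ x.2)).1⟩
        ⟨(x : Ω₁ × Ω₂).2, (Subgroup.mem_prod.mp (hQ x.2)).2⟩).mp x.2)

theorem rhoHom_apply {Q : Subgroup (Ω₁ × Ω₂)} (hQ : Q ≤ Q₁.prod Q₂)
    {A₁ : Subgroup (MulAut ↥Q₁)} {A₂ : Subgroup (MulAut ↥Q₂)} (a : ↥(StabG A₁ A₂ Q)) (x : Q) :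
    ((rhoHom hQ a x : Q) : Ω₁ × Ω₂) =
      (((((a : ↥A₁ × ↥A₂).1 : MulAut ↥Q₁)
          ⟨(x : Ω₁ × Ω₂).1, (Subgroup.mem_prod.mp (hQ x.2)).1⟩ : Q₁) : Ω₁),
        ((((a : ↥A₁ × ↥A₂).2 : MulAut ↥Q₂)
          ⟨(x : Ω₁ × Ω₂).2, (Subgroup.mem_prod.mp (hQ x.2)).2⟩ : Q₂) : Ω₂)) := rfl

theorem rhoHom_mul {Q : Subgroup (Ω₁ × Ω₂)} (hQ : Q ≤ Q₁.prod Q₂)
    {A₁ : Subgroup (MulAut ↥Q₁)} {A₂ : Subgroup (MulAut ↥Q₂)} (a b : ↥(StabG A₁ A₂ Q)) :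
    rhoHom hQ (a * b) = (rhoHom hQ a).comp (rhoHom hQ b) := by
  ext x
  · rfl
  · rfl

theorem rhoHom_one {Q : Subgroup (Ω₁ × Ω₂)} (hQ : Q ≤ Q₁.prod Q₂)
    {A₁ : Subgroup (MulAut ↥Q₁)} {A₂ : Subgroup (MulAut ↥Q₂)} :
    rhoHom hQ (1 : ↥(StabG A₁ A₂ Q)) = MonoidHom.id Q := by
  ext x
  · rfl
  · rfl

/-- The automorphism of `Q` induced by a stabilizing pair, as a homomorphism of groups. -/
def rho {Q : Subgroup (Ω₁ × Ω₂)} (hQ : Q ≤ Q₁.prod Q₂) (A₁ : Subgroup (MulAut ↥Q₁))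
    (A₂ : Subgroup (MulAut ↥Q₂)) : ↥(StabG A₁ A₂ Q) →* MulAut ↥Q where
  toFun a := MonoidHom.toMulEquiv (rhoHom hQ a) (rhoHom hQ a⁻¹)
    (by rw [← rhoHom_mul, inv_mul_cancel, rhoHom_one])
    (by rw [← rhoHom_mul, mul_inv_cancel, rhoHom_one])
  map_one' := by
    ext x
    · rfl
    · rfl
  map_mul' := by
    intro a b
    ext x
    · rfl
    · rfl

theorem rho_apply {Q : Subgroup (Ω₁ × Ω₂)} (hQ : Q ≤ Q₁.prod Q₂)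
    (A₁ : Subgroup (MulAut ↥Q₁)) (A₂ : Subgroup (MulAut ↥Q₂)) (a : ↥(StabG A₁ A₂ Q)) (x : Q) :
    ((rho hQ A₁ A₂ a x : Q) : Ω₁ × Ω₂) =
      (((((a : ↥A₁ × ↥A₂).1 : MulAut ↥Q₁)
          ⟨(x : Ω₁ × Ω₂).1, (Subgroup.mem_prod.mp (hQ x.2)).1⟩ : Q₁) : Ω₁),
        ((((a : ↥A₁ × ↥A₂).2 : MulAut ↥Q₂)
          ⟨(x : Ω₁ × Ω₂).2, (Subgroup.mem_prod.mp (hQ x.2)).2⟩ : Q₂) : Ω₂)) := rfl

theorem subtype_comp_rho {Q : Subgroup (Ω₁ × Ω₂)} (hQ : Q ≤ Q₁.prod Q₂)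
    (A₁ : Subgroup (MulAut ↥Q₁)) (A₂ : Subgroup (MulAut ↥Q₂)) (a : ↥(StabG A₁ A₂ Q)) :
    Q.subtype.comp (rho hQ A₁ A₂ a).toMonoidHom =
      pmap hQ (Q₁.subtype.comp ((a : ↥A₁ × ↥A₂).1 : MulAut ↥Q₁).toMonoidHom)
        (Q₂.subtype.comp ((a : ↥A₁ × ↥A₂).2 : MulAut ↥Q₂).toMonoidHom) := by
  ext x
  · rfl
  · rfl

theorem rho_injective {Q : Subgroup (Ω₁ × Ω₂)} (hQ : Q ≤ Q₁.prod Q₂) (h₁ : pr₁ Q = Q₁)
    (h₂ : pr₂ Q = Q₂) (A₁ : Subgroup (MulAut ↥Q₁)) (A₂ : Subgroup (MulAut ↥Q₂)) :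
    Function.Injective (rho hQ A₁ A₂) := by
  intro a b hab
  have h3 : Q.subtype.comp (rho hQ A₁ A₂ a).toMonoidHom =
      Q.subtype.comp (rho hQ A₁ A₂ b).toMonoidHom := by rw [hab]
  rw [subtype_comp_rho, subtype_comp_rho] at h3
  obtain ⟨e1, e2⟩ := pmap_inj hQ h₁ h₂ h3
  apply Subtype.ext
  apply Prod.ext
  · apply Subtype.ext
    ext x
    exact DFunLike.congr_fun e1 x
  · apply Subtype.ext
    ext x
    exact DFunLike.congr_fun e2 x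

theorem mem_normalizer_of_conj_mem' {G : Type*} [Group G] {N : Subgroup G} {g : G}
    (h1 : ∀ n ∈ N, g * n * g⁻¹ ∈ N) (h2 : ∀ n ∈ N, g⁻¹ * n * g ∈ N) :
    g ∈ Subgroup.normalizer (N : Set G) := by
  rw [Subgroup.mem_normalizer_iff]
  intro n
  constructor
  · exact h1 n
  · intro hn
    have h3 := h2 _ hn
    have e : g⁻¹ * (g * n * g⁻¹) * g = n := by group
    rw [e] at h3
    exact h3

theorem fst_mem_normalizer {Q : Subgroup (Ω₁ × Ω₂)} (h₁ : pr₁ Q = Q₁) {g : Ω₁ × Ω₂}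
    (hg : g ∈ Subgroup.normalizer (Q : Set (Ω₁ × Ω₂))) :
    g.1 ∈ Subgroup.normalizer (Q₁ : Set Ω₁) := by
  have hg' : g⁻¹ ∈ Subgroup.normalizer (Q : Set (Ω₁ × Ω₂)) := Subgroup.inv_mem _ hg
  apply mem_normalizer_of_conj_mem'
  · intro y hy
    rw [← h₁] at hy ⊢
    obtain ⟨x, hx, rfl⟩ := hy
    exact ⟨g * x * g⁻¹, (Subgroup.mem_normalizer_iff.mp hg x).mp hx, rfl⟩
  · intro y hy
    rw [← h₁] at hy ⊢
    obtain ⟨x, hx, rfl⟩ := hy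
    refine ⟨g⁻¹ * x * g⁻¹⁻¹, (Subgroup.mem_normalizer_iff.mp hg' x).mp hx, ?_⟩
    simp

theorem snd_mem_normalizer {Q : Subgroup (Ω₁ × Ω₂)} (h₂ : pr₂ Q = Q₂) {g : Ω₁ × Ω₂}
    (hg : g ∈ Subgroup.normalizer (Q : Set (Ω₁ × Ω₂))) :
    g.2 ∈ Subgroup.normalizer (Q₂ : Set Ω₂) := by
  have hg' : g⁻¹ ∈ Subgroup.normalizer (Q : Set (Ω₁ × Ω₂)) := Subgroup.inv_mem _ hg
  apply mem_normalizer_of_conj_mem'
  · intro y hy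
    rw [← h₂] at hy ⊢
    obtain ⟨x, hx, rfl⟩ := hy
    exact ⟨g * x * g⁻¹, (Subgroup.mem_normalizer_iff.mp hg x).mp hx, rfl⟩
  · intro y hy
    rw [← h₂] at hy ⊢
    obtain ⟨x, hx, rfl⟩ := hy
    refine ⟨g⁻¹ * x * g⁻¹⁻¹, (Subgroup.mem_normalizer_iff.mp hg' x).mp hx, ?_⟩
    simp

variable {S₁ : Subgroup Ω₁} {S₂ : Subgroup Ω₂}

/-- The image of the stabilizer under `rho` is `Aut_E(Q)`. -/
theorem rho_range {F₁ : FusionSystem S₁} {F₂ : FusionSystem S₂} {E : FusionSystem (S₁.prod S₂)}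
    (hE : IsProductSystem F₁ F₂ E) {Q : Subgroup (Ω₁ × Ω₂)} (hQS : Q ≤ S₁.prod S₂)
    (hQ : Q ≤ Q₁.prod Q₂) (h₁ : pr₁ Q = Q₁) (h₂ : pr₂ Q = Q₂) :
    (rho hQ (F₁.autGroup Q₁) (F₂.autGroup Q₂)).range = E.autGroup Q := by
  have hQ₁S : Q₁ ≤ S₁ := h₁ ▸ pr₁_le_of_le hQS
  have hQ₂S : Q₂ ≤ S₂ := h₂ ▸ pr₂_le_of_le hQS
  apply le_antisymm
  · rintro _ ⟨a, rfl⟩
    rw [mem_autGroup_iff E hQS]
    show Q.subtype.comp (rho hQ _ _ a).toMonoidHom ∈ E.Hom Q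
    rw [subtype_comp_rho, mem_prodSystem_iff' hE h₁ h₂ hQ]
    exact ⟨hQS, _, (mem_autGroup_iff F₁ hQ₁S _).mp
        (a : ↥(F₁.autGroup Q₁) × ↥(F₂.autGroup Q₂)).1.2, _,
      (mem_autGroup_iff F₂ hQ₂S _).mp (a : ↥(F₁.autGroup Q₁) × ↥(F₂.autGroup Q₂)).2.2, rfl⟩
  · intro α hα
    rw [mem_autGroup_iff E hQS] at hα
    obtain ⟨-, φ₁, hφ₁, φ₂, hφ₂, heq⟩ := (mem_prodSystem_iff' hE h₁ h₂ hQ _).mp hα
    have hr : (Q.subtype.comp α.toMonoidHom).range = Q := range_subtype_comp α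
    have hr₁ : φ₁.range = Q₁ := by
      rw [← pr₁_range_pmap hQ h₁ φ₁ φ₂, ← heq, hr]
      exact h₁
    have hr₂ : φ₂.range = Q₂ := by
      rw [← pr₂_range_pmap hQ h₂ φ₁ φ₂, ← heq, hr]
      exact h₂
    obtain ⟨e₁, he₁, he₁φ⟩ := iso_of_hom F₁ hφ₁ hr₁
    obtain ⟨e₂, he₂, he₂φ⟩ := iso_of_hom F₂ hφ₂ hr₂
    have hα_apply : ∀ x : Q, ((α x : Q) : Ω₁ × Ω₂) =
        (((e₁ ⟨(x : Ω₁ × Ω₂).1, (Subgroup.mem_prod.mp (hQ x.2)).1⟩ : Q₁) : Ω₁),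
          ((e₂ ⟨(x : Ω₁ × Ω₂).2, (Subgroup.mem_prod.mp (hQ x.2)).2⟩ : Q₂) : Ω₂)) := by
      intro x
      have h3 := DFunLike.congr_fun heq x
      rw [pmap_apply] at h3
      rw [he₁φ, he₂φ]
      exact h3
    have ha : ((⟨e₁, (mem_autGroup_iff F₁ hQ₁S e₁).mpr he₁⟩,
        ⟨e₂, (mem_autGroup_iff F₂ hQ₂S e₂).mpr he₂⟩) : ↥(F₁.autGroup Q₁) × ↥(F₂.autGroup Q₂)) ∈
        StabG (F₁.autGroup Q₁) (F₂.autGroup Q₂) Q := by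
      rw [mem_stabG]
      intro x₁ x₂
      constructor
      · intro hx
        have h3 := (α ⟨((x₁ : Ω₁), (x₂ : Ω₂)), hx⟩).2
        rw [hα_apply] at h3
        exact h3
      · intro hx
        obtain ⟨y, hy⟩ := α.surjective ⟨_, hx⟩
        have h3 := hα_apply y
        rw [hy] at h3
        have e1 : x₁ = ⟨(y : Ω₁ × Ω₂).1, (Subgroup.mem_prod.mp (hQ y.2)).1⟩ :=
          e₁.injective (Subtype.ext (congrArg Prod.fst h3))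
        have e2 : x₂ = ⟨(y : Ω₁ × Ω₂).2, (Subgroup.mem_prod.mp (hQ y.2)).2⟩ :=
          e₂.injective (Subtype.ext (congrArg Prod.snd h3))
        rw [e1, e2]
        exact y.2
    refine ⟨⟨_, ha⟩, ?_⟩
    ext x : 1
    apply Subtype.ext
    rw [rho_apply, hα_apply]

theorem card_autGroup_prod {F₁ : FusionSystem S₁} {F₂ : FusionSystem S₂}
    {E : FusionSystem (S₁.prod S₂)} (hE : IsProductSystem F₁ F₂ E) {Q : Subgroup (Ω₁ × Ω₂)}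
    (hQS : Q ≤ S₁.prod S₂) (hQ : Q ≤ Q₁.prod Q₂) (h₁ : pr₁ Q = Q₁) (h₂ : pr₂ Q = Q₂) :
    Nat.card (E.autGroup Q) = Nat.card (StabG (F₁.autGroup Q₁) (F₂.autGroup Q₂) Q) := by
  rw [← rho_range hE hQS hQ h₁ h₂]
  exact (Nat.card_congr (MonoidHom.ofInjective (rho_injective hQ h₁ h₂ _ _)).toEquiv).symm

/-- The automorphisms induced by `S₁ × S₂` correspond to the stabilizing pairs of automorphisms
induced by `S₁` and `S₂`. -/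
theorem rho_map_induced {F₁ : FusionSystem S₁} {F₂ : FusionSystem S₂}
    {Q : Subgroup (Ω₁ × Ω₂)} (hQS : Q ≤ S₁.prod S₂)
    (hQ : Q ≤ Q₁.prod Q₂) (h₁ : pr₁ Q = Q₁) (h₂ : pr₂ Q = Q₂) :
    (((((autInducedBy S₁ Q₁).subgroupOf (F₁.autGroup Q₁)).prod
        ((autInducedBy S₂ Q₂).subgroupOf (F₂.autGroup Q₂))) ⊓
      StabG (F₁.autGroup Q₁) (F₂.autGroup Q₂) Q).subgroupOf
        (StabG (F₁.autGroup Q₁) (F₂.autGroup Q₂) Q)).map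
      (rho hQ (F₁.autGroup Q₁) (F₂.autGroup Q₂)) = autInducedBy (S₁.prod S₂) Q := by
  have hQ₁S : Q₁ ≤ S₁ := h₁ ▸ pr₁_le_of_le hQS
  have hQ₂S : Q₂ ≤ S₂ := h₂ ▸ pr₂_le_of_le hQS
  apply le_antisymm
  · rintro _ ⟨a, ha, rfl⟩
    rw [SetLike.mem_coe, Subgroup.mem_subgroupOf] at ha
    obtain ⟨haR, -⟩ := Subgroup.mem_inf.mp ha
    obtain ⟨haR₁, haR₂⟩ := Subgroup.mem_prod.mp haR
    rw [Subgroup.mem_subgroupOf, mem_autInducedBy_iff] at haR₁ haR₂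
    obtain ⟨g₁, hg₁S, hg₁N, hg₁⟩ := haR₁
    obtain ⟨g₂, hg₂S, hg₂N, hg₂⟩ := haR₂
    rw [mem_autInducedBy_iff]
    have hinv₁ : ∀ x : Q₁, (((((a⁻¹ : ↥(StabG (F₁.autGroup Q₁) (F₂.autGroup Q₂) Q)) :
        ↥(F₁.autGroup Q₁) × ↥(F₂.autGroup Q₂)).1 : MulAut ↥Q₁) x : Q₁) : Ω₁) =
        g₁⁻¹ * x * g₁ := by
      intro x
      have h3 := hg₁ ((((a : ↥(F₁.autGroup Q₁) × ↥(F₂.autGroup Q₂)).1 : MulAut ↥Q₁))⁻¹ x)
      rw [MulAut.apply_inv_self] at h3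
      show ((((a : ↥(F₁.autGroup Q₁) × ↥(F₂.autGroup Q₂)).1 : MulAut ↥Q₁)⁻¹ x : Q₁) : Ω₁) = _
      rw [h3]
      group
    have hinv₂ : ∀ x : Q₂, (((((a⁻¹ : ↥(StabG (F₁.autGroup Q₁) (F₂.autGroup Q₂) Q)) :
        ↥(F₁.autGroup Q₁) × ↥(F₂.autGroup Q₂)).2 : MulAut ↥Q₂) x : Q₂) : Ω₂) =
        g₂⁻¹ * x * g₂ := by
      intro x
      have h3 := hg₂ ((((a : ↥(F₁.autGroup Q₁) × ↥(F₂.autGroup Q₂)).2 : MulAut ↥Q₂))⁻¹ x)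
      rw [MulAut.apply_inv_self] at h3
      show ((((a : ↥(F₁.autGroup Q₁) × ↥(F₂.autGroup Q₂)).2 : MulAut ↥Q₂)⁻¹ x : Q₂) : Ω₂) = _
      rw [h3]
      group
    refine ⟨(g₁, g₂), Subgroup.mem_prod.mpr ⟨hg₁S, hg₂S⟩, ?_, ?_⟩
    · apply mem_normalizer_of_conj_mem'
      · intro n hn
        have h3 := (rho hQ _ _ a ⟨n, hn⟩).2
        rw [rho_apply, hg₁, hg₂] at h3
        exact h3
      · intro n hn
        have h3 := (rho hQ _ _ a⁻¹ ⟨n, hn⟩).2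
        rw [rho_apply, hinv₁, hinv₂] at h3
        exact h3
    · intro x
      rw [rho_apply, hg₁, hg₂]
      rfl
  · intro α hα
    rw [mem_autInducedBy_iff] at hα
    obtain ⟨g, hgS, hgN, hg⟩ := hα
    obtain ⟨hg₁S, hg₂S⟩ := Subgroup.mem_prod.mp hgS
    have hg₁N := fst_mem_normalizer h₁ hgN
    have hg₂N := snd_mem_normalizer h₂ hgN
    have ha : ((⟨Q₁.normalizerMonoidHom ⟨g.1, hg₁N⟩, conjAut_mem F₁ hQ₁S hg₁S hg₁N⟩,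
        ⟨Q₂.normalizerMonoidHom ⟨g.2, hg₂N⟩, conjAut_mem F₂ hQ₂S hg₂S hg₂N⟩) :
          ↥(F₁.autGroup Q₁) × ↥(F₂.autGroup Q₂)) ∈
        StabG (F₁.autGroup Q₁) (F₂.autGroup Q₂) Q := by
      rw [mem_stabG]
      intro x₁ x₂
      exact Subgroup.mem_normalizer_iff.mp hgN ((x₁ : Ω₁), (x₂ : Ω₂))
    refine ⟨⟨_, ha⟩, ?_, ?_⟩
    · rw [SetLike.mem_coe, Subgroup.mem_subgroupOf]
      refine Subgroup.mem_inf.mpr ⟨Subgroup.mem_prod.mpr ⟨?_, ?_⟩, ha⟩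
      · rw [Subgroup.mem_subgroupOf, mem_autInducedBy_iff]
        exact ⟨g.1, hg₁S, hg₁N, fun x => rfl⟩
      · rw [Subgroup.mem_subgroupOf, mem_autInducedBy_iff]
        exact ⟨g.2, hg₂S, hg₂N, fun x => rfl⟩
    · ext x : 1
      apply Subtype.ext
      rw [rho_apply, hg x]
      rfl

theorem card_autInducedBy_prod {F₁ : FusionSystem S₁} {F₂ : FusionSystem S₂}
    {Q : Subgroup (Ω₁ × Ω₂)} (hQS : Q ≤ S₁.prod S₂)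
    (hQ : Q ≤ Q₁.prod Q₂) (h₁ : pr₁ Q = Q₁) (h₂ : pr₂ Q = Q₂) :
    Nat.card (autInducedBy (S₁.prod S₂) Q) =
      Nat.card ↥((((autInducedBy S₁ Q₁).subgroupOf (F₁.autGroup Q₁)).prod
        ((autInducedBy S₂ Q₂).subgroupOf (F₂.autGroup Q₂))) ⊓
      StabG (F₁.autGroup Q₁) (F₂.autGroup Q₂) Q) := by
  rw [← rho_map_induced (F₁ := F₁) (F₂ := F₂) hQS hQ h₁ h₂,
    Subgroup.card_map_of_injective (rho_injective hQ h₁ h₂ _ _)]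
  exact Nat.card_congr (Subgroup.subgroupOfEquivOfLe inf_le_right).toEquiv

theorem finite_prod [Finite S₁] [Finite S₂] : Finite ↥(S₁.prod S₂) :=
  Finite.of_equiv _ (Subgroup.prodEquiv S₁ S₂).toEquiv.symm

/-- Some translate of `Q` by automorphisms of the two systems is fully automized in the product. -/
theorem exists_fullyAutomized_translate [Finite S₁] [Finite S₂] {p : ℕ} [Fact p.Prime]
    {F₁ : FusionSystem S₁} {F₂ : FusionSystem S₂} {E : FusionSystem (S₁.prod S₂)}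
    (hE : IsProductSystem F₁ F₂ E) {Q : Subgroup (Ω₁ × Ω₂)} (hQS : Q ≤ S₁.prod S₂)
    (hQ : Q ≤ Q₁.prod Q₂) (h₁ : pr₁ Q = Q₁) (h₂ : pr₂ Q = Q₂)
    (hfa₁ : F₁.IsFullyAutomized p Q₁) (hfa₂ : F₂.IsFullyAutomized p Q₂) :
    ∃ a : ↥(F₁.autGroup Q₁) × ↥(F₂.autGroup Q₂), E.IsFullyAutomized p (trQ (toPair a) Q) := by
  obtain ⟨hQ₁S, R₁, hR₁⟩ := hfa₁
  obtain ⟨hQ₂S, R₂, hR₂⟩ := hfa₂
  haveI : Finite Q₁ := finite_of_le hQ₁S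
  haveI : Finite Q₂ := finite_of_le hQ₂S
  haveI : Finite ↥(S₁.prod S₂) := finite_prod
  obtain ⟨a, ha⟩ := exists_conj_inf_sylow (Sylow.ofCard _ (Cfsg.Agent.Lib.Helper8_Prod1.card_prod_sylow R₁ R₂))
    (StabG (F₁.autGroup Q₁) (F₂.autGroup Q₂) Q)
  refine ⟨a, ?_⟩
  have hQ'S : trQ (toPair a) Q ≤ S₁.prod S₂ :=
    (trQ_le _ Q).trans (Subgroup.prod_mono hQ₁S hQ₂S)
  rw [fullyAutomized_iff_card E hQ'S,
    card_autInducedBy_prod (F₁ := F₁) (F₂ := F₂) hQ'S (trQ_le _ Q) (pr₁_trQ _ hQ h₁)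
      (pr₂_trQ _ hQ h₂),
    card_autGroup_prod hE hQ'S (trQ_le _ Q) (pr₁_trQ _ hQ h₁) (pr₂_trQ _ hQ h₂), stabG_trQ,
    Subgroup.card_map_of_injective (MulAut.conj a).injective, ← hR₁, ← hR₂]
  exact ha

end Cfsg.Agent.Lib.Helper8_Prod4
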