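import Mathlib
import Cfsg.Prelude.Def_FusionComponents
import Cfsg.Agent.Lib.Helper8_Prod4

set_option autoImplicit false
set_option linter.style.haveILetI false
set_option linter.unusedVariables false
open Cfsg

/-!
# Direct products of fusion systems, part 5: receptivity and saturation
-/

namespace Cfsg.Agent.Lib.Helper8_Prod5

open Cfsg.FusionSystem Cfsg.Agent.Lib.Helper8_Prod2 Cfsg.Agent.Lib.Helper8_Prod3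
open Cfsg.Agent.Lib.Helper8_Prod4
open Cfsg.Agent.Lib.Helper8_Fusion Cfsg.Agent.Lib.Helper8_Saturated

variable {Ω₁ : Type*} {Ω₂ : Type*} [Group Ω₁] [Group Ω₂]
variable {S₁ : Subgroup Ω₁} {S₂ : Subgroup Ω₂}

/-- A subgroup whose projections are receptive is receptive in the product system. -/
theorem receptive_prod {F₁ : FusionSystem S₁} {F₂ : FusionSystem S₂}
    {E : FusionSystem (S₁.prod S₂)} (hE : IsProductSystem F₁ F₂ E) {Q : Subgroup (Ω₁ × Ω₂)}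
    (hQS : Q ≤ S₁.prod S₂) (hrec₁ : F₁.IsReceptive (pr₁ Q)) (hrec₂ : F₂.IsReceptive (pr₂ Q)) :
    E.IsReceptive Q := by
  refine ⟨hQS, ?_⟩
  intro P φ hφ hr
  obtain ⟨hPS, φ₁, hφ₁, φ₂, hφ₂, rfl⟩ := (mem_prodSystem_iff hE P φ).mp hφ
  have hr₁ : φ₁.range = pr₁ Q := by rw [← hr, pr₁_range_pmap (le_pr P) rfl]
  have hr₂ : φ₂.range = pr₂ Q := by rw [← hr, pr₂_range_pmap (le_pr P) rfl]
  obtain ⟨ψ₁, hψ₁, hψ₁eq⟩ := hrec₁.2 (pr₁ P) φ₁ hφ₁ hr₁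
  obtain ⟨ψ₂, hψ₂, hψ₂eq⟩ := hrec₂.2 (pr₂ P) φ₂ hφ₂ hr₂
  have hN : extender (S₁.prod S₂) P (pmap (le_pr P) φ₁ φ₂) ≤
      (extender S₁ (pr₁ P) φ₁).prod (extender S₂ (pr₂ P) φ₂) := by
    show Subgroup.closure _ ≤ _
    rw [Subgroup.closure_le]
    rintro g ⟨hgS, hgN, h, hhS, hh⟩
    refine Subgroup.mem_prod.mpr ⟨?_, ?_⟩
    · apply mem_extender_of (Subgroup.mem_prod.mp hgS).1 (fst_mem_normalizer rfl hgN)
        ⟨h.1, (Subgroup.mem_prod.mp hhS).1, ?_⟩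
      intro x₁ hx₁
      obtain ⟨x, hx, hxe⟩ := x₁.2
      have hgx : g * x * g⁻¹ ∈ P := (Subgroup.mem_normalizer_iff.mp hgN x).mp hx
      have h3 := hh ⟨x, hx⟩ hgx
      have h4 := congrArg Prod.fst h3
      rw [pmap_apply] at h4
      have e1 : (⟨g.1 * (x₁ : Ω₁) * g.1⁻¹, hx₁⟩ : pr₁ P) =
          ⟨(g * x * g⁻¹).1, (Subgroup.mem_prod.mp (le_pr P hgx)).1⟩ := by
        apply Subtype.ext
        show g.1 * (x₁ : Ω₁) * g.1⁻¹ = g.1 * x.1 * g.1⁻¹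
        rw [← hxe]
        rfl
      have e2 : x₁ = ⟨x.1, (Subgroup.mem_prod.mp (le_pr P hx)).1⟩ := Subtype.ext hxe.symm
      rw [e1]
      rw [e2]
      exact h4
    · apply mem_extender_of (Subgroup.mem_prod.mp hgS).2 (snd_mem_normalizer rfl hgN)
        ⟨h.2, (Subgroup.mem_prod.mp hhS).2, ?_⟩
      intro x₂ hx₂
      obtain ⟨x, hx, hxe⟩ := x₂.2
      have hgx : g * x * g⁻¹ ∈ P := (Subgroup.mem_normalizer_iff.mp hgN x).mp hx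
      have h3 := hh ⟨x, hx⟩ hgx
      have h4 := congrArg Prod.snd h3
      rw [pmap_apply] at h4
      have e1 : (⟨g.2 * (x₂ : Ω₂) * g.2⁻¹, hx₂⟩ : pr₂ P) =
          ⟨(g * x * g⁻¹).2, (Subgroup.mem_prod.mp (le_pr P hgx)).2⟩ := by
        apply Subtype.ext
        show g.2 * (x₂ : Ω₂) * g.2⁻¹ = g.2 * x.2 * g.2⁻¹
        rw [← hxe]
        rfl
      have e2 : x₂ = ⟨x.2, (Subgroup.mem_prod.mp (le_pr P hx)).2⟩ := Subtype.ext hxe.symm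
      rw [e1]
      rw [e2]
      exact h4
  have hNS : extender (S₁.prod S₂) P (pmap (le_pr P) φ₁ φ₂) ≤ S₁.prod S₂ :=
    (extender_le_normalizerIn P _).trans inf_le_left
  refine ⟨pmap hN ψ₁ ψ₂, ?_, ?_⟩
  · rw [mem_prodSystem_iff hE]
    refine ⟨hNS, ψ₁.comp (Subgroup.inclusion (pr₁_le_of_le hN)),
      restrict_mem F₁ (pr₁_le_of_le hN) hψ₁, ψ₂.comp (Subgroup.inclusion (pr₂_le_of_le hN)),
      restrict_mem F₂ (pr₂_le_of_le hN) hψ₂, ?_⟩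
    ext x
    · rfl
    · rfl
  · intro x hxP hxN
    rw [pmap_apply, pmap_apply]
    apply Prod.ext
    · exact hψ₁eq x.1 _ _
    · exact hψ₂eq x.2 _ _

/-- **The direct product of two saturated fusion systems is saturated.** -/
theorem prod_saturated [Finite S₁] [Finite S₂] {p : ℕ} [Fact p.Prime]
    {F₁ : FusionSystem S₁} {F₂ : FusionSystem S₂} {E : FusionSystem (S₁.prod S₂)}
    (hF₁ : F₁.IsSaturated p) (hF₂ : F₂.IsSaturated p) (hE : IsProductSystem F₁ F₂ E) :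
    E.IsSaturated p := by
  intro P hPS
  obtain ⟨Q₁, ⟨φ₁, hφ₁, hr₁⟩, hfa₁, hrec₁⟩ := hF₁ (pr₁ P) (pr₁_le_of_le hPS)
  obtain ⟨Q₂, ⟨φ₂, hφ₂, hr₂⟩, hfa₂, hrec₂⟩ := hF₂ (pr₂ P) (pr₂_le_of_le hPS)
  obtain ⟨Qz, hQzdef⟩ : ∃ Qz, Qz = (pmap (le_pr P) φ₁ φ₂).range := ⟨_, rfl⟩
  have h₁ : pr₁ Qz = Q₁ := by rw [hQzdef, pr₁_range_pmap (le_pr P) rfl, hr₁]
  have h₂ : pr₂ Qz = Q₂ := by rw [hQzdef, pr₂_range_pmap (le_pr P) rfl, hr₂]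
  have hQz : Qz ≤ Q₁.prod Q₂ := by
    rw [← h₁, ← h₂]
    exact le_pr Qz
  have hQ₁S : Q₁ ≤ S₁ := hfa₁.1
  have hQ₂S : Q₂ ≤ S₂ := hfa₂.1
  have hQzS : Qz ≤ S₁.prod S₂ := hQz.trans (Subgroup.prod_mono hQ₁S hQ₂S)
  obtain ⟨a, ha⟩ := exists_fullyAutomized_translate hE hQzS hQz h₁ h₂ hfa₁ hfa₂
  have hv₁ : ∀ x : pr₁ P, φ₁ x ∈ Q₁ := fun x => hr₁ ▸ ⟨x, rfl⟩
  have hv₂ : ∀ x : pr₂ P, φ₂ x ∈ Q₂ := fun x => hr₂ ▸ ⟨x, rfl⟩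
  have ha₁ : Q₁.subtype.comp (a.1 : MulAut ↥Q₁).toMonoidHom ∈ F₁.Hom Q₁ :=
    (mem_autGroup_iff F₁ hQ₁S _).mp a.1.2
  have ha₂ : Q₂.subtype.comp (a.2 : MulAut ↥Q₂).toMonoidHom ∈ F₂.Hom Q₂ :=
    (mem_autGroup_iff F₂ hQ₂S _).mp a.2.2
  have hψ₁ := F₁.comp_mem hφ₁ ha₁ hv₁
  have hψ₂ := F₂.comp_mem hφ₂ ha₂ hv₂
  refine ⟨trQ (toPair a) Qz, ?_, ha, ?_⟩
  · refine ⟨pmap (le_pr P) _ _, (mem_prodSystem_iff hE P _).mpr ⟨hPS, _, hψ₁, _, hψ₂, rfl⟩, ?_⟩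
    ext y
    rw [mem_trQ']
    constructor
    · rintro ⟨x, rfl⟩
      refine ⟨⟨φ₁ ⟨(x : Ω₁ × Ω₂).1, (Subgroup.mem_prod.mp (le_pr P x.2)).1⟩, hv₁ _⟩,
        ⟨φ₂ ⟨(x : Ω₁ × Ω₂).2, (Subgroup.mem_prod.mp (le_pr P x.2)).2⟩, hv₂ _⟩, ?_, rfl⟩
      rw [hQzdef]
      exact ⟨x, rfl⟩
    · rintro ⟨x₁, x₂, hx, rfl⟩
      rw [hQzdef] at hx
      obtain ⟨x, hx'⟩ := hx
      refine ⟨x, ?_⟩
      rw [pmap_apply] at hx'
      have e1 : (⟨φ₁ ⟨(x : Ω₁ × Ω₂).1, (Subgroup.mem_prod.mp (le_pr P x.2)).1⟩, hv₁ _⟩ : Q₁) =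
          x₁ := Subtype.ext (congrArg Prod.fst hx')
      have e2 : (⟨φ₂ ⟨(x : Ω₁ × Ω₂).2, (Subgroup.mem_prod.mp (le_pr P x.2)).2⟩, hv₂ _⟩ : Q₂) =
          x₂ := Subtype.ext (congrArg Prod.snd hx')
      rw [← e1, ← e2]
      rfl
  · have hQ'S : trQ (toPair a) Qz ≤ S₁.prod S₂ :=
      (trQ_le _ Qz).trans (Subgroup.prod_mono hQ₁S hQ₂S)
    apply receptive_prod hE hQ'S
    · rw [pr₁_trQ _ hQz h₁]
      exact hrec₁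
    · rw [pr₂_trQ _ hQz h₂]
      exact hrec₂

end Cfsg.Agent.Lib.Helper8_Prod5
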