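import Mathlib
import Cfsg.Prelude.Def_FusionComponents
import Cfsg.Agent.Lib.Helper8_Morphism
import Cfsg.Agent.Lib.Helper8_FactorSat
import Cfsg.Agent.Lib.Helper8_DirFactor1

set_option autoImplicit false
set_option linter.style.haveILetI false
set_option linter.unusedVariables false
open Cfsg

/-!
# Lifting maps modulo a strongly closed subgroup; `T C_S(T)` is strongly closed
-/

namespace Cfsg.Agent.Lib.Helper8_PuigLift

open Cfsg.FusionSystem Cfsg.Agent.Lib.Helper8_Fusion Cfsg.Agent.Lib.Helper8_Factor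
open Cfsg.Agent.Lib.Helper8_Factor2
open Cfsg.Agent.Lib.Helper8_Saturated
open Cfsg.Agent.Lib.Helper8_FactorSat
open Cfsg.Agent.Lib.Helper8_Morphism
open Cfsg.Agent.Lib.Helper8_DirFactor1

variable {Ω : Type*} [Group Ω] {S : Subgroup Ω}

/-- A strongly closed subgroup is normal in `S`. -/
theorem subgroupOf_normal_of_stronglyClosed (F : FusionSystem S) {T : Subgroup Ω}
    (hT : F.StronglyClosed T) : (T.subgroupOf S).Normal := by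
  refine ⟨fun n hn g => ?_⟩
  rw [Subgroup.mem_subgroupOf] at hn ⊢
  have h := hT.2 T le_rfl (conjHom T (g : Ω)) (F.conj_mem hT.1 g.2) ⟨n, hn⟩
  exact h

/-- **Puig's lifting.** Every map of `F` agrees modulo the strongly closed subgroup `T` with a map
defined on a subgroup containing `T`. -/
theorem puig_lift [Finite S] {p : ℕ} [Fact p.Prime] (hS : IsPGroup p S) (F : FusionSystem S)
    (hF : F.IsSaturated p) {T : Subgroup Ω} (hT : F.StronglyClosed T) {P : Subgroup Ω}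
    {φ : P →* Ω} (hφ : φ ∈ F.Hom P) :
    ∃ (N : Subgroup Ω) (ψ : N →* Ω), ψ ∈ F.Hom N ∧ T ≤ N ∧ ∃ hPN : P ≤ N,
      ∀ x : P, (φ x)⁻¹ * ψ ⟨x, hPN x.2⟩ ∈ T := by
  haveI hn : (T.subgroupOf S).Normal := subgroupOf_normal_of_stronglyClosed F hT
  obtain ⟨θ, hθdef⟩ : ∃ θ : S →* S ⧸ T.subgroupOf S, θ = QuotientGroup.mk' (T.subgroupOf S) :=
    ⟨_, rfl⟩
  have hker : ∀ s : S, θ s = 1 ↔ (s : Ω) ∈ T := by
    intro s
    rw [hθdef]
    exact (QuotientGroup.eq_one_iff s).trans Subgroup.mem_subgroupOf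
  have hrange : θ.range = (⊤ : Subgroup (S ⧸ T.subgroupOf S)) := by
    rw [hθdef]
    exact MonoidHom.range_eq_top.mpr (QuotientGroup.mk'_surjective _)
  have hE := factorSystem_isFactorSystem (F := F) hT hker hrange
  have hmor := factor_isMorphism hS F hF hT hE
  obtain ⟨φ', hφ', hP, hφS, hP', hind⟩ := hmor.2 P φ hφ
  obtain ⟨-, ψ, hψ, hP₂, hψS, hmap₂, hind₂⟩ := hφ'
  have hPN : P ≤ preimageAlong θ (imageAlong θ P) := le_preimage_image θ hP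
  refine ⟨_, ψ, hψ, kernel_le_preimage hker hT.1 _, hPN, ?_⟩
  intro x
  have h1 := hind x
  have h2 := hind₂ ⟨x, hPN x.2⟩
  have h3 : θ ⟨φ x, hφS x⟩ = θ ⟨ψ ⟨x, hPN x.2⟩, hψS _⟩ := by
    rw [← h1, ← h2]
  have h4 : θ (⟨φ x, hφS x⟩⁻¹ * ⟨ψ ⟨x, hPN x.2⟩, hψS _⟩) = 1 := by
    rw [map_mul, map_inv, h3, inv_mul_cancel]
  exact (hker _).mp h4

/-- **`T C_S(T)` is strongly closed.** -/
theorem sup_centralizer_stronglyClosed [Finite S] {p : ℕ} [Fact p.Prime] (hS : IsPGroup p S)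
    (F : FusionSystem S) (hF : F.IsSaturated p) {T : Subgroup Ω} (hT : F.StronglyClosed T) :
    F.StronglyClosed (T ⊔ centralizerIn S T) := by
  haveI : Finite T := finite_of_le hT.1
  have hcomm : ∀ a ∈ T, ∀ b ∈ centralizerIn S T, a * b = b * a := by
    intro a ha b hb
    have : b ∈ Subgroup.centralizer (T : Set Ω) := hb.2
    rw [Subgroup.mem_centralizer_iff] at this
    exact this a ha
  refine ⟨sup_le hT.1 inf_le_left, ?_⟩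
  intro R hR φ hφ x
  obtain ⟨t, ht, c, hc, hxtc⟩ := mem_sup_of_commute hcomm (hR x.2)
  obtain ⟨N, ψ, hψ, hTN, hRN, hlift⟩ := puig_lift hS F hF hT hφ
  -- `ψ` maps `T` onto `T`
  have hρ := restrict_mem F hTN hψ
  have hρr : (ψ.comp (Subgroup.inclusion hTN)).range = T :=
    range_eq_of_vals (F.injective_of_mem hρ) (fun y => hT.2 T le_rfl _ hρ y)
  have hψt : ψ ⟨t, hTN ht⟩ ∈ T := hT.2 T le_rfl _ hρ ⟨t, ht⟩
  have hψS : ψ ⟨x, hRN x.2⟩ ∈ S := (F.le_of_mem hψ).2 _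
  -- `ψ x` acts on `T` as `ψ t`
  have hact : ∀ u ∈ T, ψ ⟨x, hRN x.2⟩ * u * (ψ ⟨x, hRN x.2⟩)⁻¹ =
      ψ ⟨t, hTN ht⟩ * u * (ψ ⟨t, hTN ht⟩)⁻¹ := by
    intro u hu
    have : u ∈ (ψ.comp (Subgroup.inclusion hTN)).range := by rw [hρr]; exact hu
    obtain ⟨u', hu'⟩ := this
    have hu'' : ψ ⟨u', hTN u'.2⟩ = u := hu'
    rw [← hu'', ← map_inv, ← map_mul, ← map_mul, ← map_inv, ← map_mul, ← map_mul]
    congr 1
    apply Subtype.ext
    show (x : Ω) * u' * (x : Ω)⁻¹ = t * u' * t⁻¹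
    have hcu : c * (u' : Ω) = u' * c := (hcomm u' u'.2 c hc).symm
    rw [hxtc, mul_inv_rev]
    calc t * c * ↑u' * (c⁻¹ * t⁻¹) = t * (c * u') * c⁻¹ * t⁻¹ := by group
      _ = t * (u' * c) * c⁻¹ * t⁻¹ := by rw [hcu]
      _ = t * u' * t⁻¹ := by group
  have hψxW : ψ ⟨x, hRN x.2⟩ ∈ T ⊔ centralizerIn S T := by
    have hdec : ψ ⟨x, hRN x.2⟩ =
        ψ ⟨t, hTN ht⟩ * ((ψ ⟨t, hTN ht⟩)⁻¹ * ψ ⟨x, hRN x.2⟩) := by group
    rw [hdec]
    refine Subgroup.mul_mem_sup hψt ⟨S.mul_mem (S.inv_mem (hT.1 hψt)) hψS, ?_⟩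
    show _ ∈ Subgroup.centralizer (T : Set Ω)
    rw [Subgroup.mem_centralizer_iff]
    intro u hu
    have h1 := hact u hu
    have h2 : ψ ⟨x, hRN x.2⟩ * u = ψ ⟨t, hTN ht⟩ * u * (ψ ⟨t, hTN ht⟩)⁻¹ * ψ ⟨x, hRN x.2⟩ := by
      rw [← h1]; group
    calc u * ((ψ ⟨t, hTN ht⟩)⁻¹ * ψ ⟨x, hRN x.2⟩)
        = (ψ ⟨t, hTN ht⟩)⁻¹ * (ψ ⟨t, hTN ht⟩ * u * (ψ ⟨t, hTN ht⟩)⁻¹ * ψ ⟨x, hRN x.2⟩) := by
          group
      _ = (ψ ⟨t, hTN ht⟩)⁻¹ * (ψ ⟨x, hRN x.2⟩ * u) := by rw [← h2]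
      _ = (ψ ⟨t, hTN ht⟩)⁻¹ * ψ ⟨x, hRN x.2⟩ * u := by group
  have hfin : φ x = ψ ⟨x, hRN x.2⟩ * ((φ x)⁻¹ * ψ ⟨x, hRN x.2⟩)⁻¹ := by group
  rw [hfin]
  exact Subgroup.mul_mem _ hψxW
    (Subgroup.inv_mem _ ((le_sup_left : T ≤ T ⊔ centralizerIn S T) (hlift x)))

end Cfsg.Agent.Lib.Helper8_PuigLift
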