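import Mathlib
import Cfsg.Prelude.Def_RootSubgroups

set_option autoImplicit false
open Cfsg

namespace Cfsg.Agent.Helper8QuadPair

variable {k : Type*} [Field k] {M : Type*} [AddCommGroup M] [Module k M]

/-- The unit `1 + N` for a square-zero endomorphism `N`. -/
def mkUnit (N : M →ₗ[k] M) (hN : N * N = 0) : LinearMap.GeneralLinearGroup k M where
  val := 1 + N
  inv := 1 - N
  val_inv := by
    have : (1 + N) * (1 - N) = 1 - N * N := by noncomm_ring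
    rw [this, hN, sub_zero]
  inv_val := by
    have : (1 - N) * (1 + N) = 1 - N * N := by noncomm_ring
    rw [this, hN, sub_zero]

theorem mkUnit_val (N : M →ₗ[k] M) (hN : N * N = 0) :
    ((mkUnit N hN : LinearMap.GeneralLinearGroup k M) : M →ₗ[k] M) = 1 + N := rfl

/-- Endomorphisms killing `V` composed with endomorphisms with image in `W ≤ V` vanish. -/
theorem mul_eq_zero_of {V W : Submodule k M} (hWV : W ≤ V) {N₁ N₂ : M →ₗ[k] M}
    (h₁ : V ≤ LinearMap.ker N₁) (h₂ : LinearMap.range N₂ ≤ W) : N₁ * N₂ = 0 := by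
  ext m
  have : N₂ m ∈ LinearMap.ker N₁ := h₁ (hWV (h₂ ⟨m, rfl⟩))
  simpa using this

/-- The group of all `1 + N` with `N` killing `V`, with image in `W`, and scalar family in `G`. -/
def bigGroup (G : Subgroup (LinearMap.GeneralLinearGroup k M)) (V W : Submodule k M)
    (hWV : W ≤ V) : Subgroup (LinearMap.GeneralLinearGroup k M) where
  carrier := {ρ | V ≤ LinearMap.ker ((ρ : M →ₗ[k] M) - 1) ∧
    LinearMap.range ((ρ : M →ₗ[k] M) - 1) ≤ W ∧
    scalarFamily ρ ⊆ (G : Set (LinearMap.GeneralLinearGroup k M))}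
  one_mem' := by
    refine ⟨?_, ?_, ?_⟩
    · simp
    · simp
    · rintro τ ⟨c, hc⟩
      have : τ = 1 := by
        apply Units.ext
        rw [hc]
        simp
      rw [this]
      exact G.one_mem
  mul_mem' := by
    rintro ρ₁ ρ₂ ⟨h1k, h1r, h1s⟩ ⟨h2k, h2r, h2s⟩
    have h12 : ((ρ₁ : M →ₗ[k] M) - 1) * ((ρ₂ : M →ₗ[k] M) - 1) = 0 :=
      mul_eq_zero_of hWV h1k h2r
    have h11 : ((ρ₁ : M →ₗ[k] M) - 1) * ((ρ₁ : M →ₗ[k] M) - 1) = 0 :=
      mul_eq_zero_of hWV h1k h1r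
    have h22 : ((ρ₂ : M →ₗ[k] M) - 1) * ((ρ₂ : M →ₗ[k] M) - 1) = 0 :=
      mul_eq_zero_of hWV h2k h2r
    have hsum : ((ρ₁ * ρ₂ : LinearMap.GeneralLinearGroup k M) : M →ₗ[k] M) - 1 =
        ((ρ₁ : M →ₗ[k] M) - 1) + ((ρ₂ : M →ₗ[k] M) - 1) := by
      have : ((ρ₁ * ρ₂ : LinearMap.GeneralLinearGroup k M) : M →ₗ[k] M) - 1 =
          ((ρ₁ : M →ₗ[k] M) - 1) + ((ρ₂ : M →ₗ[k] M) - 1) +
            ((ρ₁ : M →ₗ[k] M) - 1) * ((ρ₂ : M →ₗ[k] M) - 1) := by
        rw [Units.val_mul]; noncomm_ring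
      rw [this, h12, add_zero]
    refine ⟨?_, ?_, ?_⟩
    · intro v hv
      rw [LinearMap.mem_ker, hsum, LinearMap.add_apply, LinearMap.mem_ker.mp (h1k hv),
        LinearMap.mem_ker.mp (h2k hv), add_zero]
    · rintro _ ⟨m, rfl⟩
      rw [hsum, LinearMap.add_apply]
      exact W.add_mem (h1r ⟨m, rfl⟩) (h2r ⟨m, rfl⟩)
    · rintro τ ⟨c, hc⟩
      have hc1 : (c • ((ρ₁ : M →ₗ[k] M) - 1)) * (c • ((ρ₁ : M →ₗ[k] M) - 1)) = 0 := by
        rw [smul_mul_smul_comm, h11, smul_zero]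
      have hc2 : (c • ((ρ₂ : M →ₗ[k] M) - 1)) * (c • ((ρ₂ : M →ₗ[k] M) - 1)) = 0 := by
        rw [smul_mul_smul_comm, h22, smul_zero]
      have hτ : τ = mkUnit _ hc1 * mkUnit _ hc2 := by
        apply Units.ext
        rw [hc, hsum, Units.val_mul, mkUnit_val, mkUnit_val]
        have gen : ∀ A B : M →ₗ[k] M, (1 + A) * (1 + B) = 1 + A + B + A * B := by
          intro A B; noncomm_ring
        rw [gen, smul_mul_smul_comm, h12, smul_zero, add_zero, smul_add, add_assoc]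
      rw [hτ]
      exact G.mul_mem (h1s ⟨c, rfl⟩) (h2s ⟨c, rfl⟩)
  inv_mem' := by
    rintro ρ ⟨hk, hr, hs⟩
    have h11 : ((ρ : M →ₗ[k] M) - 1) * ((ρ : M →ₗ[k] M) - 1) = 0 :=
      mul_eq_zero_of hWV hk hr
    have hρ : ρ = mkUnit _ h11 := by
      apply Units.ext
      rw [mkUnit_val]; abel
    have hinv : ((ρ⁻¹ : LinearMap.GeneralLinearGroup k M) : M →ₗ[k] M) - 1 =
        -((ρ : M →ₗ[k] M) - 1) := by
      have : ((ρ⁻¹ : LinearMap.GeneralLinearGroup k M) : M →ₗ[k] M) =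
          1 - ((ρ : M →ₗ[k] M) - 1) := by
        conv_lhs => rw [hρ]
        rfl
      rw [this]; abel
    refine ⟨?_, ?_, ?_⟩
    · rw [hinv, LinearMap.ker_neg]; exact hk
    · rw [hinv, LinearMap.range_neg]; exact hr
    · rintro τ ⟨c, hc⟩
      apply hs
      refine ⟨-c, ?_⟩
      rw [hc, hinv, smul_neg, neg_smul]

theorem range_le_ker_of_quadratic {σ : LinearMap.GeneralLinearGroup k M} (hσ : IsQuadraticOn σ) :
    LinearMap.range ((σ : M →ₗ[k] M) - 1) ≤ LinearMap.ker ((σ : M →ₗ[k] M) - 1) := by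
  rintro _ ⟨m, rfl⟩
  rw [LinearMap.mem_ker]
  have := congrArg (fun f : M →ₗ[k] M => f m) hσ.1
  simpa using this

theorem sameActionClass_le_bigGroup (G : Subgroup (LinearMap.GeneralLinearGroup k M))
    (σ : LinearMap.GeneralLinearGroup k M) (hσ : IsQuadraticOn σ) :
    sameActionClass G σ ⊆ (bigGroup G _ _ (range_le_ker_of_quadratic hσ) :
      Set (LinearMap.GeneralLinearGroup k M)) := by
  rintro τ ⟨hτ, hk, hr⟩
  exact ⟨hk.ge, hr.le, hτ.1.2.2⟩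

theorem mem_sameActionClass_of_mem_bigGroup [FiniteDimensional k M]
    (G : Subgroup (LinearMap.GeneralLinearGroup k M))
    (σ : LinearMap.GeneralLinearGroup k M) (hσ : σ ∈ minimalQuadraticElements G)
    (ρ : LinearMap.GeneralLinearGroup k M)
    (hρ : ρ ∈ bigGroup G _ _ (range_le_ker_of_quadratic hσ.1.2.1)) (hρ1 : ρ ≠ 1) :
    ρ ∈ sameActionClass G σ := by
  obtain ⟨hk, hr, hs⟩ := hρ
  have hWV := range_le_ker_of_quadratic hσ.1.2.1
  have h11 : ((ρ : M →ₗ[k] M) - 1) * ((ρ : M →ₗ[k] M) - 1) = 0 := mul_eq_zero_of hWV hk hr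
  have hρG : ρ ∈ G := by
    apply hs
    refine ⟨1, ?_⟩
    rw [one_smul]; abel
  have hρq : ρ ∈ quadraticElements G := by
    refine ⟨hρG, ⟨h11, ?_⟩, hs⟩
    intro h0
    apply hρ1
    apply Units.ext
    rw [Units.val_one]
    exact sub_eq_zero.mp h0
  have hd1 : commutatorRank σ ≤ commutatorRank ρ := hσ.2 ρ hρq
  have hd2 : commutatorRank ρ ≤ commutatorRank σ := Submodule.finrank_mono hr
  have hrange : LinearMap.range ((ρ : M →ₗ[k] M) - 1) = LinearMap.range ((σ : M →ₗ[k] M) - 1) :=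
    Submodule.eq_of_le_of_finrank_le hr hd1
  have hker : LinearMap.ker ((ρ : M →ₗ[k] M) - 1) = LinearMap.ker ((σ : M →ₗ[k] M) - 1) := by
    symm
    apply Submodule.eq_of_le_of_finrank_le hk
    have e1 := LinearMap.finrank_range_add_finrank_ker ((ρ : M →ₗ[k] M) - 1)
    have e2 := LinearMap.finrank_range_add_finrank_ker ((σ : M →ₗ[k] M) - 1)
    have e3 : Module.finrank k (LinearMap.range ((ρ : M →ₗ[k] M) - 1)) =
        Module.finrank k (LinearMap.range ((σ : M →ₗ[k] M) - 1)) := by rw [hrange]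
    omega
  refine ⟨⟨hρq, ?_⟩, hker, hrange⟩
  intro τ hτ
  have : commutatorRank ρ = commutatorRank σ := le_antisymm hd2 hd1
  rw [this]
  exact hσ.2 τ hτ

theorem bigGroup_comm (G : Subgroup (LinearMap.GeneralLinearGroup k M)) (V W : Submodule k M)
    (hWV : W ≤ V) {ρ₁ ρ₂ : LinearMap.GeneralLinearGroup k M} (h₁ : ρ₁ ∈ bigGroup G V W hWV)
    (h₂ : ρ₂ ∈ bigGroup G V W hWV) : ρ₁ * ρ₂ = ρ₂ * ρ₁ := by
  obtain ⟨h1k, h1r, -⟩ := h₁
  obtain ⟨h2k, h2r, -⟩ := h₂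
  have h12 : ((ρ₁ : M →ₗ[k] M) - 1) * ((ρ₂ : M →ₗ[k] M) - 1) = 0 := mul_eq_zero_of hWV h1k h2r
  have h21 : ((ρ₂ : M →ₗ[k] M) - 1) * ((ρ₁ : M →ₗ[k] M) - 1) = 0 := mul_eq_zero_of hWV h2k h1r
  apply Units.ext
  rw [Units.val_mul, Units.val_mul]
  have gen : ∀ A B : M →ₗ[k] M, A * B = (A - 1) * (B - 1) + A + B - 1 := by
    intro A B; noncomm_ring
  rw [gen (ρ₁ : M →ₗ[k] M), gen (ρ₂ : M →ₗ[k] M), h12, h21]
  abel

theorem bigGroup_pow (G : Subgroup (LinearMap.GeneralLinearGroup k M)) (V W : Submodule k M)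
    (hWV : W ≤ V) {ρ : LinearMap.GeneralLinearGroup k M} (h : ρ ∈ bigGroup G V W hWV) (m : ℕ) :
    ((ρ ^ m : LinearMap.GeneralLinearGroup k M) : M →ₗ[k] M) = 1 + m • ((ρ : M →ₗ[k] M) - 1) := by
  obtain ⟨hk, hr, -⟩ := h
  have h11 : ((ρ : M →ₗ[k] M) - 1) * ((ρ : M →ₗ[k] M) - 1) = 0 := mul_eq_zero_of hWV hk hr
  induction m with
  | zero => simp
  | succ m ih =>
    rw [pow_succ, Units.val_mul, ih]
    obtain ⟨N, hN⟩ : ∃ N, N = (ρ : M →ₗ[k] M) - 1 := ⟨_, rfl⟩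
    have hρ : (ρ : M →ₗ[k] M) = 1 + N := by rw [hN]; abel
    rw [← hN] at h11 ⊢
    rw [hρ, mul_add, mul_one, add_mul, one_mul, smul_mul_assoc, h11, smul_zero, add_zero,
      succ_nsmul]
    abel

theorem bigGroup_pow_char (G : Subgroup (LinearMap.GeneralLinearGroup k M)) (V W : Submodule k M)
    (hWV : W ≤ V) {ρ : LinearMap.GeneralLinearGroup k M} (h : ρ ∈ bigGroup G V W hWV) (p : ℕ)
    (hp : ringChar k = p) : ρ ^ p = 1 := by
  apply Units.ext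
  rw [bigGroup_pow G V W hWV h, Units.val_one]
  have : (p : k) = 0 := by
    rw [← hp]; exact ringChar.Nat.cast_ringChar
  have h2 : p • ((ρ : M →ₗ[k] M) - 1) = (p : k) • ((ρ : M →ₗ[k] M) - 1) := by
    rw [Nat.cast_smul_eq_nsmul]
  rw [h2, this, zero_smul, add_zero]

end Cfsg.Agent.Helper8QuadPair
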