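import Mathlib
import Cfsg.Agent.Lib.Helper1_M12c
import Cfsg.Prelude.Def_SporadicCombinatorics
set_option autoImplicit false
open Cfsg
open scoped Pointwise
namespace Cfsg.Agent.H8Quartet
open Cfsg.Agent.Lib.Helper1_Golay Cfsg.Agent.Lib.Helper1_Chain

/-- weights of supports of Golay code words -/
theorem card_of_mem_supports {S : Finset GolayPt}
    (hS : S ∈ supports (golayCode : Set (GolayPt → ZMod 2))) :
    S.card = 0 ∨ S.card = 8 ∨ S.card = 12 ∨ S.card = 16 ∨ S.card = 24 := by
  obtain ⟨w, hw, rfl⟩ := hS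
  exact golay_weights w hw

/-- the complement (in the dodecad) of a hexad is a hexad -/
theorem hexad_compl {d : Finset GolayPt} (hd : d ∈ dodecads) {h : Finset GolayPt}
    (hh : h ∈ hexadsOn d) : d \ h ∈ hexadsOn d := by
  obtain ⟨h6, o, ho, hod⟩ := hh
  have hsub : h ⊆ d := by rw [← hod]; exact Finset.inter_subset_right
  have hmem := symmDiff_mem ho.1 hd.1
  have hc := card_symmDiff_add o d
  rw [ho.2, hd.2, hod, h6] at hc
  have h8 : (symmDiff o d).card = 8 := by omega
  refine ⟨?_, symmDiff o d, ⟨hmem, h8⟩, ?_⟩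
  · rw [Finset.card_sdiff_of_subset hsub, hd.2, h6]
  · ext x
    have hx : x ∈ h ↔ x ∈ o ∧ x ∈ d := by rw [← hod, Finset.mem_inter]
    simp only [Finset.mem_inter, Finset.mem_symmDiff, Finset.mem_sdiff]
    tauto

/-- the symmetric difference of two hexads meeting in three points is a hexad -/
theorem hexad_symmDiff {d : Finset GolayPt} (hd : d ∈ dodecads) {h1 h2 : Finset GolayPt}
    (hh1 : h1 ∈ hexadsOn d) (hh2 : h2 ∈ hexadsOn d) (h3 : (h1 ∩ h2).card = 3) :
    symmDiff h1 h2 ∈ hexadsOn d := by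
  obtain ⟨h16, o1, ho1, hod1⟩ := hh1
  obtain ⟨h26, o2, ho2, hod2⟩ := hh2
  have hne : o1 ≠ o2 := by
    rintro rfl
    rw [hod1] at hod2
    subst hod2
    rw [Finset.inter_self] at h3
    omega
  have hsub : h1 ∩ h2 ⊆ o1 ∩ o2 := by
    rw [← hod1, ← hod2]
    intro x hx
    simp only [Finset.mem_inter] at hx ⊢
    tauto
  have hle := Finset.card_le_card hsub
  have heven := even_card_inter ho1.1 ho2.1
  have hlt : (o1 ∩ o2).card < 5 := by
    by_contra hcon
    exact hne (octads_inter_lt ho1 ho2 (by omega))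
  have h4 : (o1 ∩ o2).card = 4 := by
    obtain ⟨a, ha⟩ := heven
    omega
  have hmem := symmDiff_mem ho1.1 ho2.1
  have hc := card_symmDiff_add o1 o2
  rw [ho1.2, ho2.2, h4] at hc
  have h8 : (symmDiff o1 o2).card = 8 := by omega
  have hc' := card_symmDiff_add h1 h2
  rw [h16, h26, h3] at hc'
  refine ⟨by omega, symmDiff o1 o2, ⟨hmem, h8⟩, ?_⟩
  ext x
  have hx1 : x ∈ h1 ↔ x ∈ o1 ∧ x ∈ d := by rw [← hod1, Finset.mem_inter]
  have hx2 : x ∈ h2 ↔ x ∈ o2 ∧ x ∈ d := by rw [← hod2, Finset.mem_inter]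
  simp only [Finset.mem_inter, Finset.mem_symmDiff]
  tauto


theorem ne_of_disj {a b : Finset GolayPt} (h : ∀ x, x ∈ a → x ∉ b) (ha : a.card = 3) : a ≠ b := by
  rintro rfl
  obtain ⟨x, hx⟩ : a.Nonempty := by rw [← Finset.card_pos]; omega
  exact h x hx hx

/-- two hexads through a common triple whose other triples share two points coincide -/
theorem eq_of_inter_ge {d : Finset GolayPt} {t a b : Finset GolayPt}
    (h1 : t ∪ a ∈ hexadsOn d) (h2 : t ∪ b ∈ hexadsOn d) (hta : ∀ x, x ∈ t → x ∉ a)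
    (htb : ∀ x, x ∈ t → x ∉ b) (ht : t.card = 3) (hab : 2 ≤ (a ∩ b).card) : a = b := by
  obtain ⟨-, o1, ho1, hod1⟩ := h1
  obtain ⟨-, o2, ho2, hod2⟩ := h2
  have hsub : t ∪ (a ∩ b) ⊆ o1 ∩ o2 := by
    intro x hx
    have hx1 : x ∈ t ∪ a := by
      simp only [Finset.mem_union, Finset.mem_inter] at hx ⊢; tauto
    have hx2 : x ∈ t ∪ b := by
      simp only [Finset.mem_union, Finset.mem_inter] at hx ⊢; tauto
    rw [← hod1] at hx1
    rw [← hod2] at hx2
    exact Finset.mem_inter.mpr ⟨(Finset.mem_inter.mp hx1).1, (Finset.mem_inter.mp hx2).1⟩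
  have hdisj : Disjoint t (a ∩ b) := by
    rw [Finset.disjoint_left]
    intro x hxt hx
    exact hta x hxt (Finset.mem_inter.mp hx).1
  have hc := Finset.card_union_of_disjoint hdisj
  have hle := Finset.card_le_card hsub
  have hoo : o1 = o2 := octads_inter_lt ho1 ho2 (by omega)
  subst hoo
  have he : t ∪ a = t ∪ b := by rw [← hod1, ← hod2]
  ext x
  have hx : x ∈ t ∪ a ↔ x ∈ t ∪ b := by rw [he]
  simp only [Finset.mem_union] at hx
  have := hta x
  have := htb x
  tauto

theorem exists_third {d : Finset GolayPt} (hd : d ∈ dodecads) {t u : Finset GolayPt}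
    (ht : t.card = 3) (hu : u.card = 3) (htu : Disjoint t u) (hh : t ∪ u ∈ hexadsOn d) :
    ∃ v, v ⊆ d \ (t ∪ u) ∧ v.card = 3 ∧ t ∪ v ∈ hexadsOn d := by
  classical
  obtain ⟨h6, o, ho, hod⟩ := hh
  have hsub : t ∪ u ⊆ d := by rw [← hod]; exact Finset.inter_subset_right
  have htd : ∀ x, x ∈ t → x ∈ d := fun x hx => hsub (Finset.mem_union_left _ hx)
  have hc' : (d \ (t ∪ u)).card = 6 := by rw [Finset.card_sdiff_of_subset hsub, hd.2, h6]
  have hne : (d \ (t ∪ u)).Nonempty := by rw [← Finset.card_pos]; omega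
  obtain ⟨p, hp⟩ := hne
  have hpd : p ∈ d := (Finset.mem_sdiff.mp hp).1
  have hpt : p ∉ t := fun h => (Finset.mem_sdiff.mp hp).2 (Finset.mem_union_left _ h)
  have hpu : p ∉ u := fun h => (Finset.mem_sdiff.mp hp).2 (Finset.mem_union_right _ h)
  by_contra hcon
  push_neg at hcon
  have key : ∀ q ∈ (d \ (t ∪ u)).erase p,
      ∃ c ∈ u, ∃ O ∈ octads, insert q (insert p t) ⊆ O ∧ c ∈ O := by
    intro q hq
    obtain ⟨hqp, hqh⟩ := Finset.mem_erase.mp hq
    have hqd : q ∈ d := (Finset.mem_sdiff.mp hqh).1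
    have hqt : q ∉ t := fun h => (Finset.mem_sdiff.mp hqh).2 (Finset.mem_union_left _ h)
    have h5 : (insert q (insert p t)).card = 5 := by
      rw [Finset.card_insert_of_notMem, Finset.card_insert_of_notMem hpt, ht]
      simp only [Finset.mem_insert, not_or]
      exact ⟨hqp, hqt⟩
    obtain ⟨O, ⟨hO, hsO⟩, -⟩ := octads_steiner.2 _ h5
    have hsd : insert q (insert p t) ⊆ d := by
      intro x hx
      simp only [Finset.mem_insert] at hx
      rcases hx with rfl | rfl | hx
      · exact hqd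
      · exact hpd
      · exact htd x hx
    have h5' : 5 ≤ (O ∩ d).card := by
      rw [← h5]; exact Finset.card_le_card (Finset.subset_inter hsO hsd)
    have hO6 := card_octad_inter_dodecad hO hd h5'
    by_contra hno
    push_neg at hno
    have hOu : ∀ c ∈ u, c ∉ O := fun c hc hcO => hno c hc O hO hsO hcO
    have hdecomp : O ∩ d = t ∪ (O ∩ (d \ (t ∪ u))) := by
      ext x
      simp only [Finset.mem_inter, Finset.mem_union, Finset.mem_sdiff]
      constructor
      · rintro ⟨hxO, hxd⟩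
        by_cases hxt : x ∈ t
        · exact Or.inl hxt
        · refine Or.inr ⟨hxO, hxd, ?_⟩
          rintro (h | h)
          · exact hxt h
          · exact hOu x h hxO
      · rintro (hxt | ⟨hxO, hxd, -⟩)
        · exact ⟨hsO (by simp [hxt]), htd x hxt⟩
        · exact ⟨hxO, hxd⟩
    have hdisj : Disjoint t (O ∩ (d \ (t ∪ u))) := by
      rw [Finset.disjoint_left]
      intro x hxt hx
      have := (Finset.mem_inter.mp hx).2
      rw [Finset.mem_sdiff] at this
      exact this.2 (Finset.mem_union_left _ hxt)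
    have hcu := Finset.card_union_of_disjoint hdisj
    rw [← hdecomp, hO6, ht] at hcu
    refine hcon (O ∩ (d \ (t ∪ u))) Finset.inter_subset_right (by omega) ⟨?_, O, hO, hdecomp⟩
    rw [← hdecomp, hO6]
  choose! f hf using key
  have hcardS : ((d \ (t ∪ u)).erase p).card = 5 := by rw [Finset.card_erase_of_mem hp, hc']
  obtain ⟨q, hq, q', hq', hqq', hff⟩ := Finset.exists_ne_map_eq_of_card_lt_of_maps_to
    (s := (d \ (t ∪ u)).erase p) (t := u) (f := f) (by rw [hu, hcardS]; norm_num)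
    (fun q hq => (hf q hq).1)
  obtain ⟨hfu, O, hO, hsO, hfO⟩ := hf q hq
  obtain ⟨-, O', hO', hsO', hfO'⟩ := hf q' hq'
  rw [← hff] at hfO'
  have hfp : f q ≠ p := fun h => hpu (h ▸ hfu)
  have hft : f q ∉ t := fun h => (Finset.disjoint_left.mp htu h) hfu
  have h5 : (insert (f q) (insert p t)).card = 5 := by
    rw [Finset.card_insert_of_notMem, Finset.card_insert_of_notMem hpt, ht]
    simp only [Finset.mem_insert, not_or]
    exact ⟨hfp, hft⟩
  have hsub1 : insert (f q) (insert p t) ⊆ O ∩ O' := by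
    intro x hx
    simp only [Finset.mem_insert] at hx
    rw [Finset.mem_inter]
    rcases hx with hx | hx | hx
    · rw [hx]; exact ⟨hfO, hfO'⟩
    · rw [hx]; exact ⟨hsO (by simp), hsO' (by simp)⟩
    · exact ⟨hsO (by simp [hx]), hsO' (by simp [hx])⟩
  have hOO : O = O' := octads_inter_lt hO hO' (by rw [← h5]; exact Finset.card_le_card hsub1)
  rw [← hOO] at hsO'
  obtain ⟨hqp, hqh⟩ := Finset.mem_erase.mp hq
  have hqd : q ∈ d := (Finset.mem_sdiff.mp hqh).1
  have hqt : q ∉ t := fun h => (Finset.mem_sdiff.mp hqh).2 (Finset.mem_union_left _ h)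
  have hqu : q ∉ u := fun h => (Finset.mem_sdiff.mp hqh).2 (Finset.mem_union_right _ h)
  obtain ⟨hqp', hqh'⟩ := Finset.mem_erase.mp hq'
  have hqd' : q' ∈ d := (Finset.mem_sdiff.mp hqh').1
  have hqt' : q' ∉ t := fun h => (Finset.mem_sdiff.mp hqh').2 (Finset.mem_union_left _ h)
  have hqu' : q' ∉ u := fun h => (Finset.mem_sdiff.mp hqh').2 (Finset.mem_union_right _ h)
  have hqf : q ≠ f q := fun h => hqu (h ▸ hfu)
  have hqf' : q' ≠ f q := fun h => hqu' (h ▸ hfu)
  have h7 : (insert q' (insert q (insert (f q) (insert p t)))).card = 7 := by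
    rw [Finset.card_insert_of_notMem, Finset.card_insert_of_notMem, h5]
    · simp only [Finset.mem_insert, not_or]
      exact ⟨hqf, hqp, hqt⟩
    · simp only [Finset.mem_insert, not_or]
      exact ⟨hqq'.symm, hqf', hqp', hqt'⟩
  have hsub7 : insert q' (insert q (insert (f q) (insert p t))) ⊆ O ∩ d := by
    intro x hx
    simp only [Finset.mem_insert] at hx
    rw [Finset.mem_inter]
    rcases hx with hx | hx | hx | hx | hx
    · rw [hx]; exact ⟨hsO' (by simp), hqd'⟩
    · rw [hx]; exact ⟨hsO (by simp), hqd⟩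
    · rw [hx]; exact ⟨hfO, hsub (Finset.mem_union_right _ hfu)⟩
    · rw [hx]; exact ⟨hsO (by simp), hpd⟩
    · exact ⟨hsO (by simp [hx]), htd x hx⟩
  have hle7 := Finset.card_le_card hsub7
  have := card_octad_inter_dodecad hO hd (by omega)
  omega

end Cfsg.Agent.H8Quartet
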