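import Mathlib
import Cfsg.Agent.Lib.Helper8_Quartet
set_option autoImplicit false
open Cfsg
open scoped Pointwise
namespace Cfsg.Agent.H8Quartet
open Cfsg.Agent.Lib.Helper1_Golay Cfsg.Agent.Lib.Helper1_Chain

set_option maxHeartbeats 4000000 in
theorem card_quartets {d : Finset GolayPt} (hd : d ∈ dodecads)
    (huniq : ∀ t u : Finset GolayPt, t.card = 3 → u.card = 3 → Disjoint t u →
      t ∪ u ∈ hexadsOn d → ∃! Q : Finset (Finset GolayPt), Q ∈ quartets d ∧ t ∈ Q ∧ u ∈ Q) :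
    (quartets d).ncard = 220 := by
  classical
  obtain ⟨Hx, hHx⟩ : ∃ Hx : Finset (Finset GolayPt),
    Hx = Finset.univ.filter (fun h => h ∈ hexadsOn d) := ⟨_, rfl⟩
  obtain ⟨Qs, hQs⟩ : ∃ Qs : Finset (Finset (Finset GolayPt)),
    Qs = Finset.univ.filter (fun Q => Q ∈ quartets d) := ⟨_, rfl⟩
  obtain ⟨P, hP⟩ : ∃ P : Finset (Finset GolayPt × Finset GolayPt), P = Finset.univ.filter
    (fun p => p.1.card = 3 ∧ p.2.card = 3 ∧ Disjoint p.1 p.2 ∧ p.1 ∪ p.2 ∈ hexadsOn d) :=
    ⟨_, rfl⟩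
  have memP : ∀ p, p ∈ P ↔
      (p.1.card = 3 ∧ p.2.card = 3 ∧ Disjoint p.1 p.2 ∧ p.1 ∪ p.2 ∈ hexadsOn d) := by
    intro p; simp [hP]
  have memH : ∀ h, h ∈ Hx ↔ h ∈ hexadsOn d := by intro h; simp [hHx]
  have memQ : ∀ Q, Q ∈ Qs ↔ Q ∈ quartets d := by intro Q; simp [hQs]
  -- the number of hexads
  have hH : Hx.card = 132 := by
    obtain ⟨O6, hO6⟩ : ∃ O6 : Finset (Finset GolayPt),
      O6 = Finset.univ.filter (fun o => o ∈ octads ∧ (o ∩ d).card = 6) := ⟨_, rfl⟩
    have memO : ∀ o, o ∈ O6 ↔ (o ∈ octads ∧ (o ∩ d).card = 6) := by intro o; simp [hO6]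
    have h132 := (ncard_octads_inter_dodecad hd).1
    have hset : {o : Finset GolayPt | o ∈ octads ∧ (o ∩ d).card = 6} = ↑O6 := by
      ext o; simp [hO6]
    rw [hset, Set.ncard_coe_finset] at h132
    have himg : Hx = O6.image (fun o => o ∩ d) := by
      ext h
      rw [memH, Finset.mem_image]
      constructor
      · rintro ⟨h6, o, ho, hod⟩
        exact ⟨o, (memO o).mpr ⟨ho, by rw [hod]; exact h6⟩, hod⟩
      · rintro ⟨o, ho, rfl⟩
        have ho' := (memO o).mp ho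
        exact ⟨ho'.2, o, ho'.1, rfl⟩
    rw [himg, Finset.card_image_of_injOn, h132]
    intro o1 ho1 o2 ho2 h12
    have h12' : o1 ∩ d = o2 ∩ d := h12
    have ho1' := (memO o1).mp (Finset.mem_coe.mp ho1)
    have ho2' := (memO o2).mp (Finset.mem_coe.mp ho2)
    apply octads_inter_lt ho1'.1 ho2'.1
    have hsub : o1 ∩ d ⊆ o1 ∩ o2 := by
      intro x hx
      have hx2 : x ∈ o2 ∩ d := by rw [← h12']; exact hx
      exact Finset.mem_inter.mpr ⟨(Finset.mem_inter.mp hx).1, (Finset.mem_inter.mp hx2).1⟩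
    have := Finset.card_le_card hsub
    omega
  -- pairs by their union
  have hP1 : P.card = 20 * Hx.card := by
    rw [Finset.card_eq_sum_card_fiberwise (f := fun p => p.1 ∪ p.2) (t := Hx)
      (fun p hp => (memH _).mpr ((memP p).mp hp).2.2.2)]
    rw [Finset.sum_const_nat (m := 20), mul_comm]
    intro h hh
    have hh' := (memH h).mp hh
    have h6 : h.card = 6 := hh'.1
    have hfib : P.filter (fun p => p.1 ∪ p.2 = h) =
        (h.powersetCard 3).image (fun t => (t, h \ t)) := by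
      ext ⟨t, u⟩
      simp only [Finset.mem_filter, memP, Finset.mem_image, Finset.mem_powersetCard,
        Prod.mk.injEq]
      constructor
      · rintro ⟨⟨ht, hu, hdisj, -⟩, hun⟩
        refine ⟨t, ⟨?_, ht⟩, rfl, ?_⟩
        · rw [← hun]; exact Finset.subset_union_left
        · rw [← hun]; exact Finset.union_sdiff_cancel_left hdisj
      · rintro ⟨t', ⟨hsub, ht'⟩, rfl, rfl⟩
        refine ⟨⟨ht', ?_, Finset.disjoint_sdiff, ?_⟩, Finset.union_sdiff_of_subset hsub⟩
        · rw [Finset.card_sdiff_of_subset hsub, h6, ht']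
        · rw [Finset.union_sdiff_of_subset hsub]; exact hh'
    rw [hfib, Finset.card_image_of_injective, Finset.card_powersetCard, h6]
    · rfl
    · intro a b hab; exact congrArg Prod.fst hab
  -- pairs by their quartet
  have hP2 : P.card * 1 = Qs.card * 12 := by
    have hbip := Finset.sum_card_bipartiteAbove_eq_sum_card_bipartiteBelow (s := P) (t := Qs)
      (fun p Q => p.1 ∈ Q ∧ p.2 ∈ Q)
    have hA : ∀ p ∈ P, (Qs.bipartiteAbove (fun p Q => p.1 ∈ Q ∧ p.2 ∈ Q) p).card = 1 := by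
      intro p hp
      obtain ⟨ht, hu, hdisj, hhex⟩ := (memP p).mp hp
      obtain ⟨Q, ⟨hQ, htQ, huQ⟩, hQu⟩ := huniq p.1 p.2 ht hu hdisj hhex
      rw [Finset.card_eq_one]
      refine ⟨Q, ?_⟩
      ext Q'
      simp only [Finset.bipartiteAbove, Finset.mem_filter, Finset.mem_singleton, memQ]
      constructor
      · rintro ⟨hQ', h1, h2⟩; exact hQu Q' ⟨hQ', h1, h2⟩
      · rintro rfl; exact ⟨hQ, htQ, huQ⟩
    have hB : ∀ Q ∈ Qs, (P.bipartiteBelow (fun p Q => p.1 ∈ Q ∧ p.2 ∈ Q) Q).card = 12 := by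
      intro Q hQ
      obtain ⟨hQ4, hQ3, hQp⟩ := (memQ Q).mp hQ
      have : P.bipartiteBelow (fun p Q => p.1 ∈ Q ∧ p.2 ∈ Q) Q = Q.offDiag := by
        ext ⟨a, b⟩
        simp only [Finset.bipartiteBelow, Finset.mem_filter, Finset.mem_offDiag, memP]
        constructor
        · rintro ⟨⟨ha, hb, hdisj, -⟩, haQ, hbQ⟩
          refine ⟨haQ, hbQ, ?_⟩
          rintro rfl
          rw [disjoint_self] at hdisj
          rw [hdisj] at ha
          simp at ha
        · rintro ⟨haQ, hbQ, hab⟩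
          have h1 := hQp a haQ b hbQ hab
          refine ⟨⟨(hQ3 a haQ).1, (hQ3 b hbQ).1, ?_, h1⟩, haQ, hbQ⟩
          rw [← Finset.card_union_eq_card_add_card, h1.1, (hQ3 a haQ).1, (hQ3 b hbQ).1]
      rw [this, Finset.offDiag_card, hQ4]
    rw [Finset.sum_congr rfl hA, Finset.sum_congr rfl hB] at hbip
    simpa only [Finset.sum_const, smul_eq_mul] using hbip
  have hfin : quartets d = ↑Qs := by
    ext Q; simp [hQs]
  rw [hfin, Set.ncard_coe_finset]
  omega

end Cfsg.Agent.H8Quartet
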