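import Mathlib
import Cfsg.Agent.Lib.Helper8_Quartet2
import Cfsg.Agent.Lib.Helper1_M12e
set_option autoImplicit false
open Cfsg
open scoped Pointwise
namespace Cfsg.Agent.H8Quartet
open Cfsg.Agent.Lib.Helper1_Golay Cfsg.Agent.Lib.Helper1_Chain

theorem smul_mem_hexadsOn {g : Equiv.Perm GolayPt} (hg : g ∈ M24) {d h : Finset GolayPt}
    (hgd : g • d = d) (hh : h ∈ hexadsOn d) : g • h ∈ hexadsOn d := by
  obtain ⟨h6, o, ho, hod⟩ := hh
  refine ⟨by rw [Finset.card_smul_finset]; exact h6, g • o, smul_mem_octads hg ho, ?_⟩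
  rw [← hod, Finset.smul_finset_inter, hgd]

theorem smul_mem_quartets {g : Equiv.Perm GolayPt} (hg : g ∈ M24) {d : Finset GolayPt}
    (hgd : g • d = d) {Q : Finset (Finset GolayPt)} (hQ : Q ∈ quartets d) :
    g • Q ∈ quartets d := by
  obtain ⟨hQ4, hQ3, hQp⟩ := hQ
  refine ⟨by rw [Finset.card_smul_finset]; exact hQ4, ?_, ?_⟩
  · intro t' ht'
    obtain ⟨t, ht, rfl⟩ := Finset.mem_smul_finset.mp ht'
    refine ⟨by rw [Finset.card_smul_finset]; exact (hQ3 t ht).1, ?_⟩
    have := Finset.smul_finset_subset_smul_finset (a := g) (hQ3 t ht).2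
    rwa [hgd] at this
  · intro t' ht' u' hu' hne
    obtain ⟨t, ht, rfl⟩ := Finset.mem_smul_finset.mp ht'
    obtain ⟨u, hu, rfl⟩ := Finset.mem_smul_finset.mp hu'
    have hne' : t ≠ u := fun h => hne (by rw [h])
    rw [← Finset.smul_finset_union]
    exact smul_mem_hexadsOn hg hgd (hQp t ht u hu hne')

set_option maxHeartbeats 4000000 in
theorem quartets_transitive {d : Finset GolayPt} (hd : d ∈ dodecads)
    (huniq : ∀ t u : Finset GolayPt, t.card = 3 → u.card = 3 → Disjoint t u →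
      t ∪ u ∈ hexadsOn d → ∃! Q : Finset (Finset GolayPt), Q ∈ quartets d ∧ t ∈ Q ∧ u ∈ Q)
    {Q Q' : Finset (Finset GolayPt)} (hQ : Q ∈ quartets d) (hQ' : Q' ∈ quartets d) :
    ∃ g : Equiv.Perm GolayPt, g ∈ M24 ∧ g • d = d ∧ g • Q = Q' := by
  classical
  obtain ⟨t, htQ, u, huQ, htu⟩ := Finset.one_lt_card.mp (by rw [hQ.1]; norm_num : 1 < Q.card)
  obtain ⟨t', htQ', u', huQ', htu'⟩ :=
    Finset.one_lt_card.mp (by rw [hQ'.1]; norm_num : 1 < Q'.card)
  have ht3 := (hQ.2.1 t htQ).1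
  have htd := (hQ.2.1 t htQ).2
  have hu3 := (hQ.2.1 u huQ).1
  have hud := (hQ.2.1 u huQ).2
  have ht3' := (hQ'.2.1 t' htQ').1
  have htd' := (hQ'.2.1 t' htQ').2
  have hu3' := (hQ'.2.1 u' huQ').1
  have hud' := (hQ'.2.1 u' huQ').2
  have Htu := hQ.2.2 t htQ u huQ htu
  have Htu' := hQ'.2.2 t' htQ' u' huQ' htu'
  have hdisj : Disjoint t u := by
    rw [← Finset.card_union_eq_card_add_card, Htu.1, ht3, hu3]
  have hdisj' : Disjoint t' u' := by
    rw [← Finset.card_union_eq_card_add_card, Htu'.1, ht3', hu3']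
  obtain ⟨a1, a2, a3, ha12, ha13, ha23, hta⟩ := Finset.card_eq_three.mp ht3
  obtain ⟨b1, b2, b3, hb12, hb13, hb23, hub⟩ := Finset.card_eq_three.mp hu3
  obtain ⟨a1', a2', a3', ha12', ha13', ha23', hta'⟩ := Finset.card_eq_three.mp ht3'
  obtain ⟨b1', b2', b3', hb12', hb13', hb23', hub'⟩ := Finset.card_eq_three.mp hu3'
  have a1t : a1 ∈ t := by rw [hta]; simp
  have a2t : a2 ∈ t := by rw [hta]; simp
  have a3t : a3 ∈ t := by rw [hta]; simp
  have b1u : b1 ∈ u := by rw [hub]; simp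
  have b2u : b2 ∈ u := by rw [hub]; simp
  have a1t' : a1' ∈ t' := by rw [hta']; simp
  have a2t' : a2' ∈ t' := by rw [hta']; simp
  have a3t' : a3' ∈ t' := by rw [hta']; simp
  have b1u' : b1' ∈ u' := by rw [hub']; simp
  have b2u' : b2' ∈ u' := by rw [hub']; simp
  have dj : ∀ x y, x ∈ t → y ∈ u → x ≠ y := fun x y hx hy h =>
    Finset.disjoint_left.mp hdisj hx (h ▸ hy)
  have dj' : ∀ x y, x ∈ t' → y ∈ u' → x ≠ y := fun x y hx hy h =>
    Finset.disjoint_left.mp hdisj' hx (h ▸ hy)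
  have hl : [a1, a2, a3, b1, b2].Nodup := by
    simp only [List.nodup_cons, List.mem_cons, List.not_mem_nil, or_false, not_or,
      List.nodup_nil, and_true, not_false_eq_true]
    exact ⟨⟨ha12, ha13, dj _ _ a1t b1u, dj _ _ a1t b2u⟩, ⟨ha23, dj _ _ a2t b1u, dj _ _ a2t b2u⟩,
      ⟨dj _ _ a3t b1u, dj _ _ a3t b2u⟩, hb12⟩
  have hl' : [a1', a2', a3', b1', b2'].Nodup := by
    simp only [List.nodup_cons, List.mem_cons, List.not_mem_nil, or_false, not_or,
      List.nodup_nil, and_true, not_false_eq_true]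
    exact ⟨⟨ha12', ha13', dj' _ _ a1t' b1u', dj' _ _ a1t' b2u'⟩,
      ⟨ha23', dj' _ _ a2t' b1u', dj' _ _ a2t' b2u'⟩,
      ⟨dj' _ _ a3t' b1u', dj' _ _ a3t' b2u'⟩, hb12'⟩
  have hld : ∀ a ∈ [a1, a2, a3, b1, b2], a ∈ d := by
    intro a ha
    simp only [List.mem_cons, List.not_mem_nil, or_false] at ha
    rcases ha with ha | ha | ha | ha | ha <;> rw [ha]
    · exact htd a1t
    · exact htd a2t
    · exact htd a3t
    · exact hud b1u
    · exact hud b2u
  have hld' : ∀ a ∈ [a1', a2', a3', b1', b2'], a ∈ d := by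
    intro a ha
    simp only [List.mem_cons, List.not_mem_nil, or_false] at ha
    rcases ha with ha | ha | ha | ha | ha <;> rw [ha]
    · exact htd' a1t'
    · exact htd' a2t'
    · exact htd' a3t'
    · exact hud' b1u'
    · exact hud' b2u'
  obtain ⟨g, hg, hgd, hmap⟩ := dodecad_map_lists hd hl hl' hld hld' rfl (by simp)
  simp only [List.map_cons, List.map_nil, List.cons.injEq, and_true] at hmap
  obtain ⟨g1, g2, g3, g4, g5⟩ := hmap
  have hgt : g • t = t' := by
    rw [hta, hta', Finset.smul_finset_insert, Finset.smul_finset_insert,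
      Finset.smul_finset_singleton, Equiv.Perm.smul_def, Equiv.Perm.smul_def,
      Equiv.Perm.smul_def, g1, g2, g3]
  have hgQ := smul_mem_quartets hg hgd hQ
  have hgu : g • u = u' := by
    have H1 : t' ∪ g • u ∈ hexadsOn d := by
      rw [← hgt, ← Finset.smul_finset_union]
      exact smul_mem_hexadsOn hg hgd Htu
    have hdis : ∀ x, x ∈ t' → x ∉ g • u := by
      intro x hx hxu
      rw [← hgt] at hx
      have hxi : x ∈ g • t ∩ g • u := Finset.mem_inter.mpr ⟨hx, hxu⟩
      rw [← Finset.smul_finset_inter, Finset.disjoint_iff_inter_eq_empty.mp hdisj,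
        Finset.smul_finset_empty] at hxi
      exact absurd hxi (Finset.notMem_empty x)
    have hdis' : ∀ x, x ∈ t' → x ∉ u' := fun x hx => Finset.disjoint_left.mp hdisj' hx
    have h2 : 2 ≤ (g • u ∩ u').card := by
      have hsub : ({b1', b2'} : Finset GolayPt) ⊆ g • u ∩ u' := by
        intro x hx
        simp only [Finset.mem_insert, Finset.mem_singleton] at hx
        rw [Finset.mem_inter]
        rcases hx with hx | hx <;> rw [hx]
        · refine ⟨?_, b1u'⟩
          rw [← g4, ← Equiv.Perm.smul_def]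
          exact Finset.smul_mem_smul_finset b1u
        · refine ⟨?_, b2u'⟩
          rw [← g5, ← Equiv.Perm.smul_def]
          exact Finset.smul_mem_smul_finset b2u
      have := Finset.card_le_card hsub
      rwa [Finset.card_pair hb12'] at this
    exact eq_of_inter_ge H1 Htu' hdis hdis' ht3' h2
  refine ⟨g, hg, hgd, ?_⟩
  apply (huniq t' u' ht3' hu3' hdisj' Htu').unique
  · refine ⟨hgQ, ?_, ?_⟩
    · rw [← hgt]; exact Finset.smul_mem_smul_finset htQ
    · rw [← hgu]; exact Finset.smul_mem_smul_finset huQ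
  · exact ⟨hQ', htQ', huQ'⟩

end Cfsg.Agent.H8Quartet
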