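import Mathlib
import Cfsg.Prelude.Def_FusionReduction
import Cfsg.Agent.Lib.Helper8_PPowerNormal2
import Cfsg.Agent.Lib.Helper8_CentricMeet
import Cfsg.Agent.Lib.Helper7_SemiAct

set_option autoImplicit false
set_option linter.style.haveILetI false
set_option linter.unusedVariables false
open Cfsg

/-!
# Hyperfocal subgroup of a subsystem of `p`-power index; uniqueness of such subsystems
-/

namespace Cfsg.Agent.Lib.Helper8_ResLimit1

open Cfsg.FusionSystem Cfsg.Agent.Lib.Helper8_Fusion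
open Cfsg.Agent.Lib.Helper8_Saturated
open Cfsg.Agent.Lib.Helper8_Alperin
open Cfsg.Agent.Lib.Helper8_Hyperfocal
open Cfsg.Agent.Lib.Helper8_Generating
open Cfsg.Agent.Lib.Helper8_PPowerNormal1
open Cfsg.Agent.Lib.Helper8_PPowerNormal2
open Cfsg.Agent.Lib.Helper8_CentricMeet
open Cfsg.Agent.Lib.Helper3_PResidual
open Cfsg.Agent.Lib.Helper7_SemiAct

variable {Ω : Type*} [Group Ω] {S : Subgroup Ω}

/-- Coprime action: `x⁻¹ α(x) = n⁻¹ α(n)` for some `n ∈ [P, ⟨α⟩]`. -/
theorem exists_commSub_rep {P : Type*} [Group P] [Finite P] {p : ℕ} [Fact p.Prime]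
    (hP : IsPGroup p P) (α : MulAut P) (hα : (orderOf α).Coprime p) (x : P) :
    ∃ n ∈ commSub (Subgroup.zpowers α) (⊤ : Subgroup P), x⁻¹ * α x = n⁻¹ * α n := by
  obtain ⟨k, hk⟩ := IsPGroup.iff_card.mp hP
  have hcop : (Nat.card (Subgroup.zpowers α)).Coprime (Nat.card (⊤ : Subgroup P)) := by
    rw [Nat.card_zpowers, Subgroup.card_top, hk]
    exact Nat.Coprime.pow_right k hα
  have hsolv : Group.IsSolvable (Subgroup.zpowers α) ∨ Group.IsSolvable (⊤ : Subgroup P) := by
    left
    exact Group.isSolvable_of_comm (fun a b => (Subgroup.zpowers_isMulCommutative α).is_comm.comm a b)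
  obtain ⟨n, hn, c, hc, hx⟩ := decomp (A := Subgroup.zpowers α) (⊤ : Subgroup P) inv_top hcop hsolv
    x⁻¹ (Subgroup.mem_top _)
  have hcfix : α c = c := by
    have h1 := (Subgroup.mem_inf.mp hc).2
    exact h1 ⟨α, Subgroup.mem_zpowers α⟩
  refine ⟨n⁻¹, Subgroup.inv_mem _ hn, ?_⟩
  have hx' : x = c⁻¹ * n⁻¹ := by
    have : x = (x⁻¹)⁻¹ := (inv_inv x).symm
    rw [this, hx, mul_inv_rev]
  rw [hx', map_mul, map_inv, hcfix]
  group

/-- The automorphisms of `P` moving every element inside its coset of `H`. -/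
def movesInto (P H : Subgroup Ω) : Subgroup (MulAut P) where
  carrier := {α | ∀ x : P, (x : Ω)⁻¹ * ((α x : P) : Ω) ∈ H}
  one_mem' := by
    intro x
    show (x : Ω)⁻¹ * (x : Ω) ∈ H
    rw [inv_mul_cancel]
    exact H.one_mem
  mul_mem' := by
    intro α β hα hβ x
    have h1 := H.mul_mem (hβ x) (hα (β x))
    have h2 : (x : Ω)⁻¹ * ((β x : P) : Ω) * (((β x : P) : Ω)⁻¹ * ((α (β x) : P) : Ω)) =
        (x : Ω)⁻¹ * ((α (β x) : P) : Ω) := by group
    rw [h2] at h1
    exact h1
  inv_mem' := by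
    intro α hα x
    have h1 := H.inv_mem (hα (α⁻¹ x))
    have h2 : α (α⁻¹ x) = x := MulAut.apply_inv_self _ α x
    rw [h2, mul_inv_rev, inv_inv] at h1
    exact h1

theorem mem_movesInto {P H : Subgroup Ω} {α : MulAut P} :
    α ∈ movesInto P H ↔ ∀ x : P, (x : Ω)⁻¹ * ((α x : P) : Ω) ∈ H := Iff.rfl

/-- If `O^p(B) ≤ A ≤ B` then `O^p(B) ≤ O^p(A)`. -/
theorem pResidual_map_le_of_le {X : Type*} [Group X] (p : ℕ) {A B : Subgroup X}
    (h : (pResidual p B).map B.subtype ≤ A) :
    (pResidual p B).map B.subtype ≤ (pResidual p A).map A.subtype := by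
  rw [Subgroup.map_le_iff_le_comap]
  unfold pResidual
  rw [Subgroup.closure_le]
  intro b hb
  have hb' : (orderOf b).Coprime p := hb
  have hbA : (b : X) ∈ A := h ⟨b, mem_pResidual_of_coprime p b hb', rfl⟩
  refine ⟨⟨b, hbA⟩, ?_, rfl⟩
  apply Subgroup.subset_closure
  show (orderOf (⟨(b : X), hbA⟩ : A)).Coprime p
  rw [Subgroup.orderOf_mk, Subgroup.orderOf_coe]
  exact hb'

/-- The hyperfocal subgroup of a subsystem of `p`-power index over a strongly closed subgroup
is the hyperfocal subgroup of the whole system. -/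
theorem hyperfocal_eq_of_pPowerIndex [Finite S] {p : ℕ} [Fact p.Prime] (hS : IsPGroup p S)
    (F : FusionSystem S) {T : Subgroup Ω} (hTsc : F.StronglyClosed T) (E : FusionSystem T)
    (hEi : E.HasPPowerIndexIn F p) : E.hyperfocalSubgroup p = F.hyperfocalSubgroup p := by
  have hTS := hTsc.1
  apply le_antisymm
  · unfold hyperfocalSubgroup
    rw [Subgroup.closure_le]
    rintro y ⟨P, α, x, hPT, hα, rfl⟩
    have hEF : E.autGroup P ≤ F.autGroup P := autGroup_le_of_subsystem F E hEi.1 P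
    have h1 := pResidual_transport p (E.autGroup P).subtype (fun a => hEF a.2) hα
    exact inv_mul_apply_mem_hyperfocal F p (hPT.trans hTS) h1 x
  · have key : ∀ (P : Subgroup Ω), P ≤ S → (pResidual p (F.autGroup P)).map (F.autGroup P).subtype ≤
        movesInto P (E.hyperfocalSubgroup p) := by
      intro P hPS
      haveI : Finite P := finite_of_le hPS
      rw [Subgroup.map_le_iff_le_comap]
      unfold pResidual
      rw [Subgroup.closure_le]
      intro δ hδ
      have hδ' : (orderOf δ).Coprime p := hδ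
      have hδres : δ ∈ pResidual p (F.autGroup P) := mem_pResidual_of_coprime p δ hδ'
      show (δ : MulAut P) ∈ movesInto P (E.hyperfocalSubgroup p)
      intro x
      obtain ⟨n, hn, hx⟩ := exists_commSub_rep (hS.to_le hPS) (δ : MulAut P)
        (by rw [Subgroup.orderOf_coe]; exact hδ') x
      -- `n` lies in the hyperfocal subgroup of `F`
      have hnH : commSub (Subgroup.zpowers (δ : MulAut P)) (⊤ : Subgroup P) ≤
          (F.hyperfocalSubgroup p).comap P.subtype := by
        unfold commSub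
        rw [Subgroup.closure_le]
        rintro y ⟨⟨a, ha⟩, g, -, rfl⟩
        obtain ⟨k, rfl⟩ := Subgroup.mem_zpowers_iff.mp ha
        have h1 : δ ^ k ∈ pResidual p (F.autGroup P) := Subgroup.zpow_mem _ hδres k
        have h2 := inv_mul_apply_mem_hyperfocal F p hPS h1 g
        show ((g⁻¹ * ((δ : MulAut P) ^ k) g : P) : Ω) ∈ F.hyperfocalSubgroup p
        have h3 : (((δ ^ k : F.autGroup P) : MulAut P)) = (δ : MulAut P) ^ k := by
          simp
        rw [h3] at h2
        exact h2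
      have hnT : (n : Ω) ∈ T := hEi.2.1 (hnH hn)
      -- restriction to `P ⊓ T`
      have hpres : ∀ β ∈ F.autGroup P, ∀ x : P,
          (x : Ω) ∈ P ⊓ T ↔ ((β x : P) : Ω) ∈ P ⊓ T := by
        intro β hβ x
        have h1 := stronglyClosed_mem_iff F hTsc ((mem_autGroup_iff F hPS β).mp hβ) x
        constructor
        · intro hx
          exact Subgroup.mem_inf.mpr ⟨(β x).2, h1.mp (Subgroup.mem_inf.mp hx).2⟩
        · intro hx
          exact Subgroup.mem_inf.mpr ⟨x.2, h1.mpr (Subgroup.mem_inf.mp hx).2⟩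
      have hRP : P ⊓ T ≤ P := inf_le_left
      have hRT : P ⊓ T ≤ T := inf_le_right
      have hres : ∀ a : F.autGroup P,
          resStab hRP (F.autGroup P) hpres a ∈ F.autGroup (P ⊓ T) := by
        intro a
        exact aut_mem_of_extends F hRP ((mem_autGroup_iff F hPS a).mp a.2) (fun x => rfl)
      have h2 := pResidual_transport p (resStab hRP (F.autGroup P) hpres) hres hδres
      have h3 := pResidual_map_le_of_le p (hEi.2.2 (P ⊓ T) hRT) ⟨_, h2, rfl⟩
      obtain ⟨ε, hε, hεeq⟩ := h3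
      have h4 := inv_mul_apply_mem_hyperfocal E p hRT hε ⟨(n : Ω), Subgroup.mem_inf.mpr ⟨n.2, hnT⟩⟩
      have h5 : (ε : MulAut ↥(P ⊓ T)) = resStab hRP (F.autGroup P) hpres δ := hεeq
      rw [h5] at h4
      have h6 : (x : Ω)⁻¹ * (((δ : MulAut P) x : P) : Ω) =
          (n : Ω)⁻¹ * (((δ : MulAut P) n : P) : Ω) := by
        have := congrArg (fun z : P => (z : Ω)) hx
        exact this
      rw [h6]
      exact h4
    unfold hyperfocalSubgroup
    rw [Subgroup.closure_le]
    rintro y ⟨P, α, x, hPS, hα, rfl⟩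
    exact key P hPS ⟨α, hα, rfl⟩ x

/-- A saturated subsystem of `p`-power index is contained in every subsystem of `p`-power index
over the same subgroup. -/
theorem pPowerIndex_le [Finite S] {p : ℕ} [Fact p.Prime] (hS : IsPGroup p S)
    (F : FusionSystem S) {T : Subgroup Ω} (hTS : T ≤ S) (D₁ D₂ : FusionSystem T)
    (h₁s : D₁.IsSaturated p) (h₁ : D₁.HasPPowerIndexIn F p) (h₂ : D₂.HasPPowerIndexIn F p) :
    D₁ ≤ D₂ := by
  haveI : Finite T := finite_of_le hTS
  have hTp : IsPGroup p T := hS.to_le hTS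
  apply alperin hTp D₁ h₁s D₂
  intro P hP α hα
  have hfn := fullyNormalized_of_top_or_essential D₁ hP
  obtain ⟨-, hfa⟩ := fullyNormalized_facts hTp D₁ h₁s hfn
  have hPT : P ≤ T := hfn.1
  obtain ⟨γ, hγ, β', hβ', rfl⟩ := aut_decomp D₁ hfa hα
  apply Subgroup.mul_mem
  · exact autInducedBy_le_autGroup D₂ hPT hγ
  · have hEF : D₁.autGroup P ≤ F.autGroup P := autGroup_le_of_subsystem F D₁ h₁.1 P
    have h1 := pResidual_transport p (D₁.autGroup P).subtype (fun a => hEF a.2) hβ'
    exact h₂.2.2 P hPT ⟨_, h1, rfl⟩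

theorem pPowerIndex_unique [Finite S] {p : ℕ} [Fact p.Prime] (hS : IsPGroup p S)
    (F : FusionSystem S) {T : Subgroup Ω} (hTS : T ≤ S) (D₁ D₂ : FusionSystem T)
    (h₁s : D₁.IsSaturated p) (h₁ : D₁.HasPPowerIndexIn F p)
    (h₂s : D₂.IsSaturated p) (h₂ : D₂.HasPPowerIndexIn F p) : D₁ = D₂ := by
  apply fusionSystem_ext
  intro P
  exact Set.Subset.antisymm (pPowerIndex_le hS F hTS D₁ D₂ h₁s h₁ h₂ P)
    (pPowerIndex_le hS F hTS D₂ D₁ h₂s h₂ h₁ P)

end Cfsg.Agent.Lib.Helper8_ResLimit1
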