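import Mathlib
import Cfsg.Prelude.Def_FusionReduction
import Cfsg.Agent.Lib.Helper8_ResLimit1

set_option autoImplicit false
set_option linter.style.haveILetI false
set_option linter.unusedVariables false
open Cfsg

/-!
# Uniqueness of residual limits
-/

namespace Cfsg.Agent.Lib.Helper8_ResLimit2

open Cfsg.FusionSystem Cfsg.Agent.Lib.Helper8_Fusion
open Cfsg.Agent.Lib.Helper8_Saturated
open Cfsg.Agent.Lib.Helper8_Alperin
open Cfsg.Agent.Lib.Helper8_Hyperfocal
open Cfsg.Agent.Lib.Helper8_Generating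
open Cfsg.Agent.Lib.Helper8_PPowerNormal1
open Cfsg.Agent.Lib.Helper8_ResLimit1
open Cfsg.Agent.Lib.Helper3_PResidual

universe u
variable {Ω : Type u} [Group Ω]

/-- Two fusion systems (over possibly different subgroups) with the same maps. -/
def SameHom {S₁ S₂ : Subgroup Ω} (A : FusionSystem S₁) (B : FusionSystem S₂) : Prop :=
  ∀ P : Subgroup Ω, A.Hom P = B.Hom P

theorem sameHom_refl {S₁ : Subgroup Ω} (A : FusionSystem S₁) : SameHom A A := fun _ => rfl

theorem sameHom_symm {S₁ S₂ : Subgroup Ω} {A : FusionSystem S₁} {B : FusionSystem S₂}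
    (h : SameHom A B) : SameHom B A := fun P => (h P).symm

theorem sameHom_trans {S₁ S₂ S₃ : Subgroup Ω} {A : FusionSystem S₁} {B : FusionSystem S₂}
    {C : FusionSystem S₃} (h : SameHom A B) (h' : SameHom B C) : SameHom A C :=
  fun P => (h P).trans (h' P)

theorem sameHom_base {S₁ S₂ : Subgroup Ω} {A : FusionSystem S₁} {B : FusionSystem S₂}
    (h : SameHom A B) : S₁ = S₂ := by
  apply le_antisymm
  · have h1 : S₁.subtype ∈ A.Hom S₁ := subtype_mem A le_rfl
    rw [h S₁] at h1
    exact (B.le_of_mem h1).1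
  · have h1 : S₂.subtype ∈ B.Hom S₂ := subtype_mem B le_rfl
    rw [← h S₂] at h1
    exact (A.le_of_mem h1).1

/-- Every property transfers along `SameHom`. -/
theorem sameHom_elim {S₁ S₂ : Subgroup Ω} {A : FusionSystem S₁} {B : FusionSystem S₂}
    (h : SameHom A B) (motive : ∀ {S' : Subgroup Ω}, FusionSystem S' → Prop) (hA : motive A) :
    motive B := by
  have hS := sameHom_base h
  subst hS
  have := fusionSystem_ext h
  subst this
  exact hA

theorem pPrimeResidual_unique {S : Subgroup Ω} (F : FusionSystem S) (p : ℕ)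
    {D₁ D₂ : FusionSystem S} (h₁ : F.IsPPrimeResidual p D₁) (h₂ : F.IsPPrimeResidual p D₂) :
    D₁ = D₂ := by
  apply fusionSystem_ext
  intro P
  exact Set.Subset.antisymm (h₁.2.2 D₂ h₂.1 h₂.2.1 P) (h₂.2.2 D₁ h₁.1 h₁.2.1 P)

theorem limit_cases {V S : Subgroup Ω} {Einf : FusionSystem V} {F : FusionSystem S} {p : ℕ}
    (h : IsResidualLimitOf Einf F p) :
    (SameHom Einf F ∧ F.hyperfocalSubgroup p = S ∧ F.IsPPrimeResidual p F) ∨
      ∃ D D' : FusionSystem (F.hyperfocalSubgroup p), F.IsPResidual p D ∧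
        D.IsPPrimeResidual p D' ∧ IsResidualLimitOf Einf D' p := by
  cases h with
  | stable _ _ h1 h2 => exact Or.inl ⟨fun _ => rfl, h1, h2⟩
  | step _ _ D D' h1 h2 h3 => exact Or.inr ⟨D, D', h1, h2, h3⟩

theorem self_pPowerIndex {S : Subgroup Ω} (F : FusionSystem S) (p : ℕ) :
    F.HasPPowerIndexIn F p := by
  refine ⟨fun P => le_rfl, hyperfocal_le F p, ?_⟩
  intro P hP
  rintro _ ⟨a, -, rfl⟩
  exact a.2

theorem stable_step_aux {p : ℕ} [Fact p.Prime] {S : Subgroup Ω} [Finite S] (hS : IsPGroup p S)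
    (F : FusionSystem S) (hF : F.IsSaturated p) (hres : F.IsPPrimeResidual p F)
    (T : Subgroup Ω) (hT : T = S) (D₀ D₀' : FusionSystem T) (hDs : D₀.IsSaturated p)
    (hDi : D₀.HasPPowerIndexIn F p) (hD' : D₀.IsPPrimeResidual p D₀') : SameHom D₀' F := by
  subst hT
  have h1 : D₀ = F := pPowerIndex_unique hS F le_rfl D₀ F hDs hDi hF (self_pPowerIndex F p)
  subst h1
  have h2 : D₀' = D₀ := pPrimeResidual_unique D₀ p hD' hres
  subst h2
  exact sameHom_refl _

theorem stable_step {p : ℕ} [Fact p.Prime] {S : Subgroup Ω} [Finite S] (hS : IsPGroup p S)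
    (F : FusionSystem S) (hF : F.IsSaturated p) (hhyp : F.hyperfocalSubgroup p = S)
    (hres : F.IsPPrimeResidual p F) (D D' : FusionSystem (F.hyperfocalSubgroup p))
    (hD : F.IsPResidual p D) (hD' : D.IsPPrimeResidual p D') : SameHom D' F :=
  stable_step_aux hS F hF hres _ hhyp D D' hD.1 hD.2 hD'

/-- Every residual limit of a system with the same maps as a stable system `F` has the same maps
as `F`. -/
theorem limit_of_stable {V S' : Subgroup Ω} {Finf : FusionSystem V} {F' : FusionSystem S'} {p : ℕ}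
    (hlim : IsResidualLimitOf Finf F' p) :
    ∀ [Fact p.Prime] {S : Subgroup Ω} [Finite S], IsPGroup p S → ∀ (F : FusionSystem S),
      F.IsSaturated p → F.hyperfocalSubgroup p = S → F.IsPPrimeResidual p F →
      SameHom F' F → SameHom Finf F := by
  induction hlim with
  | stable F' p h1 h2 =>
    intro _ S _ hS F hF hhyp hres h
    exact h
  | step F' p D D' hD hD' hlim ih =>
    intro _ S _ hS F hF hhyp hres h
    apply ih hS F hF hhyp hres
    have hS' := sameHom_base h
    subst hS'
    have hFF := fusionSystem_ext h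
    subst hFF
    exact stable_step hS F' hF hhyp hres D D' hD hD'

/-- **Uniqueness of the residual limit.** -/
theorem limit_unique {U S : Subgroup Ω} {Finf₁ : FusionSystem U} {F : FusionSystem S} {p : ℕ}
    (hlim : IsResidualLimitOf Finf₁ F p) :
    ∀ [Fact p.Prime] [Finite S], IsPGroup p S → F.IsSaturated p →
      ∀ {V : Subgroup Ω} (Finf₂ : FusionSystem V), IsResidualLimitOf Finf₂ F p →
        SameHom Finf₁ Finf₂ := by
  induction hlim with
  | stable F p h1 h2 =>
    intro _ _ hS hF V Finf₂ hlim₂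
    exact sameHom_symm (limit_of_stable hlim₂ hS F hF h1 h2 (sameHom_refl F))
  | step F p D D' hD hD' hlim ih =>
    intro _ _ hS hF V Finf₂ hlim₂
    rcases limit_cases hlim₂ with ⟨hsame, h1, h2⟩ | ⟨D₂, D'₂, hD₂, hD'₂, hlim₂'⟩
    · have h3 := limit_of_stable (IsResidualLimitOf.step F p D D' hD hD' hlim) hS F hF h1 h2
        (sameHom_refl F)
      exact sameHom_trans h3 (sameHom_symm hsame)
    · have hTS : F.hyperfocalSubgroup p ≤ _ := hyperfocal_le F p
      have h3 : D = D₂ := pPowerIndex_unique hS F hTS D D₂ hD.1 hD.2 hD₂.1 hD₂.2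
      subst h3
      have h4 : D' = D'₂ := pPrimeResidual_unique D p hD' hD'₂
      subst h4
      haveI : Finite ↥(F.hyperfocalSubgroup p) := finite_of_le hTS
      exact ih (hS.to_le hTS) hD'.1 Finf₂ hlim₂'

theorem limit_unique' {p : ℕ} [Fact p.Prime] {S₁ S₂ : Subgroup Ω} [Finite S₁]
    (hS₁ : IsPGroup p S₁) {F₁ : FusionSystem S₁} {F₂ : FusionSystem S₂} (hF₁ : F₁.IsSaturated p)
    (h : SameHom F₁ F₂) {U V : Subgroup Ω} {Finf₁ : FusionSystem U} {Finf₂ : FusionSystem V}
    (h₁ : IsResidualLimitOf Finf₁ F₁ p) (h₂ : IsResidualLimitOf Finf₂ F₂ p) :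
    SameHom Finf₁ Finf₂ := by
  have hT := sameHom_base h
  subst hT
  have hFF := fusionSystem_ext h
  subst hFF
  exact limit_unique h₁ hS₁ hF₁ Finf₂ h₂

theorem pPrimeResidual_sameHom {p : ℕ} {T₁ T₂ : Subgroup Ω} {D₁ : FusionSystem T₁}
    {D₂ : FusionSystem T₂} (h : SameHom D₁ D₂) {D₁' : FusionSystem T₁} {D₂' : FusionSystem T₂}
    (h₁ : D₁.IsPPrimeResidual p D₁') (h₂ : D₂.IsPPrimeResidual p D₂') : SameHom D₁' D₂' := by
  have hT := sameHom_base h
  subst hT
  have hDD := fusionSystem_ext h
  subst hDD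
  have h3 := pPrimeResidual_unique D₁ p h₁ h₂
  subst h3
  exact sameHom_refl _

/-- The `p`-residual subsystems of `F` and of a subsystem of `p`-power index over a strongly
closed subgroup have the same maps. -/
theorem pResidual_sameHom {p : ℕ} [Fact p.Prime] {S : Subgroup Ω} [Finite S] (hS : IsPGroup p S)
    (F : FusionSystem S) {T : Subgroup Ω} (E : FusionSystem T) (hTsc : F.StronglyClosed T)
    (hEi : E.HasPPowerIndexIn F p) (DE : FusionSystem (E.hyperfocalSubgroup p))
    (hDE : E.IsPResidual p DE) (DF : FusionSystem (F.hyperfocalSubgroup p))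
    (hDF : F.IsPResidual p DF) : SameHom DE DF := by
  have hhyp := hyperfocal_eq_of_pPowerIndex hS F hTsc E hEi
  have hDEF : DE.HasPPowerIndexIn F p := by
    refine ⟨fun P => (hDE.2.1 P).trans (hEi.1 P), hhyp.ge, ?_⟩
    intro P hP
    have hPT : P ≤ T := hP.trans (hyperfocal_le E p)
    exact (pResidual_map_le_of_le p (hEi.2.2 P hPT)).trans (hDE.2.2.2 P hP)
  have key : ∀ (T' : Subgroup Ω) (hT' : T' = F.hyperfocalSubgroup p) (D : FusionSystem T'),
      D.IsSaturated p → D.HasPPowerIndexIn F p → SameHom D DF := by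
    intro T' hT'
    subst hT'
    intro D hDs hDi
    have h1 : D = DF := pPowerIndex_unique hS F (hyperfocal_le F p) D DF hDs hDi hDF.1 hDF.2
    subst h1
    exact sameHom_refl _
  exact key _ hhyp DE hDE.1 hDEF

/-- **Residual limits of a normal subsystem of `p`-power index.** -/
theorem residualLimit_of_pPowerIndex {p : ℕ} [Fact p.Prime] {S : Subgroup Ω} [Finite S]
    (hS : IsPGroup p S) (F : FusionSystem S) (hF : F.IsSaturated p) {T : Subgroup Ω}
    (E : FusionSystem T) (hEs : E.IsSaturated p) (hTsc : F.StronglyClosed T)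
    (hidx : E.HasPPowerIndexIn F p) {U V : Subgroup Ω} (Finf : FusionSystem U)
    (hFinf : Finf.IsResidualLimitOf F p) (Einf : FusionSystem V)
    (hEinf : Einf.IsResidualLimitOf E p) : SameHom Finf Einf := by
  have hTS := hTsc.1
  haveI : Finite T := finite_of_le hTS
  have hTp := hS.to_le hTS
  rcases limit_cases hFinf with ⟨hsameF, hF1, hF2⟩ | ⟨DF, DF', hDF, hDF', hlimF⟩
  · have hTeq : T = S := le_antisymm hTS (hF1 ▸ hidx.2.1)
    have hEF : SameHom E F := by
      have key : ∀ (T : Subgroup Ω) (hT : T = S) (E : FusionSystem T), E.IsSaturated p →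
          E.HasPPowerIndexIn F p → SameHom E F := by
        intro T hT
        subst hT
        intro E hEs hEi
        have h1 := pPowerIndex_unique hS F le_rfl E F hEs hEi hF (self_pPowerIndex F p)
        subst h1
        exact sameHom_refl _
      exact key T hTeq E hEs hidx
    have h1 := limit_of_stable hEinf hS F hF hF1 hF2 hEF
    exact sameHom_trans hsameF (sameHom_symm h1)
  · rcases limit_cases hEinf with ⟨hsameE, hE1, hE2⟩ | ⟨DE, DE', hDE, hDE', hlimE⟩
    · have hhyp := hyperfocal_eq_of_pPowerIndex hS F hTsc E hidx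
      have hT' : F.hyperfocalSubgroup p = T := hhyp ▸ hE1
      have h1 : SameHom DF E := by
        have key : ∀ (T' : Subgroup Ω) (hT' : T' = T) (D : FusionSystem T'), D.IsSaturated p →
            D.HasPPowerIndexIn F p → SameHom D E := by
          intro T' hT'
          subst hT'
          intro D hDs hDi
          have h1 := pPowerIndex_unique hS F hTS D E hDs hDi hEs hidx
          subst h1
          exact sameHom_refl _
        exact key _ hT' DF hDF.1 hDF.2
      have h2 : SameHom DF' E := pPrimeResidual_sameHom h1 hDF' hE2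
      have h3 := limit_of_stable hlimF hTp E hEs hE1 hE2 h2
      exact sameHom_trans h3 (sameHom_symm hsameE)
    · have h1 : SameHom DE DF := pResidual_sameHom hS F E hTsc hidx DE hDE DF hDF
      have h2 : SameHom DE' DF' := pPrimeResidual_sameHom h1 hDE' hDF'
      have hle : E.hyperfocalSubgroup p ≤ S := (hyperfocal_le E p).trans hTS
      haveI : Finite ↥(E.hyperfocalSubgroup p) := finite_of_le hle
      have h3 := limit_unique' (hS.to_le hle) hDE'.1 h2 hlimE hlimF
      exact sameHom_symm h3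

end Cfsg.Agent.Lib.Helper8_ResLimit2
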