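import Mathlib

set_option autoImplicit false
set_option linter.unusedVariables false
set_option linter.style.haveILetI false

/-!
# Rigidity: automorphisms fixing a Sylow subgroup of a group of characteristic `p`
-/

namespace Cfsg.Agent.Lib.Helper8_Rigidity

/-- If `Q ≤ T` is a normal subgroup of the finite group `G` with `C_G(Q) ≤ Q`, `T` a Sylow
`p`-subgroup, then every automorphism of `G` fixing `T` elementwise is conjugation by an element of
the centre of `T`. -/
theorem aut_eq_conj_of_fix_sylow {G : Type*} [Group G] [Finite G] {p : ℕ} [Fact p.Prime]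
    (T : Sylow p G) (Q : Subgroup G) [hQn : Q.Normal] (hQT : Q ≤ (T : Subgroup G))
    (hC : Subgroup.centralizer (Q : Set G) ≤ Q)
    (ψ : G ≃* G) (hψ : ∀ s ∈ (T : Subgroup G), ψ s = s) :
    ∃ w ∈ (T : Subgroup G), (∀ s ∈ (T : Subgroup G), w * s = s * w) ∧
      ∀ g, ψ g = w * g * w⁻¹ := by
  classical
  obtain ⟨M, hM⟩ : ∃ M : Subgroup G, M = Subgroup.centralizer (Q : Set G) := ⟨_, rfl⟩
  haveI hMn : M.Normal := by rw [hM]; infer_instance
  have hMQ : M ≤ Q := by rw [hM]; exact hC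
  have hMmem : ∀ a, a ∈ M ↔ ∀ x ∈ Q, x * a = a * x := by
    intro a; rw [hM]; exact Subgroup.mem_centralizer_iff
  have hMcomm : ∀ a ∈ M, ∀ b ∈ M, a * b = b * a := by
    intro a ha b hb
    exact ((hMmem a).mp ha b (hMQ hb)).symm
  letI : CommGroup M :=
    { (inferInstance : Group M) with
      mul_comm := fun a b => Subtype.ext (hMcomm a a.2 b b.2) }
  have hMp : IsPGroup p M := T.isPGroup'.to_le (hMQ.trans hQT)
  -- the cocycle
  have hymem : ∀ g : G, ψ g * g⁻¹ ∈ M := by
    intro g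
    rw [hMmem]
    intro x hx
    have h1 : g⁻¹ * x * g ∈ Q := by
      have := hQn.conj_mem x hx g⁻¹
      rwa [inv_inv] at this
    have h2 := hψ _ (hQT h1)
    rw [map_mul, map_mul, map_inv, hψ x (hQT hx)] at h2
    calc x * (ψ g * g⁻¹) = ψ g * ((ψ g)⁻¹ * x * ψ g) * g⁻¹ := by group
      _ = ψ g * (g⁻¹ * x * g) * g⁻¹ := by rw [h2]
      _ = ψ g * g⁻¹ * x := by group
  obtain ⟨y, hy⟩ : ∃ y : G → M, ∀ g, ((y g : M) : G) = ψ g * g⁻¹ :=
    ⟨fun g => ⟨ψ g * g⁻¹, hymem g⟩, fun g => rfl⟩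
  have hy_mul : ∀ g h : G, y (g * h) = y g * MulAut.conjNormal g (y h) := by
    intro g h
    apply Subtype.ext
    rw [Subgroup.coe_mul, MulAut.conjNormal_apply, hy, hy, hy, map_mul]
    group
  have hyT : ∀ s ∈ (T : Subgroup G), y s = 1 := by
    intro s hs
    apply Subtype.ext
    rw [hy, hψ s hs, mul_inv_cancel]
    rfl
  have hy_coset : ∀ g : G, ∀ s ∈ (T : Subgroup G), y (g * s) = y g := by
    intro g s hs
    rw [hy_mul, hyT s hs, map_one, mul_one]
  -- the function on cosets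
  obtain ⟨Y, hY⟩ : ∃ Y : G ⧸ (T : Subgroup G) → M, ∀ g : G, Y (g : G ⧸ (T : Subgroup G)) = y g := by
    refine ⟨fun q => Quotient.liftOn' q y ?_, fun g => rfl⟩
    intro a b hab
    rw [QuotientGroup.leftRel_apply] at hab
    have : b = a * (a⁻¹ * b) := by group
    rw [this, hy_coset a _ hab]
  haveI : Fintype (G ⧸ (T : Subgroup G)) := Fintype.ofFinite _
  obtain ⟨v, hv⟩ : ∃ v : M, v = ∏ q : G ⧸ (T : Subgroup G), Y q := ⟨_, rfl⟩
  obtain ⟨n, hn⟩ : ∃ n : ℕ, n = Fintype.card (G ⧸ (T : Subgroup G)) := ⟨_, rfl⟩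
  have hkey : ∀ g : G, MulAut.conjNormal g v = (y g)⁻¹ ^ n * v := by
    intro g
    rw [hv, map_prod]
    have h1 : ∀ q : G ⧸ (T : Subgroup G), MulAut.conjNormal g (Y q) = (y g)⁻¹ * Y (g • q) := by
      intro q
      induction q using QuotientGroup.induction_on with
      | H h =>
        have : (g • (h : G ⧸ (T : Subgroup G))) = ((g * h : G) : G ⧸ (T : Subgroup G)) := rfl
        rw [this, hY, hY, hy_mul]
        group
    simp_rw [h1]
    rw [Finset.prod_mul_distrib, Finset.prod_const, Finset.card_univ, ← hn]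
    congr 1
    exact Equiv.prod_comp (MulAction.toPerm g : Equiv.Perm (G ⧸ (T : Subgroup G))) Y
  -- the index is prime to `p`
  have hnidx : n = (T : Subgroup G).index := by
    rw [hn, Subgroup.index, Nat.card_eq_fintype_card]
  have hcop : (Nat.card M).Coprime n := by
    obtain ⟨a, ha⟩ := IsPGroup.iff_card.mp hMp
    rw [ha, hnidx]
    apply Nat.Coprime.pow_left
    rw [Nat.Prime.coprime_iff_not_dvd Fact.out]
    exact T.not_dvd_index
  obtain ⟨w, hw⟩ : ∃ w : M, w ^ n = v := ⟨(powCoprime hcop).symm v, by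
    have := (powCoprime hcop).apply_symm_apply v
    simpa using this⟩
  have hyw : ∀ g : G, y g = w * (MulAut.conjNormal g w)⁻¹ := by
    intro g
    apply (powCoprime hcop).injective
    show (y g) ^ n = (w * (MulAut.conjNormal g w)⁻¹) ^ n
    rw [mul_pow, inv_pow, ← map_pow, hw, hkey g]
    rw [mul_inv, inv_pow, inv_inv]
    rw [mul_comm ((y g) ^ n), ← mul_assoc, mul_inv_cancel, one_mul]
  have hwT : (w : G) ∈ (T : Subgroup G) := hQT (hMQ w.2)
  have hconj : ∀ g, ψ g = (w : G) * g * (w : G)⁻¹ := by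
    intro g
    have h1 := congrArg (fun m : M => (m : G)) (hyw g)
    simp only [Subgroup.coe_mul, Subgroup.coe_inv, MulAut.conjNormal_apply] at h1
    rw [hy] at h1
    calc ψ g = (ψ g * g⁻¹) * g := by group
      _ = ((w : G) * ((g * (w : G) * g⁻¹))⁻¹) * g := by rw [h1]
      _ = (w : G) * g * (w : G)⁻¹ := by group
  refine ⟨(w : G), hwT, ?_, hconj⟩
  intro s hs
  have h1 := hconj s
  rw [hψ s hs] at h1
  calc (w : G) * s = ((w : G) * s * (w : G)⁻¹) * (w : G) := by group
    _ = s * (w : G) := by rw [← h1]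

end Cfsg.Agent.Lib.Helper8_Rigidity
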