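import Mathlib
import Cfsg.Prelude.Def_RootSubgroups
import Cfsg.Agent.Lib.Helper8_RankOne
import Cfsg.Agent.Lib.Helper8_RootBase
import Cfsg.Agent.S5024
import Cfsg.Agent.S5025
import Cfsg.Agent.S5028

set_option autoImplicit false
set_option linter.unusedVariables false
set_option linter.unusedSimpArgs false
set_option linter.style.haveILetI false
set_option linter.unusedSectionVars false
open Cfsg

/-!
# Lines in sets of abstract root subgroups
-/

namespace Cfsg.Agent.Lib.Helper8_RootLine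

open Cfsg.Agent.Lib.Helper8_RankOne Cfsg.Agent.Lib.Helper8_RootBase
open scoped commutatorElement

variable {G : Type*} [Group G]

theorem mem_sup_of_commute {A B : Subgroup G} (hc : ∀ a ∈ A, ∀ b ∈ B, a * b = b * a) {g : G}
    (hg : g ∈ A ⊔ B) : ∃ a ∈ A, ∃ b ∈ B, g = a * b := by
  rw [Subgroup.sup_eq_closure] at hg
  induction hg using Subgroup.closure_induction with
  | mem x hx =>
    rcases hx with hx | hx
    · exact ⟨x, hx, 1, B.one_mem, (mul_one x).symm⟩
    · exact ⟨1, A.one_mem, x, hx, (one_mul x).symm⟩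
  | one => exact ⟨1, A.one_mem, 1, B.one_mem, (mul_one 1).symm⟩
  | mul x y _ _ hx hy =>
    obtain ⟨a, ha, b, hb, rfl⟩ := hx
    obtain ⟨a', ha', b', hb', rfl⟩ := hy
    refine ⟨a * a', A.mul_mem ha ha', b * b', B.mul_mem hb hb', ?_⟩
    calc a * b * (a' * b') = a * (b * a') * b' := by group
      _ = a * (a' * b) * b' := by rw [hc a' ha' b hb]
      _ = a * a' * (b * b') := by group
  | inv x _ hx =>
    obtain ⟨a, ha, b, hb, rfl⟩ := hx
    refine ⟨a⁻¹, A.inv_mem ha, b⁻¹, B.inv_mem hb, ?_⟩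
    rw [mul_inv_rev, hc a⁻¹ (A.inv_mem ha) b⁻¹ (B.inv_mem hb)]

variable {S : Set (Subgroup G)}

/-- Symmetry of the commutator case. -/
theorem commCase_symm {A B : Subgroup G} (h : Cfsg.RootCommutatorCase S A B) :
    Cfsg.RootCommutatorCase S B A := by
  obtain ⟨hC, hcen, hg1, hg2⟩ := h
  have hinv : ∀ (X : Set G) (φ ψ : G → G), (∀ x, ψ x = (φ x)⁻¹) →
      Subgroup.closure (ψ '' X) = Subgroup.closure (φ '' X) := by
    intro X φ ψ hφ
    have : ψ '' X = (φ '' X)⁻¹ := by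
      ext y
      constructor
      · rintro ⟨x, hx, rfl⟩
        rw [Set.mem_inv, hφ, inv_inv]
        exact ⟨x, hx, rfl⟩
      · intro hy
        rw [Set.mem_inv] at hy
        obtain ⟨x, hx, e⟩ := hy
        exact ⟨x, hx, by rw [hφ, e, inv_inv]⟩
    rw [this, Subgroup.closure_inv]
  refine ⟨by rw [Subgroup.commutator_comm]; exact hC, ?_, ?_, ?_⟩
  · intro c hc x hx
    rw [Subgroup.commutator_comm] at hc
    rw [sup_comm] at hx
    exact hcen c hc x hx
  · intro b hb hb1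
    rw [Subgroup.commutator_comm B A, ← hg2 b hb hb1]
    apply hinv
    intro a; group
  · intro a ha ha1
    rw [Subgroup.commutator_comm B A, ← hg1 a ha ha1]
    apply hinv
    intro b; group

/-- A pair of members whose commutator is a member is in the commutator case. -/
theorem commCase_of_mem (hS : Cfsg.IsRootSubgroupSet S) {A B : Subgroup G} (hA : A ∈ S)
    (hB : B ∈ S) (hC : ⁅A, B⁆ ∈ S) : Cfsg.RootCommutatorCase S A B := by
  rcases hS.pair A hA B hB with h0 | h1 | h2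
  · exact absurd h0 (hS.ne_bot _ hC)
  · exact absurd hC (commutator_not_mem hS hA hB h1)
  · exact h2

section Line

variable (hS : Cfsg.IsRootSubgroupSet S) {A B E : Subgroup G} (hA : A ∈ S) (hB : B ∈ S)
  (hE : E ∈ S) (hAE : Cfsg.IsRankOnePair A E) (hcc : Cfsg.RootCommutatorCase S A B)
include hS hA hB hE hAE hcc

/-- `A` is not the commutator subgroup. -/
theorem ne_commutator : A ≠ ⁅A, B⁆ := by
  intro e
  obtain ⟨hC, hcen, _, _⟩ := hcc
  apply hS.ne_bot _ hC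
  rw [Subgroup.commutator_eq_bot_iff_le_centralizer]
  intro a ha
  rw [Subgroup.mem_centralizer_iff]
  intro b hb
  have ha' : a ∈ ⁅A, B⁆ := by rw [← e]; exact ha
  exact (hcen a ha' b (Subgroup.mem_sup_right hb)).symm

theorem inf_commutator_eq_bot : A ⊓ ⁅A, B⁆ = ⊥ := by
  rcases Cfsg.Agent.S5028.result hS (not_isolated_of_partner hA hE hAE) hA _ hcc.1 with h | h
  · exact h
  · exact absurd h (ne_commutator hS hA hB hE hAE hcc)

/-- `C_B(a) = 1` for non-identity `a ∈ A`. -/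
theorem centralizer_trivial {a b : G} (ha : a ∈ A) (ha1 : a ≠ 1) (hb : b ∈ B)
    (hab : a * b * a⁻¹ * b⁻¹ = 1) : b = 1 := by
  by_contra hb1
  obtain ⟨hC, hcen, hg1, hg2⟩ := hcc
  have hcomm : b * a * b⁻¹ = a := by
    have : b * a * b⁻¹ = (a * b * a⁻¹ * b⁻¹)⁻¹ * a := by group
    rw [this, hab, inv_one, one_mul]
  have hmem : a ∈ Cfsg.conjBy A b := by
    have := conj_mem_conjBy A b ha
    rwa [hcomm] at this
  have hAb : A = Cfsg.conjBy A b :=
    Cfsg.Agent.S5028.eq_of_mem_inf hS hA hE hAE (hS.conj_mem A hA b) ha hmem ha1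
  have hle : ⁅A, B⁆ ≤ A := by
    rw [← hg2 b hb hb1, Subgroup.closure_le]
    rintro x ⟨a', ha', rfl⟩
    have h1 : b * a'⁻¹ * b⁻¹ ∈ A := by
      rw [hAb]; exact conj_mem_conjBy A b (A.inv_mem ha')
    have : a' * b * a'⁻¹ * b⁻¹ = a' * (b * a'⁻¹ * b⁻¹) := by group
    show a' * b * a'⁻¹ * b⁻¹ ∈ A
    rw [this]; exact A.mul_mem ha' h1
  have hne := hS.ne_bot _ hC
  obtain ⟨c, hc1⟩ := (Subgroup.ne_bot_iff_exists_ne_one).mp hne
  have hAC : A = ⁅A, B⁆ :=
    Cfsg.Agent.S5028.eq_of_mem_inf hS hA hE hAE hC (hle c.2) c.2 (fun e => hc1 (Subtype.ext e))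
  exact ne_commutator hS hA hB hE hAE ⟨hC, hcen, hg1, hg2⟩ hAC

/-- The conjugate of `a` by `b ∈ B` realizes any translate `c * a` with `c ∈ ⁅A, B⁆`. -/
theorem exists_conj_eq {a : G} (ha : a ∈ A) (ha1 : a ≠ 1) {c : G} (hc : c ∈ ⁅A, B⁆) :
    ∃ b ∈ B, b * a * b⁻¹ = c * a := by
  obtain ⟨hC, hcen, hg1, hg2⟩ := hcc
  obtain ⟨b, hb, e⟩ := exists_cm_right hcen ha (hg1 a ha ha1) c⁻¹ (inv_mem hc)
  refine ⟨b, hb, ?_⟩
  have : b * a * b⁻¹ = (a * b * a⁻¹ * b⁻¹)⁻¹ * a := by group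
  rw [this, e, inv_inv]

theorem conj_le_sup {b : G} (hb : b ∈ B) : Cfsg.conjBy A b ≤ A ⊔ ⁅A, B⁆ := by
  intro y hy
  rw [mem_conjBy] at hy
  have : y = (b * (b⁻¹ * y * b) * b⁻¹ * (b⁻¹ * y * b)⁻¹) * (b⁻¹ * y * b) := by group
  rw [this]
  apply Subgroup.mul_mem _ (Subgroup.mem_sup_right _) (Subgroup.mem_sup_left hy)
  have h1 := cm_mem (A := A) (B := B) hy hb
  have h2 : b * (b⁻¹ * y * b) * b⁻¹ * (b⁻¹ * y * b)⁻¹ =
      ((b⁻¹ * y * b) * b * (b⁻¹ * y * b)⁻¹ * b⁻¹)⁻¹ := by group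
  rw [h2]; exact inv_mem h1

/-- No non-identity element of the commutator subgroup centralizes the partner `E`. -/
theorem not_centralizes_partner {c : G} (hc : c ∈ ⁅A, B⁆) (hc1 : c ≠ 1) :
    ¬ (∀ e ∈ E, c * e = e * c) := by
  intro hce
  obtain ⟨a, ha, ha1⟩ := exists_left_ne_one hAE
  obtain ⟨b, hb, e⟩ := exists_conj_eq hS hA hB hE hAE hcc ha ha1 hc
  have hz : c ∈ Subgroup.centralizer ((A ⊔ E : Subgroup G) : Set G) := by
    have hle : A ⊔ E ≤ Subgroup.centralizer ({c} : Set G) := by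
      apply sup_le
      · intro a' ha'
        rw [Subgroup.mem_centralizer_iff]
        intro x hx
        rw [Set.mem_singleton_iff] at hx
        rw [hx]
        exact hcc.2.1 c hc a' (Subgroup.mem_sup_left ha')
      · intro e' he'
        rw [Subgroup.mem_centralizer_iff]
        intro x hx
        rw [Set.mem_singleton_iff] at hx
        rw [hx]
        exact hce e' he'
    rw [Subgroup.mem_centralizer_iff]
    intro x hx
    have := hle hx
    rw [Subgroup.mem_centralizer_iff] at this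
    exact (this c rfl).symm
  have hroot : c * a ∈ Cfsg.rootElements S := by
    rw [← e]
    exact mem_rootElements (hS.conj_mem A hA b) (conj_mem_conjBy A b ha) (conjBy_ne_one ha1)
  exact Cfsg.Agent.S5025.result hS hA ⟨hE, hAE⟩ hz hc1 a ha ha1 hroot


omit hS hA hB hE hAE hcc in
/-- If `t f ∈ E` with `f` commuting with `E` then `t` commutes with `E`. -/
theorem commutes_of_mul_mem {E : Subgroup G} (hEc : IsMulCommutative E) {t f : G} (htf : t * f ∈ E)
    (hf : ∀ e ∈ E, f * e = e * f) : ∀ e ∈ E, t * e = e * t := by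
  intro e he
  have h1 := comm_of_isMulCommutative hEc htf he
  have h2 := hf e he
  calc t * e = t * (f * e) * f⁻¹ := by rw [h2]; group
    _ = (t * f * e) * f⁻¹ := by group
    _ = (e * (t * f)) * f⁻¹ := by rw [h1]
    _ = e * t := by group

/-- A member of `S` inside the commutator subgroup equals it. -/
theorem eq_commutator_of_le {T : Subgroup G} (hT : T ∈ S) (hTle : T ≤ ⁅A, B⁆) : T = ⁅A, B⁆ := by
  have hC := hcc.1
  have hEc := hS.commutative E hE
  obtain ⟨t, ht1⟩ := (Subgroup.ne_bot_iff_exists_ne_one).mp (hS.ne_bot T hT)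
  have ht : (t : G) ∈ T := t.2
  have ht1' : (t : G) ≠ 1 := fun e => ht1 (Subtype.ext e)
  have htC : (t : G) ∈ ⁅A, B⁆ := hTle ht
  have hnc := not_centralizes_partner hS hA hB hE hAE hcc htC ht1'
  -- T and E do not commute
  have hTE0 : ⁅T, E⁆ ≠ ⊥ := by
    intro h0
    apply hnc
    intro e he
    have := Subgroup.commutator_eq_bot_iff_le_centralizer.mp h0 ht
    rw [Subgroup.mem_centralizer_iff] at this
    exact (this e he).symm
  have hCE0 : ⁅⁅A, B⁆, E⁆ ≠ ⊥ := by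
    intro h0
    apply hnc
    intro e he
    have := Subgroup.commutator_eq_bot_iff_le_centralizer.mp h0 htC
    rw [Subgroup.mem_centralizer_iff] at this
    exact (this e he).symm
  rcases hS.pair _ hC E hE with h0 | hCE | hCE
  · exact absurd h0 hCE0
  · -- (C, E) rank one
    rcases hS.pair T hT E hE with h0 | hTE | hTE
    · exact absurd h0 hTE0
    · have h1 := Cfsg.Agent.S5024.mem_unipotent_of_le hS hT hE hTE hC hCE
        (le_trans hTle le_sup_left) le_sup_right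
      by_contra hne
      have h2 := rankOnePair_of_mem_unipotent hCE h1 (left_mem_unipotent _ E) hne
      exact ht1' (inf_eq_one h2 ht htC)
    · exfalso
      obtain ⟨e, he, he1, ee⟩ := hCE.cond_left t htC ht1'
      have h1 : e⁻¹ * t * e ∈ Cfsg.conjBy ⁅A, B⁆ e⁻¹ := by
        have := conj_mem_conjBy ⁅A, B⁆ e⁻¹ htC
        rwa [inv_inv] at this
      rw [ee, mem_conjBy, inv_inv] at h1
      have hf : e⁻¹ * t * e⁻¹⁻¹ * (t : G)⁻¹ ∈ ⁅T, E⁆ := by
        rw [Subgroup.commutator_comm]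
        exact cm_mem (E.inv_mem he) ht
      have htf : (t : G) * (e⁻¹ * t * e⁻¹⁻¹ * (t : G)⁻¹) ∈ E := by
        have : (t : G) * (e⁻¹ * t * e⁻¹⁻¹ * (t : G)⁻¹) = t * (e⁻¹ * t * e) * (t : G)⁻¹ := by group
        rw [this]; exact h1
      apply hnc
      apply commutes_of_mul_mem hEc htf
      intro e' he'
      exact hTE.2.1 _ hf e' (Subgroup.mem_sup_right he')
  · -- (C, E) commutator case
    rcases hS.pair T hT E hE with h0 | hTE | hTE
    · exact absurd h0 hTE0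
    · exfalso
      apply not_commutator_central hTE
      intro c hc x hx
      have hc' : c ∈ ⁅⁅A, B⁆, E⁆ := Subgroup.commutator_mono hTle le_rfl hc
      have hx' : x ∈ ⁅A, B⁆ ⊔ E := (sup_le_sup_right hTle E) hx
      exact hCE.2.1 c hc' x hx'
    · -- both commutator cases
      have hF : ⁅T, E⁆ = ⁅⁅A, B⁆, E⁆ := by
        rw [← hTE.2.2.1 t ht ht1', ← hCE.2.2.1 t htC ht1']
      obtain ⟨e, he, he1⟩ := exists_right_ne_one hAE
      apply le_antisymm hTle
      intro c hc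
      have h1 : c * e * c⁻¹ * e⁻¹ ∈ ⁅T, E⁆ := by rw [hF]; exact cm_mem hc he
      obtain ⟨t', ht', e1⟩ := exists_cm_left hTE.2.1 he (hTE.2.2.2 e he he1) _ h1
      -- c * t'⁻¹ centralizes e
      have h2 : (c * t'⁻¹) * e * (c * t'⁻¹)⁻¹ * e⁻¹ = 1 := by
        rw [cm_mul_left hCE.2.1 hc (inv_mem (hTle ht')) he, cm_inv_left hCE.2.1 (hTle ht') he, e1,
          mul_inv_cancel]
      -- apply centralizer_trivial to the pair (E, C)
      have hsymm := commCase_symm hCE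
      have h3 : e * (c * t'⁻¹) * e⁻¹ * (c * t'⁻¹)⁻¹ = 1 := by
        have : e * (c * t'⁻¹) * e⁻¹ * (c * t'⁻¹)⁻¹ = ((c * t'⁻¹) * e * (c * t'⁻¹)⁻¹ * e⁻¹)⁻¹ := by
          group
        rw [this, h2, inv_one]
      have h4 := centralizer_trivial hS hE hC hA (Cfsg.RankOnePair_symm hAE) hsymm he he1
        (Subgroup.mul_mem _ hc (inv_mem (hTle ht'))) h3
      have : c = t' := by
        have := mul_inv_eq_one.mp h4
        exact this
      rw [this]; exact ht'

/-- The isomorphism `b ↦ a⁻¹ b⁻¹ a b` from `B` onto `⁅A, B⁆`. -/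
theorem exists_equiv {a : G} (ha : a ∈ A) (ha1 : a ≠ 1) :
    ∃ φ : ↥B ≃* ↥⁅A, B⁆, ∀ b : ↥B, (φ b : G) = a⁻¹ * (b : G)⁻¹ * a * b := by
  obtain ⟨hC, hcen, hg1, hg2⟩ := hcc
  have hCc := hS.commutative _ hC
  have ha' : a⁻¹ ∈ A := A.inv_mem ha
  have ha1' : a⁻¹ ≠ 1 := inv_ne_one.mpr ha1
  have hform : ∀ b : G, a⁻¹ * b⁻¹ * a * b = a⁻¹ * b⁻¹ * a⁻¹⁻¹ * b⁻¹⁻¹ := by
    intro b; group
  have hmem : ∀ b : ↥B, a⁻¹ * (b : G)⁻¹ * a * b ∈ ⁅A, B⁆ := by
    intro b
    rw [hform]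
    exact cm_mem ha' (B.inv_mem b.2)
  let φ : ↥B →* ↥⁅A, B⁆ :=
    { toFun := fun b => ⟨a⁻¹ * (b : G)⁻¹ * a * b, hmem b⟩
      map_one' := by
        apply Subtype.ext
        show a⁻¹ * ((1 : ↥B) : G)⁻¹ * a * ((1 : ↥B) : G) = 1
        simp
      map_mul' := by
        intro b₁ b₂
        apply Subtype.ext
        show a⁻¹ * ((b₁ * b₂ : ↥B) : G)⁻¹ * a * ((b₁ * b₂ : ↥B) : G) =
          (a⁻¹ * (b₁ : G)⁻¹ * a * b₁) * (a⁻¹ * (b₂ : G)⁻¹ * a * b₂)
        rw [Subgroup.coe_mul, hform, hform, hform, mul_inv_rev,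
          cm_mul_right hcen ha' (B.inv_mem b₂.2) (B.inv_mem b₁.2)]
        exact comm_of_isMulCommutative hCc (cm_mem ha' (B.inv_mem b₂.2))
          (cm_mem ha' (B.inv_mem b₁.2)) }
  have hinj : Function.Injective φ := by
    rw [injective_iff_map_eq_one]
    intro b hb
    have h1 : a⁻¹ * (b : G)⁻¹ * a * b = 1 := congrArg Subtype.val hb
    rw [hform] at h1
    have := centralizer_trivial hS hA hB hE hAE ⟨hC, hcen, hg1, hg2⟩ ha' ha1' (B.inv_mem b.2) h1
    apply Subtype.ext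
    exact inv_eq_one.mp this
  have hsurj : Function.Surjective φ := by
    intro c
    obtain ⟨b, hb, e⟩ := exists_cm_right hcen ha' (hg1 _ ha' ha1') c c.2
    refine ⟨⟨b⁻¹, B.inv_mem hb⟩, ?_⟩
    apply Subtype.ext
    show a⁻¹ * (b⁻¹)⁻¹ * a * b⁻¹ = c
    rw [← e]; group
  exact ⟨MulEquiv.ofBijective φ ⟨hinj, hsurj⟩, fun b => rfl⟩

/-- The members of `S` inside `A ⁅A, B⁆`. -/
theorem membersIn_eq :
    Cfsg.membersIn S (A ⊔ ⁅A, B⁆) = (fun b : G => Cfsg.conjBy A b) '' (B : Set G) ∪ {⁅A, B⁆} := by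
  have hC := hcc.1
  have hcomm : ∀ a ∈ A, ∀ c ∈ ⁅A, B⁆, a * c = c * a := fun a ha c hc =>
    (hcc.2.1 c hc a (Subgroup.mem_sup_left ha)).symm
  ext T
  constructor
  · rintro ⟨hT, hTle⟩
    by_cases hTC : T ≤ ⁅A, B⁆
    · right
      exact eq_commutator_of_le hS hA hB hE hAE hcc hT hTC
    · left
      obtain ⟨t, ht, htC⟩ := SetLike.not_le_iff_exists.mp hTC
      obtain ⟨a, ha, c, hc, e⟩ := mem_sup_of_commute hcomm (hTle ht)
      have ha1 : a ≠ 1 := by
        rintro rfl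
        rw [one_mul] at e
        rw [e] at htC
        exact htC hc
      obtain ⟨b, hb, e2⟩ := exists_conj_eq hS hA hB hE hAE hcc ha ha1 hc
      have ht' : t = b * a * b⁻¹ := by rw [e2, e, hcomm a ha c hc]
      refine ⟨b, hb, ?_⟩
      have hpart : Cfsg.IsRankOnePair (Cfsg.conjBy A b) (Cfsg.conjBy E b) := rankOnePair_conj hAE b
      have ht1 : b * a * b⁻¹ ≠ 1 := conjBy_ne_one ha1
      exact Cfsg.Agent.S5028.eq_of_mem_inf hS (hS.conj_mem A hA b) (hS.conj_mem E hE b) hpart hT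
        (conj_mem_conjBy A b ha) (ht' ▸ ht) ht1
  · rintro (⟨b, hb, rfl⟩ | hT)
    · exact ⟨hS.conj_mem A hA b, conj_le_sup hS hA hB hE hAE hcc hb⟩
    · rw [Set.mem_singleton_iff] at hT
      rw [hT]
      exact ⟨hC, le_sup_right⟩

theorem partition :
    Cfsg.IsSubgroupPartition (A ⊔ ⁅A, B⁆) (Cfsg.membersIn S (A ⊔ ⁅A, B⁆)) := by
  have hC := hcc.1
  have hcomm : ∀ a ∈ A, ∀ c ∈ ⁅A, B⁆, a * c = c * a := fun a ha c hc =>
    (hcc.2.1 c hc a (Subgroup.mem_sup_left ha)).symm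
  refine ⟨fun T hT => hT.2, ?_, ?_⟩
  · intro x hx hx1
    obtain ⟨a, ha, c, hc, e⟩ := mem_sup_of_commute hcomm hx
    by_cases ha1 : a = 1
    · refine ⟨⁅A, B⁆, ⟨hC, le_sup_right⟩, ?_⟩
      rw [e, ha1, one_mul]; exact hc
    · obtain ⟨b, hb, e2⟩ := exists_conj_eq hS hA hB hE hAE hcc ha ha1 hc
      refine ⟨Cfsg.conjBy A b, ⟨hS.conj_mem A hA b, conj_le_sup hS hA hB hE hAE hcc hb⟩, ?_⟩
      rw [e, hcomm a ha c hc, ← e2]
      exact conj_mem_conjBy A b ha
  · intro T₁ hT₁ T₂ hT₂ hne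
    have key : ∀ T T' : Subgroup G, T ∈ (fun b : G => Cfsg.conjBy A b) '' (B : Set G) → T' ∈ S →
        T ≠ T' → T ⊓ T' = ⊥ := by
      rintro T T' ⟨b, hb, rfl⟩ hT' hne
      have hpart : Cfsg.IsRankOnePair (Cfsg.conjBy A b) (Cfsg.conjBy E b) := rankOnePair_conj hAE b
      rcases Cfsg.Agent.S5028.result hS (not_isolated_of_partner (hS.conj_mem A hA b)
        (hS.conj_mem E hE b) hpart) (hS.conj_mem A hA b) T' hT' with h | h
      · exact h
      · exact absurd h hne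
    have h1 := hT₁
    have h2 := hT₂
    rw [membersIn_eq hS hA hB hE hAE hcc] at h1 h2
    rcases h1 with h1 | h1
    · exact key T₁ T₂ h1 hT₂.1 hne
    · rcases h2 with h2 | h2
      · rw [inf_comm]; exact key T₂ T₁ h2 hT₁.1 (Ne.symm hne)
      · rw [Set.mem_singleton_iff] at h1 h2
        exact absurd (h1.trans h2.symm) hne

theorem mem_linePartners : A ∈ Cfsg.linePartners S ⁅A, B⁆ := by
  refine ⟨⟨hA, ne_commutator hS hA hB hE hAE hcc, ?_⟩, ?_⟩
  · rw [Subgroup.commutator_eq_bot_iff_le_centralizer]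
    intro c hc
    rw [Subgroup.mem_centralizer_iff]
    intro a ha
    exact (hcc.2.1 c hc a (Subgroup.mem_sup_left ha)).symm
  · rw [sup_comm]
    exact partition hS hA hB hE hAE hcc

end Line

end Cfsg.Agent.Lib.Helper8_RootLine
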