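import Mathlib
import Cfsg.Prelude.Def_RootSubgroups
import Cfsg.Agent.Lib.Helper8_RankOne
import Cfsg.Agent.Lib.Helper8_RootBase
import Cfsg.Agent.Lib.Helper8_RootLine

set_option autoImplicit false
set_option linter.unusedVariables false
set_option linter.unusedSimpArgs false
set_option linter.style.haveILetI false
set_option linter.unusedSectionVars false
open Cfsg

/-!
# Connected components of the graph of rank one pairs
-/

namespace Cfsg.Agent.Lib.Helper8_RootComp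

open Cfsg.Agent.Lib.Helper8_RankOne Cfsg.Agent.Lib.Helper8_RootBase Cfsg.Agent.Lib.Helper8_RootLine
open scoped commutatorElement

variable {G : Type*} [Group G] {S : Set (Subgroup G)}

theorem fadj_symm {A B : Subgroup G} (h : Cfsg.FAdj S A B) : Cfsg.FAdj S B A :=
  ⟨h.2.1, h.1, Cfsg.RankOnePair_symm h.2.2⟩

theorem path_symm {A B : Subgroup G} (h : Relation.ReflTransGen (Cfsg.FAdj S) A B) :
    Relation.ReflTransGen (Cfsg.FAdj S) B A := by
  induction h with
  | refl => exact Relation.ReflTransGen.refl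
  | tail _ hadj ih => exact Relation.ReflTransGen.head (fadj_symm hadj) ih

theorem component_eq_of_path {A B : Subgroup G} (h : Relation.ReflTransGen (Cfsg.FAdj S) A B) :
    Cfsg.componentOf (Cfsg.FAdj S) S A = Cfsg.componentOf (Cfsg.FAdj S) S B := by
  ext T
  constructor
  · rintro ⟨hT, hp⟩
    exact ⟨hT, (path_symm h).trans hp⟩
  · rintro ⟨hT, hp⟩
    exact ⟨hT, h.trans hp⟩

theorem fadj_conj (hS : Cfsg.IsRootSubgroupSet S) {A B : Subgroup G} (h : Cfsg.FAdj S A B) (g : G) :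
    Cfsg.FAdj S (Cfsg.conjBy A g) (Cfsg.conjBy B g) :=
  ⟨hS.conj_mem A h.1 g, hS.conj_mem B h.2.1 g, rankOnePair_conj h.2.2 g⟩

theorem path_conj (hS : Cfsg.IsRootSubgroupSet S) {A B : Subgroup G}
    (h : Relation.ReflTransGen (Cfsg.FAdj S) A B) (g : G) :
    Relation.ReflTransGen (Cfsg.FAdj S) (Cfsg.conjBy A g) (Cfsg.conjBy B g) := by
  induction h with
  | refl => exact Relation.ReflTransGen.refl
  | tail _ hadj ih => exact Relation.ReflTransGen.tail ih (fadj_conj hS hadj g)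

/-- If `φ` centralizes `E` then `E` is fixed by conjugation with `φ`. -/
theorem conjBy_of_centralizes {E : Subgroup G} {φ : G} (h : ∀ e ∈ E, φ * e = e * φ) :
    Cfsg.conjBy E φ = E := by
  apply conjBy_of_mem_normalizer
  apply Subgroup.centralizer_le_normalizer
  rw [Subgroup.mem_centralizer_iff]
  intro e he
  exact (h e he).symm

/-- The one-sided computation: for a line partner `B` of `A` not forming a rank one pair with the
partner `E` of `A`, every product `a b` lies in a conjugate of `A` by an element centralizing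
`E`. -/
theorem exists_conj_centralizing (hS : Cfsg.IsRootSubgroupSet S) {A B E : Subgroup G}
    (hA : A ∈ S) (hB : B ∈ S) (hE : E ∈ S) (hAE : Cfsg.IsRankOnePair A E)
    (hBA : B ∈ Cfsg.linePartners S A) (hEB : ¬ Cfsg.IsRankOnePair E B) {a b : G} (ha : a ∈ A)
    (ha1 : a ≠ 1) (hb : b ∈ B) (hb1 : b ≠ 1) :
    ∃ φ : G, (∀ e ∈ E, φ * e = e * φ) ∧ a * b ∈ Cfsg.conjBy A φ := by
  obtain ⟨⟨_, hBne, hAB0⟩, hpart⟩ := hBA
  have hcommAB : ∀ a' ∈ A, ∀ b' ∈ B, a' * b' = b' * a' := by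
    intro a' ha' b' hb'
    have := Subgroup.commutator_eq_bot_iff_le_centralizer.mp hAB0 ha'
    rw [Subgroup.mem_centralizer_iff] at this
    exact (this b' hb').symm
  have hinf : A ⊓ B = ⊥ := by
    rcases Cfsg.Agent.S5028.result hS (not_isolated_of_partner hA hE hAE) hA B hB with h | h
    · exact h
    · exact absurd h.symm hBne
  have hba1 : ∀ a' ∈ A, a' ≠ 1 → ∀ b' ∈ B, b' * a' ≠ 1 := by
    intro a' ha' ha'1 b' hb' e
    have h1 : a' = b'⁻¹ := by
      have := eq_inv_of_mul_eq_one_right e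
      exact this
    have : a' ∈ A ⊓ B := ⟨ha', by rw [h1]; exact B.inv_mem hb'⟩
    rw [hinf, Subgroup.mem_bot] at this
    exact ha'1 this
  have hroot : ∀ a' ∈ A, a' ≠ 1 → ∀ b' ∈ B, b' * a' ∈ Cfsg.rootElements S := by
    intro a' ha' ha'1 b' hb'
    have hx : b' * a' ∈ A ⊔ B :=
      Subgroup.mul_mem _ (Subgroup.mem_sup_right hb') (Subgroup.mem_sup_left ha')
    obtain ⟨T, hT, hxT⟩ := hpart.2.1 _ hx (hba1 a' ha' ha'1 b' hb')
    exact mem_rootElements hT.1 hxT (hba1 a' ha' ha'1 b' hb')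
  -- a general principle: an element of B# cannot centralize a rank one group ⟨A, Y⟩
  have hnocen : ∀ Y ∈ S, Cfsg.IsRankOnePair A Y → ¬ (∀ y ∈ Y, b * y = y * b) := by
    intro Y hY hAY hcy
    have hz : b ∈ Subgroup.centralizer ((A ⊔ Y : Subgroup G) : Set G) := by
      have hle : A ⊔ Y ≤ Subgroup.centralizer ({b} : Set G) := by
        apply sup_le
        · intro a' ha'
          rw [Subgroup.mem_centralizer_iff]
          intro x hx
          rw [Set.mem_singleton_iff] at hx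
          rw [hx]
          exact (hcommAB a' ha' b hb).symm
        · intro y hy
          rw [Subgroup.mem_centralizer_iff]
          intro x hx
          rw [Set.mem_singleton_iff] at hx
          rw [hx]
          exact hcy y hy
      rw [Subgroup.mem_centralizer_iff]
      intro x hx
      have := hle hx
      rw [Subgroup.mem_centralizer_iff] at this
      exact (this b rfl).symm
    exact Cfsg.Agent.S5025.result hS hA ⟨hY, hAY⟩ hz hb1 a ha ha1 (hroot a ha ha1 b hb)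
  -- (E, B) is in the commutator case
  have hEBc : Cfsg.RootCommutatorCase S E B := by
    rcases hS.pair E hE B hB with h0 | h1 | h2
    · exfalso
      apply hnocen E hE hAE
      intro e he
      have := Subgroup.commutator_eq_bot_iff_le_centralizer.mp h0 he
      rw [Subgroup.mem_centralizer_iff] at this
      exact this b hb
    · exact absurd h1 hEB
    · exact h2
  obtain ⟨hF, hFcen, hFg1, hFg2⟩ := hEBc
  obtain ⟨e, he, he1, ee⟩ := hAE.cond_left a ha ha1
  -- φ = b⁻¹ e⁻¹ b e ∈ F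
  have hφ : b⁻¹ * e⁻¹ * b * e ∈ ⁅E, B⁆ := by
    rw [Subgroup.commutator_comm]
    have := cm_mem (A := B) (B := E) (B.inv_mem hb) (E.inv_mem he)
    rwa [inv_inv, inv_inv] at this
  have hφE : ∀ e' ∈ E, (b⁻¹ * e⁻¹ * b * e) * e' = e' * (b⁻¹ * e⁻¹ * b * e) :=
    fun e' he' => hFcen _ hφ e' (Subgroup.mem_sup_left he')
  have hφb : (b⁻¹ * e⁻¹ * b * e) * b = b * (b⁻¹ * e⁻¹ * b * e) :=
    hFcen _ hφ b (Subgroup.mem_sup_right hb)
  -- y = a (e⁻¹ b e) a⁻¹ centralizes E
  have hyE : ∀ e' ∈ E, (a * (e⁻¹ * b * e) * a⁻¹) * e' = e' * (a * (e⁻¹ * b * e) * a⁻¹) := by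
    intro e' he'
    -- a⁻¹ e' a ∈ conjBy E a⁻¹ = conjBy A e⁻¹ : equals e⁻¹ a' e
    have h1 : a⁻¹ * e' * a ∈ Cfsg.conjBy E a⁻¹ := by
      have := conj_mem_conjBy E a⁻¹ he'
      rwa [inv_inv] at this
    rw [← ee, mem_conjBy, inv_inv] at h1
    -- e (a⁻¹ e' a) e⁻¹ ∈ A commutes with b
    have h2 := hcommAB _ h1 b hb
    -- conjugate back
    have h3 : (e⁻¹ * b * e) * (a⁻¹ * e' * a) = (a⁻¹ * e' * a) * (e⁻¹ * b * e) := by
      have e1 : (e⁻¹ * b * e) * (a⁻¹ * e' * a) = e⁻¹ * (b * (e * (a⁻¹ * e' * a) * e⁻¹)) * e := by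
        group
      have e2 : (a⁻¹ * e' * a) * (e⁻¹ * b * e) = e⁻¹ * ((e * (a⁻¹ * e' * a) * e⁻¹) * b) * e := by
        group
      rw [e1, e2, h2]
    calc (a * (e⁻¹ * b * e) * a⁻¹) * e' = a * ((e⁻¹ * b * e) * (a⁻¹ * e' * a)) * a⁻¹ := by group
      _ = a * ((a⁻¹ * e' * a) * (e⁻¹ * b * e)) * a⁻¹ := by rw [h3]
      _ = e' * (a * (e⁻¹ * b * e) * a⁻¹) := by group
  -- y = b κ φ where κ = a φ a⁻¹ φ⁻¹
  have hy : a * (e⁻¹ * b * e) * a⁻¹ =
      b * (a * (b⁻¹ * e⁻¹ * b * e) * a⁻¹ * (b⁻¹ * e⁻¹ * b * e)⁻¹) * (b⁻¹ * e⁻¹ * b * e) := by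
    have e1 : e⁻¹ * b * e = b * (b⁻¹ * e⁻¹ * b * e) := by group
    rw [e1]
    calc a * (b * (b⁻¹ * e⁻¹ * b * e)) * a⁻¹ = (a * b) * (b⁻¹ * e⁻¹ * b * e) * a⁻¹ := by group
      _ = (b * a) * (b⁻¹ * e⁻¹ * b * e) * a⁻¹ := by rw [hcommAB a ha b hb]
      _ = _ := by group
  -- b κ centralizes E
  have hbκE : ∀ e' ∈ E, (b * (a * (b⁻¹ * e⁻¹ * b * e) * a⁻¹ * (b⁻¹ * e⁻¹ * b * e)⁻¹)) * e' =
      e' * (b * (a * (b⁻¹ * e⁻¹ * b * e) * a⁻¹ * (b⁻¹ * e⁻¹ * b * e)⁻¹)) := by
    intro e' he'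
    have h1 := hyE e' he'
    rw [hy] at h1
    have h2 := hφE e' he'
    generalize b⁻¹ * e⁻¹ * b * e = φ at *
    generalize b * (a * φ * a⁻¹ * φ⁻¹) = w at *
    -- w φ e' = e' w φ and φ e' = e' φ
    calc w * e' = (w * φ * e') * φ⁻¹ := by
          rw [mul_assoc w φ e', h2]; group
      _ = (e' * (w * φ)) * φ⁻¹ := by rw [h1]
      _ = e' * w := by group
  -- the case distinction for (A, F)
  rcases hS.pair A hA _ hF with h0 | h1 | h2
  · -- A and F commute: then κ = 1 and b centralizes E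
    exfalso
    apply hnocen E hE hAE
    intro e' he'
    have hκ : a * (b⁻¹ * e⁻¹ * b * e) * a⁻¹ * (b⁻¹ * e⁻¹ * b * e)⁻¹ = 1 := by
      have := Subgroup.commutator_eq_bot_iff_le_centralizer.mp h0 ha
      rw [Subgroup.mem_centralizer_iff] at this
      have h3 := this _ hφ
      rw [mul_inv_eq_one, mul_inv_eq_iff_eq_mul]
      exact h3.symm
    have := hbκE e' he'
    rwa [hκ, mul_one] at this
  · -- (A, F) rank one: b centralizes ⟨A, F⟩
    exfalso
    apply hnocen _ hF h1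
    intro f hf
    exact (hFcen f hf b (Subgroup.mem_sup_right hb)).symm
  · -- commutator case
    have hκK : a * (b⁻¹ * e⁻¹ * b * e) * a⁻¹ * (b⁻¹ * e⁻¹ * b * e)⁻¹ ∈ ⁅A, ⁅E, B⁆⁆ := cm_mem ha hφ
    have hκA : ∀ a' ∈ A, (a * (b⁻¹ * e⁻¹ * b * e) * a⁻¹ * (b⁻¹ * e⁻¹ * b * e)⁻¹) * a' =
        a' * (a * (b⁻¹ * e⁻¹ * b * e) * a⁻¹ * (b⁻¹ * e⁻¹ * b * e)⁻¹) :=
      fun a' ha' => h2.2.1 _ hκK a' (Subgroup.mem_sup_left ha')
    -- z = b κ = 1
    have hz1 : b * (a * (b⁻¹ * e⁻¹ * b * e) * a⁻¹ * (b⁻¹ * e⁻¹ * b * e)⁻¹) = 1 := by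
      by_contra hz1
      have hz : b * (a * (b⁻¹ * e⁻¹ * b * e) * a⁻¹ * (b⁻¹ * e⁻¹ * b * e)⁻¹) ∈
          Subgroup.centralizer ((A ⊔ E : Subgroup G) : Set G) := by
        have hle : A ⊔ E ≤ Subgroup.centralizer
            ({b * (a * (b⁻¹ * e⁻¹ * b * e) * a⁻¹ * (b⁻¹ * e⁻¹ * b * e)⁻¹)} : Set G) := by
          apply sup_le
          · intro a' ha'
            rw [Subgroup.mem_centralizer_iff]
            intro x hx
            rw [Set.mem_singleton_iff] at hx
            rw [hx, mul_assoc, hκA a' ha', ← mul_assoc, ← hcommAB a' ha' b hb, mul_assoc]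
          · intro e' he'
            rw [Subgroup.mem_centralizer_iff]
            intro x hx
            rw [Set.mem_singleton_iff] at hx
            rw [hx]
            exact hbκE e' he'
        rw [Subgroup.mem_centralizer_iff]
        intro x hx
        have := hle hx
        rw [Subgroup.mem_centralizer_iff] at this
        exact (this _ rfl).symm
      apply Cfsg.Agent.S5025.result hS hA ⟨hE, hAE⟩ hz hz1 a ha ha1
      -- z a is a root element
      obtain ⟨f, hf, ef⟩ := exists_conj_eq hS hA hF hE hAE h2 ha ha1 hκK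
      have hfb : f * b = b * f := hFcen f hf b (Subgroup.mem_sup_right hb)
      have e3 : b * (a * (b⁻¹ * e⁻¹ * b * e) * a⁻¹ * (b⁻¹ * e⁻¹ * b * e)⁻¹) * a =
          f * (b * a) * f⁻¹ := by
        rw [mul_assoc b, ← ef]
        calc b * (f * a * f⁻¹) = (b * f) * a * f⁻¹ := by group
          _ = (f * b) * a * f⁻¹ := by rw [hfb]
          _ = f * (b * a) * f⁻¹ := by group
      rw [e3]
      obtain ⟨_, T, hT, hxT⟩ := hroot a ha ha1 b hb
      exact mem_rootElements (hS.conj_mem T hT f) (conj_mem_conjBy T f hxT)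
        (conjBy_ne_one (hba1 a ha ha1 b hb))
    refine ⟨b⁻¹ * e⁻¹ * b * e, hφE, ?_⟩
    have : a * b = (b⁻¹ * e⁻¹ * b * e) * a * (b⁻¹ * e⁻¹ * b * e)⁻¹ := by
      generalize b⁻¹ * e⁻¹ * b * e = φ at *
      -- b * (a φ a⁻¹ φ⁻¹) = 1
      have h3 : a * φ * a⁻¹ * φ⁻¹ = b⁻¹ := by
        have := eq_inv_of_mul_eq_one_right hz1
        rw [this]
      have h4 : φ * a * φ⁻¹ = (a * φ * a⁻¹ * φ⁻¹)⁻¹ * a := by group
      rw [h4, h3, inv_inv, hcommAB a ha b hb]
    rw [this]
    exact conj_mem_conjBy A _ ha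


/-- A member whose component has another member has a rank one partner. -/
theorem exists_partner_of_component {A : Subgroup G}
    (hA2 : ∃ A' ∈ Cfsg.componentOf (Cfsg.FAdj S) S A, A' ≠ A) :
    ∃ E ∈ S, Cfsg.IsRankOnePair A E := by
  obtain ⟨A', ⟨_, hp⟩, hne⟩ := hA2
  rcases hp.cases_head with e | ⟨E, hadj, _⟩
  · exact absurd e.symm hne
  · exact ⟨E, hadj.2.1, hadj.2.2⟩

/-- Line partners with rank one partners lie in the same component. -/
theorem path_of_linePartner (hS : Cfsg.IsRootSubgroupSet S) {A B E E' : Subgroup G}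
    (hA : A ∈ S) (hB : B ∈ S) (hE : E ∈ S) (hAE : Cfsg.IsRankOnePair A E) (hE' : E' ∈ S)
    (hBE' : Cfsg.IsRankOnePair B E') (hBA : B ∈ Cfsg.linePartners S A) :
    Relation.ReflTransGen (Cfsg.FAdj S) A B := by
  by_cases hEB : Cfsg.IsRankOnePair E B
  · exact Relation.ReflTransGen.tail (Relation.ReflTransGen.single ⟨hA, hE, hAE⟩) ⟨hE, hB, hEB⟩
  by_cases hE'A : Cfsg.IsRankOnePair E' A
  · exact Relation.ReflTransGen.tail (Relation.ReflTransGen.single ⟨hA, hE', Cfsg.RankOnePair_symm hE'A⟩)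
      ⟨hE', hB, Cfsg.RankOnePair_symm hBE'⟩
  have hAB : A ∈ Cfsg.linePartners S B := by
    obtain ⟨⟨_, hne, h0⟩, hp⟩ := hBA
    refine ⟨⟨hA, hne.symm, by rw [Subgroup.commutator_comm]; exact h0⟩, ?_⟩
    rw [sup_comm]; exact hp
  obtain ⟨a, ha, ha1⟩ := exists_left_ne_one hAE
  obtain ⟨b, hb, hb1⟩ := exists_left_ne_one hBE'
  obtain ⟨φ, hφ, h1⟩ := exists_conj_centralizing hS hA hB hE hAE hBA hEB ha ha1 hb hb1
  obtain ⟨φ', hφ', h2⟩ := exists_conj_centralizing hS hB hA hE' hBE' hAB hE'A hb hb1 ha ha1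
  have hcomm : a * b = b * a := by
    have := Subgroup.commutator_eq_bot_iff_le_centralizer.mp hBA.1.2.2 ha
    rw [Subgroup.mem_centralizer_iff] at this
    exact (this b hb).symm
  rw [← hcomm] at h2
  -- T_A = conjBy A φ is adjacent to E, T_B = conjBy B φ' is adjacent to E'
  have hTA : Cfsg.IsRankOnePair (Cfsg.conjBy A φ) E := by
    have := rankOnePair_conj hAE φ
    rwa [conjBy_of_centralizes hφ] at this
  have hTB : Cfsg.IsRankOnePair (Cfsg.conjBy B φ') E' := by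
    have := rankOnePair_conj hBE' φ'
    rwa [conjBy_of_centralizes hφ'] at this
  have hab1 : a * b ≠ 1 := by
    intro e
    have hinf : A ⊓ B = ⊥ := by
      rcases Cfsg.Agent.S5028.result hS (not_isolated_of_partner hA hE hAE) hA B hB with h | h
      · exact h
      · exact absurd h.symm hBA.1.2.1
    have h3 : a = b⁻¹ := eq_inv_of_mul_eq_one_left e
    have : a ∈ A ⊓ B := ⟨ha, by rw [h3]; exact B.inv_mem hb⟩
    rw [hinf, Subgroup.mem_bot] at this
    exact ha1 this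
  have hT : Cfsg.conjBy A φ = Cfsg.conjBy B φ' :=
    Cfsg.Agent.S5028.eq_of_mem_inf hS (hS.conj_mem A hA φ) hE hTA (hS.conj_mem B hB φ') h1 h2 hab1
  -- A ~ E ~ T_A = T_B ~ E' ~ B
  have p1 : Relation.ReflTransGen (Cfsg.FAdj S) A (Cfsg.conjBy A φ) :=
    Relation.ReflTransGen.tail (Relation.ReflTransGen.single ⟨hA, hE, hAE⟩)
      ⟨hE, hS.conj_mem A hA φ, Cfsg.RankOnePair_symm hTA⟩
  have p2 : Relation.ReflTransGen (Cfsg.FAdj S) (Cfsg.conjBy B φ') B :=
    Relation.ReflTransGen.tail (Relation.ReflTransGen.single ⟨hS.conj_mem B hB φ', hE', hTB⟩)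
      ⟨hE', hB, Cfsg.RankOnePair_symm hBE'⟩
  rw [hT] at p1
  exact p1.trans p2


/-- In a conjugacy class with a non-isolated member every member has a partner. -/
theorem all_partner (hS : Cfsg.IsRootSubgroupSet S) (hcl : Cfsg.IsConjClassOfSubgroups S)
    {A₀ E₀ : Subgroup G} (hA₀ : A₀ ∈ S) (hE₀ : E₀ ∈ S) (h₀ : Cfsg.IsRankOnePair A₀ E₀) :
    ∀ A ∈ S, ∃ E ∈ S, Cfsg.IsRankOnePair A E := by
  intro A hA
  obtain ⟨g, rfl⟩ := hcl.2 A₀ hA₀ A hA
  exact ⟨Cfsg.conjBy E₀ g, hS.conj_mem E₀ hE₀ g, rankOnePair_conj h₀ g⟩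

/-- The component of `A` is invariant under conjugation by members of `S`. -/
theorem component_invariant (hS : Cfsg.IsRootSubgroupSet S)
    (hpart : ∀ A ∈ S, ∃ E ∈ S, Cfsg.IsRankOnePair A E) {A T B : Subgroup G} (hA : A ∈ S)
    (hT : T ∈ S) (hAT : Relation.ReflTransGen (Cfsg.FAdj S) A T) (hB : B ∈ S) {b : G}
    (hb : b ∈ B) : Relation.ReflTransGen (Cfsg.FAdj S) A (Cfsg.conjBy T b) := by
  by_cases hAB : Relation.ReflTransGen (Cfsg.FAdj S) A B
  · have h1 : Relation.ReflTransGen (Cfsg.FAdj S) T B := (path_symm hAT).trans hAB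
    have h2 := path_conj hS h1 b
    rw [conjBy_of_mem hb] at h2
    exact hAB.trans (path_symm h2)
  · rcases hS.pair T hT B hB with h0 | h1 | h2
    · have : Cfsg.conjBy T b = T := by
        apply conjBy_of_centralizes
        intro t ht
        have := Subgroup.commutator_eq_bot_iff_le_centralizer.mp h0 ht
        rw [Subgroup.mem_centralizer_iff] at this
        exact this b hb
      rw [this]; exact hAT
    · exact absurd (Relation.ReflTransGen.tail hAT ⟨hT, hB, h1⟩) hAB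
    · exfalso
      apply hAB
      obtain ⟨ET, hET, hTE⟩ := hpart T hT
      obtain ⟨EB, hEB, hBE⟩ := hpart B hB
      have hC := h2.1
      obtain ⟨EC, hEC, hCE⟩ := hpart _ hC
      have hTL : T ∈ Cfsg.linePartners S ⁅T, B⁆ := mem_linePartners hS hT hB hET hTE h2
      have hBL : B ∈ Cfsg.linePartners S ⁅T, B⁆ := by
        have := mem_linePartners hS hB hT hEB hBE (commCase_symm h2)
        rwa [Subgroup.commutator_comm B T] at this
      have p1 := path_of_linePartner hS hC hT hEC hCE hET hTE hTL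
      have p2 := path_of_linePartner hS hC hB hEC hCE hEB hBE hBL
      exact hAT.trans ((path_symm p1).trans p2)

theorem connected_of_class (hS : Cfsg.IsRootSubgroupSet S) (hcl : Cfsg.IsConjClassOfSubgroups S)
    {A₀ E₀ : Subgroup G} (hA₀ : A₀ ∈ S) (hE₀ : E₀ ∈ S) (h₀ : Cfsg.IsRankOnePair A₀ E₀) :
    Cfsg.IsConnectedFamily (Cfsg.FAdj S) S := by
  have hpart := all_partner hS hcl hA₀ hE₀ h₀
  intro A hA B hB
  have key : ∀ g : G, ∀ T ∈ S, Relation.ReflTransGen (Cfsg.FAdj S) A T →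
      Relation.ReflTransGen (Cfsg.FAdj S) A (Cfsg.conjBy T g) := by
    intro g
    have hg : g ∈ ⨆ A ∈ S, A := by rw [hS.generates]; exact Subgroup.mem_top g
    have hone : ∀ T ∈ S, Relation.ReflTransGen (Cfsg.FAdj S) A T →
        Relation.ReflTransGen (Cfsg.FAdj S) A (Cfsg.conjBy T 1) := by
      intro T hT hAT
      rw [conjBy_one]; exact hAT
    have hmul : ∀ x y : G,
        (∀ T ∈ S, Relation.ReflTransGen (Cfsg.FAdj S) A T →
          Relation.ReflTransGen (Cfsg.FAdj S) A (Cfsg.conjBy T x)) →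
        (∀ T ∈ S, Relation.ReflTransGen (Cfsg.FAdj S) A T →
          Relation.ReflTransGen (Cfsg.FAdj S) A (Cfsg.conjBy T y)) →
        (∀ T ∈ S, Relation.ReflTransGen (Cfsg.FAdj S) A T →
          Relation.ReflTransGen (Cfsg.FAdj S) A (Cfsg.conjBy T (x * y))) := by
      intro x y hx hy T hT hAT
      rw [← conjBy_conjBy]
      exact hx _ (hS.conj_mem T hT y) (hy T hT hAT)
    refine Subgroup.iSup_induction (fun A : Subgroup G => ⨆ (_ : A ∈ S), A)
      (C := fun g => ∀ T ∈ S, Relation.ReflTransGen (Cfsg.FAdj S) A T →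
        Relation.ReflTransGen (Cfsg.FAdj S) A (Cfsg.conjBy T g)) hg ?_ hone hmul
    intro B' x hx
    refine Subgroup.iSup_induction (fun _ : B' ∈ S => B')
      (C := fun g => ∀ T ∈ S, Relation.ReflTransGen (Cfsg.FAdj S) A T →
        Relation.ReflTransGen (Cfsg.FAdj S) A (Cfsg.conjBy T g)) hx ?_ hone hmul
    intro hB' y hy T hT hAT
    exact component_invariant hS hpart hA hT hAT hB' hy
  obtain ⟨g, rfl⟩ := hcl.2 A hA B hB
  exact key g A hA Relation.ReflTransGen.refl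

theorem class_of_connected (hS : Cfsg.IsRootSubgroupSet S)
    (hc : Cfsg.IsConnectedFamily (Cfsg.FAdj S) S) {A₀ : Subgroup G} (hA₀ : A₀ ∈ S) :
    Cfsg.IsConjClassOfSubgroups S := by
  refine ⟨⟨A₀, hA₀⟩, ?_⟩
  intro A hA B hB
  have hp := hc A hA B hB
  induction hp with
  | refl => exact ⟨1, (conjBy_one A).symm⟩
  | tail _ hadj ih =>
    obtain ⟨g, hg⟩ := ih hadj.1
    obtain ⟨x, _, hx⟩ := right_mem_unipotent hadj.2.2
    refine ⟨x * g, ?_⟩
    rw [hx, hg, conjBy_conjBy]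

end Cfsg.Agent.Lib.Helper8_RootComp


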