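import Mathlib
import Cfsg.Prelude.Def_RootSubgroups
import Cfsg.Agent.Lib.Helper8_RankOne
import Cfsg.Agent.Lib.Helper8_RootBase
import Cfsg.Agent.Lib.Helper8_RootLine
import Cfsg.Agent.Lib.Helper8_RootComp
import Cfsg.Agent.Lib.Helper8_ConjModule

set_option autoImplicit false
set_option linter.unusedVariables false
set_option linter.unusedSimpArgs false
set_option linter.style.haveILetI false
set_option linter.unusedSectionVars false
open Cfsg

/-!
# Rank one pairs in non-degenerate classes of abstract root subgroups are special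
-/

namespace Cfsg.Agent.Lib.Helper8_RootSpecial

open Cfsg.Agent.Lib.Helper8_RankOne Cfsg.Agent.Lib.Helper8_RootBase Cfsg.Agent.Lib.Helper8_RootLine
  Cfsg.Agent.Lib.Helper8_RootComp
open scoped commutatorElement

variable {G : Type*} [Group G] {S : Set (Subgroup G)}

/-- The core computation: `A, E` a rank one pair, `T` commuting with `A` such that all products
`t a` are root elements, and `(E, T)` not a rank one pair. -/
theorem core (hS : Cfsg.IsRootSubgroupSet S) {A T E : Subgroup G}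
    (hA : A ∈ S) (hT : T ∈ S) (hE : E ∈ S) (hAE : Cfsg.IsRankOnePair A E)
    (hcommAT : ∀ a' ∈ A, ∀ t' ∈ T, a' * t' = t' * a')
    (hroot : ∀ a' ∈ A, a' ≠ 1 → ∀ t' ∈ T, t' ≠ 1 → t' * a' ∈ Cfsg.rootElements S)
    (hET : ¬ Cfsg.IsRankOnePair E T) {a b : G} (ha : a ∈ A)
    (ha1 : a ≠ 1) (hb : b ∈ T) (hb1 : b ≠ 1) :
    Cfsg.RootCommutatorCase S E T ∧ Cfsg.RootCommutatorCase S A ⁅E, T⁆ ∧
    ∃ φ ∈ ⁅E, T⁆, a * φ * a⁻¹ * φ⁻¹ = b⁻¹ := by
  have hnocen : ∀ Y ∈ S, Cfsg.IsRankOnePair A Y → ¬ (∀ y ∈ Y, b * y = y * b) := by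
    intro Y hY hAY hcy
    have hz : b ∈ Subgroup.centralizer ((A ⊔ Y : Subgroup G) : Set G) := by
      have hle : A ⊔ Y ≤ Subgroup.centralizer ({b} : Set G) := by
        apply sup_le
        · intro a' ha'
          rw [Subgroup.mem_centralizer_iff]
          intro x hx
          rw [Set.mem_singleton_iff] at hx
          rw [hx]
          exact (hcommAT a' ha' b hb).symm
        · intro y hy
          rw [Subgroup.mem_centralizer_iff]
          intro x hx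
          rw [Set.mem_singleton_iff] at hx
          rw [hx]
          exact hcy y hy
      rw [Subgroup.mem_centralizer_iff]
      intro x hx
      have := hle hx
      rw [Subgroup.mem_centralizer_iff] at this
      exact (this b rfl).symm
    exact Cfsg.Agent.S5025.result hS hA ⟨hY, hAY⟩ hz hb1 a ha ha1 (hroot a ha ha1 b hb hb1)
  have hEBc : Cfsg.RootCommutatorCase S E T := by
    rcases hS.pair E hE T hT with h0 | h1 | h2
    · exfalso
      apply hnocen E hE hAE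
      intro e he
      have := Subgroup.commutator_eq_bot_iff_le_centralizer.mp h0 he
      rw [Subgroup.mem_centralizer_iff] at this
      exact this b hb
    · exact absurd h1 hET
    · exact h2
  refine ⟨hEBc, ?_⟩
  obtain ⟨hF, hFcen, hFg1, hFg2⟩ := hEBc
  obtain ⟨e, he, he1, ee⟩ := hAE.cond_left a ha ha1
  have hφ : b⁻¹ * e⁻¹ * b * e ∈ ⁅E, T⁆ := by
    rw [Subgroup.commutator_comm]
    have := cm_mem (A := T) (B := E) (T.inv_mem hb) (E.inv_mem he)
    rwa [inv_inv, inv_inv] at this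
  have hφE : ∀ e' ∈ E, (b⁻¹ * e⁻¹ * b * e) * e' = e' * (b⁻¹ * e⁻¹ * b * e) :=
    fun e' he' => hFcen _ hφ e' (Subgroup.mem_sup_left he')
  have hyE : ∀ e' ∈ E, (a * (e⁻¹ * b * e) * a⁻¹) * e' = e' * (a * (e⁻¹ * b * e) * a⁻¹) := by
    intro e' he'
    have h1 : a⁻¹ * e' * a ∈ Cfsg.conjBy E a⁻¹ := by
      have := conj_mem_conjBy E a⁻¹ he'
      rwa [inv_inv] at this
    rw [← ee, mem_conjBy, inv_inv] at h1
    have h2 := hcommAT _ h1 b hb
    have h3 : (e⁻¹ * b * e) * (a⁻¹ * e' * a) = (a⁻¹ * e' * a) * (e⁻¹ * b * e) := by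
      have e1 : (e⁻¹ * b * e) * (a⁻¹ * e' * a) = e⁻¹ * (b * (e * (a⁻¹ * e' * a) * e⁻¹)) * e := by
        group
      have e2 : (a⁻¹ * e' * a) * (e⁻¹ * b * e) = e⁻¹ * ((e * (a⁻¹ * e' * a) * e⁻¹) * b) * e := by
        group
      rw [e1, e2, h2]
    calc (a * (e⁻¹ * b * e) * a⁻¹) * e' = a * ((e⁻¹ * b * e) * (a⁻¹ * e' * a)) * a⁻¹ := by group
      _ = a * ((a⁻¹ * e' * a) * (e⁻¹ * b * e)) * a⁻¹ := by rw [h3]
      _ = e' * (a * (e⁻¹ * b * e) * a⁻¹) := by group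
  have hy : a * (e⁻¹ * b * e) * a⁻¹ =
      b * (a * (b⁻¹ * e⁻¹ * b * e) * a⁻¹ * (b⁻¹ * e⁻¹ * b * e)⁻¹) * (b⁻¹ * e⁻¹ * b * e) := by
    have e1 : e⁻¹ * b * e = b * (b⁻¹ * e⁻¹ * b * e) := by group
    rw [e1]
    calc a * (b * (b⁻¹ * e⁻¹ * b * e)) * a⁻¹ = (a * b) * (b⁻¹ * e⁻¹ * b * e) * a⁻¹ := by group
      _ = (b * a) * (b⁻¹ * e⁻¹ * b * e) * a⁻¹ := by rw [hcommAT a ha b hb]
      _ = _ := by group
  have hbκE : ∀ e' ∈ E, (b * (a * (b⁻¹ * e⁻¹ * b * e) * a⁻¹ * (b⁻¹ * e⁻¹ * b * e)⁻¹)) * e' =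
      e' * (b * (a * (b⁻¹ * e⁻¹ * b * e) * a⁻¹ * (b⁻¹ * e⁻¹ * b * e)⁻¹)) := by
    intro e' he'
    have h1 := hyE e' he'
    rw [hy] at h1
    have h2 := hφE e' he'
    generalize b⁻¹ * e⁻¹ * b * e = φ at *
    generalize b * (a * φ * a⁻¹ * φ⁻¹) = w at *
    calc w * e' = (w * φ * e') * φ⁻¹ := by
          rw [mul_assoc w φ e', h2]; group
      _ = (e' * (w * φ)) * φ⁻¹ := by rw [h1]
      _ = e' * w := by group
  have hAF : Cfsg.RootCommutatorCase S A ⁅E, T⁆ := by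
    rcases hS.pair A hA _ hF with h0 | h1 | h2
    · exfalso
      apply hnocen E hE hAE
      intro e' he'
      have hκ : a * (b⁻¹ * e⁻¹ * b * e) * a⁻¹ * (b⁻¹ * e⁻¹ * b * e)⁻¹ = 1 := by
        have := Subgroup.commutator_eq_bot_iff_le_centralizer.mp h0 ha
        rw [Subgroup.mem_centralizer_iff] at this
        have h3 := this _ hφ
        rw [mul_inv_eq_one, mul_inv_eq_iff_eq_mul]
        exact h3.symm
      have := hbκE e' he'
      rwa [hκ, mul_one] at this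
    · exfalso
      apply hnocen _ hF h1
      intro f hf
      exact (hFcen f hf b (Subgroup.mem_sup_right hb)).symm
    · exact h2
  refine ⟨hAF, ?_⟩
  have h2 := hAF
  have hκK : a * (b⁻¹ * e⁻¹ * b * e) * a⁻¹ * (b⁻¹ * e⁻¹ * b * e)⁻¹ ∈ ⁅A, ⁅E, T⁆⁆ := cm_mem ha hφ
  have hκA : ∀ a' ∈ A, (a * (b⁻¹ * e⁻¹ * b * e) * a⁻¹ * (b⁻¹ * e⁻¹ * b * e)⁻¹) * a' =
      a' * (a * (b⁻¹ * e⁻¹ * b * e) * a⁻¹ * (b⁻¹ * e⁻¹ * b * e)⁻¹) :=
    fun a' ha' => h2.2.1 _ hκK a' (Subgroup.mem_sup_left ha')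
  have hz1 : b * (a * (b⁻¹ * e⁻¹ * b * e) * a⁻¹ * (b⁻¹ * e⁻¹ * b * e)⁻¹) = 1 := by
    by_contra hz1
    have hz : b * (a * (b⁻¹ * e⁻¹ * b * e) * a⁻¹ * (b⁻¹ * e⁻¹ * b * e)⁻¹) ∈
        Subgroup.centralizer ((A ⊔ E : Subgroup G) : Set G) := by
      have hle : A ⊔ E ≤ Subgroup.centralizer
          ({b * (a * (b⁻¹ * e⁻¹ * b * e) * a⁻¹ * (b⁻¹ * e⁻¹ * b * e)⁻¹)} : Set G) := by
        apply sup_le
        · intro a' ha'
          rw [Subgroup.mem_centralizer_iff]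
          intro x hx
          rw [Set.mem_singleton_iff] at hx
          rw [hx, mul_assoc, hκA a' ha', ← mul_assoc, ← hcommAT a' ha' b hb, mul_assoc]
        · intro e' he'
          rw [Subgroup.mem_centralizer_iff]
          intro x hx
          rw [Set.mem_singleton_iff] at hx
          rw [hx]
          exact hbκE e' he'
      rw [Subgroup.mem_centralizer_iff]
      intro x hx
      have := hle hx
      rw [Subgroup.mem_centralizer_iff] at this
      exact (this _ rfl).symm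
    apply Cfsg.Agent.S5025.result hS hA ⟨hE, hAE⟩ hz hz1 a ha ha1
    obtain ⟨f, hf, ef⟩ := exists_conj_eq hS hA hF hE hAE h2 ha ha1 hκK
    have hfb : f * b = b * f := hFcen f hf b (Subgroup.mem_sup_right hb)
    have e3 : b * (a * (b⁻¹ * e⁻¹ * b * e) * a⁻¹ * (b⁻¹ * e⁻¹ * b * e)⁻¹) * a =
        f * (b * a) * f⁻¹ := by
      rw [mul_assoc b, ← ef]
      calc b * (f * a * f⁻¹) = (b * f) * a * f⁻¹ := by group
        _ = (f * b) * a * f⁻¹ := by rw [hfb]
        _ = f * (b * a) * f⁻¹ := by group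
    rw [e3]
    obtain ⟨hne1, T₀, hT₀, hxT⟩ := hroot a ha ha1 b hb hb1
    exact mem_rootElements (hS.conj_mem T₀ hT₀ f) (conj_mem_conjBy T₀ f hxT) (conjBy_ne_one hne1)
  refine ⟨b⁻¹ * e⁻¹ * b * e, hφ, ?_⟩
  exact (eq_inv_of_mul_eq_one_right hz1)

theorem linePartners_symm {A C : Subgroup G} (hA : A ∈ S) (h : C ∈ Cfsg.linePartners S A) :
    A ∈ Cfsg.linePartners S C := by
  obtain ⟨⟨hC, hne, hcomm⟩, hpart⟩ := h
  refine ⟨⟨hA, hne.symm, ?_⟩, ?_⟩
  · rw [Subgroup.commutator_comm]; exact hcomm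
  · rw [sup_comm]; exact hpart

theorem commute_of_comm_eq_bot {A C : Subgroup G} (h : ⁅A, C⁆ = ⊥) :
    ∀ a ∈ A, ∀ c ∈ C, a * c = c * a := by
  intro a ha c hc
  have := Subgroup.commutator_eq_bot_iff_le_centralizer.mp h ha
  rw [Subgroup.mem_centralizer_iff] at this
  exact (this c hc).symm

theorem mem_centralizer_sup {A B : Subgroup G} {z : G} (hA : ∀ a ∈ A, a * z = z * a)
    (hB : ∀ b ∈ B, b * z = z * b) :
    z ∈ Subgroup.centralizer ((A ⊔ B : Subgroup G) : Set G) := by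
  have hle : A ⊔ B ≤ Subgroup.centralizer ({z} : Set G) := by
    apply sup_le
    · intro a ha
      rw [Subgroup.mem_centralizer_iff]
      intro x hx
      rw [Set.mem_singleton_iff] at hx
      rw [hx]
      exact (hA a ha).symm
    · intro b hb
      rw [Subgroup.mem_centralizer_iff]
      intro x hx
      rw [Set.mem_singleton_iff] at hx
      rw [hx]
      exact (hB b hb).symm
  rw [Subgroup.mem_centralizer_iff]
  intro x hx
  have := hle hx
  rw [Subgroup.mem_centralizer_iff] at this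
  exact (this z rfl).symm

/-- Non-identity elements of a line are root elements. -/
theorem line_root {A C : Subgroup G} (hC : C ∈ Cfsg.linePartners S A) {x : G} (hx : x ∈ A ⊔ C)
    (hx1 : x ≠ 1) : x ∈ Cfsg.rootElements S := by
  obtain ⟨T, hT, hxT⟩ := hC.2.2.1 x hx hx1
  exact mem_rootElements hT.1 hxT hx1

theorem le_normalizer_of_conj_mem {X V : Subgroup G}
    (h : ∀ x ∈ X, ∀ v ∈ V, x * v * x⁻¹ ∈ V) : X ≤ Subgroup.normalizer (V : Set G) := by
  intro x hx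
  rw [Subgroup.mem_normalizer_iff]
  intro v
  constructor
  · exact h x hx v
  · intro hv
    have := h x⁻¹ (X.inv_mem hx) _ hv
    have e : x⁻¹ * (x * v * x⁻¹) * x⁻¹⁻¹ = v := by group
    rwa [e] at this

/-- The structure attached to a member `T ≠ A` of a line through `A` which is not a rank one
partner of the rank one partner `B` of `A`. -/
theorem line_structure' (hS : Cfsg.IsRootSubgroupSet S)
    (hpart : ∀ A ∈ S, ∃ E ∈ S, Cfsg.IsRankOnePair A E) {A B C T : Subgroup G} (hA : A ∈ S)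
    (hB : B ∈ S) (hAB : Cfsg.IsRankOnePair A B) (hC : C ∈ Cfsg.linePartners S A) (hTS : T ∈ S)
    (hTle : T ≤ A ⊔ C) (hTA : T ≠ A) (hnot : ¬ Cfsg.IsRankOnePair B T) :
    Cfsg.RootCommutatorCase S B T ∧ Cfsg.RootCommutatorCase S A ⁅B, T⁆ ∧ ⁅A, ⁅B, T⁆⁆ = T ∧
      T ∈ Cfsg.linePartners S A := by
  have hcomm := commute_of_comm_eq_bot hC.1.2.2
  have hAc := hS.commutative A hA
  have hcommAT : ∀ a' ∈ A, ∀ t' ∈ T, a' * t' = t' * a' := by
    intro a' ha' t' ht'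
    obtain ⟨a'', ha'', c'', hc'', e⟩ := mem_sup_of_commute hcomm (hTle ht')
    rw [e]
    calc a' * (a'' * c'') = (a' * a'') * c'' := by group
      _ = (a'' * a') * c'' := by rw [comm_of_isMulCommutative hAc ha' ha'']
      _ = a'' * (a' * c'') := by group
      _ = a'' * (c'' * a') := by rw [hcomm a' ha' c'' hc'']
      _ = a'' * c'' * a' := by group
  have hAT : A ⊓ T = ⊥ := by
    rcases Cfsg.Agent.S5028.result hS (not_isolated_of_partner hA hB hAB) hA T hTS with h | h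
    · exact h
    · exact absurd h.symm hTA
  have hroot : ∀ a' ∈ A, a' ≠ 1 → ∀ t' ∈ T, t' ≠ 1 → t' * a' ∈ Cfsg.rootElements S := by
    intro a' ha' ha'1 t' ht' ht'1
    apply line_root hC (Subgroup.mul_mem _ (hTle ht') (Subgroup.mem_sup_left ha'))
    intro e
    apply ht'1
    have : t' = a'⁻¹ := eq_inv_of_mul_eq_one_left e
    have h2 : t' ∈ A ⊓ T := Subgroup.mem_inf.mpr ⟨this ▸ A.inv_mem ha', ht'⟩
    rw [hAT] at h2
    exact Subgroup.mem_bot.mp h2
  obtain ⟨a, ha, ha1⟩ := exists_left_ne_one hAB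
  obtain ⟨t, ht1⟩ := (Subgroup.ne_bot_iff_exists_ne_one).mp (hS.ne_bot T hTS)
  have ht : (t : G) ∈ T := t.2
  have ht1' : (t : G) ≠ 1 := fun e => ht1 (Subtype.ext e)
  obtain ⟨h1, h2, φ, hφ, e⟩ := core hS hA hTS hB hAB hcommAT hroot hnot ha ha1 ht ht1'
  have hK : ⁅A, ⁅B, T⁆⁆ = T := by
    obtain ⟨E, hE, hTE⟩ := hpart T hTS
    have hmem : (t : G)⁻¹ ∈ ⁅A, ⁅B, T⁆⁆ := by
      rw [← e]; exact cm_mem ha hφ
    exact (Cfsg.Agent.S5028.eq_of_mem_inf hS hTS hE hTE h2.1 (T.inv_mem ht) hmem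
      (inv_ne_one.mpr ht1')).symm
  refine ⟨h1, h2, hK, ?_⟩
  have := mem_linePartners hS hA h1.1 hB hAB h2
  rw [hK] at this
  exact linePartners_symm hTS this

/-- For a line partner `T` of `A` with `⁅B, T⁆ ∈ S`. -/
theorem line_structure (hS : Cfsg.IsRootSubgroupSet S)
    (hpart : ∀ A ∈ S, ∃ E ∈ S, Cfsg.IsRankOnePair A E) {A B T : Subgroup G} (hA : A ∈ S)
    (hB : B ∈ S) (hAB : Cfsg.IsRankOnePair A B) (hT : T ∈ Cfsg.linePartners S A)
    (hBT : ⁅B, T⁆ ∈ S) :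
    Cfsg.RootCommutatorCase S B T ∧ Cfsg.RootCommutatorCase S A ⁅B, T⁆ ∧ ⁅A, ⁅B, T⁆⁆ = T := by
  have := line_structure' hS hpart hA hB hAB hT hT.1.1 le_sup_right hT.1.2.1
    (fun h => commutator_not_mem hS hB hT.1.1 h hBT)
  exact ⟨this.1, this.2.1, this.2.2.1⟩

/-- A rank one pair `A, B` such that some line partner `T` of `A` has `⁅B, T⁆ ∈ S` is special. -/
theorem special_of_line (hS : Cfsg.IsRootSubgroupSet S)
    (hpart : ∀ A ∈ S, ∃ E ∈ S, Cfsg.IsRankOnePair A E) {A B T : Subgroup G} (hA : A ∈ S)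
    (hB : B ∈ S) (hAB : Cfsg.IsRankOnePair A B) (hT : T ∈ Cfsg.linePartners S A)
    (hBT : ⁅B, T⁆ ∈ S) : Cfsg.IsSpecialRankOnePair A B := by
  obtain ⟨hccBT, hccAF, hK⟩ := line_structure hS hpart hA hB hAB hT hBT
  have hTS := hT.1.1
  have hcomm := commute_of_comm_eq_bot hT.1.2.2
  have hTc := hS.commutative T hTS
  have hFc := hS.commutative _ hBT
  have hTF : ∀ t ∈ T, ∀ f ∈ ⁅B, T⁆, t * f = f * t := fun t ht f hf =>
    (hccBT.2.1 f hf t (Subgroup.mem_sup_right ht)).symm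
  have hBF : ∀ b ∈ B, ∀ f ∈ ⁅B, T⁆, f * b = b * f := fun b hb f hf =>
    hccBT.2.1 f hf b (Subgroup.mem_sup_left hb)
  have hV : IsMulCommutative ↥(T ⊔ ⁅B, T⁆) := by
    refine ⟨⟨fun x y => ?_⟩⟩
    obtain ⟨t, ht, f, hf, ex⟩ := mem_sup_of_commute hTF x.2
    obtain ⟨t', ht', f', hf', ey⟩ := mem_sup_of_commute hTF y.2
    apply Subtype.ext
    simp only [Subgroup.coe_mul]
    rw [ex, ey]
    calc t * f * (t' * f') = t * (f * t') * f' := by group
      _ = t * (t' * f) * f' := by rw [hTF t' ht' f hf]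
      _ = (t * t') * (f * f') := by group
      _ = (t' * t) * (f' * f) := by
        rw [comm_of_isMulCommutative hTc ht ht', comm_of_isMulCommutative hFc hf hf']
      _ = t' * (t * f') * f := by group
      _ = t' * (f' * t) * f := by rw [hTF t ht f' hf']
      _ = t' * f' * (t * f) := by group
  have hcmT : ∀ a ∈ A, ∀ f ∈ ⁅B, T⁆, a * f * a⁻¹ * f⁻¹ ∈ T := by
    intro a ha f hf
    rw [← hK]; exact cm_mem ha hf
  have hAN : A ≤ Subgroup.normalizer ((T ⊔ ⁅B, T⁆ : Subgroup G) : Set G) := by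
    apply le_normalizer_of_conj_mem
    intro a ha v hv
    obtain ⟨t, ht, f, hf, ev⟩ := mem_sup_of_commute hTF hv
    have : a * v * a⁻¹ = t * ((a * f * a⁻¹ * f⁻¹) * f) := by
      rw [ev]
      calc a * (t * f) * a⁻¹ = (a * t) * f * a⁻¹ := by group
        _ = (t * a) * f * a⁻¹ := by rw [hcomm a ha t ht]
        _ = t * ((a * f * a⁻¹ * f⁻¹) * f) := by group
    rw [this]
    exact Subgroup.mul_mem _ (Subgroup.mem_sup_left ht)
      (Subgroup.mul_mem _ (Subgroup.mem_sup_left (hcmT a ha f hf)) (Subgroup.mem_sup_right hf))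
  have hBN : B ≤ Subgroup.normalizer ((T ⊔ ⁅B, T⁆ : Subgroup G) : Set G) := by
    apply le_normalizer_of_conj_mem
    intro b hb v hv
    obtain ⟨t, ht, f, hf, ev⟩ := mem_sup_of_commute hTF hv
    have : b * v * b⁻¹ = (b * t * b⁻¹ * t⁻¹) * t * f := by
      rw [ev]
      calc b * (t * f) * b⁻¹ = b * t * (f * b) * b⁻¹ * b⁻¹ := by group
        _ = b * t * (b * f) * b⁻¹ * b⁻¹ := by rw [hBF b hb f hf]
        _ = b * t * b * (f * b⁻¹) * b⁻¹ := by group
        _ = b * t * b * (b⁻¹ * f) * b⁻¹ := by rw [hBF b⁻¹ (B.inv_mem hb) f hf]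
        _ = b * t * (f * b⁻¹) := by group
        _ = b * t * (b⁻¹ * f) := by rw [hBF b⁻¹ (B.inv_mem hb) f hf]
        _ = (b * t * b⁻¹ * t⁻¹) * t * f := by group
    rw [this]
    exact Subgroup.mul_mem _ (Subgroup.mul_mem _ (Subgroup.mem_sup_right (cm_mem hb ht))
      (Subgroup.mem_sup_left ht)) (Subgroup.mem_sup_right hf)
  apply Cfsg.Agent.Lib.Helper8_ConjModule.special_of_conj hAB (T ⊔ ⁅B, T⁆) hV hAN hBN
  · intro a ha a' ha' v hv
    obtain ⟨t, ht, f, hf, ev⟩ := mem_sup_of_commute hTF hv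
    have hw : a * v * a⁻¹ * v⁻¹ ∈ T := by
      have : a * v * a⁻¹ * v⁻¹ = t * (a * f * a⁻¹ * f⁻¹) * t⁻¹ := by
        rw [ev]
        calc a * (t * f) * a⁻¹ * (t * f)⁻¹ = (a * t) * f * a⁻¹ * f⁻¹ * t⁻¹ := by group
          _ = (t * a) * f * a⁻¹ * f⁻¹ * t⁻¹ := by rw [hcomm a ha t ht]
          _ = t * (a * f * a⁻¹ * f⁻¹) * t⁻¹ := by group
      rw [this]
      exact T.mul_mem (T.mul_mem ht (hcmT a ha f hf)) (T.inv_mem ht)
    rw [hcomm a' ha' _ hw]
    group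
  · obtain ⟨a, ha, ha1⟩ := exists_left_ne_one hAB
    obtain ⟨b, hb, hb1⟩ := exists_right_ne_one hAB
    obtain ⟨t, ht1⟩ := (Subgroup.ne_bot_iff_exists_ne_one).mp (hS.ne_bot T hTS)
    have ht : (t : G) ∈ T := t.2
    have ht1' : (t : G) ≠ 1 := fun e => ht1 (Subtype.ext e)
    refine ⟨b, Subgroup.mem_sup_right hb, a, Subgroup.mem_sup_left ha, t, Subgroup.mem_sup_left ht,
      ?_⟩
    intro e
    have hφ : b * (t : G) * b⁻¹ * (t : G)⁻¹ ∈ ⁅B, T⁆ := cm_mem hb ht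
    have hφ1 : b * (t : G) * b⁻¹ * (t : G)⁻¹ ≠ 1 := by
      intro e1
      exact ht1' (centralizer_trivial hS hB hTS hA (Cfsg.RankOnePair_symm hAB) hccBT hb hb1 ht e1)
    apply hφ1
    apply centralizer_trivial hS hA hBT hB hAB hccAF ha ha1 hφ
    rw [e]; group

/-- Given a line partner `C` of `A` and a rank one partner `B` of `A`, some line partner `T` of
`A` has `⁅B, T⁆ ∈ S`. -/
theorem exists_line_comm (hS : Cfsg.IsRootSubgroupSet S)
    (hpart : ∀ A ∈ S, ∃ E ∈ S, Cfsg.IsRankOnePair A E) {A B C : Subgroup G} (hA : A ∈ S)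
    (hB : B ∈ S) (hAB : Cfsg.IsRankOnePair A B) (hC : C ∈ Cfsg.linePartners S A) :
    ∃ T ∈ Cfsg.linePartners S A, ⁅B, T⁆ ∈ S := by
  have hCS := hC.1.1
  have hcomm := commute_of_comm_eq_bot hC.1.2.2
  have hAc := hS.commutative A hA
  have hAC : A ⊓ C = ⊥ := by
    rcases Cfsg.Agent.S5028.result hS (not_isolated_of_partner hA hB hAB) hA C hCS with h | h
    · exact h
    · exact absurd h.symm hC.1.2.1
  have hAC1 : ∀ g, g ∈ A → g ∈ C → g = 1 := by
    intro g h1 h2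
    have h3 : g ∈ A ⊓ C := Subgroup.mem_inf.mpr ⟨h1, h2⟩
    rw [hAC] at h3
    exact Subgroup.mem_bot.mp h3
  rcases hS.pair B hB C hCS with h0 | h1 | h2
  · -- B and C commute: impossible
    exfalso
    have hBC := commute_of_comm_eq_bot h0
    obtain ⟨a, ha, ha1⟩ := exists_left_ne_one hAB
    obtain ⟨c, hc1⟩ := (Subgroup.ne_bot_iff_exists_ne_one).mp (hS.ne_bot C hCS)
    have hc : (c : G) ∈ C := c.2
    have hc1' : (c : G) ≠ 1 := fun e => hc1 (Subtype.ext e)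
    have hz : (c : G) ∈ Subgroup.centralizer ((A ⊔ B : Subgroup G) : Set G) :=
      mem_centralizer_sup (fun a' ha' => hcomm a' ha' c hc) (fun b' hb' => hBC b' hb' c hc)
    apply Cfsg.Agent.S5025.result hS hA ⟨hB, hAB⟩ hz hc1' a ha ha1
    apply line_root hC (Subgroup.mul_mem _ (Subgroup.mem_sup_right hc) (Subgroup.mem_sup_left ha))
    intro e
    apply hc1'
    have : (c : G) = a⁻¹ := eq_inv_of_mul_eq_one_left e
    exact hAC1 _ (this ▸ A.inv_mem ha) hc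
  · -- B and C a rank one pair
    obtain ⟨b, hb, hb1⟩ := exists_left_ne_one h1
    obtain ⟨a, ha, ha1, ea⟩ := hAB.cond_right b hb hb1
    obtain ⟨c, hc, hc1, ec⟩ := h1.cond_left b hb hb1
    have hcommBx : ∀ β ∈ B, ∀ y ∈ Cfsg.conjBy B (a * c⁻¹), β * y = y * β := by
      intro β hβ y hy
      rw [mem_conjBy] at hy
      have h1' : a⁻¹ * β * a ∈ Cfsg.conjBy B a⁻¹ := by
        have := conj_mem_conjBy B a⁻¹ hβ
        rwa [inv_inv] at this
      rw [ea, mem_conjBy, inv_inv] at h1'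
      have h2' : a⁻¹ * y * a ∈ Cfsg.conjBy B c⁻¹ := by
        rw [mem_conjBy]
        convert hy using 1
        group
      rw [ec, mem_conjBy, inv_inv] at h2'
      have h3 := hcomm _ h1' _ h2'
      calc β * y = (b * a⁻¹)⁻¹ * ((b * (a⁻¹ * β * a) * b⁻¹) * (b * (a⁻¹ * y * a) * b⁻¹)) *
            (b * a⁻¹) := by group
        _ = (b * a⁻¹)⁻¹ * ((b * (a⁻¹ * y * a) * b⁻¹) * (b * (a⁻¹ * β * a) * b⁻¹)) *
            (b * a⁻¹) := by rw [h3]
        _ = y * β := by group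
    have hx1 : a * c⁻¹ ≠ 1 := by
      intro e
      have : a = c := mul_inv_eq_one.mp e
      exact ha1 (hAC1 a ha (this ▸ hc))
    have hxAC : a * c⁻¹ ∈ A ⊔ C :=
      Subgroup.mul_mem _ (Subgroup.mem_sup_left ha) (Subgroup.mem_sup_right (C.inv_mem hc))
    obtain ⟨T, ⟨hTS, hTle⟩, hxT⟩ := hC.2.2.1 _ hxAC hx1
    have hTA : T ≠ A := by
      intro e
      rw [e] at hxT
      apply hc1
      have h3 : c⁻¹ ∈ A := by
        have : c⁻¹ = a⁻¹ * (a * c⁻¹) := by group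
        rw [this]; exact A.mul_mem (A.inv_mem ha) hxT
      have h4 : c ∈ A := by
        have := A.inv_mem h3
        rwa [inv_inv] at this
      exact hAC1 c h4 hc
    have hnot : ¬ Cfsg.IsRankOnePair B T := by
      intro hBT
      have hne : B ≠ Cfsg.conjBy B (a * c⁻¹) := by
        intro e
        exact hx1 (norm_left (Cfsg.RankOnePair_symm hBT) hxT (mem_normalizer_of_conjBy_eq e.symm))
      have hp := rankOnePair_of_mem_unipotent hBT (left_mem_unipotent B T)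
        (⟨a * c⁻¹, Subgroup.mem_sup_right hxT, rfl⟩ : Cfsg.conjBy B (a * c⁻¹) ∈
          Cfsg.unipotentSubgroups B T) hne
      exact not_centralizes hp hcommBx
    obtain ⟨hcc, _, _, hTL⟩ := line_structure' hS hpart hA hB hAB hC hTS hTle hTA hnot
    exact ⟨T, hTL, hcc.1⟩
  · exact ⟨C, hC, h2.1⟩

/-- Every member of a non-degenerate class has a line partner. -/
theorem exists_linePartner (hS : Cfsg.IsRootSubgroupSet S) (hcl : Cfsg.IsConjClassOfSubgroups S)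
    (hpart : ∀ A ∈ S, ∃ E ∈ S, Cfsg.IsRankOnePair A E)
    (hex : ∃ A ∈ S, ∃ B ∈ S, Cfsg.RootCommutatorCase S A B) {A : Subgroup G} (hA : A ∈ S) :
    ∃ C, C ∈ Cfsg.linePartners S A := by
  obtain ⟨A₁, hA₁, B₁, hB₁, hcc₁⟩ := hex
  obtain ⟨g, hg⟩ := hcl.2 A₁ hA₁ A hA
  have hB₂ : Cfsg.conjBy B₁ g ∈ S := hS.conj_mem B₁ hB₁ g
  have hC : ⁅A, Cfsg.conjBy B₁ g⁆ ∈ S := by
    rw [hg]
    show ⁅A₁.map _, B₁.map _⁆ ∈ S
    rw [← Subgroup.map_commutator]
    exact hS.conj_mem _ hcc₁.1 g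
  have hcc := commCase_of_mem hS hA hB₂ hC
  obtain ⟨E, hE, hAE⟩ := hpart A hA
  have := mem_linePartners hS hA hB₂ hE hAE hcc
  exact ⟨_, linePartners_symm hC this⟩

/-- In a non-degenerate class, every rank one pair is special, and some line partner `C` of
`A` has `⁅B, C⁆ ∈ S`. -/
theorem nondegenerate_special (hS : Cfsg.IsRootSubgroupSet S) (hcl : Cfsg.IsConjClassOfSubgroups S)
    (hex : ∃ A ∈ S, ∃ B ∈ S, Cfsg.RootCommutatorCase S A B) {A B : Subgroup G} (hA : A ∈ S)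
    (hB : B ∈ S) (hAB : Cfsg.IsRankOnePair A B) :
    (∃ C ∈ Cfsg.linePartners S A, C ∈ Cfsg.commutatorPartners S B) ∧
      Cfsg.IsSpecialRankOnePair A B := by
  have hpart := all_partner hS hcl hA hB hAB
  obtain ⟨C, hC⟩ := exists_linePartner hS hcl hpart hex hA
  obtain ⟨T, hT, hBT⟩ := exists_line_comm hS hpart hA hB hAB hC
  exact ⟨⟨T, hT, hT.1.1, hBT⟩, special_of_line hS hpart hA hB hAB hT hBT⟩


end Cfsg.Agent.Lib.Helper8_RootSpecial
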