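import Mathlib
import Cfsg.Prelude.Def_RootSubgroups
import Cfsg.Agent.Lib.Helper8_RankOne
import Cfsg.Agent.Lib.Helper8_RootBase
import Cfsg.Agent.Lib.Helper8_RootLine
import Cfsg.Agent.Lib.Helper8_RootComp
import Cfsg.Agent.Lib.Helper8_RootSpecial

set_option autoImplicit false
set_option linter.unusedVariables false
set_option linter.unusedSimpArgs false
set_option linter.style.haveILetI false
set_option linter.unusedSectionVars false
open Cfsg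

/-!
# Geometry of lines in classes of abstract root subgroups
-/

namespace Cfsg.Agent.Lib.Helper8_RootGeom

open Cfsg.Agent.Lib.Helper8_RankOne Cfsg.Agent.Lib.Helper8_RootBase Cfsg.Agent.Lib.Helper8_RootLine
  Cfsg.Agent.Lib.Helper8_RootComp Cfsg.Agent.Lib.Helper8_RootSpecial
open scoped commutatorElement

variable {G : Type*} [Group G] {S : Set (Subgroup G)}

/-- A rank one edge gives a path of length three in the graph of line partners. -/
theorem epath_of_edge (hS : Cfsg.IsRootSubgroupSet S) (hcl : Cfsg.IsConjClassOfSubgroups S)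
    (hex : ∃ A ∈ S, ∃ B ∈ S, Cfsg.RootCommutatorCase S A B) {P Q : Subgroup G} (hP : P ∈ S)
    (hQ : Q ∈ S) (hPQ : Cfsg.IsRankOnePair P Q) :
    Relation.ReflTransGen (Cfsg.EAdj S S) P Q := by
  have hpart := all_partner hS hcl hP hQ hPQ
  obtain ⟨⟨T, hT, hTS, hQT⟩, _⟩ := nondegenerate_special hS hcl hex hP hQ hPQ
  have hcc := commCase_of_mem hS hQ hTS hQT
  have h3 : Q ∈ Cfsg.linePartners S ⁅Q, T⁆ :=
    mem_linePartners hS hQ hTS hP (Cfsg.RankOnePair_symm hPQ) hcc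
  obtain ⟨E', hE', hTE'⟩ := hpart T hTS
  have h2' : T ∈ Cfsg.linePartners S ⁅T, Q⁆ :=
    mem_linePartners hS hTS hQ hE' hTE' (commCase_symm hcc)
  rw [Subgroup.commutator_comm T Q] at h2'
  have h2 : ⁅Q, T⁆ ∈ Cfsg.linePartners S T := linePartners_symm hQT h2'
  have e1 : Cfsg.EAdj S S P T := ⟨hP, hTS, hT⟩
  have e2 : Cfsg.EAdj S S T ⁅Q, T⁆ := ⟨hTS, hQT, h2⟩
  have e3 : Cfsg.EAdj S S ⁅Q, T⁆ Q := ⟨hQT, hQ, h3⟩
  exact ((Relation.ReflTransGen.single e1).tail e2).tail e3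

theorem econnected (hS : Cfsg.IsRootSubgroupSet S) (hcl : Cfsg.IsConjClassOfSubgroups S)
    (hro : ∃ A ∈ S, ∃ B ∈ S, Cfsg.IsRankOnePair A B)
    (hex : ∃ A ∈ S, ∃ B ∈ S, Cfsg.RootCommutatorCase S A B) :
    Cfsg.IsConnectedFamily (Cfsg.EAdj S S) S := by
  obtain ⟨A₀, hA₀, E₀, hE₀, h₀⟩ := hro
  have hc := connected_of_class hS hcl hA₀ hE₀ h₀
  intro A hA B hB
  have := hc A hA B hB
  induction this with
  | refl => exact Relation.ReflTransGen.refl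
  | tail _ hbc ih => exact (ih hbc.1).trans (epath_of_edge hS hcl hex hbc.1 hbc.2.1 hbc.2.2)

theorem dconnected_of_econnected (h : Cfsg.IsConnectedFamily (Cfsg.EAdj S S) S) :
    Cfsg.IsConnectedFamily (Cfsg.DAdj S) S := by
  intro A hA B hB
  have := h A hA B hB
  induction this with
  | refl => exact Relation.ReflTransGen.refl
  | tail _ hbc ih =>
    obtain ⟨hP, hQ, hQP⟩ := hbc
    exact (ih hP).tail ⟨hP, hQ, hQP.1.2.1.symm, hQP.1.2.2⟩

/-- Strengthening of `exists_line_comm`: the line through `A` and `T` is the given line. -/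
theorem exists_line_comm' (hS : Cfsg.IsRootSubgroupSet S)
    (hpart : ∀ A ∈ S, ∃ E ∈ S, Cfsg.IsRankOnePair A E) {A B C : Subgroup G} (hA : A ∈ S)
    (hB : B ∈ S) (hAB : Cfsg.IsRankOnePair A B) (hC : C ∈ Cfsg.linePartners S A) :
    ∃ T ∈ Cfsg.linePartners S A, ⁅B, T⁆ ∈ S ∧ A ⊔ T = A ⊔ C := by
  have hCS := hC.1.1
  have hcomm := commute_of_comm_eq_bot hC.1.2.2
  have hAc := hS.commutative A hA
  have hAC : A ⊓ C = ⊥ := by
    rcases Cfsg.Agent.S5028.result hS (not_isolated_of_partner hA hB hAB) hA C hCS with h | h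
    · exact h
    · exact absurd h.symm hC.1.2.1
  have hAC1 : ∀ g, g ∈ A → g ∈ C → g = 1 := by
    intro g h1 h2
    have h3 : g ∈ A ⊓ C := Subgroup.mem_inf.mpr ⟨h1, h2⟩
    rw [hAC] at h3
    exact Subgroup.mem_bot.mp h3
  rcases hS.pair B hB C hCS with h0 | h1 | h2
  · obtain ⟨T, hT, hBT⟩ := exists_line_comm hS hpart hA hB hAB hC
    exfalso
    have hBC := commute_of_comm_eq_bot h0
    obtain ⟨a, ha, ha1⟩ := exists_left_ne_one hAB
    obtain ⟨c, hc1⟩ := (Subgroup.ne_bot_iff_exists_ne_one).mp (hS.ne_bot C hCS)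
    have hc : (c : G) ∈ C := c.2
    have hc1' : (c : G) ≠ 1 := fun e => hc1 (Subtype.ext e)
    have hz : (c : G) ∈ Subgroup.centralizer ((A ⊔ B : Subgroup G) : Set G) :=
      mem_centralizer_sup (fun a' ha' => hcomm a' ha' c hc) (fun b' hb' => hBC b' hb' c hc)
    apply Cfsg.Agent.S5025.result hS hA ⟨hB, hAB⟩ hz hc1' a ha ha1
    apply line_root hC (Subgroup.mul_mem _ (Subgroup.mem_sup_right hc) (Subgroup.mem_sup_left ha))
    intro e
    apply hc1'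
    have : (c : G) = a⁻¹ := eq_inv_of_mul_eq_one_left e
    exact hAC1 _ (this ▸ A.inv_mem ha) hc
  · obtain ⟨b, hb, hb1⟩ := exists_left_ne_one h1
    obtain ⟨a, ha, ha1, ea⟩ := hAB.cond_right b hb hb1
    obtain ⟨c, hc, hc1, ec⟩ := h1.cond_left b hb hb1
    have hcommBx : ∀ β ∈ B, ∀ y ∈ Cfsg.conjBy B (a * c⁻¹), β * y = y * β := by
      intro β hβ y hy
      rw [mem_conjBy] at hy
      have h1' : a⁻¹ * β * a ∈ Cfsg.conjBy B a⁻¹ := by
        have := conj_mem_conjBy B a⁻¹ hβ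
        rwa [inv_inv] at this
      rw [ea, mem_conjBy, inv_inv] at h1'
      have h2' : a⁻¹ * y * a ∈ Cfsg.conjBy B c⁻¹ := by
        rw [mem_conjBy]
        convert hy using 1
        group
      rw [ec, mem_conjBy, inv_inv] at h2'
      have h3 := hcomm _ h1' _ h2'
      calc β * y = (b * a⁻¹)⁻¹ * ((b * (a⁻¹ * β * a) * b⁻¹) * (b * (a⁻¹ * y * a) * b⁻¹)) *
            (b * a⁻¹) := by group
        _ = (b * a⁻¹)⁻¹ * ((b * (a⁻¹ * y * a) * b⁻¹) * (b * (a⁻¹ * β * a) * b⁻¹)) *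
            (b * a⁻¹) := by rw [h3]
        _ = y * β := by group
    have hx1 : a * c⁻¹ ≠ 1 := by
      intro e
      have : a = c := mul_inv_eq_one.mp e
      exact ha1 (hAC1 a ha (this ▸ hc))
    have hxAC : a * c⁻¹ ∈ A ⊔ C :=
      Subgroup.mul_mem _ (Subgroup.mem_sup_left ha) (Subgroup.mem_sup_right (C.inv_mem hc))
    obtain ⟨T, ⟨hTS, hTle⟩, hxT⟩ := hC.2.2.1 _ hxAC hx1
    have hTA : T ≠ A := by
      intro e
      rw [e] at hxT
      apply hc1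
      have h3 : c⁻¹ ∈ A := by
        have : c⁻¹ = a⁻¹ * (a * c⁻¹) := by group
        rw [this]; exact A.mul_mem (A.inv_mem ha) hxT
      have h4 : c ∈ A := by
        have := A.inv_mem h3
        rwa [inv_inv] at this
      exact hAC1 c h4 hc
    have hnot : ¬ Cfsg.IsRankOnePair B T := by
      intro hBT
      have hne : B ≠ Cfsg.conjBy B (a * c⁻¹) := by
        intro e
        exact hx1 (norm_left (Cfsg.RankOnePair_symm hBT) hxT (mem_normalizer_of_conjBy_eq e.symm))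
      have hp := rankOnePair_of_mem_unipotent hBT (left_mem_unipotent B T)
        (⟨a * c⁻¹, Subgroup.mem_sup_right hxT, rfl⟩ : Cfsg.conjBy B (a * c⁻¹) ∈
          Cfsg.unipotentSubgroups B T) hne
      exact not_centralizes hp hcommBx
    obtain ⟨hcc, _, _, hTL⟩ := line_structure' hS hpart hA hB hAB hC hTS hTle hTA hnot
    refine ⟨T, hTL, hcc.1, ?_⟩
    have hcAT : c ∈ A ⊔ T := by
      have h3 : c⁻¹ ∈ A ⊔ T := by
        have : c⁻¹ = a⁻¹ * (a * c⁻¹) := by group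
        rw [this]
        exact Subgroup.mul_mem _ (Subgroup.mem_sup_left (A.inv_mem ha)) (Subgroup.mem_sup_right hxT)
      have := Subgroup.inv_mem _ h3
      rwa [inv_inv] at this
    obtain ⟨T'', ⟨hT''S, hT''le⟩, hcT''⟩ := hTL.2.2.1 c hcAT hc1
    obtain ⟨E, hE, hCE⟩ := hpart C hCS
    have hCT'' : C = T'' := Cfsg.Agent.S5028.eq_of_mem_inf hS hCS hE hCE hT''S hc hcT'' hc1
    have hCle : C ≤ A ⊔ T := hCT'' ▸ hT''le
    exact le_antisymm (sup_le le_sup_left hTle) (sup_le le_sup_left hCle)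
  · exact ⟨C, hC, h2.1, rfl⟩

/-- On a line through `A` there is a point `T ≠ A` fixed by a member `F` of `S` normalizing the
line which acts transitively on the remaining points. -/
theorem line_point (hS : Cfsg.IsRootSubgroupSet S)
    (hpart : ∀ A ∈ S, ∃ E ∈ S, Cfsg.IsRankOnePair A E) {A C : Subgroup G} (hA : A ∈ S)
    (hC : C ∈ Cfsg.linePartners S A) :
    ∃ T F : Subgroup G, T ∈ Cfsg.linePartners S A ∧ A ⊔ T = A ⊔ C ∧ F ∈ S ∧
      F ≤ Subgroup.normalizer ((A ⊔ C : Subgroup G) : Set G) ∧ (∀ f ∈ F, Cfsg.conjBy T f = T) ∧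
      (∃ f ∈ F, f ≠ 1 ∧ Cfsg.conjBy A f ≠ A ∧ Cfsg.conjBy A f ≠ T ∧
        Cfsg.conjBy A f ∈ Cfsg.membersIn S (A ⊔ C)) ∧
      ∀ P ∈ Cfsg.membersIn S (A ⊔ C), ∀ Q ∈ Cfsg.membersIn S (A ⊔ C), P ≠ T → Q ≠ T →
        ∃ f ∈ F, Cfsg.conjBy P f = Q := by
  obtain ⟨E, hE, hAE⟩ := hpart A hA
  obtain ⟨T, hT, hET, hsup⟩ := exists_line_comm' hS hpart hA hE hAE hC
  obtain ⟨hccET, hccAF, hK⟩ := line_structure hS hpart hA hE hAE hT hET
  have hTS := hT.1.1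
  have hmem := membersIn_eq hS hA hET hE hAE hccAF
  rw [hK, hsup] at hmem
  have hfT : ∀ f ∈ ⁅E, T⁆, ∀ t ∈ T, f * t = t * f := by
    intro f hf t ht
    have ht' : t ∈ ⁅A, ⁅E, T⁆⁆ := by rw [hK]; exact ht
    exact (hccAF.2.1 t ht' f (Subgroup.mem_sup_right hf)).symm
  have hfix : ∀ f ∈ ⁅E, T⁆, Cfsg.conjBy T f = T := fun f hf =>
    conjBy_of_centralizes (hfT f hf)
  have hconjA : ∀ f ∈ ⁅E, T⁆, Cfsg.conjBy A f ≤ A ⊔ T := by
    intro f hf
    have := conj_le_sup hS hA hET hE hAE hccAF hf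
    rwa [hK] at this
  have hAT : A ⊓ T = ⊥ := by
    rcases Cfsg.Agent.S5028.result hS (not_isolated_of_partner hA hE hAE) hA T hTS with h | h
    · exact h
    · exact absurd h.symm hT.1.2.1
  have hmove : ∀ f ∈ ⁅E, T⁆, f ≠ 1 → Cfsg.conjBy A f ≠ A := by
    intro f hf hf1 e
    apply hf1
    obtain ⟨a, ha, ha1⟩ := exists_left_ne_one hAE
    apply centralizer_trivial hS hA hET hE hAE hccAF ha ha1 hf
    have h1 : f * a⁻¹ * f⁻¹ ∈ A := by
      rw [← e]; exact conj_mem_conjBy A f (A.inv_mem ha)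
    have h2 : a * f * a⁻¹ * f⁻¹ ∈ A := by
      have : a * f * a⁻¹ * f⁻¹ = a * (f * a⁻¹ * f⁻¹) := by group
      rw [this]; exact A.mul_mem ha h1
    have h3 : a * f * a⁻¹ * f⁻¹ ∈ T := by
      rw [← hK]; exact cm_mem ha hf
    have h4 : a * f * a⁻¹ * f⁻¹ ∈ A ⊓ T := Subgroup.mem_inf.mpr ⟨h2, h3⟩
    rw [hAT] at h4
    exact Subgroup.mem_bot.mp h4
  refine ⟨T, ⁅E, T⁆, hT, hsup, hET, ?_, hfix, ?_, ?_⟩
  · rw [← hsup]
    apply le_normalizer_of_conj_mem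
    intro f hf v hv
    have h1 : f * v * f⁻¹ ∈ Cfsg.conjBy (A ⊔ T) f := conj_mem_conjBy _ f hv
    rw [conjBy_sup, hfix f hf] at h1
    exact (sup_le (hconjA f hf) le_sup_right) h1
  · obtain ⟨f, hf1⟩ := (Subgroup.ne_bot_iff_exists_ne_one).mp (hS.ne_bot _ hET)
    have hf : (f : G) ∈ ⁅E, T⁆ := f.2
    have hf1' : (f : G) ≠ 1 := fun e => hf1 (Subtype.ext e)
    refine ⟨f, hf, hf1', hmove f hf hf1', ?_, ?_⟩
    · intro e
      apply hT.1.2.1
      have := congrArg (fun X => Cfsg.conjBy X (f : G)⁻¹) e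
      simp only [conjBy_inv_conjBy] at this
      rw [this]
      symm
      exact conjBy_of_centralizes (fun t ht => by
        have := hfT f hf t ht
        calc (f : G)⁻¹ * t = (f : G)⁻¹ * (t * f) * (f : G)⁻¹ := by group
          _ = (f : G)⁻¹ * (f * t) * (f : G)⁻¹ := by rw [this]
          _ = t * (f : G)⁻¹ := by group)
    · rw [hmem]
      left
      exact ⟨f, hf, rfl⟩
  · intro P hP Q hQ hPT hQT
    rw [hmem] at hP hQ
    rcases hP with ⟨f₁, hf₁, rfl⟩ | hP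
    · rcases hQ with ⟨f₂, hf₂, rfl⟩ | hQ
      · refine ⟨f₂ * f₁⁻¹, Subgroup.mul_mem _ hf₂ (Subgroup.inv_mem _ hf₁), ?_⟩
        rw [conjBy_conjBy]
        congr 1
        group
      · exact absurd hQ hQT
    · exact absurd hP hPT

/-- Double transitivity on a line. -/
theorem line_doubly_transitive (hS : Cfsg.IsRootSubgroupSet S)
    (hpart : ∀ A ∈ S, ∃ E ∈ S, Cfsg.IsRankOnePair A E) {A B : Subgroup G} (hA : A ∈ S)
    (hB : B ∈ Cfsg.linePartners S A) :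
    ∀ C₁ ∈ Cfsg.membersIn S (A ⊔ B), ∀ C₂ ∈ Cfsg.membersIn S (A ⊔ B),
      ∀ D₁ ∈ Cfsg.membersIn S (A ⊔ B), ∀ D₂ ∈ Cfsg.membersIn S (A ⊔ B), C₁ ≠ C₂ → D₁ ≠ D₂ →
        ∃ x ∈ ⨆ E ∈ Cfsg.normalizingMembers S (A ⊔ B), E,
          Cfsg.conjBy C₁ x = D₁ ∧ Cfsg.conjBy C₂ x = D₂ := by
  obtain ⟨T, F, hT, hsup, hFS, hFN, hfix, ⟨f₀, hf₀, hf₀1, hf₀A, hf₀T, hf₀mem⟩, htrans⟩ :=
    line_point hS hpart hA hB
  have hTS := hT.1.1
  have hAT : A ∈ Cfsg.linePartners S T := linePartners_symm hA hT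
  obtain ⟨T', F', hT', hsup', hF'S, hF'N, hfix', _, htrans'⟩ := line_point hS hpart hTS hAT
  have hN : T ⊔ A = A ⊔ B := by rw [sup_comm, hsup]
  rw [hN] at hF'N htrans'
  have hT'T : T' ≠ T := hT'.1.2.1
  have hTmem : T ∈ Cfsg.membersIn S (A ⊔ B) := ⟨hTS, by rw [← hsup]; exact le_sup_right⟩
  have hT'mem : T' ∈ Cfsg.membersIn S (A ⊔ B) :=
    ⟨hT'.1.1, by rw [← hN, ← hsup']; exact le_sup_right⟩
  have hAmem : A ∈ Cfsg.membersIn S (A ⊔ B) := ⟨hA, le_sup_left⟩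
  set M : Subgroup G := ⨆ E ∈ Cfsg.normalizingMembers S (A ⊔ B), E with hM
  have hFM : F ≤ M := le_iSup₂ (f := fun (E : Subgroup G)
    (_ : E ∈ Cfsg.normalizingMembers S (A ⊔ B)) => E) F ⟨hFS, hFN⟩
  have hF'M : F' ≤ M := le_iSup₂ (f := fun (E : Subgroup G)
    (_ : E ∈ Cfsg.normalizingMembers S (A ⊔ B)) => E) F' ⟨hF'S, hF'N⟩
  have hMN : M ≤ Subgroup.normalizer ((A ⊔ B : Subgroup G) : Set G) :=
    iSup₂_le (fun E hE => hE.2)
  have hinv : ∀ x ∈ M, ∀ P ∈ Cfsg.membersIn S (A ⊔ B),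
      Cfsg.conjBy P x ∈ Cfsg.membersIn S (A ⊔ B) := by
    intro x hx P hP
    refine ⟨hS.conj_mem P hP.1 x, ?_⟩
    have := conjBy_mono x hP.2
    rwa [conjBy_of_mem_normalizer (hMN hx)] at this
  -- a third point
  obtain ⟨R, hRmem, hRT, hRT'⟩ : ∃ R ∈ Cfsg.membersIn S (A ⊔ B), R ≠ T ∧ R ≠ T' := by
    by_cases h : A = T'
    · refine ⟨Cfsg.conjBy A f₀, hf₀mem, hf₀T, ?_⟩
      rw [← h]; exact hf₀A
    · exact ⟨A, hAmem, hT.1.2.1.symm, h⟩
  have base : ∀ P ∈ Cfsg.membersIn S (A ⊔ B), ∃ m ∈ M, Cfsg.conjBy P m = T := by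
    intro P hP
    by_cases hPT : P = T
    · exact ⟨1, M.one_mem, by rw [conjBy_one, hPT]⟩
    · by_cases hPT' : P = T'
      · obtain ⟨f, hf, e1⟩ := htrans T' hT'mem R hRmem hT'T hRT
        obtain ⟨f', hf', e2⟩ := htrans' R hRmem T hTmem hRT' hT'T.symm
        refine ⟨f' * f, M.mul_mem (hF'M hf') (hFM hf), ?_⟩
        rw [← conjBy_conjBy, hPT', e1, e2]
      · obtain ⟨f', hf', e2⟩ := htrans' P hP T hTmem hPT' hT'T.symm
        exact ⟨f', hF'M hf', e2⟩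
  intro C₁ hC₁ C₂ hC₂ D₁ hD₁ D₂ hD₂ hC hD
  obtain ⟨m₁, hm₁, e₁⟩ := base C₁ hC₁
  obtain ⟨m₂, hm₂, e₂⟩ := base D₁ hD₁
  have hP : Cfsg.conjBy C₂ m₁ ≠ T := by
    intro e
    apply hC
    rw [← e] at e₁
    exact conjBy_injective m₁ e₁
  have hQ : Cfsg.conjBy D₂ m₂ ≠ T := by
    intro e
    apply hD
    rw [← e] at e₂
    exact conjBy_injective m₂ e₂
  obtain ⟨f, hf, e₃⟩ := htrans _ (hinv m₁ hm₁ C₂ hC₂) _ (hinv m₂ hm₂ D₂ hD₂) hP hQ
  refine ⟨m₂⁻¹ * f * m₁, M.mul_mem (M.mul_mem (M.inv_mem hm₂) (hFM hf)) hm₁, ?_, ?_⟩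
  · rw [← conjBy_conjBy, ← conjBy_conjBy, e₁, hfix f hf, ← e₂, conjBy_inv_conjBy]
  · rw [← conjBy_conjBy, ← conjBy_conjBy, e₃, conjBy_inv_conjBy]


end Cfsg.Agent.Lib.Helper8_RootGeom
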