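import Mathlib
import Cfsg.Prelude.Def_RootSubgroups
import Cfsg.Agent.Lib.Helper8_RankOne
import Cfsg.Agent.Lib.Helper8_RootBase
import Cfsg.Agent.Lib.Helper8_RootLine
import Cfsg.Agent.Lib.Helper8_RootComp
import Cfsg.Agent.Lib.Helper8_RootSpecial

set_option autoImplicit false
set_option linter.unusedVariables false
set_option linter.unusedSimpArgs false
set_option linter.style.haveILetI false
set_option linter.unusedSectionVars false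
open Cfsg

/-!
# The nilpotent group generated by three members `A, B, C` with `⁅A, B⁆, ⁅B, C⁆ ∈ S`, `⁅A, C⁆ = 1`
-/

namespace Cfsg.Agent.Lib.Helper8_RootNilp

open Cfsg.Agent.Lib.Helper8_RankOne Cfsg.Agent.Lib.Helper8_RootBase Cfsg.Agent.Lib.Helper8_RootLine
  Cfsg.Agent.Lib.Helper8_RootSpecial Cfsg.Agent.Lib.Helper8_RootComp
open scoped commutatorElement

variable {G : Type*} [Group G]

/-! ### Generalities -/

/-- An element commuting with `H₁` and `H₂` commutes with `⁅H₁, H₂⁆`. -/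
theorem commutes_commutator {H₁ H₂ : Subgroup G} {x : G} (h1 : ∀ h ∈ H₁, h * x = x * h)
    (h2 : ∀ h ∈ H₂, h * x = x * h) : ∀ k ∈ ⁅H₁, H₂⁆, k * x = x * k := by
  intro k hk
  have hz := mem_centralizer_sup h1 h2
  rw [Subgroup.mem_centralizer_iff] at hz
  exact hz k (Subgroup.commutator_le_sup H₁ H₂ hk)

theorem commutes_sup {H₁ H₂ : Subgroup G} {x : G} (h1 : ∀ h ∈ H₁, h * x = x * h)
    (h2 : ∀ h ∈ H₂, h * x = x * h) : ∀ k ∈ H₁ ⊔ H₂, k * x = x * k := by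
  intro k hk
  have hz := mem_centralizer_sup h1 h2
  rw [Subgroup.mem_centralizer_iff] at hz
  exact hz k hk

theorem conjBy_le_sup_comm {A B : Subgroup G} {g : G} (hg : g ∈ B) :
    Cfsg.conjBy A g ≤ A ⊔ ⁅A, B⁆ := by
  intro y hy
  rw [mem_conjBy] at hy
  have : y = (g⁻¹ * y * g * g * (g⁻¹ * y * g)⁻¹ * g⁻¹)⁻¹ * (g⁻¹ * y * g) := by group
  rw [this]
  exact Subgroup.mul_mem _ (Subgroup.mem_sup_right (Subgroup.inv_mem _ (cm_mem hy hg)))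
    (Subgroup.mem_sup_left hy)

theorem isMulCommutative_sup {P Q : Subgroup G} (hP : IsMulCommutative P) (hQ : IsMulCommutative Q)
    (hPQ : ∀ p ∈ P, ∀ q ∈ Q, p * q = q * p) : IsMulCommutative ↥(P ⊔ Q) := by
  refine ⟨⟨fun x y => ?_⟩⟩
  obtain ⟨t, ht, f, hf, ex⟩ := mem_sup_of_commute hPQ x.2
  obtain ⟨t', ht', f', hf', ey⟩ := mem_sup_of_commute hPQ y.2
  apply Subtype.ext
  simp only [Subgroup.coe_mul]
  rw [ex, ey]
  calc t * f * (t' * f') = t * (f * t') * f' := by group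
    _ = t * (t' * f) * f' := by rw [hPQ t' ht' f hf]
    _ = (t * t') * (f * f') := by group
    _ = (t' * t) * (f' * f) := by
      rw [comm_of_isMulCommutative hP ht ht', comm_of_isMulCommutative hQ hf hf']
    _ = t' * (t * f') * f := by group
    _ = t' * (f' * t) * f := by rw [hPQ t ht f' hf']
    _ = t' * f' * (t * f) := by group

/-- Elementwise commuting of joins. -/
theorem commute_sup_sup {P₁ P₂ Q₁ Q₂ : Subgroup G} (h11 : ∀ p ∈ P₁, ∀ q ∈ Q₁, p * q = q * p)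
    (h12 : ∀ p ∈ P₁, ∀ q ∈ Q₂, p * q = q * p) (h21 : ∀ p ∈ P₂, ∀ q ∈ Q₁, p * q = q * p)
    (h22 : ∀ p ∈ P₂, ∀ q ∈ Q₂, p * q = q * p) : ∀ p ∈ P₁ ⊔ P₂, ∀ q ∈ Q₁ ⊔ Q₂, p * q = q * p := by
  intro p hp q hq
  have hq' : ∀ p' ∈ P₁ ⊔ P₂, p' * q = q * p' := by
    apply commutes_sup
    · intro p₁ hp₁
      exact (commutes_sup (fun q₁ hq₁ => (h11 p₁ hp₁ q₁ hq₁).symm)
        (fun q₂ hq₂ => (h12 p₁ hp₁ q₂ hq₂).symm) q hq).symm
    · intro p₂ hp₂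
      exact (commutes_sup (fun q₁ hq₁ => (h21 p₂ hp₂ q₁ hq₁).symm)
        (fun q₂ hq₂ => (h22 p₂ hp₂ q₂ hq₂).symm) q hq).symm
  exact hq' p hp

/-- Two abelian subgroups whose mutual commutators lie in a subgroup `Z` centralized by both
generate a group of class at most two. -/
theorem comm_mem_of_gens {P Q Z : Subgroup G} (hP : IsMulCommutative P) (hQ : IsMulCommutative Q)
    (hZ : ∀ z ∈ Z, ∀ x ∈ P ⊔ Q, z * x = x * z) (hPQ : ∀ p ∈ P, ∀ q ∈ Q, p * q * p⁻¹ * q⁻¹ ∈ Z) :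
    ∀ g ∈ P ⊔ Q, ∀ h ∈ P ⊔ Q, g * h * g⁻¹ * h⁻¹ ∈ Z := by
  have step1 : ∀ g ∈ P ⊔ Q, ∀ h, (h ∈ P ∨ h ∈ Q) → g * h * g⁻¹ * h⁻¹ ∈ Z := by
    intro g hg
    rw [Subgroup.sup_eq_closure] at hg
    induction hg using Subgroup.closure_induction with
    | mem x hx =>
      intro h hh
      rcases hx with hx | hx
      · rcases hh with hh | hh
        · have : x * h * x⁻¹ * h⁻¹ = 1 := by
            rw [comm_of_isMulCommutative hP hx hh]; group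
          rw [this]; exact Z.one_mem
        · exact hPQ x hx h hh
      · rcases hh with hh | hh
        · have : x * h * x⁻¹ * h⁻¹ = (h * x * h⁻¹ * x⁻¹)⁻¹ := by group
          rw [this]; exact Z.inv_mem (hPQ h hh x hx)
        · have : x * h * x⁻¹ * h⁻¹ = 1 := by
            rw [comm_of_isMulCommutative hQ hx hh]; group
          rw [this]; exact Z.one_mem
    | one =>
      intro h hh
      have : (1 : G) * h * 1⁻¹ * h⁻¹ = 1 := by group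
      rw [this]; exact Z.one_mem
    | mul g₁ g₂ hg₁ hg₂ ih₁ ih₂ =>
      intro h hh
      rw [← Subgroup.sup_eq_closure] at hg₁ hg₂
      have e : (g₁ * g₂) * h * (g₁ * g₂)⁻¹ * h⁻¹ =
          g₁ * (g₂ * h * g₂⁻¹ * h⁻¹) * g₁⁻¹ * (g₁ * h * g₁⁻¹ * h⁻¹) := by group
      rw [e]
      have hz := ih₂ h hh
      have : g₁ * (g₂ * h * g₂⁻¹ * h⁻¹) * g₁⁻¹ = g₂ * h * g₂⁻¹ * h⁻¹ := by
        rw [← hZ _ hz g₁ hg₁]; group
      rw [this]
      exact Z.mul_mem hz (ih₁ h hh)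
    | inv g hg ih =>
      intro h hh
      rw [← Subgroup.sup_eq_closure] at hg
      have hz := ih h hh
      have e : g⁻¹ * h * g⁻¹⁻¹ * h⁻¹ = g⁻¹ * (g * h * g⁻¹ * h⁻¹)⁻¹ * g := by group
      rw [e]
      have : g⁻¹ * (g * h * g⁻¹ * h⁻¹)⁻¹ * g = (g * h * g⁻¹ * h⁻¹)⁻¹ := by
        have h1 := hZ _ (Z.inv_mem hz) g hg
        calc g⁻¹ * (g * h * g⁻¹ * h⁻¹)⁻¹ * g = g⁻¹ * ((g * h * g⁻¹ * h⁻¹)⁻¹ * g) := by group
          _ = g⁻¹ * (g * (g * h * g⁻¹ * h⁻¹)⁻¹) := by rw [h1]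
          _ = _ := by group
      rw [this]
      exact Z.inv_mem hz
  intro g hg h hh
  rw [Subgroup.sup_eq_closure] at hh
  induction hh using Subgroup.closure_induction with
  | mem x hx => exact step1 g hg x hx
  | one =>
    have : g * 1 * g⁻¹ * (1 : G)⁻¹ = 1 := by group
    rw [this]; exact Z.one_mem
  | mul h₁ h₂ hh₁ hh₂ ih₁ ih₂ =>
    rw [← Subgroup.sup_eq_closure] at hh₁ hh₂
    have e : g * (h₁ * h₂) * g⁻¹ * (h₁ * h₂)⁻¹ =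
        (g * h₁ * g⁻¹ * h₁⁻¹) * (h₁ * (g * h₂ * g⁻¹ * h₂⁻¹) * h₁⁻¹) := by group
    rw [e]
    have : h₁ * (g * h₂ * g⁻¹ * h₂⁻¹) * h₁⁻¹ = g * h₂ * g⁻¹ * h₂⁻¹ := by
      rw [← hZ _ ih₂ h₁ hh₁]; group
    rw [this]
    exact Z.mul_mem ih₁ ih₂
  | inv h hh ih =>
    rw [← Subgroup.sup_eq_closure] at hh
    have e : g * h⁻¹ * g⁻¹ * h⁻¹⁻¹ = h⁻¹ * (g * h * g⁻¹ * h⁻¹)⁻¹ * h := by group
    rw [e]
    have : h⁻¹ * (g * h * g⁻¹ * h⁻¹)⁻¹ * h = (g * h * g⁻¹ * h⁻¹)⁻¹ := by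
      have h1 := hZ _ (Z.inv_mem ih) h hh
      calc h⁻¹ * (g * h * g⁻¹ * h⁻¹)⁻¹ * h = h⁻¹ * ((g * h * g⁻¹ * h⁻¹)⁻¹ * h) := by group
        _ = h⁻¹ * (h * (g * h * g⁻¹ * h⁻¹)⁻¹) := by rw [h1]
        _ = _ := by group
    rw [this]
    exact Z.inv_mem ih

theorem class_two_of_gens {P Q Z : Subgroup G} (hP : IsMulCommutative P) (hQ : IsMulCommutative Q)
    (hZ : ∀ z ∈ Z, ∀ x ∈ P ⊔ Q, z * x = x * z) (hPQ : ∀ p ∈ P, ∀ q ∈ Q, p * q * p⁻¹ * q⁻¹ ∈ Z) :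
    ⁅⁅P ⊔ Q, P ⊔ Q⁆, P ⊔ Q⁆ = ⊥ := by
  have h1 : ⁅P ⊔ Q, P ⊔ Q⁆ ≤ Z := by
    rw [Subgroup.commutator_le]
    intro g hg h hh
    rw [commutatorElement_def]
    exact comm_mem_of_gens hP hQ hZ hPQ g hg h hh
  rw [Subgroup.commutator_eq_bot_iff_le_centralizer]
  intro k hk
  rw [Subgroup.mem_centralizer_iff]
  intro x hx
  exact (hZ k (h1 hk) x hx).symm

/-! ### Upper central series from generators -/

/-- `p` lies in `R` and in the `n`-th term of the upper central series of `R`. -/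
def InZ (R : Subgroup G) (n : ℕ) (p : G) : Prop :=
  ∃ hp : p ∈ R, (⟨p, hp⟩ : ↥R) ∈ Subgroup.upperCentralSeries ↥R n

theorem inZ_one (R : Subgroup G) (n : ℕ) : InZ R n 1 :=
  ⟨R.one_mem, (Subgroup.upperCentralSeries ↥R n).one_mem⟩

theorem inZ_of_eq_one {R : Subgroup G} {n : ℕ} {p : G} (h : p = 1) : InZ R n p := by
  rw [h]; exact inZ_one R n

theorem inZ_mono {R : Subgroup G} {m n : ℕ} (hmn : m ≤ n) {p : G} (h : InZ R m p) : InZ R n p := by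
  obtain ⟨hp, hz⟩ := h
  exact ⟨hp, Subgroup.upperCentralSeries_mono ↥R hmn hz⟩

theorem inZ_succ_of_gens {R : Subgroup G} {Γ : Set G} (hΓ : Subgroup.closure Γ = R) (n : ℕ) {p : G}
    (hp : p ∈ R) (h : ∀ g ∈ Γ, InZ R n (p * g * p⁻¹ * g⁻¹)) : InZ R (n + 1) p := by
  refine ⟨hp, ?_⟩
  rw [Subgroup.mem_upperCentralSeries_succ_iff]
  let W : Subgroup G :=
    { carrier := {y | ∃ hy : y ∈ R, (⟨p, hp⟩ : ↥R) * ⟨y, hy⟩ * (⟨p, hp⟩ : ↥R)⁻¹ * (⟨y, hy⟩ : ↥R)⁻¹ ∈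
        Subgroup.upperCentralSeries ↥R n}
      one_mem' := by
        refine ⟨R.one_mem, ?_⟩
        have : (⟨p, hp⟩ : ↥R) * ⟨1, R.one_mem⟩ * (⟨p, hp⟩ : ↥R)⁻¹ * (⟨1, R.one_mem⟩ : ↥R)⁻¹ = 1 := by
          have e : (⟨1, R.one_mem⟩ : ↥R) = 1 := rfl
          rw [e]; group
        rw [this]; exact Subgroup.one_mem _
      mul_mem' := by
        rintro y z ⟨hy, h1⟩ ⟨hz, h2⟩
        refine ⟨R.mul_mem hy hz, ?_⟩
        have e : (⟨y * z, R.mul_mem hy hz⟩ : ↥R) = ⟨y, hy⟩ * ⟨z, hz⟩ := rfl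
        rw [e]
        have e2 : (⟨p, hp⟩ : ↥R) * ((⟨y, hy⟩ : ↥R) * ⟨z, hz⟩) * (⟨p, hp⟩ : ↥R)⁻¹ *
            ((⟨y, hy⟩ : ↥R) * ⟨z, hz⟩)⁻¹ =
            ((⟨p, hp⟩ : ↥R) * ⟨y, hy⟩ * (⟨p, hp⟩ : ↥R)⁻¹ * (⟨y, hy⟩ : ↥R)⁻¹) *
            ((⟨y, hy⟩ : ↥R) * ((⟨p, hp⟩ : ↥R) * ⟨z, hz⟩ * (⟨p, hp⟩ : ↥R)⁻¹ * (⟨z, hz⟩ : ↥R)⁻¹) *
              (⟨y, hy⟩ : ↥R)⁻¹) := by group
        rw [e2]
        exact Subgroup.mul_mem _ h1 (Subgroup.Normal.conj_mem inferInstance _ h2 _)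
      inv_mem' := by
        rintro y ⟨hy, h1⟩
        refine ⟨R.inv_mem hy, ?_⟩
        have e : (⟨y⁻¹, R.inv_mem hy⟩ : ↥R) = (⟨y, hy⟩ : ↥R)⁻¹ := rfl
        rw [e]
        have e2 : (⟨p, hp⟩ : ↥R) * (⟨y, hy⟩ : ↥R)⁻¹ * (⟨p, hp⟩ : ↥R)⁻¹ * ((⟨y, hy⟩ : ↥R)⁻¹)⁻¹ =
            (⟨y, hy⟩ : ↥R)⁻¹ * ((⟨p, hp⟩ : ↥R) * ⟨y, hy⟩ * (⟨p, hp⟩ : ↥R)⁻¹ * (⟨y, hy⟩ : ↥R)⁻¹)⁻¹ *
              ((⟨y, hy⟩ : ↥R)⁻¹)⁻¹ := by group
        rw [e2]
        exact Subgroup.Normal.conj_mem inferInstance _ (Subgroup.inv_mem _ h1) _ }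
  have hle : R ≤ W := by
    rw [← hΓ, Subgroup.closure_le]
    intro g hg
    obtain ⟨hc, hz⟩ := h g hg
    have hgR : g ∈ R := by rw [← hΓ]; exact Subgroup.subset_closure hg
    refine ⟨hgR, ?_⟩
    have e : (⟨p, hp⟩ : ↥R) * ⟨g, hgR⟩ * (⟨p, hp⟩ : ↥R)⁻¹ * (⟨g, hgR⟩ : ↥R)⁻¹ =
        ⟨p * g * p⁻¹ * g⁻¹, hc⟩ := rfl
    rw [e]; exact hz
  intro y
  obtain ⟨hy, hz⟩ := hle y.2
  rw [commutatorElement_def]
  exact hz

theorem nilpotent_of_gens {R : Subgroup G} {Γ : Set G} (hΓ : Subgroup.closure Γ = R) (n : ℕ)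
    (h : ∀ g ∈ Γ, InZ R n g) : Group.IsNilpotent ↥R := by
  refine ⟨⟨n, ?_⟩⟩
  rw [eq_top_iff]
  intro y _
  have hle : Subgroup.closure Γ ≤ (Subgroup.upperCentralSeries ↥R n).map R.subtype := by
    rw [Subgroup.closure_le]
    intro g hg
    obtain ⟨hgR, hz⟩ := h g hg
    exact ⟨⟨g, hgR⟩, hz, rfl⟩
  have hy : (y : G) ∈ Subgroup.closure Γ := by rw [hΓ]; exact y.2
  obtain ⟨z, hz, e⟩ := hle hy
  have : z = y := Subtype.ext e
  rw [← this]; exact hz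

/-! ### Excluding rank one pairs -/

variable {S : Set (Subgroup G)}

theorem not_rankOne_right (hS : Cfsg.IsRootSubgroupSet S) {P Q Y : Subgroup G} (hP : P ∈ S)
    (hQ : Q ∈ S) (hcc : Cfsg.RootCommutatorCase S P Q) (hY : Y ∈ S) {q : G} (hq : q ∈ Q)
    (hq1 : q ≠ 1) (hqY : ∀ y ∈ Y, y * q = q * y) : ¬ Cfsg.IsRankOnePair ⁅P, Q⁆ Y := by
  intro hr
  obtain ⟨hT, hcen, hg1, hg2⟩ := hcc
  obtain ⟨t, ht, ht1⟩ := exists_left_ne_one hr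
  have hz : q ∈ Subgroup.centralizer ((⁅P, Q⁆ ⊔ Y : Subgroup G) : Set G) :=
    mem_centralizer_sup (fun t' ht' => hcen t' ht' q (Subgroup.mem_sup_right hq)) hqY
  apply Cfsg.Agent.S5025.result hS hT ⟨hY, hr⟩ hz hq1 t ht ht1
  obtain ⟨p, hp, e⟩ := exists_cm_left hcen hq (hg2 q hq hq1) t ht
  have : q * t = p * q * p⁻¹ := by
    calc q * t = t * q := (hcen t ht q (Subgroup.mem_sup_right hq)).symm
      _ = (p * q * p⁻¹ * q⁻¹) * q := by rw [e]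
      _ = p * q * p⁻¹ := by group
  rw [this]
  exact mem_rootElements (hS.conj_mem Q hQ p) (conj_mem_conjBy Q p hq) (conjBy_ne_one hq1)

theorem not_rankOne_left (hS : Cfsg.IsRootSubgroupSet S) {P Q Y : Subgroup G} (hP : P ∈ S)
    (hQ : Q ∈ S) (hcc : Cfsg.RootCommutatorCase S P Q) (hY : Y ∈ S) {p : G} (hp : p ∈ P)
    (hp1 : p ≠ 1) (hpY : ∀ y ∈ Y, y * p = p * y) : ¬ Cfsg.IsRankOnePair ⁅P, Q⁆ Y := by
  rw [Subgroup.commutator_comm]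
  exact not_rankOne_right hS hQ hP (commCase_symm hcc) hY hp hp1 hpY

theorem cen_of_not_rankOne (hS : Cfsg.IsRootSubgroupSet S) {P Y : Subgroup G} (hP : P ∈ S)
    (hY : Y ∈ S) (hn : ¬ Cfsg.IsRankOnePair P Y) : ∀ k ∈ ⁅P, Y⁆, ∀ x ∈ P ⊔ Y, k * x = x * k := by
  rcases hS.pair P hP Y hY with h0 | h1 | h2
  · intro k hk x hx
    rw [h0, Subgroup.mem_bot] at hk
    rw [hk, one_mul, mul_one]
  · exact absurd h1 hn
  · exact h2.2.1

theorem cases_of_not_rankOne (hS : Cfsg.IsRootSubgroupSet S) {P Y : Subgroup G} (hP : P ∈ S)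
    (hY : Y ∈ S) (hn : ¬ Cfsg.IsRankOnePair P Y) : ⁅P, Y⁆ = ⊥ ∨ Cfsg.RootCommutatorCase S P Y := by
  rcases hS.pair P hP Y hY with h0 | h1 | h2
  · exact Or.inl h0
  · exact absurd h1 hn
  · exact Or.inr h2

theorem sup_conj_eq {A B : Subgroup G} (hcc : Cfsg.RootCommutatorCase S A B) {b : G} (hb : b ∈ B)
    (hb1 : b ≠ 1) : A ⊔ Cfsg.conjBy A b⁻¹ = A ⊔ ⁅A, B⁆ := by
  apply le_antisymm
  · exact sup_le le_sup_left (conjBy_le_sup_comm (B.inv_mem hb))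
  · apply sup_le le_sup_left
    intro δ hδ
    obtain ⟨a, ha, e⟩ := exists_cm_left hcc.2.1 (B.inv_mem hb)
      (hcc.2.2.2 b⁻¹ (B.inv_mem hb) (inv_ne_one.mpr hb1)) δ hδ
    rw [← e]
    have : a * b⁻¹ * a⁻¹ * b⁻¹⁻¹ = a * (b⁻¹ * a⁻¹ * b⁻¹⁻¹) := by group
    rw [this]
    exact Subgroup.mul_mem _ (Subgroup.mem_sup_left ha)
      (Subgroup.mem_sup_right (conj_mem_conjBy A b⁻¹ (A.inv_mem ha)))

theorem comm_conj {A B : Subgroup G} (hcc : Cfsg.RootCommutatorCase S A B)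
    (hA : IsMulCommutative A) {g : G} (hg : g ∈ B) :
    ∀ p ∈ A, ∀ q ∈ Cfsg.conjBy A g, p * q = q * p := by
  intro p hp q hq
  have hAD : ∀ a ∈ A, ∀ δ ∈ ⁅A, B⁆, a * δ = δ * a := fun a ha δ hδ =>
    (hcc.2.1 δ hδ a (Subgroup.mem_sup_left ha)).symm
  obtain ⟨a', ha', δ, hδ, e⟩ := mem_sup_of_commute hAD (conjBy_le_sup_comm hg hq)
  rw [e]
  calc p * (a' * δ) = (p * a') * δ := by group
    _ = (a' * p) * δ := by rw [comm_of_isMulCommutative hA hp ha']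
    _ = a' * (p * δ) := by group
    _ = a' * (δ * p) := by rw [hAD p hp δ hδ]
    _ = a' * δ * p := by group

/-- The Hall–Witt identity for `a, b, c` with `a c = c a` and `⁅a, b⁆` commuting with `b`. -/
theorem hw {a b c ε : G} (hε : a * b = ε * b * a) (hεb : ε * b = b * ε) (hac : a * c = c * a) :
    a * (b * c * b⁻¹ * c⁻¹) * a⁻¹ * (b * c * b⁻¹ * c⁻¹)⁻¹ = b * (ε * c * ε⁻¹ * c⁻¹) * b⁻¹ := by
  have h1 : a * (b * c * b⁻¹ * c⁻¹) * a⁻¹ =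
      (a * b * a⁻¹) * (a * c * a⁻¹) * (a * b * a⁻¹)⁻¹ * (a * c * a⁻¹)⁻¹ := by group
  have h2 : a * b * a⁻¹ = ε * b := by rw [hε]; group
  have h3 : a * c * a⁻¹ = c := by rw [hac]; group
  have h4 : b * ε * b⁻¹ = ε := by rw [← hεb]; group
  have h5 : b * (ε * c * ε⁻¹ * c⁻¹) * b⁻¹ =
      (b * ε * b⁻¹) * (b * c * b⁻¹) * (b * ε * b⁻¹)⁻¹ * (b * c * b⁻¹)⁻¹ := by group
  rw [h1, h2, h3, h5, h4]; group

/-! ### The configuration -/

/-- Members `A, B, C` with `(A, B)` and `(B, C)` in the commutator case and `A, C` commuting. -/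
structure Config (S : Set (Subgroup G)) (A B C : Subgroup G) : Prop where
  hS : Cfsg.IsRootSubgroupSet S
  hA : A ∈ S
  hB : B ∈ S
  hC : C ∈ S
  ccAB : Cfsg.RootCommutatorCase S A B
  ccBC : Cfsg.RootCommutatorCase S B C
  comm : ∀ a ∈ A, ∀ c ∈ C, a * c = c * a

namespace Config

variable {A B C : Subgroup G}

theorem swap (h : Config S A B C) : Config S C B A :=
  ⟨h.hS, h.hC, h.hB, h.hA, commCase_symm h.ccBC, commCase_symm h.ccAB,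
    fun c hc a ha => (h.comm a ha c hc).symm⟩

theorem not_rankOne_AF (h : Config S A B C) : ¬ Cfsg.IsRankOnePair A ⁅B, C⁆ := by
  intro hr
  obtain ⟨c, hc1⟩ := (Subgroup.ne_bot_iff_exists_ne_one).mp (h.hS.ne_bot C h.hC)
  have hc : (c : G) ∈ C := c.2
  have hc1' : (c : G) ≠ 1 := fun e => hc1 (Subtype.ext e)
  exact not_rankOne_right h.hS h.hB h.hC h.ccBC h.hA hc hc1' (fun a ha => h.comm a ha c hc)
    (Cfsg.RankOnePair_symm hr)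

theorem K_cen (h : Config S A B C) :
    ∀ k ∈ ⁅A, ⁅B, C⁆⁆, ∀ x ∈ A ⊔ ⁅B, C⁆, k * x = x * k :=
  cen_of_not_rankOne h.hS h.hA h.ccBC.1 h.not_rankOne_AF

theorem K_cases (h : Config S A B C) :
    ⁅A, ⁅B, C⁆⁆ = ⊥ ∨ Cfsg.RootCommutatorCase S A ⁅B, C⁆ :=
  cases_of_not_rankOne h.hS h.hA h.ccBC.1 h.not_rankOne_AF

theorem K_comm_C (h : Config S A B C) : ∀ k ∈ ⁅A, ⁅B, C⁆⁆, ∀ c ∈ C, k * c = c * k :=
  fun k hk c hc => commutes_commutator (fun a ha => h.comm a ha c hc)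
    (fun f hf => h.ccBC.2.1 f hf c (Subgroup.mem_sup_right hc)) k hk

theorem not_rankOne_KB (h : Config S A B C) (hK : Cfsg.RootCommutatorCase S A ⁅B, C⁆) :
    ¬ Cfsg.IsRankOnePair ⁅A, ⁅B, C⁆⁆ B := by
  obtain ⟨f, hf1⟩ := (Subgroup.ne_bot_iff_exists_ne_one).mp (h.hS.ne_bot _ h.ccBC.1)
  have hf : (f : G) ∈ ⁅B, C⁆ := f.2
  have hf1' : (f : G) ≠ 1 := fun e => hf1 (Subtype.ext e)
  exact not_rankOne_right h.hS h.hA h.ccBC.1 hK h.hB hf hf1'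
    (fun b' hb' => (h.ccBC.2.1 f hf b' (Subgroup.mem_sup_left hb')).symm)

theorem L_cen (h : Config S A B C) :
    ∀ l ∈ ⁅⁅A, ⁅B, C⁆⁆, B⁆, ∀ x ∈ ⁅A, ⁅B, C⁆⁆ ⊔ B, l * x = x * l := by
  rcases h.K_cases with h0 | h2
  · intro l hl x hx
    rw [h0, Subgroup.commutator_bot_left, Subgroup.mem_bot] at hl
    rw [hl, one_mul, mul_one]
  · exact cen_of_not_rankOne h.hS h2.1 h.hB (h.not_rankOne_KB h2)

theorem L_comm_C (h : Config S A B C) : ∀ l ∈ ⁅⁅A, ⁅B, C⁆⁆, B⁆, ∀ c ∈ C, l * c = c * l := by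
  intro l hl c hc
  have hle : ⁅⁅A, ⁅B, C⁆⁆, B⁆ ≤ Subgroup.centralizer ({c} : Set G) := by
    rw [Subgroup.commutator_le]
    intro k hk b' hb'
    rw [Subgroup.mem_centralizer_iff]
    intro x hx
    rw [Set.mem_singleton_iff] at hx
    rw [hx, commutatorElement_def]
    have hck : c * k = k * c := (h.K_comm_C k hk c hc).symm
    have hφF : c * b' * c⁻¹ * b'⁻¹ ∈ ⁅B, C⁆ := by
      have := cm_mem (A := C) (B := B) hc hb'
      rwa [Subgroup.commutator_comm] at this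
    have hkφ := h.K_cen k hk _ (Subgroup.mem_sup_right hφF)
    have hφb := h.ccBC.2.1 _ hφF b' (Subgroup.mem_sup_left hb')
    have e2 : c * k * c⁻¹ = k := by rw [hck]; group
    have e1 : c * (k * b' * k⁻¹ * b'⁻¹) * c⁻¹ =
        (c * k * c⁻¹) * ((c * b' * c⁻¹ * b'⁻¹) * b') * (c * k * c⁻¹)⁻¹ *
          ((c * b' * c⁻¹ * b'⁻¹) * b')⁻¹ := by group
    generalize c * b' * c⁻¹ * b'⁻¹ = φ at *
    have e4 : φ * k * φ⁻¹ = k := by rw [← hkφ]; group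
    have e5 : φ * b' * φ⁻¹ = b' := by rw [hφb]; group
    have e3 : k * (φ * b') * k⁻¹ * (φ * b')⁻¹ = k * b' * k⁻¹ * b'⁻¹ := by
      calc k * (φ * b') * k⁻¹ * (φ * b')⁻¹ = (k * φ) * b' * k⁻¹ * b'⁻¹ * φ⁻¹ := by group
        _ = (φ * k) * b' * k⁻¹ * b'⁻¹ * φ⁻¹ := by rw [hkφ]
        _ = (φ * k * φ⁻¹) * (φ * b' * φ⁻¹) * (φ * k * φ⁻¹)⁻¹ * (φ * b' * φ⁻¹)⁻¹ := by group
        _ = k * b' * k⁻¹ * b'⁻¹ := by rw [e4, e5]
    calc c * (k * b' * k⁻¹ * b'⁻¹) = (c * (k * b' * k⁻¹ * b'⁻¹) * c⁻¹) * c := by group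
      _ = (k * b' * k⁻¹ * b'⁻¹) * c := by rw [e1, e2, e3]
  have := hle hl
  rw [Subgroup.mem_centralizer_iff] at this
  exact (this c rfl).symm

theorem K_conj (h : Config S A B C) {b : G} (hb : b ∈ B) (hb1 : b ≠ 1) :
    ⁅A, ⁅B, C⁆⁆ = Cfsg.conjBy ⁅C, ⁅B, A⁆⁆ b := by
  have hK' : ⁅C, ⁅B, A⁆⁆ = ⁅⁅A, B⁆, C⁆ := by
    rw [Subgroup.commutator_comm C, Subgroup.commutator_comm B A]
  rw [hK']
  have key : ∀ a ∈ A, ∀ c ∈ C, a * (b * c * b⁻¹ * c⁻¹) * a⁻¹ * (b * c * b⁻¹ * c⁻¹)⁻¹ =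
      b * ((a * b * a⁻¹ * b⁻¹) * c * (a * b * a⁻¹ * b⁻¹)⁻¹ * c⁻¹) * b⁻¹ := by
    intro a ha c hc
    apply hw _ _ (h.comm a ha c hc)
    · group
    · exact h.ccAB.2.1 _ (cm_mem ha hb) b (Subgroup.mem_sup_right hb)
  apply le_antisymm
  · rw [Subgroup.commutator_le]
    intro a ha f hf
    obtain ⟨c, hc, e⟩ := exists_cm_right h.ccBC.2.1 hb (h.ccBC.2.2.1 b hb hb1) f hf
    rw [commutatorElement_def, ← e, key a ha c hc]
    exact conj_mem_conjBy _ b (cm_mem (cm_mem ha hb) hc)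
  · intro y hy
    rw [mem_conjBy] at hy
    have hle : ⁅⁅A, B⁆, C⁆ ≤ Cfsg.conjBy ⁅A, ⁅B, C⁆⁆ b⁻¹ := by
      rw [Subgroup.commutator_le]
      intro δ hδ c hc
      obtain ⟨a, ha, e⟩ := exists_cm_left h.ccAB.2.1 hb (h.ccAB.2.2.2 b hb hb1) δ hδ
      rw [mem_conjBy, inv_inv, commutatorElement_def, ← e, ← key a ha c hc]
      exact cm_mem ha (cm_mem hb hc)
    have := hle hy
    rw [mem_conjBy, inv_inv] at this
    have e : b * (b⁻¹ * y * b) * b⁻¹ = y := by group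
    rwa [e] at this

theorem K_bot_iff (h : Config S A B C) : ⁅A, ⁅B, C⁆⁆ = ⊥ ↔ ⁅C, ⁅B, A⁆⁆ = ⊥ := by
  obtain ⟨b, hb1⟩ := (Subgroup.ne_bot_iff_exists_ne_one).mp (h.hS.ne_bot B h.hB)
  have hb : (b : G) ∈ B := b.2
  have hb1' : (b : G) ≠ 1 := fun e => hb1 (Subtype.ext e)
  have hc := h.K_conj hb hb1'
  constructor
  · intro e
    have : ⁅C, ⁅B, A⁆⁆ = Cfsg.conjBy ⁅A, ⁅B, C⁆⁆ (b : G)⁻¹ := by
      rw [hc, conjBy_inv_conjBy]
    rw [this, e, conjBy_bot]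
  · intro e
    rw [hc, e, conjBy_bot]

theorem L_eq (h : Config S A B C) : ⁅⁅A, ⁅B, C⁆⁆, B⁆ = ⁅⁅C, ⁅B, A⁆⁆, B⁆ := by
  obtain ⟨b, hb1⟩ := (Subgroup.ne_bot_iff_exists_ne_one).mp (h.hS.ne_bot B h.hB)
  have hb : (b : G) ∈ B := b.2
  have hb1' : (b : G) ≠ 1 := fun e => hb1 (Subtype.ext e)
  have h1 : Cfsg.conjBy ⁅⁅C, ⁅B, A⁆⁆, B⁆ (b : G) =
      ⁅Cfsg.conjBy ⁅C, ⁅B, A⁆⁆ (b : G), Cfsg.conjBy B (b : G)⁆ := Subgroup.map_commutator _ _ _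
  rw [conjBy_of_mem hb, ← h.K_conj hb hb1'] at h1
  rw [← h1]
  exact conjBy_of_centralizes (fun l hl => (h.swap.L_cen l hl b (Subgroup.mem_sup_right hb)).symm)

theorem L_comm_A (h : Config S A B C) : ∀ l ∈ ⁅⁅A, ⁅B, C⁆⁆, B⁆, ∀ a ∈ A, l * a = a * l := by
  intro l hl a ha
  rw [h.L_eq] at hl
  exact h.swap.L_comm_C l hl a ha

/-- `⁅⁅A, ⁅B, C⁆⁆, B⁆` is central in `⟨A, B, C⟩`. -/
theorem L_central (h : Config S A B C) :
    ∀ l ∈ ⁅⁅A, ⁅B, C⁆⁆, B⁆, ∀ r ∈ A ⊔ B ⊔ C, l * r = r * l := by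
  intro l hl r hr
  exact (commutes_sup (commutes_sup (fun a ha => (h.L_comm_A l hl a ha).symm)
    (fun b' hb' => (h.L_cen l hl b' (Subgroup.mem_sup_right hb')).symm))
    (fun c hc => (h.L_comm_C l hl c hc).symm) r hr).symm

theorem nilpotent (h : Config S A B C) : Group.IsNilpotent ↥(A ⊔ B ⊔ C) := by
  have hΓ : Subgroup.closure ((A : Set G) ∪ B ∪ C) = A ⊔ B ⊔ C := by
    rw [Subgroup.closure_union, Subgroup.closure_union, Subgroup.closure_eq, Subgroup.closure_eq,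
      Subgroup.closure_eq]
  have hAR : A ≤ A ⊔ B ⊔ C := le_sup_of_le_left le_sup_left
  have hBR : B ≤ A ⊔ B ⊔ C := le_sup_of_le_left le_sup_right
  have hCR : C ≤ A ⊔ B ⊔ C := le_sup_right
  have hDR : ⁅A, B⁆ ≤ A ⊔ B ⊔ C := (Subgroup.commutator_le_sup A B).trans le_sup_left
  have hFR : ⁅B, C⁆ ≤ A ⊔ B ⊔ C := (Subgroup.commutator_le_sup B C).trans (sup_le hBR hCR)
  have hKR : ⁅A, ⁅B, C⁆⁆ ≤ A ⊔ B ⊔ C := (Subgroup.commutator_le_sup _ _).trans (sup_le hAR hFR)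
  have hK'R : ⁅C, ⁅B, A⁆⁆ ≤ A ⊔ B ⊔ C :=
    (Subgroup.commutator_le_sup _ _).trans
      (sup_le hCR (by rw [Subgroup.commutator_comm]; exact hDR))
  have hLR : ⁅⁅A, ⁅B, C⁆⁆, B⁆ ≤ A ⊔ B ⊔ C :=
    (Subgroup.commutator_le_sup _ _).trans (sup_le hKR hBR)
  have hL : ∀ l ∈ ⁅⁅A, ⁅B, C⁆⁆, B⁆, InZ (A ⊔ B ⊔ C) 1 l := by
    intro l hl
    apply inZ_succ_of_gens hΓ 0 (hLR hl)
    intro g hg
    apply inZ_of_eq_one
    have hgR : g ∈ A ⊔ B ⊔ C := by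
      rcases hg with (hg | hg) | hg
      exacts [hAR hg, hBR hg, hCR hg]
    rw [h.L_central l hl g hgR]; group
  have hK : ∀ k ∈ ⁅A, ⁅B, C⁆⁆, InZ (A ⊔ B ⊔ C) 2 k := by
    intro k hk
    apply inZ_succ_of_gens hΓ 1 (hKR hk)
    intro g hg
    rcases hg with (hg | hg) | hg
    · apply inZ_of_eq_one
      rw [h.K_cen k hk g (Subgroup.mem_sup_left hg)]; group
    · exact hL _ (cm_mem hk hg)
    · apply inZ_of_eq_one
      rw [h.K_comm_C k hk g hg]; group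
  have hK' : ∀ k ∈ ⁅C, ⁅B, A⁆⁆, InZ (A ⊔ B ⊔ C) 2 k := by
    intro k hk
    apply inZ_succ_of_gens hΓ 1 (hK'R hk)
    intro g hg
    rcases hg with (hg | hg) | hg
    · apply inZ_of_eq_one
      rw [h.swap.K_comm_C k hk g hg]; group
    · apply hL
      rw [h.L_eq]; exact cm_mem hk hg
    · apply inZ_of_eq_one
      rw [h.swap.K_cen k hk g (Subgroup.mem_sup_left hg)]; group
  have hD : ∀ δ ∈ ⁅A, B⁆, InZ (A ⊔ B ⊔ C) 3 δ := by
    intro δ hδ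
    apply inZ_succ_of_gens hΓ 2 (hDR hδ)
    intro g hg
    rcases hg with (hg | hg) | hg
    · apply inZ_of_eq_one
      rw [h.ccAB.2.1 δ hδ g (Subgroup.mem_sup_left hg)]; group
    · apply inZ_of_eq_one
      rw [h.ccAB.2.1 δ hδ g (Subgroup.mem_sup_right hg)]; group
    · apply hK'
      have := cm_mem hδ hg
      rw [Subgroup.commutator_comm C, Subgroup.commutator_comm B A]; exact this
  have hF : ∀ φ ∈ ⁅B, C⁆, InZ (A ⊔ B ⊔ C) 3 φ := by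
    intro φ hφ
    apply inZ_succ_of_gens hΓ 2 (hFR hφ)
    intro g hg
    rcases hg with (hg | hg) | hg
    · apply hK
      have := cm_mem hφ hg
      rw [Subgroup.commutator_comm A]; exact this
    · apply inZ_of_eq_one
      rw [h.ccBC.2.1 φ hφ g (Subgroup.mem_sup_left hg)]; group
    · apply inZ_of_eq_one
      rw [h.ccBC.2.1 φ hφ g (Subgroup.mem_sup_right hg)]; group
  apply nilpotent_of_gens hΓ 4
  intro p hp
  rcases hp with (hp | hp) | hp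
  · apply inZ_succ_of_gens hΓ 3 (hAR hp)
    intro g hg
    rcases hg with (hg | hg) | hg
    · apply inZ_of_eq_one
      rw [comm_of_isMulCommutative (h.hS.commutative A h.hA) hp hg]; group
    · exact hD _ (cm_mem hp hg)
    · apply inZ_of_eq_one
      rw [h.comm p hp g hg]; group
  · apply inZ_succ_of_gens hΓ 3 (hBR hp)
    intro g hg
    rcases hg with (hg | hg) | hg
    · apply hD
      have := cm_mem hp hg
      rw [Subgroup.commutator_comm A]; exact this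
    · apply inZ_of_eq_one
      rw [comm_of_isMulCommutative (h.hS.commutative B h.hB) hp hg]; group
    · exact hF _ (cm_mem hp hg)
  · apply inZ_succ_of_gens hΓ 3 (hCR hp)
    intro g hg
    rcases hg with (hg | hg) | hg
    · apply inZ_of_eq_one
      rw [← h.comm g hg p hp]; group
    · apply hF
      have := cm_mem hp hg
      rw [Subgroup.commutator_comm B]; exact this
    · apply inZ_of_eq_one
      rw [comm_of_isMulCommutative (h.hS.commutative C h.hC) hp hg]; group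

/-! ### The subgroups `X`, `Y` -/

theorem W_eq (h : Config S A B C) {b : G} (hb : b ∈ B) (hb1 : b ≠ 1) :
    (A ⊔ Cfsg.conjBy C b⁻¹) ⊔ (Cfsg.conjBy A b⁻¹ ⊔ C) = (A ⊔ ⁅A, B⁆) ⊔ (C ⊔ ⁅B, C⁆) := by
  have e1 := sup_conj_eq h.ccAB hb hb1
  have e2 := sup_conj_eq (commCase_symm h.ccBC) hb hb1
  rw [Subgroup.commutator_comm C B] at e2
  rw [← e1, ← e2, sup_sup_sup_comm, sup_comm (Cfsg.conjBy C b⁻¹) C]

theorem W_normal (h : Config S A B C) : ∀ r ∈ A ⊔ B ⊔ C,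
    Cfsg.conjBy ((A ⊔ ⁅A, B⁆) ⊔ (C ⊔ ⁅B, C⁆)) r = (A ⊔ ⁅A, B⁆) ⊔ (C ⊔ ⁅B, C⁆) := by
  have hle : A ⊔ B ⊔ C ≤
      Subgroup.normalizer (((A ⊔ ⁅A, B⁆) ⊔ (C ⊔ ⁅B, C⁆) : Subgroup G) : Set G) := by
    apply sup_le (sup_le ?_ ?_) ?_
    · exact (le_sup_of_le_left le_sup_left : A ≤ (A ⊔ ⁅A, B⁆) ⊔ (C ⊔ ⁅B, C⁆)).trans
        Subgroup.le_normalizer
    · apply le_normalizer_of_conj_mem
      intro b' hb' v hv
      have h1 : b' * v * b'⁻¹ ∈ Cfsg.conjBy ((A ⊔ ⁅A, B⁆) ⊔ (C ⊔ ⁅B, C⁆)) b' :=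
        conj_mem_conjBy _ b' hv
      have h2 : Cfsg.conjBy ((A ⊔ ⁅A, B⁆) ⊔ (C ⊔ ⁅B, C⁆)) b' ≤ (A ⊔ ⁅A, B⁆) ⊔ (C ⊔ ⁅B, C⁆) := by
        rw [conjBy_sup, conjBy_sup, conjBy_sup]
        apply sup_le (sup_le ?_ ?_) (sup_le ?_ ?_)
        · exact (conjBy_le_sup_comm hb').trans le_sup_left
        · rw [conjBy_of_centralizes (fun δ hδ =>
            (h.ccAB.2.1 δ hδ b' (Subgroup.mem_sup_right hb')).symm)]
          exact le_sup_of_le_left le_sup_right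
        · have := conjBy_le_sup_comm (A := C) (B := B) hb'
          rw [Subgroup.commutator_comm C B] at this
          exact this.trans le_sup_right
        · rw [conjBy_of_centralizes (fun φ hφ =>
            (h.ccBC.2.1 φ hφ b' (Subgroup.mem_sup_left hb')).symm)]
          exact le_sup_of_le_right le_sup_right
      exact h2 h1
    · exact (le_sup_of_le_right le_sup_left : C ≤ (A ⊔ ⁅A, B⁆) ⊔ (C ⊔ ⁅B, C⁆)).trans
        Subgroup.le_normalizer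
  intro r hr
  exact conjBy_of_mem_normalizer (hle hr)

theorem W_sup_B (h : Config S A B C) : ((A ⊔ ⁅A, B⁆) ⊔ (C ⊔ ⁅B, C⁆)) ⊔ B = A ⊔ B ⊔ C := by
  have hAR : A ≤ A ⊔ B ⊔ C := le_sup_of_le_left le_sup_left
  have hBR : B ≤ A ⊔ B ⊔ C := le_sup_of_le_left le_sup_right
  have hCR : C ≤ A ⊔ B ⊔ C := le_sup_right
  have hDR : ⁅A, B⁆ ≤ A ⊔ B ⊔ C := (Subgroup.commutator_le_sup A B).trans le_sup_left
  have hFR : ⁅B, C⁆ ≤ A ⊔ B ⊔ C := (Subgroup.commutator_le_sup B C).trans (sup_le hBR hCR)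
  apply le_antisymm
  · exact sup_le (sup_le (sup_le hAR hDR) (sup_le hCR hFR)) hBR
  · apply sup_le (sup_le ?_ le_sup_right) ?_
    · exact le_sup_of_le_left (le_sup_of_le_left le_sup_left)
    · exact le_sup_of_le_left (le_sup_of_le_right le_sup_left)

theorem XY_comm (h : Config S A B C) {b : G} (hb : b ∈ B) :
    ⁅A ⊔ Cfsg.conjBy C b⁻¹, Cfsg.conjBy A b⁻¹ ⊔ C⁆ = ⊥ := by
  have hAc := h.hS.commutative A h.hA
  have hCc := h.hS.commutative C h.hC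
  have h11 := comm_conj h.ccAB hAc (B.inv_mem hb)
  have h22' := comm_conj (commCase_symm h.ccBC) hCc (B.inv_mem hb)
  have h21 : ∀ p ∈ Cfsg.conjBy C b⁻¹, ∀ q ∈ Cfsg.conjBy A b⁻¹, p * q = q * p := by
    intro p hp q hq
    rw [mem_conjBy] at hp hq
    have := h.comm _ hq _ hp
    calc p * q = b⁻¹ * ((b⁻¹⁻¹ * p * b⁻¹) * (b⁻¹⁻¹ * q * b⁻¹)) * b⁻¹⁻¹ := by group
      _ = b⁻¹ * ((b⁻¹⁻¹ * q * b⁻¹) * (b⁻¹⁻¹ * p * b⁻¹)) * b⁻¹⁻¹ := by rw [this]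
      _ = q * p := by group
  rw [Subgroup.commutator_eq_bot_iff_le_centralizer]
  intro x hx
  rw [Subgroup.mem_centralizer_iff]
  intro y hy
  exact (commute_sup_sup h11 h.comm h21 (fun p hp q hq => (h22' q hq p hp).symm) x hx y hy).symm

theorem conj_decomp (h : Config S A B C) {g : G} (hg : g ∈ B) {x : G}
    (hx : x ∈ Cfsg.conjBy C g) : ∃ c ∈ C, ∃ φ ∈ ⁅B, C⁆, x = c * φ := by
  have hCF : ∀ c ∈ C, ∀ φ ∈ ⁅C, B⁆, c * φ = φ * c := by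
    intro c hc φ hφ
    rw [Subgroup.commutator_comm] at hφ
    exact (h.ccBC.2.1 φ hφ c (Subgroup.mem_sup_right hc)).symm
  obtain ⟨c, hc, φ, hφ, e⟩ := mem_sup_of_commute hCF (conjBy_le_sup_comm hg hx)
  rw [Subgroup.commutator_comm] at hφ
  exact ⟨c, hc, φ, hφ, e⟩

theorem X_comm (h : Config S A B C) {b : G} (hb : b ∈ B) (hK : ⁅A, ⁅B, C⁆⁆ = ⊥) :
    IsMulCommutative ↥(A ⊔ Cfsg.conjBy C b⁻¹) := by
  have hAc := h.hS.commutative A h.hA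
  have hCb : IsMulCommutative ↥(Cfsg.conjBy C b⁻¹) := by
    haveI := h.hS.commutative C h.hC
    show IsMulCommutative (C.map _)
    infer_instance
  apply isMulCommutative_sup hAc hCb
  intro a ha x hx
  obtain ⟨c, hc, φ, hφ, e⟩ := h.conj_decomp (B.inv_mem hb) hx
  have h1 : a * φ = φ * a := by
    have := cm_mem ha hφ
    rw [hK, Subgroup.mem_bot] at this
    calc a * φ = (a * φ * a⁻¹ * φ⁻¹) * φ * a := by group
      _ = φ * a := by rw [this, one_mul]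
  rw [e]
  calc a * (c * φ) = (a * c) * φ := by group
    _ = (c * a) * φ := by rw [h.comm a ha c hc]
    _ = c * (a * φ) := by group
    _ = c * (φ * a) := by rw [h1]
    _ = c * φ * a := by group

theorem X_class2 (h : Config S A B C) {b : G} (hb : b ∈ B) (hb1 : b ≠ 1)
    (hK : ⁅A, ⁅B, C⁆⁆ ≠ ⊥) :
    ¬ IsMulCommutative ↥(A ⊔ Cfsg.conjBy C b⁻¹) ∧
      ⁅⁅A ⊔ Cfsg.conjBy C b⁻¹, A ⊔ Cfsg.conjBy C b⁻¹⁆, A ⊔ Cfsg.conjBy C b⁻¹⁆ = ⊥ := by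
  have hAc := h.hS.commutative A h.hA
  have hCb : IsMulCommutative ↥(Cfsg.conjBy C b⁻¹) := by
    haveI := h.hS.commutative C h.hC
    show IsMulCommutative (C.map _)
    infer_instance
  constructor
  · intro hX
    apply hK
    rw [Subgroup.commutator_eq_bot_iff_le_centralizer]
    intro a ha
    rw [Subgroup.mem_centralizer_iff]
    intro φ hφ
    obtain ⟨c, hc, e⟩ := exists_cm_right h.ccBC.2.1 (B.inv_mem hb)
      (h.ccBC.2.2.1 b⁻¹ (B.inv_mem hb) (inv_ne_one.mpr hb1)) φ hφ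
    have hx : b⁻¹ * c * b⁻¹⁻¹ = φ * c := by rw [← e]; group
    have hxm : b⁻¹ * c * b⁻¹⁻¹ ∈ Cfsg.conjBy C b⁻¹ := conj_mem_conjBy C b⁻¹ hc
    have h1 : a * (φ * c) = (φ * c) * a := by
      rw [← hx]
      exact comm_of_isMulCommutative hX (Subgroup.mem_sup_left ha) (Subgroup.mem_sup_right hxm)
    calc φ * a = φ * (a * c) * c⁻¹ := by group
      _ = φ * (c * a) * c⁻¹ := by rw [h.comm a ha c hc]
      _ = ((φ * c) * a) * c⁻¹ := by group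
      _ = (a * (φ * c)) * c⁻¹ := by rw [h1]
      _ = a * φ := by group
  · apply class_two_of_gens hAc hCb (Z := ⁅A, ⁅B, C⁆⁆)
    · intro k hk x hx
      refine (commutes_sup (fun a ha => (h.K_cen k hk a (Subgroup.mem_sup_left ha)).symm) ?_ x
        hx).symm
      intro y hy
      obtain ⟨c, hc, φ, hφ, e⟩ := h.conj_decomp (B.inv_mem hb) hy
      have h1 := h.K_comm_C k hk c hc
      have h2 := h.K_cen k hk φ (Subgroup.mem_sup_right hφ)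
      rw [e]
      calc c * φ * k = c * (φ * k) := by group
        _ = c * (k * φ) := by rw [h2]
        _ = (c * k) * φ := by group
        _ = (k * c) * φ := by rw [h1]
        _ = k * (c * φ) := by group
    · intro a ha x hx
      obtain ⟨c, hc, φ, hφ, e⟩ := h.conj_decomp (B.inv_mem hb) hx
      have hk : a * φ * a⁻¹ * φ⁻¹ ∈ ⁅A, ⁅B, C⁆⁆ := cm_mem ha hφ
      have h1 := h.K_comm_C _ hk c hc
      have : a * x * a⁻¹ * x⁻¹ = a * φ * a⁻¹ * φ⁻¹ := by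
        rw [e]
        calc a * (c * φ) * a⁻¹ * (c * φ)⁻¹ = (a * c) * φ * a⁻¹ * φ⁻¹ * c⁻¹ := by group
          _ = (c * a) * φ * a⁻¹ * φ⁻¹ * c⁻¹ := by rw [h.comm a ha c hc]
          _ = c * (a * φ * a⁻¹ * φ⁻¹) * c⁻¹ := by group
          _ = a * φ * a⁻¹ * φ⁻¹ := by rw [← h1]; group
      rw [this]; exact hk

end Config


end Cfsg.Agent.Lib.Helper8_RootNilp
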