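import Mathlib
import Cfsg.Prelude.Def_RootSubgroups
import Cfsg.Agent.Lib.Helper8_RankOne
import Cfsg.Agent.Lib.Helper8_RootBase
import Cfsg.Agent.Lib.Helper8_RootLine
import Cfsg.Agent.Lib.Helper8_RootComp
import Cfsg.Agent.Lib.Helper8_RootSpecial
import Cfsg.Agent.Lib.Helper8_RootNilp

set_option autoImplicit false
set_option linter.unusedVariables false
set_option linter.unusedSimpArgs false
set_option linter.style.haveILetI false
set_option linter.unusedSectionVars false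
open Cfsg

/-!
# The plane configuration: `C = ⁅A, B⁆`, `A = ⁅D, C⁆`, with `⟨B, D⟩` acting on `A C`
-/

namespace Cfsg.Agent.Lib.Helper8_RootPlane

open Cfsg.Agent.Lib.Helper8_RankOne Cfsg.Agent.Lib.Helper8_RootBase Cfsg.Agent.Lib.Helper8_RootLine
  Cfsg.Agent.Lib.Helper8_RootSpecial Cfsg.Agent.Lib.Helper8_RootComp Cfsg.Agent.Lib.Helper8_RootNilp
open scoped commutatorElement

variable {G : Type*} [Group G]

/-- The centralizer of `Y` in `N`. -/
def cn (N Y : Subgroup G) : Subgroup G := N ⊓ Subgroup.centralizer (Y : Set G)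

theorem mem_cn {N Y : Subgroup G} {n : G} : n ∈ cn N Y ↔ n ∈ N ∧ ∀ y ∈ Y, y * n = n * y := by
  unfold cn
  rw [Subgroup.mem_inf, Subgroup.mem_centralizer_iff]
  exact Iff.rfl

theorem cn_conj {N Y : Subgroup G} {x : G} (hx : Cfsg.conjBy N x = N) :
    cn N (Cfsg.conjBy Y x) = Cfsg.conjBy (cn N Y) x := by
  ext n
  rw [mem_conjBy, mem_cn, mem_cn]
  constructor
  · rintro ⟨hn, hc⟩
    refine ⟨?_, ?_⟩
    · rw [← hx] at hn
      exact (mem_conjBy N x n).mp hn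
    · intro y hy
      have := hc (x * y * x⁻¹) (conj_mem_conjBy Y x hy)
      calc y * (x⁻¹ * n * x) = x⁻¹ * ((x * y * x⁻¹) * n) * x := by group
        _ = x⁻¹ * (n * (x * y * x⁻¹)) * x := by rw [this]
        _ = (x⁻¹ * n * x) * y := by group
  · rintro ⟨hn, hc⟩
    refine ⟨?_, ?_⟩
    · rw [← hx]
      exact (mem_conjBy N x n).mpr hn
    · intro y' hy'
      rw [mem_conjBy] at hy'
      have := hc _ hy'
      calc y' * n = x * ((x⁻¹ * y' * x) * (x⁻¹ * n * x)) * x⁻¹ := by group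
        _ = x * ((x⁻¹ * n * x) * (x⁻¹ * y' * x)) * x⁻¹ := by rw [this]
        _ = n * y' := by group

variable {S : Set (Subgroup G)}

theorem plane (hS : Cfsg.IsRootSubgroupSet S) {A B D : Subgroup G} (hA : A ∈ S) (hB : B ∈ S)
    (hC : ⁅A, B⁆ ∈ S) (hD : D ∈ S) (hDC : ⁅D, ⁅A, B⁆⁆ = A) :
    Cfsg.IsRankOnePair B D ∧
    {E | ∃ x ∈ B ⊔ D, E = Cfsg.conjBy A x} = {E | ∃ x ∈ B ⊔ D, E = Cfsg.conjBy ⁅A, B⁆ x} ∧
    {E | ∃ x ∈ B ⊔ D, E = Cfsg.conjBy A x} =
      (fun b : G => Cfsg.conjBy A b) '' (B : Set G) ∪ {⁅A, B⁆} ∧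
    {E | ∃ x ∈ B ⊔ D, E = Cfsg.conjBy A x} =
      (fun d : G => Cfsg.conjBy ⁅A, B⁆ d) '' (D : Set G) ∪ {A} ∧
    Cfsg.IsSubgroupPartition (A ⊔ ⁅A, B⁆) {E | ∃ x ∈ B ⊔ D, E = Cfsg.conjBy A x} ∧
    ∀ x ∈ (B ⊔ D) ⊓ Subgroup.centralizer ((A ⊔ ⁅A, B⁆ : Subgroup G) : Set G),
      ∀ y ∈ B ⊔ D, x * y = y * x := by
  have hccAB := commCase_of_mem hS hA hB hC
  have hDCS : ⁅D, ⁅A, B⁆⁆ ∈ S := by rw [hDC]; exact hA
  have hccDC := commCase_of_mem hS hD hC hDCS
  obtain ⟨-, hcenAB, hgAB1, hgAB2⟩ := hccAB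
  obtain ⟨-, hcenDC, hgDC1, hgDC2⟩ := hccDC
  rw [hDC] at hcenDC hgDC1 hgDC2
  have hAne : A ≠ ⊥ := hS.ne_bot A hA
  have hCne : ⁅A, B⁆ ≠ ⊥ := hS.ne_bot _ hC
  have hAC : ∀ a ∈ A, ∀ c ∈ ⁅A, B⁆, a * c = c * a := fun a ha c hc =>
    (hcenAB c hc a (Subgroup.mem_sup_left ha)).symm
  have hBC : ∀ b ∈ B, ∀ c ∈ ⁅A, B⁆, b * c = c * b := fun b hb c hc =>
    (hcenAB c hc b (Subgroup.mem_sup_right hb)).symm
  have hDA : ∀ d ∈ D, ∀ a ∈ A, d * a = a * d := fun d hd a ha =>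
    (hcenDC a ha d (Subgroup.mem_sup_left hd)).symm
  -- A ∩ C = 1
  have hAinfC : ∀ g, g ∈ A → g ∈ ⁅A, B⁆ → g = 1 := by
    intro g hgA hgC
    by_contra g1
    have h1 := hgDC2 g hgC g1
    have hbot : Subgroup.closure ((fun d : G => d * g * d⁻¹ * g⁻¹) '' (D : Set G)) = ⊥ := by
      rw [Subgroup.closure_eq_bot_iff]
      rintro _ ⟨d, hd, rfl⟩
      rw [Set.mem_singleton_iff]
      show d * g * d⁻¹ * g⁻¹ = 1
      rw [hDA d hd g hgA]; group
    rw [hbot] at h1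
    exact hAne h1.symm
  -- (1)
  have hBD : Cfsg.IsRankOnePair B D := by
    rcases hS.pair B hB D hD with h0 | h1 | h2
    · exfalso
      apply hAne
      rw [← hDC, Subgroup.commutator_eq_bot_iff_le_centralizer]
      intro d hd
      rw [Subgroup.mem_centralizer_iff]
      intro c hc
      have hbd := commute_of_comm_eq_bot h0
      exact commutes_commutator (fun a ha => (hDA d hd a ha).symm)
        (fun b hb => hbd b hb d hd) c hc
    · exact h1
    · exfalso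
      have h : Config S A B D := ⟨hS, hA, hB, hD, commCase_of_mem hS hA hB hC, h2,
        fun a ha d hd => (hDA d hd a ha).symm⟩
      have hL := h.L_eq
      have e : ⁅D, ⁅B, A⁆⁆ = A := by rw [Subgroup.commutator_comm B A]; exact hDC
      rw [e] at hL
      apply hAne
      rw [← hDC, Subgroup.commutator_eq_bot_iff_le_centralizer]
      intro d hd
      rw [Subgroup.mem_centralizer_iff]
      intro c hc
      have hc' : c ∈ ⁅⁅A, ⁅B, D⁆⁆, B⁆ := by rw [hL]; exact hc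
      exact h.L_central c hc' d (Subgroup.mem_sup_right hd)
  refine ⟨hBD, ?_⟩
  -- normalizing N
  have hXN : B ⊔ D ≤ Subgroup.normalizer ((A ⊔ ⁅A, B⁆ : Subgroup G) : Set G) := by
    apply sup_le
    · apply le_normalizer_of_conj_mem
      intro b hb v hv
      have h1 : b * v * b⁻¹ ∈ Cfsg.conjBy (A ⊔ ⁅A, B⁆) b := conj_mem_conjBy _ b hv
      have h2 : Cfsg.conjBy (A ⊔ ⁅A, B⁆) b ≤ A ⊔ ⁅A, B⁆ := by
        rw [conjBy_sup]
        apply sup_le (conjBy_le_sup_comm hb)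
        rw [conjBy_of_centralizes (fun c hc => hBC b hb c hc)]
        exact le_sup_right
      exact h2 h1
    · apply le_normalizer_of_conj_mem
      intro d hd v hv
      have h1 : d * v * d⁻¹ ∈ Cfsg.conjBy (A ⊔ ⁅A, B⁆) d := conj_mem_conjBy _ d hv
      have h2 : Cfsg.conjBy (A ⊔ ⁅A, B⁆) d ≤ A ⊔ ⁅A, B⁆ := by
        rw [conjBy_sup]
        apply sup_le
        · rw [conjBy_of_centralizes (fun a ha => hDA d hd a ha)]
          exact le_sup_left
        · have := conjBy_le_sup_comm (A := ⁅A, B⁆) (B := D) hd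
          rw [Subgroup.commutator_comm ⁅A, B⁆ D, hDC, sup_comm] at this
          exact this
      exact h2 h1
  have hXconj : ∀ x ∈ B ⊔ D, Cfsg.conjBy (A ⊔ ⁅A, B⁆) x = A ⊔ ⁅A, B⁆ := fun x hx =>
    conjBy_of_mem_normalizer (hXN hx)
  -- centralizers in N
  have cnB : cn (A ⊔ ⁅A, B⁆) B = ⁅A, B⁆ := by
    ext n
    rw [mem_cn]
    constructor
    · rintro ⟨hn, hc⟩
      obtain ⟨a, ha, c, hcC, e⟩ := mem_sup_of_commute hAC hn
      have ha1 : a = 1 := by
        by_contra ha1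
        have hg := hgAB1 a ha ha1
        have hbot : Subgroup.closure ((fun b : G => a * b * a⁻¹ * b⁻¹) '' (B : Set G)) = ⊥ := by
          rw [Subgroup.closure_eq_bot_iff]
          rintro _ ⟨b, hb, rfl⟩
          rw [Set.mem_singleton_iff]
          show a * b * a⁻¹ * b⁻¹ = 1
          have hc' : b * (a * c) = (a * c) * b := by rw [← e]; exact hc b hb
          have hba : b * a = a * b := by
            calc b * a = (b * (a * c)) * c⁻¹ := by group
              _ = ((a * c) * b) * c⁻¹ := by rw [hc']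
              _ = a * (c * b) * c⁻¹ := by group
              _ = a * (b * c) * c⁻¹ := by rw [hBC b hb c hcC]
              _ = a * b := by group
          rw [← hba]; group
        rw [hbot] at hg
        exact hCne hg.symm
      rw [e, ha1, one_mul]; exact hcC
    · intro hnC
      exact ⟨Subgroup.mem_sup_right hnC, fun b hb => hBC b hb n hnC⟩
  have cnD : cn (A ⊔ ⁅A, B⁆) D = A := by
    ext n
    rw [mem_cn]
    constructor
    · rintro ⟨hn, hc⟩
      obtain ⟨a, ha, c, hcC, e⟩ := mem_sup_of_commute hAC hn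
      have hc1 : c = 1 := by
        by_contra hc1
        have hg := hgDC2 c hcC hc1
        have hbot : Subgroup.closure ((fun d : G => d * c * d⁻¹ * c⁻¹) '' (D : Set G)) = ⊥ := by
          rw [Subgroup.closure_eq_bot_iff]
          rintro _ ⟨d, hd, rfl⟩
          rw [Set.mem_singleton_iff]
          show d * c * d⁻¹ * c⁻¹ = 1
          have hc' : d * (a * c) = (a * c) * d := by rw [← e]; exact hc d hd
          have hdc : d * c = c * d := by
            calc d * c = a⁻¹ * ((a * d) * c) := by group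
              _ = a⁻¹ * ((d * a) * c) := by rw [hDA d hd a ha]
              _ = a⁻¹ * (d * (a * c)) := by group
              _ = a⁻¹ * ((a * c) * d) := by rw [hc']
              _ = c * d := by group
          rw [hdc]; group
        rw [hbot] at hg
        exact hAne hg.symm
      rw [e, hc1, mul_one]; exact ha
    · intro hnA
      exact ⟨Subgroup.mem_sup_left hnA, fun d hd => hDA d hd n hnA⟩
  obtain ⟨x₀, hx₀, eD⟩ := right_mem_unipotent hBD
  have hcnB : ∀ x ∈ B ⊔ D, cn (A ⊔ ⁅A, B⁆) (Cfsg.conjBy B x) = Cfsg.conjBy ⁅A, B⁆ x := by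
    intro x hx
    rw [cn_conj (hXconj x hx), cnB]
  have hcnD : ∀ x ∈ B ⊔ D, cn (A ⊔ ⁅A, B⁆) (Cfsg.conjBy D x) = Cfsg.conjBy A x := by
    intro x hx
    rw [cn_conj (hXconj x hx), cnD]
  have hA_eq : A = Cfsg.conjBy ⁅A, B⁆ x₀ := by
    have h1 : cn (A ⊔ ⁅A, B⁆) D = cn (A ⊔ ⁅A, B⁆) (Cfsg.conjBy B x₀) :=
      congrArg (cn (A ⊔ ⁅A, B⁆)) eD
    rw [cnD, hcnB x₀ hx₀] at h1
    exact h1
  have hconjA : ∀ x, Cfsg.conjBy A x = Cfsg.conjBy ⁅A, B⁆ (x * x₀) := by
    intro x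
    rw [← conjBy_conjBy, ← hA_eq]
  have hconjC : ∀ x, Cfsg.conjBy ⁅A, B⁆ x = Cfsg.conjBy A (x * x₀⁻¹) := by
    intro x
    rw [hconjA (x * x₀⁻¹)]
    congr 1
    group
  have hCmem : ⁅A, B⁆ ∈ {E | ∃ x ∈ B ⊔ D, E = Cfsg.conjBy A x} := by
    refine ⟨x₀⁻¹, Subgroup.inv_mem _ hx₀, ?_⟩
    have := hconjC 1
    rw [conjBy_one, one_mul] at this
    exact this
  -- disjointness
  have hdisj : ∀ Y₁ ∈ Cfsg.unipotentSubgroups B D, ∀ Y₂ ∈ Cfsg.unipotentSubgroups B D, Y₁ ≠ Y₂ →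
      ∀ n, n ∈ cn (A ⊔ ⁅A, B⁆) Y₁ → n ∈ cn (A ⊔ ⁅A, B⁆) Y₂ → n = 1 := by
    intro Y₁ h1 Y₂ h2 hne n hn1 hn2
    obtain ⟨y, hy, e1, e2⟩ := move_to_base hBD h1 h2 hne
    have hm1 : y * n * y⁻¹ ∈ cn (A ⊔ ⁅A, B⁆) (Cfsg.conjBy Y₁ y) := by
      rw [cn_conj (hXconj y hy)]; exact conj_mem_conjBy _ y hn1
    have hm2 : y * n * y⁻¹ ∈ cn (A ⊔ ⁅A, B⁆) (Cfsg.conjBy Y₂ y) := by
      rw [cn_conj (hXconj y hy)]; exact conj_mem_conjBy _ y hn2
    rw [e1, cnB] at hm1
    rw [e2, cnD] at hm2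
    have := hAinfC _ hm2 hm1
    have e : n = y⁻¹ * (y * n * y⁻¹) * y := by group
    rw [e, this]; group
  have hDmem : ∀ x ∈ B ⊔ D, Cfsg.conjBy D x ∈ Cfsg.unipotentSubgroups B D := fun x hx =>
    conjBy_mem_unipotent (right_mem_unipotent hBD) hx
  have hDB := Cfsg.RankOnePair_symm hBD
  refine ⟨?_, ?_, ?_, ?_, ?_⟩
  · -- (2)
    ext E
    constructor
    · rintro ⟨x, hx, rfl⟩
      exact ⟨x * x₀, Subgroup.mul_mem _ hx hx₀, hconjA x⟩
    · rintro ⟨x, hx, rfl⟩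
      exact ⟨x * x₀⁻¹, Subgroup.mul_mem _ hx (Subgroup.inv_mem _ hx₀), hconjC x⟩
  · -- (3)
    ext E
    constructor
    · rintro ⟨x, hx, rfl⟩
      have e := (hcnD x hx).symm
      rcases unipotent_cases hBD (hDmem x hx) with e1 | ⟨b, hb, e1⟩
      · right
        rw [Set.mem_singleton_iff, e, e1, cnB]
      · left
        refine ⟨b, hb, ?_⟩
        show Cfsg.conjBy A b = Cfsg.conjBy A x
        rw [e, e1, hcnD b (Subgroup.mem_sup_left hb)]
    · rintro (⟨b, hb, rfl⟩ | h)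
      · exact ⟨b, Subgroup.mem_sup_left hb, rfl⟩
      · rw [Set.mem_singleton_iff] at h
        rw [h]; exact hCmem
  · -- (4)
    ext E
    constructor
    · rintro ⟨x, hx, rfl⟩
      have hx' : x * x₀ ∈ B ⊔ D := Subgroup.mul_mem _ hx hx₀
      have e : Cfsg.conjBy A x = cn (A ⊔ ⁅A, B⁆) (Cfsg.conjBy B (x * x₀)) := by
        rw [hcnB _ hx', hconjA]
      have hx'' : x * x₀ ∈ D ⊔ B := by rw [sup_comm]; exact hx'
      have hY : Cfsg.conjBy B (x * x₀) ∈ Cfsg.unipotentSubgroups D B :=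
        conjBy_mem_unipotent (right_mem_unipotent hDB) hx''
      rcases unipotent_cases hDB hY with e1 | ⟨d, hd, e1⟩
      · right
        rw [Set.mem_singleton_iff, e, e1, cnD]
      · left
        refine ⟨d, hd, ?_⟩
        show Cfsg.conjBy ⁅A, B⁆ d = Cfsg.conjBy A x
        rw [e, e1, hcnB d (Subgroup.mem_sup_right hd)]
    · rintro (⟨d, hd, rfl⟩ | h)
      · exact ⟨d * x₀⁻¹, Subgroup.mul_mem _ (Subgroup.mem_sup_right hd) (Subgroup.inv_mem _ hx₀),
          hconjC d⟩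
      · rw [Set.mem_singleton_iff] at h
        exact ⟨1, Subgroup.one_mem _, by rw [h, conjBy_one]⟩
  · -- (5)
    refine ⟨?_, ?_, ?_⟩
    · rintro E ⟨x, hx, rfl⟩
      exact (conjBy_mono x le_sup_left).trans (le_of_eq (hXconj x hx))
    · intro n hn hn1
      obtain ⟨a, ha, c, hc, e⟩ := mem_sup_of_commute hAC hn
      by_cases ha1 : a = 1
      · refine ⟨⁅A, B⁆, hCmem, ?_⟩
        rw [e, ha1, one_mul]; exact hc
      · obtain ⟨b, hb, eb⟩ := exists_cm_right hcenAB ha (hgAB1 a ha ha1) c⁻¹ (Subgroup.inv_mem _ hc)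
        refine ⟨Cfsg.conjBy A b, ⟨b, Subgroup.mem_sup_left hb, rfl⟩, ?_⟩
        have : n = b * a * b⁻¹ := by
          rw [e]
          calc a * c = c * a := hAC a ha c hc
            _ = (a * b * a⁻¹ * b⁻¹)⁻¹ * a := by rw [eb, inv_inv]
            _ = b * a * b⁻¹ := by group
        rw [this]
        exact conj_mem_conjBy A b ha
    · rintro E₁ ⟨x₁, hx₁, rfl⟩ E₂ ⟨x₂, hx₂, rfl⟩ hne
      rw [Subgroup.eq_bot_iff_forall]
      intro n hn
      rw [Subgroup.mem_inf] at hn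
      have hne' : Cfsg.conjBy D x₁ ≠ Cfsg.conjBy D x₂ := by
        intro e
        apply hne
        rw [← hcnD x₁ hx₁, ← hcnD x₂ hx₂, e]
      apply hdisj _ (hDmem x₁ hx₁) _ (hDmem x₂ hx₂) hne' n
      · rw [hcnD x₁ hx₁]; exact hn.1
      · rw [hcnD x₂ hx₂]; exact hn.2
  · -- (6)
    intro x hx y hy
    rw [Subgroup.mem_inf] at hx
    obtain ⟨hxX, hxN⟩ := hx
    rw [Subgroup.mem_centralizer_iff] at hxN
    refine commutes_of_normalizes_all hBD (y := x) ?_ y hy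
    intro Y hY
    by_contra hne
    have hY' : Cfsg.conjBy Y x ∈ Cfsg.unipotentSubgroups B D := conjBy_mem_unipotent hY hxX
    have h1 : cn (A ⊔ ⁅A, B⁆) (Cfsg.conjBy Y x) = cn (A ⊔ ⁅A, B⁆) Y := by
      rw [cn_conj (hXconj x hxX)]
      apply conjBy_of_centralizes
      intro n hn
      rw [mem_cn] at hn
      exact (hxN n hn.1).symm
    obtain ⟨w, hw, rfl⟩ := hY
    have h2 : cn (A ⊔ ⁅A, B⁆) (Cfsg.conjBy B w) ≠ ⊥ := by
      rw [hcnB w hw]
      intro e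
      apply hCne
      have := congrArg (fun X => Cfsg.conjBy X w⁻¹) e
      simp only [conjBy_inv_conjBy, conjBy_bot] at this
      exact this
    obtain ⟨n, hn1⟩ := (Subgroup.ne_bot_iff_exists_ne_one).mp h2
    apply hn1
    apply Subtype.ext
    have hn : (n : G) ∈ cn (A ⊔ ⁅A, B⁆) (Cfsg.conjBy B w) := n.2
    exact hdisj _ hY' _ ⟨w, hw, rfl⟩ hne n (by rw [h1]; exact hn) hn

end Cfsg.Agent.Lib.Helper8_RootPlane
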