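import Mathlib
import Cfsg.Prelude.Def_RootSubgroups
import Cfsg.Agent.Lib.Helper8_RankOne
import Cfsg.Agent.Lib.Helper8_RootBase
import Cfsg.Agent.Lib.Helper8_RootLine
import Cfsg.Agent.Lib.Helper8_RootComp
import Cfsg.Agent.Lib.Helper8_RootSpecial
import Cfsg.Agent.Lib.Helper8_RootGeom
import Cfsg.Agent.Lib.Helper8_RootPlane

set_option autoImplicit false
set_option linter.unusedVariables false
set_option linter.unusedSimpArgs false
set_option linter.style.haveILetI false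
set_option linter.unusedSectionVars false
open Cfsg

/-!
# Generation by line partners and weak TI-subsets in non-degenerate classes
-/

namespace Cfsg.Agent.Lib.Helper8_RootGen

open Cfsg.Agent.Lib.Helper8_RankOne Cfsg.Agent.Lib.Helper8_RootBase Cfsg.Agent.Lib.Helper8_RootLine
  Cfsg.Agent.Lib.Helper8_RootComp Cfsg.Agent.Lib.Helper8_RootSpecial
  Cfsg.Agent.Lib.Helper8_RootGeom Cfsg.Agent.Lib.Helper8_RootPlane
open scoped commutatorElement

variable {G : Type*} [Group G] {S : Set (Subgroup G)}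

theorem inv_comm_of_comm {f t : G} (h : f * t = t * f) : f⁻¹ * t = t * f⁻¹ := by
  calc f⁻¹ * t = f⁻¹ * (t * f) * f⁻¹ := by group
    _ = f⁻¹ * (f * t) * f⁻¹ := by rw [h]
    _ = t * f⁻¹ := by group

/-- A rank one partner of `A` does not commute with a line partner of `A`. -/
theorem not_comm_line (hS : Cfsg.IsRootSubgroupSet S) {A B C : Subgroup G} (hA : A ∈ S)
    (hB : B ∈ S) (hAB : Cfsg.IsRankOnePair A B) (hC : C ∈ Cfsg.linePartners S A) :
    ⁅B, C⁆ ≠ ⊥ := by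
  intro h0
  have hCS := hC.1.1
  have hcomm := commute_of_comm_eq_bot hC.1.2.2
  have hAC : A ⊓ C = ⊥ := by
    rcases Cfsg.Agent.S5028.result hS (not_isolated_of_partner hA hB hAB) hA C hCS with h | h
    · exact h
    · exact absurd h.symm hC.1.2.1
  have hAC1 : ∀ g, g ∈ A → g ∈ C → g = 1 := by
    intro g h1 h2
    have h3 : g ∈ A ⊓ C := Subgroup.mem_inf.mpr ⟨h1, h2⟩
    rw [hAC] at h3
    exact Subgroup.mem_bot.mp h3
  have hBC := commute_of_comm_eq_bot h0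
  obtain ⟨a, ha, ha1⟩ := exists_left_ne_one hAB
  obtain ⟨c, hc1⟩ := (Subgroup.ne_bot_iff_exists_ne_one).mp (hS.ne_bot C hCS)
  have hc : (c : G) ∈ C := c.2
  have hc1' : (c : G) ≠ 1 := fun e => hc1 (Subtype.ext e)
  have hz : (c : G) ∈ Subgroup.centralizer ((A ⊔ B : Subgroup G) : Set G) :=
    mem_centralizer_sup (fun a' ha' => hcomm a' ha' c hc) (fun b' hb' => hBC b' hb' c hc)
  apply Cfsg.Agent.S5025.result hS hA ⟨hB, hAB⟩ hz hc1' a ha ha1
  apply line_root hC (Subgroup.mul_mem _ (Subgroup.mem_sup_right hc) (Subgroup.mem_sup_left ha))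
  intro e
  apply hc1'
  have : (c : G) = a⁻¹ := eq_inv_of_mul_eq_one_left e
  exact hAC1 _ (this ▸ A.inv_mem ha) hc

theorem membersIn_conj (hS : Cfsg.IsRootSubgroupSet S) (N : Subgroup G) (g : G) {P : Subgroup G} :
    P ∈ Cfsg.membersIn S (Cfsg.conjBy N g) ↔ Cfsg.conjBy P g⁻¹ ∈ Cfsg.membersIn S N := by
  constructor
  · rintro ⟨hP, hle⟩
    refine ⟨hS.conj_mem P hP g⁻¹, ?_⟩
    have := conjBy_mono g⁻¹ hle
    rwa [conjBy_inv_conjBy] at this
  · rintro ⟨hP, hle⟩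
    have h1 := hS.conj_mem _ hP g
    rw [conjBy_conjBy_inv] at h1
    refine ⟨h1, ?_⟩
    have := conjBy_mono g hle
    rwa [conjBy_conjBy_inv] at this

/-- Line partners are preserved by conjugation. -/
theorem linePartners_conj (hS : Cfsg.IsRootSubgroupSet S) {A T : Subgroup G} (g : G)
    (hT : T ∈ Cfsg.linePartners S A) :
    Cfsg.conjBy T g ∈ Cfsg.linePartners S (Cfsg.conjBy A g) := by
  obtain ⟨⟨hTS, hne, hcomm⟩, hsub, hcov, hdis⟩ := hT
  refine ⟨⟨hS.conj_mem T hTS g, fun e => hne (conjBy_injective g e), ?_⟩, ?_⟩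
  · show ⁅A.map _, T.map _⁆ = ⊥
    rw [← Subgroup.map_commutator, hcomm, Subgroup.map_bot]
  · rw [← conjBy_sup]
    refine ⟨fun P hP => hP.2, ?_, ?_⟩
    · intro x hx hx1
      rw [mem_conjBy] at hx
      have hx1' : g⁻¹ * x * g ≠ 1 := by
        have := conjBy_ne_one (g := g⁻¹) hx1
        rwa [inv_inv] at this
      obtain ⟨P, hP, hxP⟩ := hcov _ hx hx1'
      refine ⟨Cfsg.conjBy P g, (membersIn_conj hS _ g).mpr (by rw [conjBy_inv_conjBy]; exact hP), ?_⟩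
      rw [mem_conjBy]; exact hxP
    · intro P hP Q hQ hPQ
      have hP' := (membersIn_conj hS _ g).mp hP
      have hQ' := (membersIn_conj hS _ g).mp hQ
      have hne' : Cfsg.conjBy P g⁻¹ ≠ Cfsg.conjBy Q g⁻¹ := fun e => hPQ (conjBy_injective g⁻¹ e)
      have := hdis _ hP' _ hQ' hne'
      rw [← conjBy_inf] at this
      have h2 := congrArg (fun X => Cfsg.conjBy X g) this
      simp only [conjBy_conjBy_inv, conjBy_bot] at h2
      exact h2

/-- A non-identity element of `F` moves `A` when `(A, F)` is in the commutator case. -/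
theorem conj_ne_self (hS : Cfsg.IsRootSubgroupSet S) {A F E : Subgroup G} (hA : A ∈ S)
    (hF : F ∈ S) (hE : E ∈ S) (hAE : Cfsg.IsRankOnePair A E)
    (hcc : Cfsg.RootCommutatorCase S A F) {f : G} (hf : f ∈ F) (hf1 : f ≠ 1) :
    Cfsg.conjBy A f ≠ A := by
  intro e
  apply hf1
  obtain ⟨a, ha, ha1⟩ := exists_left_ne_one hAE
  apply centralizer_trivial hS hA hF hE hAE hcc ha ha1 hf
  have h1 : f * a⁻¹ * f⁻¹ ∈ A := by
    rw [← e]; exact conj_mem_conjBy A f (A.inv_mem ha)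
  have h2 : a * f * a⁻¹ * f⁻¹ ∈ A := by
    have : a * f * a⁻¹ * f⁻¹ = a * (f * a⁻¹ * f⁻¹) := by group
    rw [this]; exact A.mul_mem ha h1
  have h3 : a * f * a⁻¹ * f⁻¹ ∈ ⁅A, F⁆ := cm_mem ha hf
  have h4 : a * f * a⁻¹ * f⁻¹ ∈ A ⊓ ⁅A, F⁆ := Subgroup.mem_inf.mpr ⟨h2, h3⟩
  rw [inf_commutator_eq_bot hS hA hF hE hAE hcc] at h4
  exact Subgroup.mem_bot.mp h4

/-- `A` lies in the subgroup generated by its line partners. -/
theorem le_iSup_linePartners (hS : Cfsg.IsRootSubgroupSet S)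
    (hpart : ∀ A ∈ S, ∃ E ∈ S, Cfsg.IsRankOnePair A E) {A B T : Subgroup G} (hA : A ∈ S)
    (hB : B ∈ S) (hAB : Cfsg.IsRankOnePair A B) (hT : T ∈ Cfsg.linePartners S A)
    (hBT : ⁅B, T⁆ ∈ S) : A ≤ ⨆ C ∈ Cfsg.linePartners S A, C := by
  obtain ⟨hccBT, hccAF, hK⟩ := line_structure hS hpart hA hB hAB hT hBT
  obtain ⟨f, hf1⟩ := (Subgroup.ne_bot_iff_exists_ne_one).mp (hS.ne_bot _ hBT)
  have hf : (f : G) ∈ ⁅B, T⁆ := f.2
  have hf1' : (f : G) ≠ 1 := fun e => hf1 (Subtype.ext e)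
  have hAc := hS.commutative A hA
  have hcommAT := commute_of_comm_eq_bot hT.1.2.2
  have hAf : Cfsg.conjBy A (f : G) ∈ Cfsg.linePartners S A := by
    have hle : Cfsg.conjBy A (f : G) ≤ A ⊔ T := by
      have := conj_le_sup hS hA hBT hB hAB hccAF hf
      rwa [hK] at this
    have hsup : A ⊔ Cfsg.conjBy A (f : G) = A ⊔ T := by
      apply le_antisymm (sup_le le_sup_left hle)
      apply sup_le le_sup_left
      intro t ht
      rw [← hK] at ht
      obtain ⟨a, ha, e⟩ := exists_cm_left hccAF.2.1 hf (hccAF.2.2.2 f hf hf1') t ht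
      rw [← e]
      have : a * (f : G) * a⁻¹ * (f : G)⁻¹ = a * ((f : G) * a⁻¹ * (f : G)⁻¹) := by group
      rw [this]
      exact Subgroup.mul_mem _ (Subgroup.mem_sup_left ha)
        (Subgroup.mem_sup_right (conj_mem_conjBy A f (A.inv_mem ha)))
    refine ⟨⟨hS.conj_mem A hA f, conj_ne_self hS hA hBT hB hAB hccAF hf hf1', ?_⟩, ?_⟩
    · rw [Subgroup.commutator_eq_bot_iff_le_centralizer]
      intro a ha
      rw [Subgroup.mem_centralizer_iff]
      intro y hy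
      obtain ⟨a', ha', t, ht, e⟩ := mem_sup_of_commute hcommAT (hle hy)
      rw [e]
      calc a' * t * a = a' * (t * a) := by group
        _ = a' * (a * t) := by rw [hcommAT a ha t ht]
        _ = (a' * a) * t := by group
        _ = (a * a') * t := by rw [comm_of_isMulCommutative hAc ha' ha]
        _ = a * (a' * t) := by group
    · rw [hsup]; exact hT.2
  have hTle : T ≤ ⨆ C ∈ Cfsg.linePartners S A, C :=
    le_iSup₂ (f := fun (C : Subgroup G) (_ : C ∈ Cfsg.linePartners S A) => C) T hT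
  have hAfle : Cfsg.conjBy A (f : G) ≤ ⨆ C ∈ Cfsg.linePartners S A, C :=
    le_iSup₂ (f := fun (C : Subgroup G) (_ : C ∈ Cfsg.linePartners S A) => C) _ hAf
  intro a ha
  have e : a = ((f : G) * a * (f : G)⁻¹) * (a⁻¹ * (f : G) * a⁻¹⁻¹ * (f : G)⁻¹)⁻¹ := by group
  rw [e]
  apply Subgroup.mul_mem _ (hAfle (conj_mem_conjBy A f ha))
  apply Subgroup.inv_mem
  apply hTle
  have h7 := cm_mem (A := A) (B := ⁅B, T⁆) (A.inv_mem ha) hf
  rw [hK] at h7
  exact h7

/-- Every line partner of `A` is a conjugate of `A` under any subgroup containing the line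
partners of `A`, `A` and a rank one partner `B`. -/
theorem linePartner_conj_of (hS : Cfsg.IsRootSubgroupSet S)
    (hpart : ∀ A ∈ S, ∃ E ∈ S, Cfsg.IsRankOnePair A E) {A B T : Subgroup G} (hA : A ∈ S)
    (hB : B ∈ S) (hAB : Cfsg.IsRankOnePair A B) (hT : T ∈ Cfsg.linePartners S A)
    {R : Subgroup G} (hΛR : ∀ C ∈ Cfsg.linePartners S A, C ≤ R) (hAR : A ≤ R) (hBR : B ≤ R) :
    ∃ r ∈ R, T = Cfsg.conjBy A r := by
  have hTS := hT.1.1
  have hTR := hΛR T hT
  rcases hS.pair B hB T hTS with h0 | h1 | h2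
  · exact absurd h0 (not_comm_line hS hA hB hAB hT)
  · obtain ⟨y, hy, ey⟩ := right_mem_unipotent h1
    obtain ⟨x₀, hx₀, ex⟩ := right_mem_unipotent hAB
    refine ⟨y * x₀, R.mul_mem (sup_le hBR hTR hy) (sup_le hAR hBR hx₀), ?_⟩
    rw [← conjBy_conjBy, ← ex, ← ey]
  · have hBT := h2.1
    have hFR : ⁅B, T⁆ ≤ R := (Subgroup.commutator_le_sup B T).trans (sup_le hBR hTR)
    obtain ⟨hccBT, hccAF, hK⟩ := line_structure hS hpart hA hB hAB hT hBT
    have hmem := membersIn_eq hS hA hBT hB hAB hccAF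
    rw [hK] at hmem
    have hfT : ∀ f ∈ ⁅B, T⁆, ∀ t ∈ T, f * t = t * f := by
      intro f hf t ht
      have ht' : t ∈ ⁅A, ⁅B, T⁆⁆ := by rw [hK]; exact ht
      exact (hccAF.2.1 t ht' f (Subgroup.mem_sup_right hf)).symm
    obtain ⟨E', hE', hTE'⟩ := hpart T hTS
    have hAT := linePartners_symm hA hT
    obtain ⟨T', hT', hE'T', hsup⟩ := exists_line_comm' hS hpart hTS hE' hTE' hAT
    have hT'mem : T' ∈ Cfsg.membersIn S (A ⊔ T) :=
      ⟨hT'.1.1, by rw [sup_comm, ← hsup]; exact le_sup_right⟩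
    rw [hmem] at hT'mem
    rcases hT'mem with ⟨f, hf, ef⟩ | h
    swap
    · exact absurd (Set.mem_singleton_iff.mp h) hT'.1.2.1
    have ef' : Cfsg.conjBy A f = T' := ef
    have hE''S : Cfsg.conjBy E' f⁻¹ ∈ S := hS.conj_mem E' hE' f⁻¹
    have hTE'' : Cfsg.IsRankOnePair T (Cfsg.conjBy E' f⁻¹) := by
      have := rankOnePair_conj hTE' f⁻¹
      rwa [conjBy_of_centralizes (fun t ht => inv_comm_of_comm (hfT f hf t ht))] at this
    have hE''A : ⁅Cfsg.conjBy E' f⁻¹, A⁆ ∈ S := by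
      have h3 := hS.conj_mem _ hE'T' f⁻¹
      have h4 : Cfsg.conjBy ⁅E', T'⁆ f⁻¹ = ⁅Cfsg.conjBy E' f⁻¹, Cfsg.conjBy T' f⁻¹⁆ :=
        Subgroup.map_commutator _ _ _
      rw [h4, ← ef', conjBy_inv_conjBy] at h3
      exact h3
    obtain ⟨hccE''A, hccTF'', hK''⟩ := line_structure hS hpart hTS hE''S hTE'' hAT hE''A
    have hF''Λ : ⁅Cfsg.conjBy E' f⁻¹, A⁆ ∈ Cfsg.linePartners S A := by
      have := mem_linePartners hS hA hE''S hB hAB (commCase_symm hccE''A)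
      rw [Subgroup.commutator_comm A (Cfsg.conjBy E' f⁻¹)] at this
      exact linePartners_symm hE''A this
    have hF''R := hΛR _ hF''Λ
    obtain ⟨f'', hf''1⟩ := (Subgroup.ne_bot_iff_exists_ne_one).mp (hS.ne_bot _ hE''A)
    have hf'' : (f'' : G) ∈ ⁅Cfsg.conjBy E' f⁻¹, A⁆ := f''.2
    have hf''1' : (f'' : G) ≠ 1 := fun e => hf''1 (Subtype.ext e)
    have hmem'' := membersIn_eq hS hTS hE''A hE''S hTE'' hccTF''
    rw [hK''] at hmem''
    have h5 : Cfsg.conjBy T (f'' : G) ∈ Cfsg.membersIn S (A ⊔ T) := by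
      rw [sup_comm, hmem'']
      left
      exact ⟨f'', hf'', rfl⟩
    have h6 : Cfsg.conjBy T (f'' : G) ≠ T :=
      conj_ne_self hS hTS hE''A hE''S hTE'' hccTF'' hf'' hf''1'
    rw [hmem] at h5
    rcases h5 with ⟨f₁, hf₁, e₁⟩ | h
    swap
    · exact absurd (Set.mem_singleton_iff.mp h) h6
    have e₁' : Cfsg.conjBy A f₁ = Cfsg.conjBy T (f'' : G) := e₁
    refine ⟨(f'' : G)⁻¹ * f₁, R.mul_mem (R.inv_mem (hF''R hf'')) (hFR hf₁), ?_⟩
    rw [← conjBy_conjBy, e₁', conjBy_inv_conjBy]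

/-- In a non-degenerate class, `G` is generated by the line partners of `A` and a rank one
partner `B`. -/
theorem generated_by_linePartners (hS : Cfsg.IsRootSubgroupSet S)
    (hcl : Cfsg.IsConjClassOfSubgroups S)
    (hex : ∃ A ∈ S, ∃ B ∈ S, Cfsg.RootCommutatorCase S A B) {A B : Subgroup G} (hA : A ∈ S)
    (hB : B ∈ S) (hAB : Cfsg.IsRankOnePair A B) :
    (⨆ C ∈ Cfsg.linePartners S A, C) ⊔ B = ⊤ := by
  have hpart := all_partner hS hcl hA hB hAB
  have hΛR : ∀ C ∈ Cfsg.linePartners S A, C ≤ (⨆ C ∈ Cfsg.linePartners S A, C) ⊔ B :=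
    fun C hC => (le_iSup₂ (f := fun (C : Subgroup G) (_ : C ∈ Cfsg.linePartners S A) => C) C
      hC).trans le_sup_left
  have hBR : B ≤ (⨆ C ∈ Cfsg.linePartners S A, C) ⊔ B := le_sup_right
  obtain ⟨⟨T, hT, hTS, hBT⟩, _⟩ := nondegenerate_special hS hcl hex hA hB hAB
  have hAR : A ≤ (⨆ C ∈ Cfsg.linePartners S A, C) ⊔ B :=
    (le_iSup_linePartners hS hpart hA hB hAB hT hBT).trans le_sup_left
  have hE := econnected hS hcl ⟨A, hA, B, hB, hAB⟩ hex
  have key : ∀ E ∈ S, ∃ r ∈ (⨆ C ∈ Cfsg.linePartners S A, C) ⊔ B, E = Cfsg.conjBy A r := by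
    intro E hE'
    have hp := hE A hA E hE'
    induction hp with
    | refl => exact ⟨1, Subgroup.one_mem _, (conjBy_one A).symm⟩
    | tail _ hbc ih =>
      obtain ⟨hP, hQ, hQP⟩ := hbc
      obtain ⟨r, hr, eP⟩ := ih hP
      have h1 := linePartners_conj hS r⁻¹ hQP
      rw [eP, conjBy_inv_conjBy] at h1
      obtain ⟨r', hr', e'⟩ := linePartner_conj_of hS hpart hA hB hAB h1 hΛR hAR hBR
      refine ⟨r * r', Subgroup.mul_mem _ hr hr', ?_⟩
      rw [← conjBy_conjBy, ← e', conjBy_conjBy_inv]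
  rw [eq_top_iff, ← hS.generates]
  apply iSup₂_le
  intro E hE'
  obtain ⟨r, hr, e⟩ := key E hE'
  rw [e]; exact conjBy_le_of_mem hAR hr

/-- The stabilizer of a family of subgroups under conjugation. -/
def famStab (Δ : Set (Subgroup G)) : Subgroup G where
  carrier := {g | (fun A : Subgroup G => Cfsg.conjBy A g) '' Δ = Δ}
  one_mem' := by
    show (fun A : Subgroup G => Cfsg.conjBy A 1) '' Δ = Δ
    simp only [conjBy_one, Set.image_id']
  mul_mem' := by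
    intro g h hg hh
    show (fun A : Subgroup G => Cfsg.conjBy A (g * h)) '' Δ = Δ
    have : (fun A : Subgroup G => Cfsg.conjBy A (g * h)) =
        (fun A : Subgroup G => Cfsg.conjBy A g) ∘ (fun A : Subgroup G => Cfsg.conjBy A h) := by
      funext A
      simp only [Function.comp, conjBy_conjBy]
    rw [this, Set.image_comp]
    have hh' : (fun A : Subgroup G => Cfsg.conjBy A h) '' Δ = Δ := hh
    have hg' : (fun A : Subgroup G => Cfsg.conjBy A g) '' Δ = Δ := hg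
    rw [hh', hg']
  inv_mem' := by
    intro g hg
    show (fun A : Subgroup G => Cfsg.conjBy A g⁻¹) '' Δ = Δ
    have hg' : (fun A : Subgroup G => Cfsg.conjBy A g) '' Δ = Δ := hg
    have : (fun A : Subgroup G => Cfsg.conjBy A g⁻¹) '' ((fun A : Subgroup G => Cfsg.conjBy A g) '' Δ)
        = Δ := by
      rw [← Set.image_comp]
      have : (fun A : Subgroup G => Cfsg.conjBy A g⁻¹) ∘ (fun A : Subgroup G => Cfsg.conjBy A g) =
          id := by
        funext A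
        simp only [Function.comp, conjBy_inv_conjBy, id]
      rw [this, Set.image_id]
    rw [hg'] at this
    exact this

theorem mem_famStab {Δ : Set (Subgroup G)} {g : G} :
    g ∈ famStab Δ ↔ (fun A : Subgroup G => Cfsg.conjBy A g) '' Δ = Δ := Iff.rfl

/-- A weak TI-subset of a non-degenerate class is abelian. -/
theorem weakTI_abelian (hS : Cfsg.IsRootSubgroupSet S) (hcl : Cfsg.IsConjClassOfSubgroups S)
    (hro : ∃ A ∈ S, ∃ B ∈ S, Cfsg.IsRankOnePair A B)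
    (hex : ∃ A ∈ S, ∃ B ∈ S, Cfsg.RootCommutatorCase S A B) {Δ : Set (Subgroup G)}
    (hΔ : Cfsg.IsWeakTISubset S Δ) : Cfsg.IsAbelianFamily Δ := by
  obtain ⟨hsub, ⟨A₀, hA₀, _⟩, hneS, hTI⟩ := hΔ
  obtain ⟨P₀, hP₀, Q₀, hQ₀, hPQ₀⟩ := hro
  have hpart := all_partner hS hcl hP₀ hQ₀ hPQ₀
  have hM_of_fix : ∀ E ∈ S, (∃ P ∈ Δ, ∀ e ∈ E, Cfsg.conjBy P e = P) → E ≤ famStab Δ := by
    rintro E hE ⟨P, hP, hfix⟩ e he
    rw [mem_famStab]
    by_cases he1 : e = 1
    · rw [he1]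
      simp only [conjBy_one, Set.image_id']
    · rcases hTI e (mem_rootElements hE he he1) with h | h
      · exact h
      · exfalso
        have : P ∈ (fun A : Subgroup G => Cfsg.conjBy A e) '' Δ := ⟨P, hP, hfix e he⟩
        exact Set.disjoint_left.mp h this hP
  have htop : famStab Δ = ⊤ → False := by
    intro hM
    apply hneS
    apply Set.Subset.antisymm hsub
    intro E hE
    obtain ⟨g, rfl⟩ := hcl.2 A₀ (hsub hA₀) E hE
    have hg : g ∈ famStab Δ := by rw [hM]; exact Subgroup.mem_top g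
    rw [mem_famStab] at hg
    rw [← hg]
    exact ⟨A₀, hA₀, rfl⟩
  intro A hA B hB a ha b hb
  by_contra hab
  have hAS := hsub hA
  have hBS := hsub hB
  have hgen : ∀ {P Q : Subgroup G}, P ∈ Δ → Q ∈ S → Cfsg.IsRankOnePair P Q →
      (∃ P' ∈ Δ, ∀ q ∈ Q, Cfsg.conjBy P' q = P') → False := by
    intro P Q hP hQ hPQ hfix
    apply htop
    have hPS := hsub hP
    have := generated_by_linePartners hS hcl hex hPS hQ hPQ
    rw [eq_top_iff, ← this]
    apply sup_le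
    · apply iSup₂_le
      intro C hC
      exact hM_of_fix C hC.1.1 ⟨P, hP, fun c hc => conjBy_of_centralizes (fun a' ha' =>
        (commute_of_comm_eq_bot hC.1.2.2 a' ha' c hc).symm)⟩
    · exact hM_of_fix Q hQ hfix
  rcases hS.pair A hAS B hBS with h0 | h1 | h2
  · exact hab (commute_of_comm_eq_bot h0 a ha b hb)
  · exact hgen hA hBS h1 ⟨B, hB, fun e he => conjBy_of_mem he⟩
  · have hT := h2.1
    obtain ⟨E, hE, hAE⟩ := hpart A hAS
    have hAΛ : A ∈ Cfsg.linePartners S ⁅A, B⁆ := mem_linePartners hS hAS hBS hE hAE h2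
    have hmem := membersIn_eq hS hAS hBS hE hAE h2
    obtain ⟨E₁, hE₁, hTE₁⟩ := hpart _ hT
    obtain ⟨T₁, hT₁, hE₁T₁, hsup⟩ := exists_line_comm' hS hpart hT hE₁ hTE₁ hAΛ
    obtain ⟨_, hccTF₁, hK₁⟩ := line_structure hS hpart hT hE₁ hTE₁ hT₁ hE₁T₁
    have hT₁mem : T₁ ∈ Cfsg.membersIn S (A ⊔ ⁅A, B⁆) :=
      ⟨hT₁.1.1, by rw [sup_comm, ← hsup]; exact le_sup_right⟩
    rw [hmem] at hT₁mem
    rcases hT₁mem with ⟨b₁, hb₁, e₁⟩ | h
    swap
    · exact absurd (Set.mem_singleton_iff.mp h) hT₁.1.2.1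
    have e₁' : Cfsg.conjBy A b₁ = T₁ := e₁
    have hT₁eq : Cfsg.conjBy T₁ b₁⁻¹ = A := by rw [← e₁', conjBy_inv_conjBy]
    have hD : Cfsg.conjBy ⁅E₁, T₁⁆ b₁⁻¹ ∈ S := hS.conj_mem _ hE₁T₁ b₁⁻¹
    have hDC : ⁅Cfsg.conjBy ⁅E₁, T₁⁆ b₁⁻¹, ⁅A, B⁆⁆ = A := by
      have h4 : Cfsg.conjBy ⁅⁅A, B⁆, ⁅E₁, T₁⁆⁆ b₁⁻¹ =
          ⁅Cfsg.conjBy ⁅A, B⁆ b₁⁻¹, Cfsg.conjBy ⁅E₁, T₁⁆ b₁⁻¹⁆ := Subgroup.map_commutator _ _ _
      rw [hK₁, hT₁eq, conjBy_of_centralizes (fun c hc =>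
        (h2.2.1 c hc b₁⁻¹ (Subgroup.mem_sup_right (B.inv_mem hb₁))).symm)] at h4
      rw [Subgroup.commutator_comm]
      exact h4.symm
    obtain ⟨hBD, -⟩ := plane hS hAS hBS hT hD hDC
    have hDCS : ⁅Cfsg.conjBy ⁅E₁, T₁⁆ b₁⁻¹, ⁅A, B⁆⁆ ∈ S := by rw [hDC]; exact hAS
    have hccDT := commCase_of_mem hS hD hT hDCS
    refine hgen hB hD hBD ⟨A, hA, fun d hd => conjBy_of_centralizes (fun a' ha' => ?_)⟩
    have ha'' : a' ∈ ⁅Cfsg.conjBy ⁅E₁, T₁⁆ b₁⁻¹, ⁅A, B⁆⁆ := by rw [hDC]; exact ha'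
    exact (hccDT.2.1 a' ha'' d (Subgroup.mem_sup_left hd)).symm


end Cfsg.Agent.Lib.Helper8_RootGen
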