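import Mathlib
import Cfsg.Prelude.Def_FusionSystem
import Cfsg.Agent.Lib.Helper8_Alperin

set_option autoImplicit false
set_option linter.unusedVariables false
set_option linter.style.haveILetI false

/-!
# Subgroups containing the normalizers of the nontrivial `p`-subgroups (modulo a normal subgroup)

Abstract lemmas on a subgroup `G ≤ H` containing a Sylow `p`-subgroup `T` of `H` and the
normalizers `N_H(Y)` of all the subgroups `I < Y ≤ T`, where `I ≤ T` is normal.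
-/

namespace Cfsg.Agent.Lib.Helper8_SE

open Cfsg Cfsg.FusionSystem
open Cfsg.Agent.Lib.Helper8_GroupFusion Cfsg.Agent.Lib.Helper8_Alperin
  Cfsg.Agent.Lib.Helper8_Saturated

variable {X : Type*} [Group X] [Finite X] {p : ℕ} [Fact p.Prime]

/-- The standing hypotheses. -/
structure Setup (p : ℕ) (H G T I : Subgroup X) : Prop where
  hGH : G ≤ H
  hTG : T ≤ G
  hIT : I ≤ T
  hIn : ∀ x : X, cj x I = I
  hT : ∃ R : Sylow p H, (R : Subgroup H) = T.subgroupOf H
  star : ∀ Y : Subgroup X, Y ≤ T → I ≤ Y → Y ≠ I → ∀ h ∈ H, cj h Y = Y → h ∈ G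

variable {H G T I : Subgroup X}

theorem Setup.hTp (hs : Setup p H G T I) : IsPGroup p T := by
  obtain ⟨R, hR⟩ := hs.hT
  have h1 : IsPGroup p (T.subgroupOf H) := hR ▸ R.2
  exact h1.of_equiv (Subgroup.subgroupOfEquivOfLe (hs.hTG.trans hs.hGH))

theorem Setup.hTG' (hs : Setup p H G T I) :
    ∃ R : Sylow p G, (R : Subgroup G) = T.subgroupOf G :=
  sylow_of_le H G T hs.hTG hs.hGH hs.hT

theorem Setup.star' (hs : Setup p H G T I) (Q : Subgroup X) (hQG : Q ≤ G) (hQp : IsPGroup p Q)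
    (hIQ : I ≤ Q) (hQI : Q ≠ I) (h : X) (hh : h ∈ H) (hhQ : cj h Q = Q) : h ∈ G := by
  obtain ⟨g, hg, hgQ⟩ := exists_cj_le_of_sylow G T Q hQG hQp hs.hTG'
  have h1 : I ≤ cj g Q := by
    rw [← hs.hIn g]
    exact cj_mono g hIQ
  have h2 : cj g Q ≠ I := by
    intro heq
    apply hQI
    rw [← cj_inv_cj g Q, heq, hs.hIn]
  have h3 : g * h * g⁻¹ ∈ H :=
    H.mul_mem (H.mul_mem (hs.hGH hg) hh) (H.inv_mem (hs.hGH hg))
  have h4 : cj (g * h * g⁻¹) (cj g Q) = cj g Q := by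
    rw [cj_cj]
    have : g * h * g⁻¹ * g = g * h := by group
    rw [this, ← cj_cj, hhQ]
  have h5 := hs.star _ hgQ h1 h2 _ h3 h4
  have h6 : h = g⁻¹ * (g * h * g⁻¹) * g := by group
  rw [h6]
  exact G.mul_mem (G.mul_mem (G.inv_mem hg) h5) hg

theorem Setup.closed (hs : Setup p H G T I) (Q : Subgroup X) (hQH : Q ≤ H) (hQp : IsPGroup p Q)
    (hIQ : I ≤ Q) (x : X) (hxQ : x ∈ Q) (hxG : x ∈ G) (hxI : x ∉ I) : Q ≤ G := by
  by_contra hcon
  have hne : Q ⊓ G ≠ Q := by
    intro heq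
    apply hcon
    rw [← heq]
    exact inf_le_right
  haveI : Finite Q := inferInstance
  obtain ⟨y, hyN, hy⟩ := exists_mem_normalizerIn_not_mem (S := Q) hQp (inf_le_left : Q ⊓ G ≤ Q) hne
  apply hy
  refine ⟨hyN.1, ?_⟩
  apply hs.star' (Q ⊓ G) inf_le_right (hQp.to_le inf_le_left) (le_inf hIQ (hs.hIT.trans hs.hTG)) ?_
    y (hQH hyN.1) (cj_eq_of_mem_normalizer hyN.2)
  intro heq
  apply hxI
  rw [← heq]
  exact ⟨hxQ, hxG⟩

theorem Setup.control_T (hs : Setup p H G T I) :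
    ∀ (n : ℕ) (Y : Subgroup X), Y ≤ T → I ≤ Y → Y ≠ I → Nat.card T - Nat.card Y = n →
      ∀ h ∈ H, cj h Y ≤ G → h ∈ G := by
  intro n
  induction n using Nat.strong_induction_on with
  | _ n ih =>
  intro Y hYT hIY hYI hn h hh hhY
  have hIh : I ≤ cj h Y := by
    rw [← hs.hIn h]
    exact cj_mono h hIY
  have hhYI : cj h Y ≠ I := by
    intro heq
    apply hYI
    rw [← cj_inv_cj h Y, heq, hs.hIn]
  have hYp : IsPGroup p Y := hs.hTp.to_le hYT
  have hhYp : IsPGroup p (cj h Y) := hYp.map _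
  by_cases hYeq : Y = T
  · subst hYeq
    obtain ⟨g, hg, hgY⟩ := exists_cj_le_of_sylow G Y (cj h Y) hhY hhYp hs.hTG'
    rw [cj_cj] at hgY
    have heq : cj (g * h) Y = Y := by
      apply Subgroup.eq_of_le_of_card_ge hgY
      rw [card_cj]
    have h1 := hs.star Y le_rfl hIY hYI (g * h) (H.mul_mem (hs.hGH hg) hh) heq
    have h2 : h = g⁻¹ * (g * h) := by group
    rw [h2]
    exact G.mul_mem (G.inv_mem hg) h1
  · haveI : Finite T := inferInstance
    have hlt := card_lt_card_normalizerIn (S := T) hs.hTp hYT hYeq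
    have hNT : normalizerIn T Y ≤ T := inf_le_left
    have hYN : Y ≤ normalizerIn T Y := le_normalizerIn hYT
    have hcard : Nat.card (normalizerIn T Y) ≤ Nat.card T := Subgroup.card_le_of_le hNT
    apply ih (Nat.card T - Nat.card (normalizerIn T Y)) (by omega) (normalizerIn T Y) hNT
      (hIY.trans hYN) ?_ rfl h hh
    · rintro _ ⟨z, hz, rfl⟩
      have hzN : cj z Y = Y := cj_eq_of_mem_normalizer hz.2
      show h * z * h⁻¹ ∈ G
      apply hs.star' (cj h Y) hhY hhYp hIh hhYI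
      · exact H.mul_mem (H.mul_mem hh (hs.hGH (hs.hTG hz.1))) (H.inv_mem hh)
      · rw [cj_cj]
        have : h * z * h⁻¹ * h = h * z := by group
        rw [this, ← cj_cj, hzN]
    · intro heq
      rw [heq] at hlt
      have := Subgroup.card_le_of_le hIY
      omega

theorem Setup.control (hs : Setup p H G T I) (Y : Subgroup X) (hYG : Y ≤ G) (hYp : IsPGroup p Y)
    (hIY : I ≤ Y) (hYI : Y ≠ I) (h : X) (hh : h ∈ H) (hhY : cj h Y ≤ G) : h ∈ G := by
  obtain ⟨g, hg, hgY⟩ := exists_cj_le_of_sylow G T Y hYG hYp hs.hTG'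
  have h1 : I ≤ cj g Y := by
    rw [← hs.hIn g]
    exact cj_mono g hIY
  have h2 : cj g Y ≠ I := by
    intro heq
    apply hYI
    rw [← cj_inv_cj g Y, heq, hs.hIn]
  have h3 : h * g⁻¹ ∈ H := H.mul_mem hh (H.inv_mem (hs.hGH hg))
  have h4 : cj (h * g⁻¹) (cj g Y) ≤ G := by
    rw [cj_cj]
    have : h * g⁻¹ * g = h := by group
    rw [this]
    exact hhY
  have h5 := hs.control_T _ _ hgY h1 h2 rfl _ h3 h4
  have h6 : h = h * g⁻¹ * g := by group
  rw [h6]
  exact G.mul_mem h5 hg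

end Cfsg.Agent.Lib.Helper8_SE
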