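import Mathlib
import Cfsg.Agent.Lib.Helper9_SLn

set_option autoImplicit false
set_option linter.style.haveILetI false
set_option linter.unusedVariables false

/-!
# `SL₂(p)` inside groups of automorphisms of an elementary abelian group of order `p²`
-/

namespace Cfsg.Agent.Lib.Helper8_SL2Aut

open Matrix

section lin

variable {H : Type*} [CommGroup H] {p : ℕ} [Fact p.Prime] [Module (ZMod p) (Additive H)]

/-- The linear map of an automorphism. -/
def lin (p : ℕ) [Fact p.Prime] [Module (ZMod p) (Additive H)] (φ : MulAut H) :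
    Module.End (ZMod p) (Additive H) :=
  (MonoidHom.toAdditive φ.toMonoidHom).toZModLinearMap p

theorem lin_apply (φ : MulAut H) (v : Additive H) :
    lin p φ v = Additive.ofMul (φ (Additive.toMul v)) := rfl

theorem lin_mul (φ ψ : MulAut H) : lin p (φ * ψ) = lin p φ * lin p ψ := by
  ext v; rfl

theorem lin_one : lin p (1 : MulAut H) = 1 := by
  ext v; rfl

theorem lin_pow (φ : MulAut H) (k : ℕ) : lin p (φ ^ k) = (lin p φ) ^ k := by
  induction k with
  | zero => simp [lin_one]
  | succ k ih => rw [pow_succ, pow_succ, lin_mul, ih]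

theorem lin_injective : Function.Injective (lin p : MulAut H → Module.End (ZMod p) (Additive H)) := by
  intro φ ψ h
  ext x
  have := congrArg (fun f : Module.End (ZMod p) (Additive H) => f (Additive.ofMul x)) h
  exact this

/-- The action of `SL₂(p)` in a basis. -/
noncomputable def slHom (b : Module.Basis (Fin 2) (ZMod p) (Additive H)) :
    Matrix.SpecialLinearGroup (Fin 2) (ZMod p) →* MulAut H where
  toFun M :=
    { toFun := fun h => Additive.toMul (Matrix.toLin b b M.1 (Additive.ofMul h))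
      invFun := fun h => Additive.toMul (Matrix.toLin b b (M⁻¹).1 (Additive.ofMul h))
      left_inv := by
        intro h
        show Additive.toMul (Matrix.toLin b b (M⁻¹).1 (Matrix.toLin b b M.1 (Additive.ofMul h))) = h
        rw [← Matrix.toLin_mul_apply, ← Matrix.SpecialLinearGroup.coe_mul, inv_mul_cancel]
        simp
      right_inv := by
        intro h
        show Additive.toMul (Matrix.toLin b b M.1 (Matrix.toLin b b (M⁻¹).1 (Additive.ofMul h))) = h
        rw [← Matrix.toLin_mul_apply, ← Matrix.SpecialLinearGroup.coe_mul, mul_inv_cancel]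
        simp
      map_mul' := by
        intro x y
        show Additive.toMul (Matrix.toLin b b M.1 (Additive.ofMul x + Additive.ofMul y)) = _
        rw [map_add]
        rfl }
  map_one' := by
    ext h
    show Additive.toMul (Matrix.toLin b b (1 : Matrix.SpecialLinearGroup (Fin 2) (ZMod p)).1 (Additive.ofMul h)) = h
    simp
  map_mul' := by
    intro M N
    ext h
    show Additive.toMul (Matrix.toLin b b (M * N).1 (Additive.ofMul h)) =
      Additive.toMul (Matrix.toLin b b M.1 (Matrix.toLin b b N.1 (Additive.ofMul h)))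
    rw [Matrix.SpecialLinearGroup.coe_mul, Matrix.toLin_mul_apply b b b]

theorem lin_slHom (b : Module.Basis (Fin 2) (ZMod p) (Additive H))
    (M : Matrix.SpecialLinearGroup (Fin 2) (ZMod p)) :
    lin p (slHom b M) = Matrix.toLin b b M.1 := by
  ext v; rfl

theorem slHom_injective (b : Module.Basis (Fin 2) (ZMod p) (Additive H)) :
    Function.Injective (slHom (p := p) b) := by
  intro M N h
  have h1 : Matrix.toLin b b M.1 = Matrix.toLin b b N.1 := by
    rw [← lin_slHom, ← lin_slHom, h]
  exact Subtype.ext ((Matrix.toLin b b).injective h1)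

end lin


section LA

variable {V : Type*} [AddCommGroup V] {p : ℕ} [Fact p.Prime] [Module (ZMod p) V]

theorem univ_eq {i j : Fin 2} (hij : i ≠ j) : (Finset.univ : Finset (Fin 2)) = {i, j} := by
  fin_cases i <;> fin_cases j <;> first | exact absurd rfl hij | decide

theorem fin2_cases {i j : Fin 2} (hij : i ≠ j) (l : Fin 2) : l = i ∨ l = j := by
  have := Finset.mem_univ l
  rw [univ_eq hij] at this
  simpa using this

/-- An endomorphism of order dividing `p` of a plane over `𝔽_p` fixing a basis vector is a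
shear. -/
theorem exists_shear (b : Module.Basis (Fin 2) (ZMod p) V) {i j : Fin 2} (hij : i ≠ j)
    (φ : Module.End (ZMod p) V) (hφ : φ ^ p = 1) (hfix : φ (b i) = b i) :
    ∃ x : ZMod p, φ (b j) = b j + x • b i := by
  have hsum : φ (b j) = b.repr (φ (b j)) i • b i + b.repr (φ (b j)) j • b j := by
    conv_lhs => rw [← b.sum_repr (φ (b j))]
    rw [univ_eq hij, Finset.sum_pair hij]
  obtain ⟨m, hm⟩ : ∃ m, m = b.repr (φ (b j)) j := ⟨_, rfl⟩
  have hcomp : (b.coord j) ∘ₗ φ = m • b.coord j := by
    apply b.ext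
    intro l
    rcases fin2_cases hij l with rfl | rfl
    · simp [hfix, Module.Basis.coord_apply, hij]
    · simp [Module.Basis.coord_apply, hm]
  have hk : ∀ k : ℕ, (b.coord j) ∘ₗ (φ ^ k) = m ^ k • b.coord j := by
    intro k
    induction k with
    | zero =>
      ext v
      simp
    | succ k ih =>
      rw [pow_succ, Module.End.mul_eq_comp, ← LinearMap.comp_assoc, ih, LinearMap.smul_comp, hcomp,
        smul_smul, pow_succ]
  have h1 := hk p
  rw [hφ, ZMod.pow_card] at h1
  have h2 := congrArg (fun f : V →ₗ[ZMod p] ZMod p => f (b j)) h1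
  simp [Module.Basis.coord_apply] at h2
  obtain ⟨x, hx⟩ : ∃ x, x = b.repr (φ (b j)) i := ⟨_, rfl⟩
  refine ⟨x, ?_⟩
  have h3 : φ (b j) = x • b i + m • b j := by rw [hm, hx]; exact hsum
  rw [h3, ← h2, one_smul, add_comm]

theorem shear_pow (b : Module.Basis (Fin 2) (ZMod p) V) {i j : Fin 2}
    (φ : Module.End (ZMod p) V) (hfix : φ (b i) = b i) (x : ZMod p)
    (hx : φ (b j) = b j + x • b i) (k : ℕ) :
    (φ ^ k) (b i) = b i ∧ (φ ^ k) (b j) = b j + ((k : ZMod p) * x) • b i := by
  induction k with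
  | zero => simp
  | succ k ih =>
    rw [pow_succ, Module.End.mul_apply, Module.End.mul_apply, hfix, hx, map_add, map_smul, ih.1,
      ih.2]
    refine ⟨rfl, ?_⟩
    rw [add_assoc, ← add_smul]
    push_cast
    ring_nf

theorem toLin_transvection (b : Module.Basis (Fin 2) (ZMod p) V) {i j : Fin 2} (hij : i ≠ j)
    (c : ZMod p) :
    Matrix.toLin b b (Matrix.SpecialLinearGroup.transvection hij c).1 (b i) = b i ∧
    Matrix.toLin b b (Matrix.SpecialLinearGroup.transvection hij c).1 (b j) = b j + c • b i := by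
  constructor
  · rw [Matrix.toLin_self, univ_eq hij, Finset.sum_pair hij]
    simp [Matrix.SpecialLinearGroup.transvection, Matrix.transvection, Matrix.single_apply,
      Matrix.one_apply, hij, hij.symm]
  · rw [Matrix.toLin_self, univ_eq hij, Finset.sum_pair hij]
    simp [Matrix.SpecialLinearGroup.transvection, Matrix.transvection, Matrix.single_apply,
      Matrix.one_apply, hij, hij.symm, add_comm]

end LA


section combine

variable {H : Type*} [CommGroup H] {p : ℕ} [Fact p.Prime] [Module (ZMod p) (Additive H)]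

theorem eq_slHom_transvection (b : Module.Basis (Fin 2) (ZMod p) (Additive H)) {i j : Fin 2}
    (hij : i ≠ j) (γ : MulAut H) (hγ : γ ^ p = 1) (hfix : lin p γ (b i) = b i) :
    ∃ x : ZMod p, γ = slHom b (Matrix.SpecialLinearGroup.transvection hij x) := by
  obtain ⟨x, hx⟩ := exists_shear b hij (lin p γ) (by rw [← lin_pow, hγ, lin_one]) hfix
  refine ⟨x, lin_injective (p := p) ?_⟩
  rw [lin_slHom]
  apply b.ext
  intro l
  rcases fin2_cases hij l with rfl | rfl
  · rw [(toLin_transvection b hij x).1, hfix]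
  · rw [(toLin_transvection b hij x).2, hx]

theorem transvection_pow {i j : Fin 2} (hij : i ≠ j) (x : ZMod p) (k : ℕ) :
    (Matrix.SpecialLinearGroup.transvection hij x) ^ k =
      Matrix.SpecialLinearGroup.transvection hij ((k : ZMod p) * x) := by
  induction k with
  | zero =>
    simp only [pow_zero, Nat.cast_zero, zero_mul]
    exact (Matrix.SpecialLinearGroup.transvection_coeff_zero hij).symm
  | succ k ih =>
    rw [pow_succ, ih]
    apply Subtype.ext
    rw [Matrix.SpecialLinearGroup.coe_mul]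
    show Matrix.transvection i j _ * Matrix.transvection i j _ = Matrix.transvection i j _
    rw [Matrix.transvection_mul_transvection_same _ _ hij]
    congr 1
    push_cast
    ring

theorem transvection_mem_zpowers (b : Module.Basis (Fin 2) (ZMod p) (Additive H)) {i j : Fin 2}
    (hij : i ≠ j) (γ : MulAut H) (x : ZMod p) (hx : x ≠ 0)
    (hγ : γ = slHom b (Matrix.SpecialLinearGroup.transvection hij x)) (c : ZMod p) :
    slHom b (Matrix.SpecialLinearGroup.transvection hij c) ∈ Subgroup.zpowers γ := by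
  refine ⟨((c / x).val : ℤ), ?_⟩
  show γ ^ ((c / x).val : ℤ) = _
  rw [zpow_natCast, hγ, ← map_pow, transvection_pow, ZMod.natCast_zmod_val, div_mul_cancel₀ _ hx]

/-- Two non-trivial automorphisms of order `p` fixing the two vectors of a basis generate a copy
of `SL₂(p)`. -/
theorem range_slHom_le (b : Module.Basis (Fin 2) (ZMod p) (Additive H)) (A : Subgroup (MulAut H))
    (α β : MulAut H) (hα : α ∈ A) (hβ : β ∈ A) (hαp : α ^ p = 1) (hβp : β ^ p = 1)
    (hα1 : α ≠ 1) (hβ1 : β ≠ 1) (hαfix : lin p α (b 0) = b 0) (hβfix : lin p β (b 1) = b 1) :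
    (slHom (p := p) b).range ≤ A := by
  have key : ∀ i : Fin 2, ∃ γ ∈ A, γ ^ p = 1 ∧ γ ≠ 1 ∧ lin p γ (b i) = b i := by
    intro i
    fin_cases i
    · exact ⟨α, hα, hαp, hα1, hαfix⟩
    · exact ⟨β, hβ, hβp, hβ1, hβfix⟩
  rintro _ ⟨M, rfl⟩
  apply Cfsg.Agent.Helper9SLn.transvection_induction (fun M => slHom (p := p) b M ∈ A) M
  · intro i j hij c
    obtain ⟨γ, hγA, hγp, hγ1, hγfix⟩ := key i
    obtain ⟨x, hx⟩ := eq_slHom_transvection b hij γ hγp hγfix
    have hx0 : x ≠ 0 := by
      intro h0
      apply hγ1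
      rw [hx, h0, Matrix.SpecialLinearGroup.transvection_coeff_zero, map_one]
    exact (Subgroup.zpowers_le.mpr hγA) (transvection_mem_zpowers b hij γ x hx0 hx c)
  · intro M N hM hN
    show slHom (p := p) b (M * N) ∈ A
    rw [map_mul]
    exact A.mul_mem hM hN

end combine


section GT

variable {H : Type*} [CommGroup H] {p : ℕ} [Fact p.Prime]

theorem smul_ofMul [Module (ZMod p) (Additive H)] (s : ZMod p) (a : H) :
    s • (Additive.ofMul a) = Additive.ofMul (a ^ s.val) := by
  conv_lhs => rw [← ZMod.natCast_zmod_val s, Nat.cast_smul_eq_nsmul]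
  rfl

theorem linIndep_pair [Module (ZMod p) (Additive H)] {a₁ a₂ : H} (h1 : a₁ ≠ 1)
    (h2 : a₂ ∉ Subgroup.zpowers a₁) :
    LinearIndependent (ZMod p) ![Additive.ofMul a₁, Additive.ofMul a₂] := by
  rw [LinearIndependent.pair_iff]
  intro s t hst
  have ht : t = 0 := by
    by_contra ht
    apply h2
    have h3 : t • Additive.ofMul a₂ = -(s • Additive.ofMul a₁) := eq_neg_of_add_eq_zero_right hst
    have h4 : Additive.ofMul a₂ = (-(t⁻¹ * s)) • Additive.ofMul a₁ := by
      calc Additive.ofMul a₂ = t⁻¹ • (t • Additive.ofMul a₂) := by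
            rw [smul_smul, inv_mul_cancel₀ ht, one_smul]
        _ = _ := by rw [h3, smul_neg, smul_smul, neg_smul]
    rw [smul_ofMul] at h4
    refine ⟨((-(t⁻¹ * s)).val : ℤ), ?_⟩
    show a₁ ^ ((-(t⁻¹ * s)).val : ℤ) = a₂
    rw [zpow_natCast]
    exact (congrArg Additive.toMul h4).symm
  subst ht
  rw [zero_smul, add_zero] at hst
  refine ⟨?_, rfl⟩
  by_contra hs
  apply h1
  have h5 : Additive.ofMul a₁ = 0 := by
    calc _ = s⁻¹ • (s • Additive.ofMul a₁) := by rw [smul_smul, inv_mul_cancel₀ hs, one_smul]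
      _ = 0 := by rw [hst, smul_zero]
  exact h5

theorem exists_basis [Module (ZMod p) (Additive H)]
    (hfin : Module.finrank (ZMod p) (Additive H) = 2) {a₁ a₂ : H} (h1 : a₁ ≠ 1)
    (h2 : a₂ ∉ Subgroup.zpowers a₁) :
    ∃ b : Module.Basis (Fin 2) (ZMod p) (Additive H),
      b 0 = Additive.ofMul a₁ ∧ b 1 = Additive.ofMul a₂ := by
  refine ⟨basisOfLinearIndependentOfCardEqFinrank (linIndep_pair h1 h2) (by simp [hfin]),
    by simp, by simp⟩


/-- Conjugates of a shear `α` fixing the line of `a₁` by elements preserving that line are powers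
of `α`. -/
theorem conj_mem_zpowers [Module (ZMod p) (Additive H)]
    (hfin : Module.finrank (ZMod p) (Additive H) = 2) (hncyc : ¬ IsCyclic H)
    (α g : MulAut H) (hαp : α ^ p = 1) (hα1 : α ≠ 1) {a₁ : H} (ha₁ : a₁ ≠ 1)
    (hfix : α a₁ = a₁) (hg : g⁻¹ a₁ ∈ Subgroup.zpowers a₁) :
    g * α * g⁻¹ ∈ Subgroup.zpowers α := by
  obtain ⟨a₂, ha₂⟩ : ∃ a₂ : H, a₂ ∉ Subgroup.zpowers a₁ := by
    by_contra h
    push Not at h
    exact hncyc ⟨a₁, h⟩
  obtain ⟨b, hb0, hb1⟩ := exists_basis hfin ha₁ ha₂
  have h01 : (0 : Fin 2) ≠ 1 := by decide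
  have hfixz : ∀ y ∈ Subgroup.zpowers a₁, α y = y := by
    rintro _ ⟨n, rfl⟩
    show α (a₁ ^ n) = a₁ ^ n
    rw [map_zpow, hfix]
  have hβfix : (g * α * g⁻¹) a₁ = a₁ := by
    show g (α (g⁻¹ a₁)) = a₁
    rw [hfixz _ hg]
    exact MulAut.apply_inv_self _ _ _
  have hβp : (g * α * g⁻¹) ^ p = 1 := by
    rw [conj_pow, hαp, mul_one, mul_inv_cancel]
  obtain ⟨x, hx⟩ := eq_slHom_transvection b h01 α hαp (by rw [hb0, lin_apply]; exact congrArg _ hfix)
  obtain ⟨x', hx'⟩ := eq_slHom_transvection b h01 (g * α * g⁻¹) hβp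
    (by rw [hb0, lin_apply]; exact congrArg _ hβfix)
  have hx0 : x ≠ 0 := by
    intro h0
    apply hα1
    rw [hx, h0, Matrix.SpecialLinearGroup.transvection_coeff_zero, map_one]
  rw [hx']
  exact transvection_mem_zpowers b h01 α x hx0 hx x'

/-- **`SL₂(p)` in automorphism groups of groups of order `p²`.** A subgroup `A` of `Aut(H)`,
`|H| = p²`, of order divisible by `p` and without nontrivial normal `p`-subgroups contains a copy of
`SL₂(p)`, and `H` is elementary abelian. -/
theorem exists_sl2 [Finite H] (hcard : Nat.card H = p ^ 2) (A : Subgroup (MulAut H))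
    (hpA : p ∣ Nat.card A) (hcore : ∀ N : Subgroup A, N.Normal → IsPGroup p N → N = ⊥) :
    (∀ x : H, x ^ p = 1) ∧ ∃ ρ : Matrix.SpecialLinearGroup (Fin 2) (ZMod p) →* MulAut H,
      Function.Injective ρ ∧ ρ.range ≤ A := by
  have hp : p.Prime := Fact.out
  obtain ⟨α, hα⟩ := exists_prime_orderOf_dvd_card' p hpA
  have hαp : (α : MulAut H) ^ p = 1 := by
    have := pow_orderOf_eq_one α
    rw [hα] at this
    exact congrArg (fun z : A => (z : MulAut H)) this
  have hα1 : (α : MulAut H) ≠ 1 := by
    intro h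
    have h1 : α = 1 := Subtype.ext h
    rw [h1, orderOf_one] at hα
    exact hp.one_lt.ne hα
  have hNp : IsPGroup p (Subgroup.zpowers α) :=
    IsPGroup.of_card (n := 1) (by rw [Nat.card_zpowers, pow_one, hα])
  have hNnot : ¬ (Subgroup.zpowers α).Normal := by
    intro h
    have h1 := hcore _ h hNp
    have h2 : α ∈ Subgroup.zpowers α := Subgroup.mem_zpowers α
    rw [h1, Subgroup.mem_bot] at h2
    exact hα1 (congrArg (fun z : A => (z : MulAut H)) h2)
  have hncyc : ¬ IsCyclic H := by
    intro hc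
    apply hNnot
    have hcomm : ∀ a b : MulAut H, a * b = b * a := by
      intro a b
      apply (IsCyclic.mulAutMulEquiv H).injective
      rw [map_mul, map_mul, mul_comm]
    refine ⟨fun n hn g => ?_⟩
    have : g * n * g⁻¹ = n := by
      apply Subtype.ext
      show (g : MulAut H) * n * (g : MulAut H)⁻¹ = n
      rw [hcomm (g : MulAut H) n, mul_assoc, mul_inv_cancel, mul_one]
    rw [this]; exact hn
  have hexp : ∀ x : H, x ^ p = 1 := by
    intro x
    have h1 : orderOf x ∣ p ^ 2 := hcard ▸ orderOf_dvd_natCard x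
    obtain ⟨k, hk, hk'⟩ := (Nat.dvd_prime_pow hp).mp h1
    interval_cases k
    · rw [pow_zero, orderOf_eq_one_iff] at hk'
      rw [hk', one_pow]
    · rw [pow_one] at hk'
      rw [← hk']; exact pow_orderOf_eq_one x
    · exfalso
      exact hncyc (isCyclic_of_orderOf_eq_card x (by rw [hk', hcard]))
  refine ⟨hexp, ?_⟩
  letI : Module (ZMod p) (Additive H) := AddCommGroup.zmodModule (n := p) (G := Additive H)
    (fun v => congrArg Additive.ofMul (hexp (Additive.toMul v)))
  have hfin : Module.finrank (ZMod p) (Additive H) = 2 := by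
    have h1 := Module.natCard_eq_pow_finrank (K := ZMod p) (V := Additive H)
    have h2 : Nat.card (Additive H) = p ^ 2 := hcard
    rw [h2, Nat.card_zmod] at h1
    exact (Nat.pow_right_injective hp.two_le h1).symm
  -- a fixed point
  obtain ⟨a₁, ha₁, hfix⟩ : ∃ a₁ : H, a₁ ≠ 1 ∧ (α : MulAut H) a₁ = a₁ := by
    have hG : IsPGroup p (Subgroup.zpowers (α : MulAut H)) :=
      IsPGroup.of_card (n := 1) (by rw [Nat.card_zpowers, pow_one, Subgroup.orderOf_coe, hα])
    have h1 : (1 : H) ∈ MulAction.fixedPoints (Subgroup.zpowers (α : MulAut H)) H := by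
      intro g
      show (g : MulAut H) 1 = 1
      exact map_one _
    obtain ⟨a₁, ha₁, hne⟩ := hG.exists_fixed_point_of_prime_dvd_card_of_fixed_point H
      (by rw [hcard]; exact dvd_pow_self p two_ne_zero) h1
    refine ⟨a₁, hne.symm, ?_⟩
    exact ha₁ ⟨(α : MulAut H), Subgroup.mem_zpowers _⟩
  -- some element of `A` moves the fixed line
  obtain ⟨g, hgA, hg⟩ : ∃ g ∈ A, g a₁ ∉ Subgroup.zpowers a₁ := by
    by_contra hall
    push Not at hall
    apply hNnot
    refine ⟨fun n hn g => ?_⟩
    obtain ⟨k, rfl⟩ := hn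
    have h1 := conj_mem_zpowers hfin hncyc (α : MulAut H) (g : MulAut H) hαp hα1 ha₁ hfix
      (hall _ (A.inv_mem g.2))
    obtain ⟨m, hm⟩ := h1
    have h2 : g * α * g⁻¹ = α ^ m := by
      apply Subtype.ext
      rw [Subgroup.coe_zpow]
      exact hm.symm
    have h3 : g * α ^ k * g⁻¹ = (g * α * g⁻¹) ^ k := (conj_zpow).symm
    show g * α ^ k * g⁻¹ ∈ Subgroup.zpowers α
    rw [h3, h2]
    exact Subgroup.zpow_mem _ (Subgroup.zpow_mem _ (Subgroup.mem_zpowers α) m) k
  obtain ⟨b, hb0, hb1⟩ := exists_basis hfin ha₁ hg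
  refine ⟨slHom b, slHom_injective b, ?_⟩
  apply range_slHom_le b A (α : MulAut H) (g * α * g⁻¹) α.2
    (A.mul_mem (A.mul_mem hgA α.2) (A.inv_mem hgA)) hαp
  · rw [conj_pow, hαp, mul_one, mul_inv_cancel]
  · exact hα1
  · intro h
    apply hα1
    have : (α : MulAut H) = g⁻¹ * (g * α * g⁻¹) * g := by group
    rw [this, h]; group
  · rw [hb0, lin_apply]; exact congrArg _ hfix
  · rw [hb1, lin_apply]
    apply congrArg
    show g ((α : MulAut H) (g⁻¹ (g a₁))) = g a₁
    rw [MulAut.inv_apply_self, hfix]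

end GT

end Cfsg.Agent.Lib.Helper8_SL2Aut
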