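import Mathlib
import Cfsg.Prelude.Def_RootSubgroups

set_option autoImplicit false
set_option linter.style.haveILetI false
set_option linter.unusedVariables false
set_option linter.unusedSimpArgs false
set_option linter.deprecated false
open Cfsg

/-!
# `SL₂(k)` is a special rank one group
-/

namespace Cfsg.Agent.Lib.Helper8_SL2RankOne

open Matrix

variable {k : Type*} [Field k]

/-- The lower unitriangular matrix with entry `t`. -/
def L (t : k) : SpecialLinearGroup (Fin 2) k :=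
  ⟨!![1, 0; t, 1], by simp [Matrix.det_fin_two]⟩

/-- The upper unitriangular matrix with entry `s`. -/
def U (s : k) : SpecialLinearGroup (Fin 2) k :=
  ⟨!![1, s; 0, 1], by simp [Matrix.det_fin_two]⟩

theorem sl_ext {g h : SpecialLinearGroup (Fin 2) k}
    (h00 : (g : Matrix (Fin 2) (Fin 2) k) 0 0 = (h : Matrix (Fin 2) (Fin 2) k) 0 0)
    (h01 : (g : Matrix (Fin 2) (Fin 2) k) 0 1 = (h : Matrix (Fin 2) (Fin 2) k) 0 1)
    (h10 : (g : Matrix (Fin 2) (Fin 2) k) 1 0 = (h : Matrix (Fin 2) (Fin 2) k) 1 0)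
    (h11 : (g : Matrix (Fin 2) (Fin 2) k) 1 1 = (h : Matrix (Fin 2) (Fin 2) k) 1 1) : g = h := by
  apply Subtype.ext
  ext i j
  fin_cases i <;> fin_cases j <;> assumption

theorem det_eq (g : SpecialLinearGroup (Fin 2) k) :
    (g : Matrix (Fin 2) (Fin 2) k) 0 0 * (g : Matrix (Fin 2) (Fin 2) k) 1 1 -
      (g : Matrix (Fin 2) (Fin 2) k) 0 1 * (g : Matrix (Fin 2) (Fin 2) k) 1 0 = 1 := by
  have := g.2
  rwa [Matrix.det_fin_two] at this

@[simp] theorem L_00 (t : k) : (L t : Matrix (Fin 2) (Fin 2) k) 0 0 = 1 := rfl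
@[simp] theorem L_01 (t : k) : (L t : Matrix (Fin 2) (Fin 2) k) 0 1 = 0 := rfl
@[simp] theorem L_10 (t : k) : (L t : Matrix (Fin 2) (Fin 2) k) 1 0 = t := rfl
@[simp] theorem L_11 (t : k) : (L t : Matrix (Fin 2) (Fin 2) k) 1 1 = 1 := rfl
@[simp] theorem U_00 (t : k) : (U t : Matrix (Fin 2) (Fin 2) k) 0 0 = 1 := rfl
@[simp] theorem U_01 (t : k) : (U t : Matrix (Fin 2) (Fin 2) k) 0 1 = t := rfl
@[simp] theorem U_10 (t : k) : (U t : Matrix (Fin 2) (Fin 2) k) 1 0 = 0 := rfl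
@[simp] theorem U_11 (t : k) : (U t : Matrix (Fin 2) (Fin 2) k) 1 1 = 1 := rfl

theorem mul_00 (g h : SpecialLinearGroup (Fin 2) k) :
    ((g * h : SpecialLinearGroup (Fin 2) k) : Matrix (Fin 2) (Fin 2) k) 0 0 =
      (g : Matrix (Fin 2) (Fin 2) k) 0 0 * (h : Matrix (Fin 2) (Fin 2) k) 0 0 +
      (g : Matrix (Fin 2) (Fin 2) k) 0 1 * (h : Matrix (Fin 2) (Fin 2) k) 1 0 := by
  rw [Matrix.SpecialLinearGroup.coe_mul, Matrix.mul_apply, Fin.sum_univ_two]

theorem mul_01 (g h : SpecialLinearGroup (Fin 2) k) :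
    ((g * h : SpecialLinearGroup (Fin 2) k) : Matrix (Fin 2) (Fin 2) k) 0 1 =
      (g : Matrix (Fin 2) (Fin 2) k) 0 0 * (h : Matrix (Fin 2) (Fin 2) k) 0 1 +
      (g : Matrix (Fin 2) (Fin 2) k) 0 1 * (h : Matrix (Fin 2) (Fin 2) k) 1 1 := by
  rw [Matrix.SpecialLinearGroup.coe_mul, Matrix.mul_apply, Fin.sum_univ_two]

theorem mul_10 (g h : SpecialLinearGroup (Fin 2) k) :
    ((g * h : SpecialLinearGroup (Fin 2) k) : Matrix (Fin 2) (Fin 2) k) 1 0 =
      (g : Matrix (Fin 2) (Fin 2) k) 1 0 * (h : Matrix (Fin 2) (Fin 2) k) 0 0 +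
      (g : Matrix (Fin 2) (Fin 2) k) 1 1 * (h : Matrix (Fin 2) (Fin 2) k) 1 0 := by
  rw [Matrix.SpecialLinearGroup.coe_mul, Matrix.mul_apply, Fin.sum_univ_two]

theorem mul_11 (g h : SpecialLinearGroup (Fin 2) k) :
    ((g * h : SpecialLinearGroup (Fin 2) k) : Matrix (Fin 2) (Fin 2) k) 1 1 =
      (g : Matrix (Fin 2) (Fin 2) k) 1 0 * (h : Matrix (Fin 2) (Fin 2) k) 0 1 +
      (g : Matrix (Fin 2) (Fin 2) k) 1 1 * (h : Matrix (Fin 2) (Fin 2) k) 1 1 := by
  rw [Matrix.SpecialLinearGroup.coe_mul, Matrix.mul_apply, Fin.sum_univ_two]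

theorem inv_00 (g : SpecialLinearGroup (Fin 2) k) :
    ((g⁻¹ : SpecialLinearGroup (Fin 2) k) : Matrix (Fin 2) (Fin 2) k) 0 0 =
      (g : Matrix (Fin 2) (Fin 2) k) 1 1 := by
  rw [Matrix.SpecialLinearGroup.coe_inv, Matrix.adjugate_fin_two]; rfl

theorem inv_01 (g : SpecialLinearGroup (Fin 2) k) :
    ((g⁻¹ : SpecialLinearGroup (Fin 2) k) : Matrix (Fin 2) (Fin 2) k) 0 1 =
      -(g : Matrix (Fin 2) (Fin 2) k) 0 1 := by
  rw [Matrix.SpecialLinearGroup.coe_inv, Matrix.adjugate_fin_two]; rfl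

theorem inv_10 (g : SpecialLinearGroup (Fin 2) k) :
    ((g⁻¹ : SpecialLinearGroup (Fin 2) k) : Matrix (Fin 2) (Fin 2) k) 1 0 =
      -(g : Matrix (Fin 2) (Fin 2) k) 1 0 := by
  rw [Matrix.SpecialLinearGroup.coe_inv, Matrix.adjugate_fin_two]; rfl

theorem inv_11 (g : SpecialLinearGroup (Fin 2) k) :
    ((g⁻¹ : SpecialLinearGroup (Fin 2) k) : Matrix (Fin 2) (Fin 2) k) 1 1 =
      (g : Matrix (Fin 2) (Fin 2) k) 0 0 := by
  rw [Matrix.SpecialLinearGroup.coe_inv, Matrix.adjugate_fin_two]; rfl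

theorem L_mul (s t : k) : L s * L t = L (s + t) := by
  apply sl_ext <;> simp [mul_00, mul_01, mul_10, mul_11, add_comm]

theorem U_mul (s t : k) : U s * U t = U (s + t) := by
  apply sl_ext <;> simp [mul_00, mul_01, mul_10, mul_11, add_comm]

theorem L_zero : L (0 : k) = 1 := by
  apply sl_ext <;> simp

theorem U_zero : U (0 : k) = 1 := by
  apply sl_ext <;> simp

theorem L_inv (t : k) : (L t)⁻¹ = L (-t) := by
  apply sl_ext <;> simp [inv_00, inv_01, inv_10, inv_11]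

theorem U_inv (t : k) : (U t)⁻¹ = U (-t) := by
  apply sl_ext <;> simp [inv_00, inv_01, inv_10, inv_11]

theorem L_injective {s t : k} (h : L s = L t) : s = t := by
  have := congrArg (fun g : SpecialLinearGroup (Fin 2) k => (g : Matrix (Fin 2) (Fin 2) k) 1 0) h
  simpa using this

theorem U_injective {s t : k} (h : U s = U t) : s = t := by
  have := congrArg (fun g : SpecialLinearGroup (Fin 2) k => (g : Matrix (Fin 2) (Fin 2) k) 0 1) h
  simpa using this

/-- Membership in the lower unitriangular subgroup. -/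
theorem mem_lower (g : SpecialLinearGroup (Fin 2) k) :
    g ∈ lowerUnipotentSL2 k ↔ ∃ t : k, g = L t := by
  constructor
  · intro hg
    unfold lowerUnipotentSL2 at hg
    induction hg using Subgroup.closure_induction with
    | mem x hx =>
      obtain ⟨h01, h00, h11⟩ := hx
      exact ⟨(x : Matrix (Fin 2) (Fin 2) k) 1 0, by apply sl_ext <;> simp [h01, h00, h11]⟩
    | one => exact ⟨0, L_zero.symm⟩
    | mul x y _ _ hx hy =>
      obtain ⟨s, rfl⟩ := hx
      obtain ⟨t, rfl⟩ := hy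
      exact ⟨s + t, L_mul s t⟩
    | inv x _ hx =>
      obtain ⟨s, rfl⟩ := hx
      exact ⟨-s, L_inv s⟩
  · rintro ⟨t, rfl⟩
    exact Subgroup.subset_closure ⟨rfl, rfl, rfl⟩

/-- Membership in the upper unitriangular subgroup. -/
theorem mem_upper (g : SpecialLinearGroup (Fin 2) k) :
    g ∈ upperUnipotentSL2 k ↔ ∃ t : k, g = U t := by
  constructor
  · intro hg
    unfold upperUnipotentSL2 at hg
    induction hg using Subgroup.closure_induction with
    | mem x hx =>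
      obtain ⟨h10, h00, h11⟩ := hx
      exact ⟨(x : Matrix (Fin 2) (Fin 2) k) 0 1, by apply sl_ext <;> simp [h10, h00, h11]⟩
    | one => exact ⟨0, U_zero.symm⟩
    | mul x y _ _ hx hy =>
      obtain ⟨s, rfl⟩ := hx
      obtain ⟨t, rfl⟩ := hy
      exact ⟨s + t, U_mul s t⟩
    | inv x _ hx =>
      obtain ⟨s, rfl⟩ := hx
      exact ⟨-s, U_inv s⟩
  · rintro ⟨t, rfl⟩
    exact Subgroup.subset_closure ⟨rfl, rfl, rfl⟩


theorem L_mem (t : k) : L t ∈ lowerUnipotentSL2 k := (mem_lower _).2 ⟨t, rfl⟩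

theorem U_mem (t : k) : U t ∈ upperUnipotentSL2 k := (mem_upper _).2 ⟨t, rfl⟩

theorem L_eq_one_iff {t : k} : L t = 1 ↔ t = 0 := by
  constructor
  · intro h
    rw [← L_zero] at h
    exact L_injective h
  · rintro rfl
    exact L_zero

theorem U_eq_one_iff {t : k} : U t = 1 ↔ t = 0 := by
  constructor
  · intro h
    rw [← U_zero] at h
    exact U_injective h
  · rintro rfl
    exact U_zero

/-- Entries of `(U s)⁻¹ * L x * U s`. -/
theorem conjU_L (s x : k) :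
    (U s)⁻¹ * L x * U s =
      ⟨!![1 - s * x, -(s ^ 2 * x); x, 1 + s * x], by simp [Matrix.det_fin_two]; ring⟩ := by
  rw [U_inv]
  apply sl_ext <;> simp [mul_00, mul_01, mul_10, mul_11] <;> ring

/-- Entries of `(L t)⁻¹ * U y * L t`. -/
theorem conjL_U (t y : k) :
    (L t)⁻¹ * U y * L t =
      ⟨!![1 + t * y, y; -(t ^ 2 * y), 1 - t * y], by simp [Matrix.det_fin_two]; ring⟩ := by
  rw [L_inv]
  apply sl_ext <;> simp [mul_00, mul_01, mul_10, mul_11] <;> ring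

theorem conj_eq {s t : k} (h : s * t = 1) (x : k) :
    (U s)⁻¹ * L x * U s = (L t)⁻¹ * U (-(s ^ 2 * x)) * L t := by
  rw [conjU_L, conjL_U]
  apply sl_ext
  · show 1 - s * x = 1 + t * (-(s ^ 2 * x))
    linear_combination (s * x) * h
  · rfl
  · show x = -(t ^ 2 * (-(s ^ 2 * x)))
    linear_combination (-(x * (s * t + 1))) * h
  · show 1 + s * x = 1 - t * (-(s ^ 2 * x))
    linear_combination (-(s * x)) * h

theorem mem_conj_lower (s : k) (g : SpecialLinearGroup (Fin 2) k) :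
    g ∈ conjBy (lowerUnipotentSL2 k) (U s)⁻¹ ↔ ∃ x : k, g = (U s)⁻¹ * L x * U s := by
  constructor
  · rintro ⟨a, ha, rfl⟩
    obtain ⟨x, rfl⟩ := (mem_lower a).1 ha
    exact ⟨x, by simp [MulAut.conj_apply]⟩
  · rintro ⟨x, rfl⟩
    exact ⟨L x, L_mem x, by simp [MulAut.conj_apply]⟩

theorem mem_conj_upper (t : k) (g : SpecialLinearGroup (Fin 2) k) :
    g ∈ conjBy (upperUnipotentSL2 k) (L t)⁻¹ ↔ ∃ y : k, g = (L t)⁻¹ * U y * L t := by
  constructor
  · rintro ⟨a, ha, rfl⟩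
    obtain ⟨x, rfl⟩ := (mem_upper a).1 ha
    exact ⟨x, by simp [MulAut.conj_apply]⟩
  · rintro ⟨x, rfl⟩
    exact ⟨U x, U_mem x, by simp [MulAut.conj_apply]⟩

/-- The key conjugation identity. -/
theorem conjBy_eq {s t : k} (h : s * t = 1) :
    conjBy (lowerUnipotentSL2 k) (U s)⁻¹ = conjBy (upperUnipotentSL2 k) (L t)⁻¹ := by
  have hs : s ≠ 0 := left_ne_zero_of_mul_eq_one h
  have ht : t ≠ 0 := right_ne_zero_of_mul_eq_one h
  ext g
  rw [mem_conj_lower, mem_conj_upper]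
  constructor
  · rintro ⟨x, rfl⟩
    exact ⟨-(s ^ 2 * x), conj_eq h x⟩
  · rintro ⟨y, rfl⟩
    refine ⟨-(t ^ 2 * y), ?_⟩
    rw [conj_eq h]
    congr 2
    have : s ^ 2 * t ^ 2 = 1 := by rw [← mul_pow, h, one_pow]
    congr 1
    linear_combination (-y) * this

theorem cond_left : RankOneCondition (lowerUnipotentSL2 k) (upperUnipotentSL2 k) := by
  intro a ha ha1
  obtain ⟨t, rfl⟩ := (mem_lower a).1 ha
  have ht : t ≠ 0 := fun h => ha1 (L_eq_one_iff.2 h)
  refine ⟨U t⁻¹, U_mem _, ?_, conjBy_eq (inv_mul_cancel₀ ht)⟩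
  intro h
  exact inv_ne_zero ht (U_eq_one_iff.1 h)

theorem cond_right : RankOneCondition (upperUnipotentSL2 k) (lowerUnipotentSL2 k) := by
  intro a ha ha1
  obtain ⟨s, rfl⟩ := (mem_upper a).1 ha
  have hs : s ≠ 0 := fun h => ha1 (U_eq_one_iff.2 h)
  refine ⟨L s⁻¹, L_mem _, ?_, (conjBy_eq (mul_inv_cancel₀ hs)).symm⟩
  intro h
  exact inv_ne_zero hs (L_eq_one_iff.1 h)

theorem special {s t : k} (hs : s ≠ 0) (ht : t ≠ 0)
    (h : conjBy (lowerUnipotentSL2 k) (U s)⁻¹ = conjBy (upperUnipotentSL2 k) (L t)⁻¹) :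
    (U s)⁻¹ * L t * U s = (L t)⁻¹ * (U s)⁻¹ * L t := by
  have h1 : (U s)⁻¹ * L 1 * U s ∈ conjBy (upperUnipotentSL2 k) (L t)⁻¹ := by
    rw [← h, mem_conj_lower]
    exact ⟨1, rfl⟩
  rw [mem_conj_upper] at h1
  obtain ⟨y, hy⟩ := h1
  rw [conjU_L, conjL_U] at hy
  have e00 := congrArg (fun g : SpecialLinearGroup (Fin 2) k =>
    (g : Matrix (Fin 2) (Fin 2) k) 0 0) hy
  have e01 := congrArg (fun g : SpecialLinearGroup (Fin 2) k =>
    (g : Matrix (Fin 2) (Fin 2) k) 0 1) hy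
  change 1 - s * 1 = 1 + t * y at e00
  change -(s ^ 2 * 1) = y at e01
  subst e01
  have hst : s * t = 1 := by
    have : s * (s * t - 1) = 0 := by linear_combination e00
    rcases mul_eq_zero.1 this with h0 | h0
    · exact absurd h0 hs
    · linear_combination h0
  rw [conjU_L, U_inv, conjL_U]
  apply sl_ext
  · show 1 - s * t = 1 + t * (-s)
    ring
  · show -(s ^ 2 * t) = -s
    linear_combination (-s) * hst
  · show t = -(t ^ 2 * (-s))
    linear_combination (-t) * hst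
  · show 1 + s * t = 1 - t * (-s)
    ring

theorem lower_ne_upper : lowerUnipotentSL2 k ≠ upperUnipotentSL2 k := by
  intro h
  have h1 : L (1 : k) ∈ upperUnipotentSL2 k := h ▸ L_mem 1
  obtain ⟨t, ht⟩ := (mem_upper _).1 h1
  have := congrArg (fun g : SpecialLinearGroup (Fin 2) k =>
    (g : Matrix (Fin 2) (Fin 2) k) 1 0) ht
  simp at this

theorem lower_comm : IsMulCommutative (lowerUnipotentSL2 k) := by
  refine ⟨⟨?_⟩⟩
  rintro ⟨a, ha⟩ ⟨b, hb⟩
  obtain ⟨s, rfl⟩ := (mem_lower a).1 ha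
  obtain ⟨t, rfl⟩ := (mem_lower b).1 hb
  apply Subtype.ext
  show L s * L t = L t * L s
  rw [L_mul, L_mul, add_comm]

theorem upper_comm : IsMulCommutative (upperUnipotentSL2 k) := by
  refine ⟨⟨?_⟩⟩
  rintro ⟨a, ha⟩ ⟨b, hb⟩
  obtain ⟨s, rfl⟩ := (mem_upper a).1 ha
  obtain ⟨t, rfl⟩ := (mem_upper b).1 hb
  apply Subtype.ext
  show U s * U t = U t * U s
  rw [U_mul, U_mul, add_comm]

theorem nilpotent_of_comm {G : Type*} [Group G] (A : Subgroup G) (h : IsMulCommutative A) :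
    Group.IsNilpotent A := by
  haveI := h
  have : upperCentralSeries A 1 = ⊤ := Subgroup.upperCentralSeries_one_eq_top_iff.2 h
  exact ⟨⟨1, this⟩⟩

theorem factor_of_ne_zero (g : SpecialLinearGroup (Fin 2) k)
    (hc : (g : Matrix (Fin 2) (Fin 2) k) 1 0 ≠ 0) :
    g = U (((g : Matrix (Fin 2) (Fin 2) k) 0 0 - 1) / (g : Matrix (Fin 2) (Fin 2) k) 1 0) *
      L ((g : Matrix (Fin 2) (Fin 2) k) 1 0) *
      U (((g : Matrix (Fin 2) (Fin 2) k) 1 1 - 1) / (g : Matrix (Fin 2) (Fin 2) k) 1 0) := by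
  have hd := det_eq g
  apply sl_ext
  · simp [mul_00, mul_01, mul_10, mul_11]
    field_simp
    ring
  · simp [mul_00, mul_01, mul_10, mul_11]
    field_simp
    linear_combination (-1 : k) * hd
  · simp [mul_00, mul_01, mul_10, mul_11]
  · simp [mul_00, mul_01, mul_10, mul_11]
    field_simp
    ring

theorem mem_sup_of_ne_zero (g : SpecialLinearGroup (Fin 2) k)
    (hc : (g : Matrix (Fin 2) (Fin 2) k) 1 0 ≠ 0) :
    g ∈ lowerUnipotentSL2 k ⊔ upperUnipotentSL2 k := by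
  rw [factor_of_ne_zero g hc]
  refine mul_mem (mul_mem ?_ ?_) ?_
  · exact (le_sup_right : upperUnipotentSL2 k ≤ _) (U_mem _)
  · exact (le_sup_left : lowerUnipotentSL2 k ≤ _) (L_mem _)
  · exact (le_sup_right : upperUnipotentSL2 k ≤ _) (U_mem _)

theorem sup_eq_top : lowerUnipotentSL2 k ⊔ upperUnipotentSL2 k = ⊤ := by
  rw [eq_top_iff]
  intro g _
  by_cases hc : (g : Matrix (Fin 2) (Fin 2) k) 1 0 = 0
  · have hd := det_eq g
    rw [hc, mul_zero, sub_zero] at hd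
    have h00 : (g : Matrix (Fin 2) (Fin 2) k) 0 0 ≠ 0 := left_ne_zero_of_mul_eq_one hd
    have h1 : L 1 * g ∈ lowerUnipotentSL2 k ⊔ upperUnipotentSL2 k := by
      apply mem_sup_of_ne_zero
      rw [mul_10]
      simpa [hc] using h00
    have h2 : (L (1 : k))⁻¹ ∈ lowerUnipotentSL2 k ⊔ upperUnipotentSL2 k :=
      inv_mem ((le_sup_left : lowerUnipotentSL2 k ≤ _) (L_mem _))
    have := mul_mem h2 h1
    rwa [inv_mul_cancel_left] at this
  · exact mem_sup_of_ne_zero g hc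

theorem rankOnePair : IsRankOnePair (lowerUnipotentSL2 k) (upperUnipotentSL2 k) :=
  ⟨lower_ne_upper, nilpotent_of_comm _ lower_comm, nilpotent_of_comm _ upper_comm,
    cond_left, cond_right⟩

theorem specialPair : IsSpecialRankOnePair (lowerUnipotentSL2 k) (upperUnipotentSL2 k) := by
  refine ⟨rankOnePair, ?_⟩
  intro a ha ha1 b hb hb1 h
  obtain ⟨t, rfl⟩ := (mem_lower a).1 ha
  obtain ⟨s, rfl⟩ := (mem_upper b).1 hb
  have ht : t ≠ 0 := fun h => ha1 (L_eq_one_iff.2 h)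
  have hs : s ≠ 0 := fun h => hb1 (U_eq_one_iff.2 h)
  exact special hs ht h

end Cfsg.Agent.Lib.Helper8_SL2RankOne
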