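import Mathlib
import Cfsg.Prelude.Def_FusionSystem
import Cfsg.Prelude.Def_Transfer
import Cfsg.Agent.Lib.Helper8_SE
import Cfsg.Agent.Lib.Helper8_AlperinIH
import Cfsg.Agent.Lib.Helper8_Hyperfocal
import Cfsg.Agent.Lib.Helper3_SupNormalizer
import Cfsg.Agent.S1949

set_option autoImplicit false
set_option linter.unusedVariables false
set_option linter.style.haveILetI false
set_option maxHeartbeats 800000

/-!
# Control of fusion by small abelian subgroups of the hyperfocal subgroup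
-/

namespace Cfsg.Agent.Lib.Helper8_SmallAbelian

open Cfsg Cfsg.FusionSystem
open Cfsg.Agent.Lib.Helper8_Fusion
open Cfsg.Agent.Lib.Helper8_GroupFusion
open Cfsg.Agent.Lib.Helper8_Saturated
open Cfsg.Agent.Lib.Helper8_Alperin
open Cfsg.Agent.Lib.Helper8_AlperinIH
open Cfsg.Agent.Lib.Helper8_Hyperfocal
open Cfsg.Agent.Lib.Helper8_SE

variable {Ω : Type*} [Group Ω] {S : Subgroup Ω}

/-- The automorphisms fixing a subgroup elementwise. -/
def fixer {P : Type*} [Group P] (A : Subgroup P) : Subgroup (MulAut P) where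
  carrier := {α | ∀ a ∈ A, α a = a}
  one_mem' := fun a _ => rfl
  mul_mem' := by
    intro α β hα hβ a ha
    show α (β a) = a
    rw [hβ a ha, hα a ha]
  inv_mem' := by
    intro α hα a ha
    rw [MulAut.inv_apply, MulEquiv.symm_apply_eq]
    exact (hα a ha).symm

theorem mem_fixer {P : Type*} [Group P] (A : Subgroup P) (α : MulAut P) :
    α ∈ fixer A ↔ ∀ a ∈ A, α a = a := Iff.rfl

theorem autGroup_mono {E F : FusionSystem S} (hEF : E.IsSubsystemOf F) (P : Subgroup Ω) :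
    E.autGroup P ≤ F.autGroup P := by
  unfold FusionSystem.autGroup
  apply Subgroup.closure_mono
  intro α hα
  exact hEF P hα

/-- The standing hypotheses of `Helper8_SE` hold for `Aut_E(P) ≤ Aut_F(P)` when `P` is fully
normalized in `F` and the two systems agree on the larger subgroups. -/
theorem setup [Finite S] {p : ℕ} [Fact p.Prime] (hS : IsPGroup p S)
    (E F : FusionSystem S) (hF : F.IsSaturated p) (hEF : E.IsSubsystemOf F)
    {P : Subgroup Ω} [Finite P] (hPn : F.IsFullyNormalized P)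
    (IH : ∀ R : Subgroup Ω, R ≤ S → Nat.card P < Nat.card R → F.Hom R ⊆ E.Hom R) :
    Setup p (F.autGroup P) (E.autGroup P) (autInducedBy S P) (Inn P) := by
  have hPS : P ≤ S := hPn.1
  obtain ⟨-, hPa⟩ := fullyNormalized_facts hS F hF hPn
  have hPr := receptive_of_fullyNormalized hS F hF hPn
  refine ⟨autGroup_mono hEF P, autInducedBy_le_autGroup E hPS, inn_le_autInducedBy hPS, ?_,
    hPa.2, ?_⟩
  · intro x
    haveI : (Inn P).Normal := inferInstance
    ext y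
    rw [mem_cj]
    constructor
    · intro hy
      have := (inferInstance : (Inn P).Normal).conj_mem _ hy x
      have h2 : x * (x⁻¹ * y * x) * x⁻¹ = y := by group
      rwa [h2] at this
    · intro hy
      have := (inferInstance : (Inn P).Normal).conj_mem _ hy x⁻¹
      rwa [inv_inv] at this
  · intro Y hYT hIY hYI h hh hhY
    have hφ : P.subtype.comp h.toMonoidHom ∈ F.Hom P := (mem_autGroup_iff F hPS h).mp hh
    obtain ⟨NY, hNY⟩ : ∃ NY : Subgroup Ω, NY = ((Y.comap P.normalizerMonoidHom) ⊓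
        (S.subgroupOf (Subgroup.normalizer (P : Set Ω)))).map
        (Subgroup.normalizer (P : Set Ω)).subtype := ⟨_, rfl⟩
    have hmemNY : ∀ g, g ∈ NY ↔ g ∈ S ∧ ∃ hg : g ∈ Subgroup.normalizer (P : Set Ω),
        P.normalizerMonoidHom ⟨g, hg⟩ ∈ Y := by
      intro g
      rw [hNY]
      constructor
      · rintro ⟨y, ⟨hy1, hy2⟩, rfl⟩
        exact ⟨hy2, y.2, hy1⟩
      · rintro ⟨hgS, hg, hgY⟩
        exact ⟨⟨g, hg⟩, ⟨hgY, hgS⟩, rfl⟩
    have hNYS : NY ≤ S := fun g hg => ((hmemNY g).mp hg).1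
    have hPNY : P ≤ NY := by
      intro x hx
      rw [hmemNY]
      refine ⟨hPS hx, Subgroup.le_normalizer hx, ?_⟩
      apply hIY
      refine ⟨⟨x, hx⟩, ?_⟩
      apply MulEquiv.ext
      intro y
      apply Subtype.ext
      rfl
    obtain ⟨ψ, hψ, hψφ⟩ := receptive_extend F hPr hφ (range_subtype_comp h) NY hPNY (by
      intro g hg
      obtain ⟨hgS, hgN, hgY⟩ := (hmemNY g).mp hg
      refine ⟨hgS, hgN, ?_⟩
      have hβ : h * P.normalizerMonoidHom ⟨g, hgN⟩ * h⁻¹ ∈ autInducedBy S P := by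
        apply hYT
        rw [← hhY]
        exact cj_mem h Y hgY
      rw [mem_autInducedBy_iff] at hβ
      obtain ⟨g', hg'S, hg'N, hg'⟩ := hβ
      refine ⟨g', hg'S, ?_⟩
      intro x hx
      have h3 := hg' (h x)
      have h4 : (h * P.normalizerMonoidHom ⟨g, hgN⟩ * h⁻¹) (h x) = h ⟨g * x * g⁻¹, hx⟩ := by
        simp only [MulAut.mul_apply, MulAut.inv_apply_self]
        rfl
      rw [h4] at h3
      exact h3)
    have hlt : P < NY := by
      refine lt_of_le_of_ne hPNY ?_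
      intro heq
      obtain ⟨y, hyY, hyI⟩ := SetLike.exists_of_lt (lt_of_le_of_ne hIY (Ne.symm hYI))
      have hyT := hYT hyY
      rw [mem_autInducedBy_iff] at hyT
      obtain ⟨n, hnS, hnN, hn⟩ := hyT
      have hyeq : P.normalizerMonoidHom ⟨n, hnN⟩ = y := by
        apply MulEquiv.ext
        intro x
        apply Subtype.ext
        rw [hn x]
        rfl
      have hnNY : n ∈ NY := by
        rw [hmemNY]
        exact ⟨hnS, hnN, by rw [hyeq]; exact hyY⟩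
      rw [← heq] at hnNY
      apply hyI
      refine ⟨⟨n, hnNY⟩, ?_⟩
      apply MulEquiv.ext
      intro x
      apply Subtype.ext
      rw [hn x]
      rfl
    haveI : Finite NY := finite_of_le hNYS
    have hcard : Nat.card P < Nat.card NY := Set.Finite.card_lt_card (Set.toFinite _) hlt
    have hψE := IH NY hNYS hcard hψ
    exact aut_mem_of_extends E hPNY hψE (fun x => hψφ x)

/-- **Lemma K.** If some element of `C_S(θ(A₀))` lies outside `θ(P)`, for a map `θ` of `E` defined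
on `P` and a normal subgroup `A₀` of `P` whose pointwise stabilizer in `Aut_F(P)` is a `p`-group,
then that stabilizer lies in `Aut_E(P)` and is not contained in `Inn(P)`. -/
theorem key_K [Finite S] {p : ℕ} [Fact p.Prime] (hS : IsPGroup p S)
    (E F : FusionSystem S) (hF : F.IsSaturated p) (hEF : E.IsSubsystemOf F)
    {P : Subgroup Ω} [Finite P] (hPn : F.IsFullyNormalized P) (hPc : F.IsCentric P)
    (IH : ∀ R : Subgroup Ω, R ≤ S → Nat.card P < Nat.card R → F.Hom R ⊆ E.Hom R)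
    (hs : Setup p (F.autGroup P) (E.autGroup P) (autInducedBy S P) (Inn P))
    (θ : P →* Ω) (hθ : θ ∈ E.Hom P) (A₀ : Subgroup P) (hA₀n : A₀.Normal)
    (hVp : IsPGroup p (F.autGroup P ⊓ fixer A₀ : Subgroup (MulAut P)))
    (c : Ω) (hcS : c ∈ S) (hcA : ∀ a ∈ A₀, c * θ a = θ a * c) (hcθ : c ∉ θ.range) :
    (F.autGroup P ⊓ fixer A₀ ≤ E.autGroup P) ∧ ¬ (F.autGroup P ⊓ fixer A₀ ≤ Inn P) := by
  have hPS : P ≤ S := hPn.1
  obtain ⟨-, hPa⟩ := fullyNormalized_facts hS F hF hPn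
  have hPr := receptive_of_fullyNormalized hS F hF hPn
  have hCP : centralizerIn S P ≤ P := hPc.2 P (isConj_refl F hPS)
  have hθF : θ ∈ F.Hom P := hEF P hθ
  have hθinj : Function.Injective θ := E.injective_of_mem hθ
  obtain ⟨Pθ, hPθ⟩ : ∃ Pθ : Subgroup Ω, Pθ = θ.range := ⟨_, rfl⟩
  have hPθS : Pθ ≤ S := by
    rw [hPθ]
    rintro _ ⟨x, rfl⟩
    exact (E.le_of_mem hθ).2 x
  haveI : Finite Pθ := finite_of_le hPθS
  have hcardθ : Nat.card Pθ = Nat.card P := by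
    rw [hPθ]
    exact (Nat.card_congr (MonoidHom.ofInjective hθinj).toEquiv).symm
  have hPθne : Pθ ≠ S := by
    intro heq
    apply hcθ
    rw [← hPθ, heq]
    exact hcS
  -- the image of `A₀` and its centralizer
  obtain ⟨As, hAs⟩ : ∃ As : Subgroup Ω, As = A₀.map θ := ⟨_, rfl⟩
  obtain ⟨C, hC⟩ : ∃ C : Subgroup Ω, C = centralizerIn S As := ⟨_, rfl⟩
  have hcC : c ∈ C := by
    rw [hC]
    refine ⟨hcS, ?_⟩
    show c ∈ Subgroup.centralizer (As : Set Ω)
    rw [Subgroup.mem_centralizer_iff]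
    intro z hz
    rw [SetLike.mem_coe, hAs] at hz
    obtain ⟨a, ha, rfl⟩ := hz
    exact (hcA a ha).symm
  have hPθnorm : Pθ ≤ Subgroup.normalizer (C : Set Ω) := by
    intro y hy
    rw [hPθ] at hy
    obtain ⟨g, rfl⟩ := hy
    have h1 : θ g ∈ Subgroup.normalizer (As : Set Ω) := by
      apply mem_normalizer_of_cj_eq
      apply le_antisymm
      · rintro _ ⟨z, hz, rfl⟩
        rw [hAs] at hz ⊢
        obtain ⟨a, ha, rfl⟩ := hz
        refine ⟨g * a * g⁻¹, hA₀n.conj_mem a ha g, ?_⟩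
        simp [MulAut.conj_apply]
      · intro z hz
        rw [mem_cj]
        rw [hAs] at hz ⊢
        obtain ⟨a, ha, rfl⟩ := hz
        refine ⟨g⁻¹ * a * g, ?_, ?_⟩
        · have := hA₀n.conj_mem a ha g⁻¹
          rwa [inv_inv] at this
        · simp
    have h2 : θ g ∈ Subgroup.normalizer ((Subgroup.centralizer (As : Set Ω) : Subgroup Ω) : Set Ω) :=
      normalizer_le_normalizer_centralizer As h1
    have h3 : θ g ∈ Subgroup.normalizer ((S : Subgroup Ω) : Set Ω) :=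
      Subgroup.le_normalizer ((E.le_of_mem hθ).2 g)
    rw [hC]
    exact Subgroup.inf_normalizer_le_normalizer_inf ⟨h3, h2⟩
  -- an element of `C` normalizing `Pθ` outside `Pθ`
  obtain ⟨M, hM⟩ : ∃ M : Subgroup Ω, M = C ⊔ Pθ := ⟨_, rfl⟩
  have hCS : C ≤ S := by rw [hC]; exact inf_le_left
  have hMS : M ≤ S := by rw [hM]; exact sup_le hCS hPθS
  haveI : Finite M := finite_of_le hMS
  have hMp : IsPGroup p M := hS.to_le hMS
  have hPθM : Pθ ≤ M := by rw [hM]; exact le_sup_right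
  have hPθneM : Pθ ≠ M := by
    intro heq
    apply hcθ
    rw [← hPθ, heq, hM]
    exact (le_sup_left : C ≤ C ⊔ Pθ) hcC
  obtain ⟨y, hyN, hyP⟩ := exists_mem_normalizerIn_not_mem (S := M) hMp hPθM hPθneM
  obtain ⟨c', hc'C, q, hqP, hyq⟩ :=
    Cfsg.Agent.Lib.Helper3_SupNormalizer.exists_mul_of_mem_sup C Pθ hPθnorm (hM ▸ hyN.1)
  have hc'N : c' ∈ Subgroup.normalizer (Pθ : Set Ω) := by
    have : c' = y * q⁻¹ := by rw [hyq]; group
    rw [this]
    exact Subgroup.mul_mem _ hyN.2 (Subgroup.inv_mem _ (Subgroup.le_normalizer hqP))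
  have hc'P : c' ∉ Pθ := by
    intro h
    apply hyP
    rw [hyq]
    exact Pθ.mul_mem h hqP
  have hc'S : c' ∈ S := hCS hc'C
  have hc'cent : ∀ a ∈ A₀, c' * θ a = θ a * c' := by
    intro a ha
    rw [hC] at hc'C
    have := Subgroup.mem_centralizer_iff.mp hc'C.2 (θ a) (by rw [hAs]; exact ⟨a, ha, rfl⟩)
    exact this.symm
  -- the map `ρ`
  have hconj : F.IsConj Pθ P := isConj_symm F ⟨θ, hθF, hPθ.symm⟩
  obtain ⟨ρ, hρ, hρN, hρimg⟩ := exists_normalizer_map hS F hPa hPr hconj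
  have hcardN : Nat.card P < Nat.card (normalizerIn S Pθ) := by
    rw [← hcardθ]
    exact card_lt_card_normalizerIn hS hPθS hPθne
  have hρE : ρ ∈ E.Hom (normalizerIn S Pθ) := IH _ inf_le_left hcardN hρ
  have hρinj : Function.Injective ρ := F.injective_of_mem hρ
  have hPθN : Pθ ≤ normalizerIn S Pθ := le_normalizerIn hPθS
  -- the automorphism `k`
  obtain ⟨e₁, he₁, he₁θ⟩ := iso_of_hom E hθ hPθ.symm
  have he₂ := restrictEquiv_mem E hρE hPθN hρimg
  obtain ⟨e₂, he₂def⟩ : ∃ e₂ : Pθ ≃* P, e₂ = restrictEquiv ρ (E.injective_of_mem hρE) hPθN hρimg :=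
    ⟨_, rfl⟩
  rw [← he₂def] at he₂
  have he₂ρ : ∀ x : Pθ, ((e₂ x : P) : Ω) = ρ ⟨x, hPθN x.2⟩ := by
    intro x; rw [he₂def]; rfl
  obtain ⟨k, hk⟩ : ∃ k : MulAut P, k = e₁.trans e₂ := ⟨_, rfl⟩
  have hkE : k ∈ E.autGroup P := by
    rw [mem_autGroup_iff E hPS, hk]
    exact iso_trans E he₁ he₂
  have hkF : k ∈ F.autGroup P := autGroup_mono hEF P hkE
  have hkval : ∀ x : P, ((k x : P) : Ω) = ρ ⟨θ x, hPθN (hPθ ▸ ⟨x, rfl⟩)⟩ := by
    intro x
    rw [hk]
    show ((e₂ (e₁ x) : P) : Ω) = _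
    rw [he₂ρ]
    congr 1
    apply Subtype.ext
    exact he₁θ x
  -- the automorphism `t`
  have hc'NS : c' ∈ normalizerIn S Pθ := ⟨hc'S, hc'N⟩
  have hρc' : ρ ⟨c', hc'NS⟩ ∈ normalizerIn S P := hρN _
  obtain ⟨t, ht⟩ : ∃ t : MulAut P, t = P.normalizerMonoidHom ⟨ρ ⟨c', hc'NS⟩, hρc'.2⟩ := ⟨_, rfl⟩
  have htval : ∀ x : P, ((t x : P) : Ω) = ρ ⟨c', hc'NS⟩ * (x : Ω) * (ρ ⟨c', hc'NS⟩)⁻¹ := by
    intro x; rw [ht]; rfl
  have htT : t ∈ autInducedBy S P := by
    rw [mem_autInducedBy_iff]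
    exact ⟨_, hρc'.1, hρc'.2, htval⟩
  have htG : t ∈ E.autGroup P := hs.hTG htT
  have htI : t ∉ Inn P := by
    intro hI
    have h1 := mem_of_conj_mem_inn hPS hCP hρc'.1 htval hI
    rw [← hρimg] at h1
    obtain ⟨z, hz, hzeq⟩ := h1
    have h2 := hρinj hzeq
    apply hc'P
    have hz' : ((z : normalizerIn S Pθ) : Ω) ∈ Pθ := hz
    rw [h2] at hz'
    exact hz'
  -- `t` fixes `k(A₀)`
  have htk : ∀ a ∈ A₀, t (k a) = k a := by
    intro a ha
    apply Subtype.ext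
    rw [htval, hkval]
    rw [← map_inv, ← map_mul, ← map_mul]
    congr 1
    apply Subtype.ext
    show c' * θ a * c'⁻¹ = θ a
    rw [hc'cent a ha]
    group
  obtain ⟨V, hV⟩ : ∃ V : Subgroup (MulAut P), V = F.autGroup P ⊓ fixer A₀ := ⟨_, rfl⟩
  rw [← hV] at hVp ⊢
  have hVH : V ≤ F.autGroup P := by rw [hV]; exact inf_le_left
  have htkV : k⁻¹ * t * k ∈ V := by
    rw [hV]
    refine ⟨Subgroup.mul_mem _ (Subgroup.mul_mem _ (Subgroup.inv_mem _ hkF)
      (hs.hGH htG)) hkF, ?_⟩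
    intro a ha
    show k⁻¹ (t (k a)) = a
    rw [htk a ha]
    simp
  have htcj : t ∈ cj k V := by
    rw [mem_cj]
    exact htkV
  obtain ⟨Q, hQ⟩ : ∃ Q : Subgroup (MulAut P), Q = cj k V ⊔ Inn P := ⟨_, rfl⟩
  have hcjH : cj k V ≤ F.autGroup P := by
    rintro _ ⟨v, hv, rfl⟩
    show k * v * k⁻¹ ∈ F.autGroup P
    exact Subgroup.mul_mem _ (Subgroup.mul_mem _ hkF (hVH hv)) (Subgroup.inv_mem _ hkF)
  have hQH : Q ≤ F.autGroup P := by
    rw [hQ]
    exact sup_le hcjH ((hs.hIT.trans hs.hTG).trans hs.hGH)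
  have hIp : IsPGroup p (Inn P) := (autInducedBy_isPGroup hS P).to_le hs.hIT
  have hQp : IsPGroup p Q := by
    rw [hQ]
    haveI : (Inn P).Normal := inferInstance
    exact IsPGroup.to_sup_of_normal_right (hVp.map _) hIp
  have hQG : Q ≤ E.autGroup P := by
    apply hs.closed Q hQH hQp (by rw [hQ]; exact le_sup_right) t ?_ htG htI
    rw [hQ]
    exact (le_sup_left : cj k V ≤ cj k V ⊔ Inn P) htcj
  constructor
  · intro v hv
    have h1 : k * v * k⁻¹ ∈ E.autGroup P := by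
      apply hQG
      rw [hQ]
      exact (le_sup_left : cj k V ≤ cj k V ⊔ Inn P) (cj_mem k V hv)
    have h2 : v = k⁻¹ * (k * v * k⁻¹) * k := by group
    rw [h2]
    exact Subgroup.mul_mem _ (Subgroup.mul_mem _ (Subgroup.inv_mem _ hkE) h1) hkE
  · intro hVI
    apply htI
    have h1 := hVI htkV
    have h2 : t ∈ cj k (Inn P) := by rw [mem_cj]; exact h1
    rw [hs.hIn] at h2
    exact h2

theorem le_normalizer_map_subtype {P : Subgroup Ω} (A : Subgroup P) (hA : A.Normal) :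
    P ≤ Subgroup.normalizer ((A.map P.subtype : Subgroup Ω) : Set Ω) := by
  intro y hy
  rw [Subgroup.mem_normalizer_iff]
  intro z
  constructor
  · rintro ⟨a, ha, rfl⟩
    exact ⟨⟨y, hy⟩ * a * ⟨y, hy⟩⁻¹, hA.conj_mem a ha _, rfl⟩
  · rintro ⟨a, ha, haz⟩
    refine ⟨⟨y, hy⟩⁻¹ * a * ⟨y, hy⟩, ?_, ?_⟩
    · have := hA.conj_mem a ha ⟨y, hy⟩⁻¹
      rwa [inv_inv] at this
    · show y⁻¹ * (P.subtype a) * y = z
      rw [haz]; group

/-- **Main step**: `Aut_F(P) ≤ Aut_E(P)` for `P` centric and fully normalized in `F`, when the two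
systems agree on the larger subgroups and on the small abelian subgroups of the hyperfocal
subgroup. -/
theorem aut_le [Finite S] {p : ℕ} [Fact p.Prime] (hS : IsPGroup p S)
    (E F : FusionSystem S) (hE : E.IsSaturated p) (hF : F.IsSaturated p)
    (hEF : E.IsSubsystemOf F)
    (hsmall : ∀ A B : Subgroup Ω, A ≤ F.hyperfocalSubgroup p → B ≤ F.hyperfocalSubgroup p →
      IsMulCommutative ↥A → IsMulCommutative ↥B →
      (∀ a ∈ A, a ^ p = 1 ∨ (p = 2 ∧ a ^ 4 = 1)) → (∀ b ∈ B, b ^ p = 1 ∨ (p = 2 ∧ b ^ 4 = 1)) →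
      E.homSet A B = F.homSet A B)
    {P : Subgroup Ω} (hPn : F.IsFullyNormalized P) (hPc : F.IsCentric P)
    (IH : ∀ R : Subgroup Ω, R ≤ S → Nat.card P < Nat.card R → F.Hom R ⊆ E.Hom R) :
    F.autGroup P ≤ E.autGroup P := by
  classical
  have hPS : P ≤ S := hPn.1
  haveI : Finite P := finite_of_le hPS
  have hPp : IsPGroup p P := hS.to_le hPS
  have hs := setup hS E F hF hEF hPn IH
  have hIG : Inn P ≤ E.autGroup P := hs.hIT.trans hs.hTG
  have hIH : Inn P ≤ F.autGroup P := hIG.trans hs.hGH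
  have hIp : IsPGroup p (Inn P) := (autInducedBy_isPGroup hS P).to_le hs.hIT
  obtain ⟨D, hDinv, hDY, hDexp, hDc, hDtriv, hDA⟩ :=
    Cfsg.Agent.S1949.result hPp (F.autGroup P) hIH
  -- a maximal abelian subgroup of `D`
  obtain ⟨𝒮, h𝒮⟩ : ∃ 𝒮 : Set (Subgroup P), 𝒮 = {A | A ≤ D ∧ IsMulCommutative ↥A} := ⟨_, rfl⟩
  have h𝒮ne : 𝒮.Nonempty := by
    refine ⟨⊥, ?_⟩
    rw [h𝒮]
    refine ⟨bot_le, ⟨⟨fun a b => ?_⟩⟩⟩
    apply Subtype.ext
    have ha := a.2
    have hb := b.2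
    rw [Subgroup.mem_bot] at ha hb
    simp [ha, hb]
  obtain ⟨A, hA⟩ := (Set.toFinite 𝒮).exists_maximal h𝒮ne
  have hAS := hA.prop
  rw [h𝒮] at hAS
  obtain ⟨hAD, hAc⟩ := hAS
  have hAmax : ∀ B : Subgroup P, A ≤ B → B ≤ D → IsMulCommutative ↥B → B = A := by
    intro B h1 h2 h3
    have hB : B ∈ 𝒮 := by rw [h𝒮]; exact ⟨h2, h3⟩
    exact le_antisymm (hA.le_of_ge hB h1) h1
  obtain ⟨hAn, hAV⟩ := hDA A hAD hAc hAmax
  obtain ⟨V, hV⟩ : ∃ V : Subgroup (MulAut P), V = F.autGroup P ⊓ fixer A := ⟨_, rfl⟩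
  have hVH : V ≤ F.autGroup P := by rw [hV]; exact inf_le_left
  have hVp : IsPGroup p V := by
    intro v
    have hv : (v : MulAut P) ∈ F.autGroup P ⊓ fixer A := by rw [← hV]; exact v.2
    obtain ⟨k, hk⟩ := hAV v hv.1 hv.2
    refine ⟨k, ?_⟩
    apply Subtype.ext
    show (v : MulAut P) ^ p ^ k = 1
    rw [← hk]
    exact pow_orderOf_eq_one _
  have hDhyp : ∀ d ∈ D, ((d : P) : Ω) ∈ F.hyperfocalSubgroup p := by
    have hle : D ≤ (F.hyperfocalSubgroup p).comap P.subtype := by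
      refine hDY.trans ?_
      rw [Subgroup.closure_le]
      rintro y ⟨α, hα, x, rfl⟩
      show P.subtype (x⁻¹ * (α : MulAut P) x) ∈ F.hyperfocalSubgroup p
      have := inv_mul_apply_mem_hyperfocal F p hPS hα x
      simpa using this
    exact fun d hd => hle hd
  -- the main claim
  have claim : ∀ h ∈ F.autGroup P, h ∈ E.autGroup P ∨ ∃ g ∈ E.autGroup P, g * h ∈ V := by
    intro h hh
    have hφ : P.subtype.comp h.toMonoidHom ∈ F.Hom P := (mem_autGroup_iff F hPS h).mp hh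
    obtain ⟨B, hB⟩ : ∃ B : Subgroup P, B = A.map h.toMonoidHom := ⟨_, rfl⟩
    have hBmem : ∀ b, b ∈ B ↔ ∃ a ∈ A, h a = b := by
      intro b; rw [hB]; exact Iff.rfl
    have hBD : B ≤ D := by
      rw [hB, ← hDinv h hh]
      exact Subgroup.map_mono hAD
    have hhinv : ∀ b ∈ B, h⁻¹ b ∈ A := by
      intro b hb
      obtain ⟨a, ha, rfl⟩ := (hBmem b).mp hb
      simpa using ha
    have hBn : B.Normal := by
      constructor
      intro b hb y
      obtain ⟨a, ha, rfl⟩ := (hBmem _).mp hb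
      rw [hBmem]
      refine ⟨h⁻¹ y * a * (h⁻¹ y)⁻¹, hAn.conj_mem a ha _, ?_⟩
      simp
    obtain ⟨A', hA'⟩ : ∃ A' : Subgroup Ω, A' = A.map P.subtype := ⟨_, rfl⟩
    obtain ⟨B', hB'⟩ : ∃ B' : Subgroup Ω, B' = B.map P.subtype := ⟨_, rfl⟩
    have hA'P : A' ≤ P := by rw [hA']; exact Subgroup.map_subtype_le A
    have hB'P : B' ≤ P := by rw [hB']; exact Subgroup.map_subtype_le B
    have hA'mem : ∀ x : Ω, x ∈ A' ↔ ∃ a ∈ A, ((a : P) : Ω) = x := by
      intro x; rw [hA']; exact Iff.rfl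
    have hB'mem : ∀ x : Ω, x ∈ B' ↔ ∃ b ∈ B, ((b : P) : Ω) = x := by
      intro x; rw [hB']; exact Iff.rfl
    have hA'hyp : A' ≤ F.hyperfocalSubgroup p := by
      intro x hx
      obtain ⟨a, ha, rfl⟩ := (hA'mem x).mp hx
      exact hDhyp a (hAD ha)
    have hB'hyp : B' ≤ F.hyperfocalSubgroup p := by
      intro x hx
      obtain ⟨b, hb, rfl⟩ := (hB'mem x).mp hx
      exact hDhyp b (hBD hb)
    have hA'c : IsMulCommutative ↥A' := by rw [hA']; infer_instance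
    have hB'c : IsMulCommutative ↥B' := by rw [hB', hB]; infer_instance
    have hexpD : ∀ d ∈ D, ((d : P) : Ω) ^ p = 1 ∨ (p = 2 ∧ ((d : P) : Ω) ^ 4 = 1) := by
      intro d hd
      rcases hDexp d hd with h1 | ⟨h2, h1⟩
      · left
        have := congrArg Subtype.val h1
        simpa using this
      · right
        refine ⟨h2, ?_⟩
        have := congrArg Subtype.val h1
        simpa using this
    have hA'exp : ∀ a ∈ A', a ^ p = 1 ∨ (p = 2 ∧ a ^ 4 = 1) := by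
      intro x hx
      obtain ⟨a, ha, rfl⟩ := (hA'mem x).mp hx
      exact hexpD a (hAD ha)
    have hB'exp : ∀ a ∈ B', a ^ p = 1 ∨ (p = 2 ∧ a ^ 4 = 1) := by
      intro x hx
      obtain ⟨b, hb, rfl⟩ := (hB'mem x).mp hx
      exact hexpD b (hBD hb)
    have heq := hsmall A' B' hA'hyp hB'hyp hA'c hB'c hA'exp hB'exp
    -- the restriction of `h`
    obtain ⟨φh, hφh⟩ : ∃ φh : A' →* Ω,
        φh = (P.subtype.comp h.toMonoidHom).comp (Subgroup.inclusion hA'P) := ⟨_, rfl⟩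
    have hφhval : ∀ x : A', φh x = ((h (Subgroup.inclusion hA'P x) : P) : Ω) := by
      intro x; rw [hφh]; rfl
    have hinclA : ∀ x : A', Subgroup.inclusion hA'P x ∈ A := by
      intro x
      obtain ⟨a, ha, hax⟩ := (hA'mem x).mp x.2
      have : Subgroup.inclusion hA'P x = a := Subtype.ext hax.symm
      rw [this]; exact ha
    have hφhF : φh ∈ F.homSet A' B' := by
      refine ⟨by rw [hφh]; exact restrict_mem F hA'P hφ, ?_⟩
      intro x
      rw [hφhval, hB'mem]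
      exact ⟨_, (hBmem _).mpr ⟨_, hinclA x, rfl⟩, rfl⟩
    have hφhE : φh ∈ E.homSet A' B' := by rw [heq]; exact hφhF
    have hφhrange : φh.range = B' := by
      apply le_antisymm
      · rintro _ ⟨x, rfl⟩
        exact hφhE.2 x
      · intro z hz
        obtain ⟨b, hb, rfl⟩ := (hB'mem z).mp hz
        obtain ⟨a, ha, rfl⟩ := (hBmem b).mp hb
        refine ⟨⟨(a : Ω), (hA'mem _).mpr ⟨a, ha, rfl⟩⟩, ?_⟩
        rw [hφhval]
        rfl
    obtain ⟨e, he, heφ⟩ := iso_of_hom E hφhE.1 hφhrange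
    -- a fully normalized conjugate of `A'`
    have hA'S : A' ≤ S := hA'P.trans hPS
    obtain ⟨Astar, hconjA, hAsn⟩ := exists_fullyNormalized E hA'S
    obtain ⟨-, hAsa⟩ := fullyNormalized_facts hS E hE hAsn
    have hAsr := receptive_of_fullyNormalized hS E hE hAsn
    obtain ⟨χ, hχ, hχN, hχimg⟩ := exists_normalizer_map hS E hAsa hAsr hconjA
    have hPNA : P ≤ normalizerIn S A' := by
      intro y hy
      refine ⟨hPS hy, ?_⟩
      rw [hA']
      exact le_normalizer_map_subtype A hAn hy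
    obtain ⟨θ₁, hθ₁def⟩ : ∃ θ₁ : P →* Ω, θ₁ = χ.comp (Subgroup.inclusion hPNA) := ⟨_, rfl⟩
    have hθ₁ : θ₁ ∈ E.Hom P := by rw [hθ₁def]; exact restrict_mem E hPNA hχ
    have hθ₁S : ∀ x : P, θ₁ x ∈ S := (E.le_of_mem hθ₁).2
    have hθ₁A : ∀ a ∈ A, θ₁ a ∈ Astar := by
      intro a ha
      rw [← hχimg, hθ₁def]
      refine ⟨Subgroup.inclusion hPNA a, ?_, rfl⟩
      show ((Subgroup.inclusion hPNA a : normalizerIn S A') : Ω) ∈ A'
      exact (hA'mem _).mpr ⟨a, ha, rfl⟩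
    have hθ₁surj : ∀ z ∈ Astar, ∃ a ∈ A, θ₁ a = z := by
      intro z hz
      rw [← hχimg] at hz
      obtain ⟨n, hn, rfl⟩ := hz
      have hn' : ((n : normalizerIn S A') : Ω) ∈ A' := hn
      obtain ⟨a, ha, han⟩ := (hA'mem _).mp hn'
      refine ⟨a, ha, ?_⟩
      rw [hθ₁def]
      show χ (Subgroup.inclusion hPNA a) = χ n
      congr 1
      exact Subtype.ext han
    -- the map `ε`
    obtain ⟨θ₁A, hθ₁Adef⟩ : ∃ θ₁A : A' →* Ω, θ₁A = θ₁.comp (Subgroup.inclusion hA'P) := ⟨_, rfl⟩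
    have hθ₁A' : θ₁A ∈ E.Hom A' := by rw [hθ₁Adef]; exact restrict_mem E hA'P hθ₁
    obtain ⟨ε, hεdef⟩ : ∃ ε : B' →* Ω, ε = θ₁A.comp e.symm.toMonoidHom := ⟨_, rfl⟩
    have hε : ε ∈ E.Hom B' := by rw [hεdef]; exact hom_comp_iso E (iso_symm E he) hθ₁A'
    have hεval : ∀ b : B', ε b = θ₁ (h⁻¹ ⟨b, hB'P b.2⟩) := by
      intro b
      rw [hεdef, hθ₁Adef]
      show θ₁ (Subgroup.inclusion hA'P (e.symm b)) = _
      congr 1
      have h1 := heφ (e.symm b)
      rw [MulEquiv.apply_symm_apply, hφhval] at h1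
      have h2 : h (Subgroup.inclusion hA'P (e.symm b)) = ⟨b, hB'P b.2⟩ := Subtype.ext h1.symm
      rw [← h2]
      simp
    have hεrange : ε.range = Astar := by
      apply le_antisymm
      · rintro _ ⟨b, rfl⟩
        rw [hεdef, hθ₁Adef]
        show θ₁ (Subgroup.inclusion hA'P (e.symm b)) ∈ Astar
        exact hθ₁A _ (hinclA _)
      · intro z hz
        obtain ⟨a, ha, rfl⟩ := hθ₁surj z hz
        refine ⟨e ⟨(a : Ω), (hA'mem _).mpr ⟨a, ha, rfl⟩⟩, ?_⟩
        rw [hεdef, hθ₁Adef]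
        show θ₁ (Subgroup.inclusion hA'P (e.symm (e _))) = θ₁ a
        rw [MulEquiv.symm_apply_apply]
        rfl
    -- the extension `θ₂`
    have hBnorm : P ≤ Subgroup.normalizer (B' : Set Ω) := by
      rw [hB']; exact le_normalizer_map_subtype B hBn
    obtain ⟨θ₂, hθ₂, hθ₂ε⟩ := receptive_extend E hAsr hε hεrange P hB'P (by
      intro g hg
      refine ⟨hPS hg, hBnorm hg, θ₁ (h⁻¹ ⟨g, hg⟩), hθ₁S _, ?_⟩
      intro x hx
      rw [hεval, hεval, ← map_inv, ← map_mul, ← map_mul, ← map_inv, ← map_mul, ← map_mul]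
      rfl)
    have hθ₂S : ∀ x : P, θ₂ x ∈ S := (E.le_of_mem hθ₂).2
    have hθ₂B : ∀ b ∈ B, θ₂ b = θ₁ (h⁻¹ b) := by
      intro b hb
      have hb' : ((b : P) : Ω) ∈ B' := (hB'mem _).mpr ⟨b, hb, rfl⟩
      have h1 := hθ₂ε ⟨(b : Ω), hb'⟩
      rw [hεval] at h1
      exact h1
    -- the key relation
    have hR : ∀ g : P, (θ₁ (h⁻¹ g))⁻¹ * θ₂ g ∈ centralizerIn S Astar := by
      intro g
      refine ⟨S.mul_mem (S.inv_mem (hθ₁S _)) (hθ₂S _), ?_⟩
      show _ ∈ Subgroup.centralizer (Astar : Set Ω)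
      rw [Subgroup.mem_centralizer_iff]
      intro z hz
      obtain ⟨a, ha, rfl⟩ := hθ₁surj z hz
      have hb : h a ∈ B := (hBmem _).mpr ⟨a, ha, rfl⟩
      have hgb : g * h a * g⁻¹ ∈ B := hBn.conj_mem _ hb g
      have e1 := hθ₂B _ hgb
      have e2 := hθ₂B _ hb
      have h3 : h⁻¹ (h a) = a := by simp
      rw [h3] at e2
      have h1 : θ₂ g * θ₁ a * (θ₂ g)⁻¹ = θ₁ (h⁻¹ g) * θ₁ a * (θ₁ (h⁻¹ g))⁻¹ := by
        calc θ₂ g * θ₁ a * (θ₂ g)⁻¹ = θ₂ g * θ₂ (h a) * (θ₂ g)⁻¹ := by rw [e2]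
          _ = θ₂ (g * h a * g⁻¹) := by rw [map_mul, map_mul, map_inv]
          _ = θ₁ (h⁻¹ (g * h a * g⁻¹)) := e1
          _ = θ₁ (h⁻¹ g * h⁻¹ (h a) * (h⁻¹ g)⁻¹) := by
            congr 1
            rw [map_mul, map_mul, map_inv]
          _ = θ₁ (h⁻¹ g) * θ₁ a * (θ₁ (h⁻¹ g))⁻¹ := by rw [h3, map_mul, map_mul, map_inv]
      calc θ₁ a * ((θ₁ (h⁻¹ g))⁻¹ * θ₂ g)
          = (θ₁ (h⁻¹ g))⁻¹ * (θ₁ (h⁻¹ g) * θ₁ a * (θ₁ (h⁻¹ g))⁻¹) * θ₂ g := by group
        _ = (θ₁ (h⁻¹ g))⁻¹ * (θ₂ g * θ₁ a * (θ₂ g)⁻¹) * θ₂ g := by rw [← h1]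
        _ = (θ₁ (h⁻¹ g))⁻¹ * θ₂ g * θ₁ a := by group
    have hθ₁rS : θ₁.range ≤ S := by
      rintro _ ⟨x, rfl⟩; exact hθ₁S x
    have hθ₂rS : θ₂.range ≤ S := by
      rintro _ ⟨x, rfl⟩; exact hθ₂S x
    haveI : Finite θ₁.range := finite_of_le hθ₁rS
    haveI : Finite θ₂.range := finite_of_le hθ₂rS
    have hcard₁ : Nat.card θ₁.range = Nat.card P :=
      (Nat.card_congr (MonoidHom.ofInjective (E.injective_of_mem hθ₁)).toEquiv).symm
    have hcard₂ : Nat.card θ₂.range = Nat.card P :=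
      (Nat.card_congr (MonoidHom.ofInjective (E.injective_of_mem hθ₂)).toEquiv).symm
    by_cases hCle : centralizerIn S Astar ≤ θ₁.range
    · -- Case 1
      right
      have hrange21 : θ₂.range ≤ θ₁.range := by
        rintro _ ⟨g, rfl⟩
        have h1 : θ₂ g = θ₁ (h⁻¹ g) * ((θ₁ (h⁻¹ g))⁻¹ * θ₂ g) := by group
        rw [h1]
        exact Subgroup.mul_mem _ ⟨_, rfl⟩ (hCle (hR g))
      have hrangeeq : θ₂.range = θ₁.range :=
        Subgroup.eq_of_le_of_card_ge hrange21 (by rw [hcard₁, hcard₂])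
      obtain ⟨e₁, he₁, he₁θ⟩ := iso_of_hom E hθ₁ rfl
      obtain ⟨e₂, he₂, he₂θ⟩ := iso_of_hom E hθ₂ hrangeeq
      obtain ⟨g₀, hg₀def⟩ : ∃ g₀ : MulAut P, g₀ = e₂.trans e₁.symm := ⟨_, rfl⟩
      have hg₀ : g₀ ∈ E.autGroup P := by
        rw [mem_autGroup_iff E hPS, hg₀def]
        exact iso_trans E he₂ (iso_symm E he₁)
      refine ⟨g₀, hg₀, ?_⟩
      rw [hV]
      refine ⟨Subgroup.mul_mem _ (hs.hGH hg₀) hh, ?_⟩
      intro a ha
      show g₀ (h a) = a
      rw [hg₀def]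
      show e₁.symm (e₂ (h a)) = a
      have h1 : e₂ (h a) = e₁ a := by
        apply Subtype.ext
        rw [he₂θ, he₁θ, hθ₂B _ ((hBmem _).mpr ⟨a, ha, rfl⟩)]
        simp
      rw [h1, MulEquiv.symm_apply_apply]
    · -- Case 2
      left
      obtain ⟨c, hcC, hcθ⟩ := SetLike.not_le_iff_exists.mp hCle
      have hcentA : ∀ c' ∈ centralizerIn S Astar, ∀ a ∈ A, c' * θ₁ a = θ₁ a * c' := by
        intro c' hc' a ha
        exact ((Subgroup.mem_centralizer_iff.mp hc'.2) _ (hθ₁A a ha)).symm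
      have hK₁ := key_K hS E F hF hEF hPn hPc IH hs θ₁ hθ₁ A hAn (hV ▸ hVp) c hcC.1
        (hcentA c hcC) hcθ
      rw [← hV] at hK₁
      have hC2 : ¬ centralizerIn S Astar ≤ θ₂.range := by
        intro hle
        apply hCle
        have h12 : θ₁.range ≤ θ₂.range := by
          rintro _ ⟨y, rfl⟩
          have h1 := hR (h y)
          have h3 : h⁻¹ (h y) = y := by simp
          rw [h3] at h1
          have h2 : θ₁ y = θ₂ (h y) * ((θ₁ y)⁻¹ * θ₂ (h y))⁻¹ := by group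
          rw [h2]
          exact Subgroup.mul_mem _ ⟨_, rfl⟩ (Subgroup.inv_mem _ (hle h1))
        have heq12 : θ₁.range = θ₂.range :=
          Subgroup.eq_of_le_of_card_ge h12 (by rw [hcard₁, hcard₂])
        rw [heq12]
        exact hle
      obtain ⟨c₂, hc₂C, hc₂θ⟩ := SetLike.not_le_iff_exists.mp hC2
      obtain ⟨VB, hVB⟩ : ∃ VB : Subgroup (MulAut P), VB = F.autGroup P ⊓ fixer B := ⟨_, rfl⟩
      have hVBle : VB ≤ cj h V := by
        intro v hv
        rw [hVB] at hv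
        rw [mem_cj, hV]
        refine ⟨Subgroup.mul_mem _ (Subgroup.mul_mem _ (Subgroup.inv_mem _ hh) hv.1) hh, ?_⟩
        intro a ha
        show h⁻¹ (v (h a)) = a
        rw [hv.2 _ ((hBmem _).mpr ⟨a, ha, rfl⟩)]
        simp
      have hVBp : IsPGroup p VB := (hVp.map _).to_le hVBle
      have hcentB : ∀ b ∈ B, c₂ * θ₂ b = θ₂ b * c₂ := by
        intro b hb
        rw [hθ₂B b hb]
        exact hcentA c₂ hc₂C _ (hhinv b hb)
      have hK₂ := key_K hS E F hF hEF hPn hPc IH hs θ₂ hθ₂ B hBn (hVB ▸ hVBp) c₂ hc₂C.1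
        hcentB hc₂θ
      rw [← hVB] at hK₂
      have hcjV : cj h V ≤ VB := by
        rintro _ ⟨v, hv, rfl⟩
        rw [hV] at hv
        rw [hVB]
        refine ⟨Subgroup.mul_mem _ (Subgroup.mul_mem _ hh hv.1) (Subgroup.inv_mem _ hh), ?_⟩
        intro b hb
        obtain ⟨a, ha, rfl⟩ := (hBmem b).mp hb
        show h (v (h⁻¹ (h a))) = h a
        have h3 : h⁻¹ (h a) = a := by simp
        rw [h3, hv.2 a ha]
      obtain ⟨Y, hY⟩ : ∃ Y : Subgroup (MulAut P), Y = V ⊔ Inn P := ⟨_, rfl⟩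
      have hYG : Y ≤ E.autGroup P := by rw [hY]; exact sup_le hK₁.1 hIG
      have hYp : IsPGroup p Y := by
        rw [hY]
        haveI : (Inn P).Normal := inferInstance
        exact IsPGroup.to_sup_of_normal_right hVp hIp
      have hYI : Y ≠ Inn P := by
        intro heq
        apply hK₁.2
        rw [← heq, hY]
        exact le_sup_left
      have hcjY : cj h Y ≤ E.autGroup P := by
        rw [hY]
        show (V ⊔ Inn P).map (MulAut.conj h).toMonoidHom ≤ _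
        rw [Subgroup.map_sup]
        apply sup_le
        · exact hcjV.trans hK₂.1
        · have := hs.hIn h
          unfold cj at this
          rw [this]
          exact hIG
      exact hs.control Y hYG hYp (by rw [hY]; exact le_sup_right) hYI h hh hcjY
  -- conclusion
  obtain ⟨x, hxH, hxV⟩ :=
    exists_cj_le_of_sylow (F.autGroup P) (autInducedBy S P) V hVH hVp hs.hT
  have hex : ∃ g' ∈ E.autGroup P, cj g' V ≤ autInducedBy S P := by
    rcases claim x hxH with hxG | ⟨g, hg, hgx⟩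
    · exact ⟨x, hxG, hxV⟩
    · refine ⟨g⁻¹, Subgroup.inv_mem _ hg, ?_⟩
      have h1 : cj (g * x) V = V :=
        cj_eq_of_mem_normalizer (Subgroup.le_normalizer hgx)
      have h2 : cj x V = cj g⁻¹ V := by
        have h3 : x = g⁻¹ * (g * x) := by group
        conv_lhs => rw [h3]
        rw [← cj_cj, h1]
      rw [← h2]
      exact hxV
  obtain ⟨g', hg', hg'V⟩ := hex
  have hVG : V ≤ E.autGroup P := by
    intro v hv
    have h1 : g' * v * g'⁻¹ ∈ E.autGroup P := hs.hTG (hg'V (cj_mem g' V hv))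
    have h2 : v = g'⁻¹ * (g' * v * g'⁻¹) * g' := by group
    rw [h2]
    exact Subgroup.mul_mem _ (Subgroup.mul_mem _ (Subgroup.inv_mem _ hg') h1) hg'
  intro h hh
  rcases claim h hh with hG | ⟨g, hg, hgh⟩
  · exact hG
  · have h2 : h = g⁻¹ * (g * h) := by group
    rw [h2]
    exact Subgroup.mul_mem _ (Subgroup.inv_mem _ hg) (hVG hgh)

/-- **Control of fusion by small abelian subgroups of the hyperfocal subgroup.** -/
theorem eq_of_small [Finite S] {p : ℕ} [Fact p.Prime] (hS : IsPGroup p S)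
    (E F : FusionSystem S) (hE : E.IsSaturated p) (hF : F.IsSaturated p)
    (hEF : E.IsSubsystemOf F)
    (hsmall : ∀ A B : Subgroup Ω, A ≤ F.hyperfocalSubgroup p → B ≤ F.hyperfocalSubgroup p →
      IsMulCommutative ↥A → IsMulCommutative ↥B →
      (∀ a ∈ A, a ^ p = 1 ∨ (p = 2 ∧ a ^ 4 = 1)) → (∀ b ∈ B, b ^ p = 1 ∨ (p = 2 ∧ b ^ 4 = 1)) →
      E.homSet A B = F.homSet A B) :
    ∀ P : Subgroup Ω, E.Hom P = F.Hom P := by
  have hle : F ≤ E := by
    apply alperin_ih hS F hF E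
    intro P hP IH
    rcases hP with rfl | hP
    · apply aut_le hS E F hE hF hEF hsmall (top_fullyNormalized F) ?_ IH
      refine ⟨le_rfl, ?_⟩
      rintro Q ⟨φ, hφ, rfl⟩
      rw [range_eq_of_hom_top F hφ]
      exact inf_le_left
    · exact aut_le hS E F hE hF hEF hsmall hP.2.1 hP.1 IH
  intro P
  exact Set.Subset.antisymm (hEF P) (hle P)

/-- The hypotheses in the form of the statements. -/
theorem small_of_odd_two {p : ℕ} [Fact p.Prime] (E F : FusionSystem S) (T : Subgroup Ω)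
    (hodd : p ≠ 2 → ∀ A B : Subgroup Ω, A ≤ T → B ≤ T →
      Cfsg.IsElementaryAbelian p A → Cfsg.IsElementaryAbelian p B → E.homSet A B = F.homSet A B)
    (htwo : p = 2 → ∀ A B : Subgroup Ω, A ≤ T → B ≤ T →
      IsMulCommutative ↥A → IsMulCommutative ↥B → (∀ a ∈ A, a ^ 4 = 1) → (∀ b ∈ B, b ^ 4 = 1) →
      E.homSet A B = F.homSet A B) :
    ∀ A B : Subgroup Ω, A ≤ T → B ≤ T →
      IsMulCommutative ↥A → IsMulCommutative ↥B →
      (∀ a ∈ A, a ^ p = 1 ∨ (p = 2 ∧ a ^ 4 = 1)) → (∀ b ∈ B, b ^ p = 1 ∨ (p = 2 ∧ b ^ 4 = 1)) →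
      E.homSet A B = F.homSet A B := by
  intro A B hA hB hAc hBc hAe hBe
  by_cases hp2 : p = 2
  · have h4 : ∀ C : Subgroup Ω, (∀ a ∈ C, a ^ p = 1 ∨ (p = 2 ∧ a ^ 4 = 1)) → ∀ a ∈ C, a ^ 4 = 1 := by
      intro C hC a ha
      rcases hC a ha with h | ⟨-, h⟩
      · rw [hp2] at h
        have : a ^ 4 = (a ^ 2) ^ 2 := by rw [← pow_mul]
        rw [this, h, one_pow]
      · exact h
    exact htwo hp2 A B hA hB hAc hBc (h4 A hAe) (h4 B hBe)
  · exact hodd hp2 A B hA hB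
      ⟨hAc, fun a ha => (hAe a ha).resolve_right (fun h => hp2 h.1)⟩
      ⟨hBc, fun a ha => (hBe a ha).resolve_right (fun h => hp2 h.1)⟩

end Cfsg.Agent.Lib.Helper8_SmallAbelian
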