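import Mathlib
import Cfsg.Prelude.Def_FusionSystem
import Cfsg.Agent.Lib.Helper8_Realize
import Cfsg.Agent.Lib.Helper8_Frobenius
import Cfsg.Agent.Lib.Helper8_Hyperfocal
import Cfsg.Agent.Lib.Helper8_Abelian
import Cfsg.Agent.Lib.Helper8_Chain
import Cfsg.Agent.S5087

set_option autoImplicit false
set_option linter.style.haveILetI false
set_option linter.unusedVariables false
open Cfsg

/-!
# The fusion system of `P ⋊ ⟨β⟩` on `P`
-/

namespace Cfsg.Agent.Lib.Helper8_Sparse

open Cfsg.FusionSystem Cfsg.Agent.Lib.Helper8_Fusion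
open Cfsg.Agent.Lib.Helper8_GroupFusion
open Cfsg.Agent.Lib.Helper8_Saturated
open Cfsg.Agent.Lib.Helper8_Alperin

variable {Ω : Type*} [Group Ω] {S : Subgroup Ω}

/-- The fusion system on `P` whose maps are the restrictions of the automorphisms `c_u ∘ β^k`. -/
def cycSystem (P : Subgroup Ω) (β : MulAut P) : FusionSystem P where
  Hom R := {φ | ∃ hR : R ≤ P, ∃ (k : ℤ) (u : P), ∀ x : R,
    φ x = ((u * (β ^ k) ⟨x, hR x.2⟩ * u⁻¹ : P) : Ω)}
  le_of_mem := by
    rintro R φ ⟨hR, k, u, h⟩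
    exact ⟨hR, fun x => by rw [h x]; exact (u * _ * u⁻¹).2⟩
  injective_of_mem := by
    rintro R φ ⟨hR, k, u, h⟩ x y hxy
    rw [h x, h y] at hxy
    have h1 := Subtype.ext hxy
    have h2 : (β ^ k) ⟨x, hR x.2⟩ = (β ^ k) ⟨y, hR y.2⟩ := mul_left_cancel (mul_right_cancel h1)
    have h3 := (β ^ k).injective h2
    exact Subtype.ext (congrArg (fun z : P => (z : Ω)) h3)
  conj_mem := by
    intro R g hR hg
    refine ⟨hR, 0, ⟨g, hg⟩, fun x => ?_⟩
    simp [conjHom]
  comp_mem := by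
    rintro R Q φ ψ ⟨hR, k, u, h1⟩ ⟨hQ, l, v, h2⟩ h
    refine ⟨hR, l + k, v * (β ^ l) u, fun x => ?_⟩
    show ψ ⟨φ x, h x⟩ = _
    rw [h2]
    have h3 : (⟨φ x, hQ (h x)⟩ : P) = u * (β ^ k) ⟨x, hR x.2⟩ * u⁻¹ := Subtype.ext (h1 x)
    simp only [h3, map_mul, map_inv, zpow_add, MulAut.mul_apply, mul_inv_rev, mul_assoc]
  inv_mem := by
    rintro R φ ⟨hR, k, u, h1⟩
    have hrange : φ.range ≤ P := by
      rintro _ ⟨x, rfl⟩
      rw [h1 x]; exact (u * _ * u⁻¹).2
    refine ⟨(P.subtype.comp ((MulAut.conj ((β ^ (-k)) u⁻¹) * β ^ (-k) : MulAut P)).toMonoidHom).comp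
      (Subgroup.inclusion hrange), ⟨hrange, -k, (β ^ (-k)) u⁻¹, fun y => rfl⟩, fun x => ?_⟩
    show (((MulAut.conj ((β ^ (-k)) u⁻¹) * β ^ (-k) : MulAut P) ⟨φ x, hrange ⟨x, rfl⟩⟩ : P) : Ω) = x
    have h3 : (⟨φ x, hrange ⟨x, rfl⟩⟩ : P) = u * (β ^ k) ⟨x, hR x.2⟩ * u⁻¹ := Subtype.ext (h1 x)
    rw [h3]
    simp only [MulAut.mul_apply, MulAut.conj_apply, map_mul, map_inv, zpow_neg,
      MulAut.inv_apply_self]
    simp
    group

theorem mem_cycSystem {P : Subgroup Ω} {β : MulAut P} {R : Subgroup Ω} {φ : R →* Ω} :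
    φ ∈ (cycSystem P β).Hom R ↔ ∃ hR : R ≤ P, ∃ (k : ℤ) (u : P), ∀ x : R,
      φ x = ((u * (β ^ k) ⟨x, hR x.2⟩ * u⁻¹ : P) : Ω) := Iff.rfl


/-- If `β ∈ Aut_F(P)` then the system of `P ⋊ ⟨β⟩` is a subsystem of `F`. -/
theorem cycSystem_le (F : FusionSystem S) {P : Subgroup Ω} (hPS : P ≤ S) {β : MulAut P}
    (hβ : β ∈ F.autGroup P) : (cycSystem P β).IsSubsystemOf F := by
  rintro R φ ⟨hR, k, u, h⟩
  have hβk : β ^ k ∈ F.autGroup P := Subgroup.zpow_mem _ hβ k
  have hψ₀ : P.subtype.comp (β ^ k).toMonoidHom ∈ F.Hom P := (mem_autGroup_iff F hPS _).mp hβk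
  have hψ₁ := restrict_mem F hR hψ₀
  have hc := F.conj_mem hPS (hPS u.2)
  have hval : ∀ x : R, ((P.subtype.comp (β ^ k).toMonoidHom).comp (Subgroup.inclusion hR)) x ∈ P :=
    fun x => ((β ^ k) ⟨x, hR x.2⟩).2
  have h2 := F.comp_mem hψ₁ hc hval
  have : φ = (conjHom P u).comp
      (((P.subtype.comp (β ^ k).toMonoidHom).comp (Subgroup.inclusion hR)).codRestrict P hval) := by
    ext x
    rw [h x]
    rfl
  rw [this]; exact h2

/-- The system of `P ⋊ ⟨β⟩` is realized by that group. -/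
theorem cycSystem_realized (P : Subgroup Ω) (β : MulAut P) :
    (cycSystem P β).IsRealizedBy
      (SemidirectProduct.inl : P →* P ⋊[(Subgroup.zpowers β).subtype] (Subgroup.zpowers β)) := by
  refine ⟨SemidirectProduct.inl_injective, ?_⟩
  intro R hR φ hφ
  constructor
  · rintro ⟨hR', k, u, h⟩
    refine ⟨SemidirectProduct.inl u * SemidirectProduct.inr ⟨β ^ k, Subgroup.zpow_mem _ (Subgroup.mem_zpowers β) k⟩, fun x => ?_⟩
    have h1 : (⟨φ x, hφ x⟩ : P) = u * (β ^ k) ⟨x, hR x.2⟩ * u⁻¹ := Subtype.ext (h x)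
    rw [h1, map_mul, map_mul, map_inv]
    have h2 := SemidirectProduct.inl_aut (φ := (Subgroup.zpowers β).subtype)
      ⟨β ^ k, Subgroup.zpow_mem _ (Subgroup.mem_zpowers β) k⟩ (⟨x, hR x.2⟩ : P)
    have h3 : ((Subgroup.zpowers β).subtype ⟨β ^ k, Subgroup.zpow_mem _ (Subgroup.mem_zpowers β) k⟩)
      (⟨x, hR x.2⟩ : P) = (β ^ k) ⟨x, hR x.2⟩ := rfl
    rw [h3] at h2
    rw [h2]
    simp only [mul_inv_rev, map_inv, mul_assoc]
  · rintro ⟨g, hg⟩
    obtain ⟨k, hk⟩ := g.right.2
    refine ⟨hR, k, g.left, fun x => ?_⟩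
    have h1 := hg x
    rw [← SemidirectProduct.inl_left_mul_inr_right g] at h1
    have h2 := SemidirectProduct.inl_aut (φ := (Subgroup.zpowers β).subtype) g.right
      (⟨x, hR x.2⟩ : P)
    have h3 : SemidirectProduct.inl (⟨φ x, hφ x⟩ : P) =
        (SemidirectProduct.inl (g.left * ((Subgroup.zpowers β).subtype g.right) ⟨x, hR x.2⟩ * g.left⁻¹) :
          P ⋊[(Subgroup.zpowers β).subtype] (Subgroup.zpowers β)) := by
      rw [h1, map_mul, map_mul, map_inv, h2]
      simp only [mul_inv_rev, map_inv, mul_assoc]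
    have h4 := SemidirectProduct.inl_injective h3
    have h5 : ((Subgroup.zpowers β).subtype g.right) = β ^ k := hk.symm
    rw [h5] at h4
    exact congrArg (fun z : P => (z : Ω)) h4

/-- The system of `P ⋊ ⟨β⟩` is saturated when `P` is a finite `p`-group and the order of `β` is
prime to `p`. -/
theorem cycSystem_saturated {Ω : Type*} [Group Ω] {p : ℕ} [Fact p.Prime] {P : Subgroup Ω} [Finite P]
    (hP : IsPGroup p P) (β : MulAut P) (hβ : (orderOf β).Coprime p) :
    (cycSystem P β).IsSaturated p := by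
  have hp : p.Prime := Fact.out
  haveI : Finite (P ⋊[(Subgroup.zpowers β).subtype] (Subgroup.zpowers β)) :=
    Finite.of_equiv _ SemidirectProduct.equivProd.symm
  apply Cfsg.Agent.Lib.Helper8_Realize.saturated_of_realized hP (cycSystem_realized P β)
  have hpg : IsPGroup p (SemidirectProduct.inl : P →* P ⋊[(Subgroup.zpowers β).subtype] (Subgroup.zpowers β)).range := by
    exact hP.of_surjective _ (MonoidHom.rangeRestrict_surjective _)
  have hidx : ¬ p ∣ (SemidirectProduct.inl : P →* P ⋊[(Subgroup.zpowers β).subtype] (Subgroup.zpowers β)).range.index := by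
    rw [SemidirectProduct.range_inl_eq_ker_rightHom, Subgroup.index_ker,
      MonoidHom.range_eq_top.mpr SemidirectProduct.rightHom_surjective, Subgroup.card_top,
      Nat.card_zpowers]
    exact fun h => hp.one_lt.ne' (Nat.eq_one_of_dvd_coprimes hβ.symm (dvd_refl p) h)
  exact ⟨hpg.toSylow hidx, rfl⟩


theorem cycSystem_autGroup (P : Subgroup Ω) (β : MulAut P) :
    (cycSystem P β).autGroup P = Inn P ⊔ Subgroup.zpowers β := by
  apply le_antisymm
  · unfold FusionSystem.autGroup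
    rw [Subgroup.closure_le]
    rintro α ⟨hR, k, u, h⟩
    have : α = MulAut.conj u * β ^ k := by
      ext x
      exact h x
    rw [this]
    exact Subgroup.mul_mem _ (Subgroup.mem_sup_left ⟨u, rfl⟩)
      (Subgroup.mem_sup_right (Subgroup.zpow_mem _ (Subgroup.mem_zpowers β) k))
  · rw [sup_le_iff]
    constructor
    · rintro _ ⟨u, rfl⟩
      apply Subgroup.subset_closure
      refine ⟨le_rfl, 0, u, fun x => ?_⟩
      simp
    · rw [Subgroup.zpowers_le]
      apply Subgroup.subset_closure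
      refine ⟨le_rfl, 1, 1, fun x => ?_⟩
      simp

theorem mem_inn_of_inner {P : Subgroup Ω} {β : MulAut P}
    (h : ∀ R : Subgroup Ω, (cycSystem P β).Hom R = (innerFusionSystem P).Hom R) : β ∈ Inn P := by
  have h1 : P.subtype.comp β.toMonoidHom ∈ (cycSystem P β).Hom P :=
    ⟨le_rfl, 1, 1, fun x => by simp⟩
  rw [h P] at h1
  obtain ⟨-, g, hg, hφ⟩ := h1
  refine ⟨⟨g, hg⟩, ?_⟩
  ext x
  exact (hφ x).symm

/-- An inner automorphism of a `p`-group of order prime to `p` is trivial. -/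
theorem eq_one_of_mem_inn {p : ℕ} [Fact p.Prime] {P : Subgroup Ω} (hP : IsPGroup p P)
    {β : MulAut P} (hβ : β ∈ Inn P) (hcop : (orderOf β).Coprime p) : β = 1 := by
  obtain ⟨g, rfl⟩ := hβ
  obtain ⟨k, hk⟩ := hP g
  have h1 : (MulAut.conj g) ^ p ^ k = 1 := by rw [← map_pow, hk, map_one]
  have h2 : orderOf (MulAut.conj g) ∣ p ^ k := orderOf_dvd_of_pow_eq_one h1
  have h3 : orderOf (MulAut.conj g) = 1 :=
    Nat.eq_one_of_dvd_coprimes (Nat.Coprime.pow_right k hcop) (dvd_refl _) h2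
  exact orderOf_eq_one_iff.mp h3


open Cfsg.Agent.Lib.Helper8_Frobenius Cfsg.Agent.Lib.Helper8_Hyperfocal
open Cfsg.Agent.Lib.Helper8_Abelian Cfsg.Agent.Lib.Helper8_Chain

/-- **Extremely sparse fusion systems.** -/
theorem sparse_main [Finite S] {p : ℕ} [Fact p.Prime] (hS : IsPGroup p S)
    (F : FusionSystem S) (hF : F.IsSaturated p)
    (hni : ¬ (∀ P : Subgroup Ω, F.Hom P = (innerFusionSystem S).Hom P))
    (hsp : ∀ (T : Subgroup Ω) (E : FusionSystem T), E.IsSaturated p → E.IsSubsystemOf F →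
      (T = S ∧ ∀ P : Subgroup Ω, E.Hom P = F.Hom P) ∨
        (∀ P : Subgroup Ω, E.Hom P = (innerFusionSystem T).Hom P)) :
    F.IsNormal S ∧ F.focalSubgroup = S ∧ F.hyperfocalSubgroup p = S ∧
      ∃ (q : ℕ) (β : MulAut ↥S), q.Prime ∧ q ≠ p ∧ β ∈ F.autGroup S ∧ orderOf β = q ∧
        (F.autGroup S : Subgroup (MulAut ↥S)) = Inn ↥S ⊔ Subgroup.zpowers β := by
  have hp : p.Prime := Fact.out
  have key : ∀ (P : Subgroup Ω), P ≤ S → ∀ β : MulAut P, β ∈ F.autGroup P →
      (orderOf β).Coprime p → β ≠ 1 →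
      P = S ∧ ∀ R : Subgroup Ω, (cycSystem P β).Hom R = F.Hom R := by
    intro P hPS β hβ hcop hβ1
    haveI : Finite P := finite_of_le hPS
    have hPp : IsPGroup p P := hS.to_le hPS
    rcases hsp P (cycSystem P β) (cycSystem_saturated hPp β hcop) (cycSystem_le F hPS hβ) with
      h | h
    · exact h
    · exact absurd (eq_one_of_mem_inn hPp (mem_inn_of_inner h) hcop) hβ1
  -- no essential subgroups
  have hness : ∀ P : Subgroup Ω, ¬ F.IsEssential p P := by
    intro P hP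
    have hPS : P ≤ S := hP.1.1
    haveI : Finite P := finite_of_le hPS
    have hnp : ¬ IsPGroup p (F.autGroup P) := fun h => not_essential_of_pGroup F h hP
    have h1 : ¬ ∀ α ∈ F.autGroup P, ∀ m : ℕ, Nat.Coprime m p → α ^ m = 1 → α = 1 :=
      fun h => hnp (isPGroup_of_coprime_trivial _ h)
    push Not at h1
    obtain ⟨α, hα, m, hm, hαm, hα1⟩ := h1
    have hcop : (orderOf α).Coprime p :=
      Nat.Coprime.coprime_dvd_left (orderOf_dvd_of_pow_eq_one hαm) hm
    obtain ⟨hPeq, -⟩ := key P hPS α hα hcop hα1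
    rw [hPeq] at hP
    exact not_essential_top hS F hF hP
  have hnormal : F.IsNormal S := by
    rw [Cfsg.Agent.S5087.result p hS F hF S]
    rintro P (rfl | hP)
    · refine ⟨le_rfl, fun α hα => ?_⟩
      rw [Subgroup.subgroupOf_self]
      exact Subgroup.map_top_of_surjective _ α.surjective
    · exact absurd hP (hness P)
  -- a `p'`-automorphism of prime order
  have hnpS : ¬ IsPGroup p (F.autGroup S) := by
    intro h
    apply hni
    apply eq_inner_of_pGroup hS F hF
    rintro P (rfl | hP)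
    · exact h
    · exact absurd hP (hness P)
  obtain ⟨q, hq, hqp, hqdvd⟩ : ∃ q : ℕ, q.Prime ∧ q ≠ p ∧ q ∣ Nat.card (F.autGroup S) := by
    by_contra hcon
    push Not at hcon
    apply hnpS
    have hpos : Nat.card (F.autGroup S) ≠ 0 := Nat.card_pos.ne'
    have := Nat.eq_prime_pow_of_unique_prime_dvd hpos (p := p) (fun {d} hd hdvd => by
      by_contra hne
      exact hcon d hd hne hdvd)
    exact IsPGroup.of_card this
  haveI : Fact q.Prime := ⟨hq⟩
  obtain ⟨β', hβ'⟩ := exists_prime_orderOf_dvd_card' q hqdvd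
  obtain ⟨β, hβdef⟩ : ∃ β : MulAut S, β = (β' : MulAut S) := ⟨_, rfl⟩
  have hβA : β ∈ F.autGroup S := by rw [hβdef]; exact β'.2
  have hβord : orderOf β = q := by rw [hβdef, Subgroup.orderOf_coe, hβ']
  have hqcop : Nat.Coprime q p := (Nat.coprime_primes hq hp).mpr hqp
  have hβcop : (orderOf β).Coprime p := by rw [hβord]; exact hqcop
  have hβ1 : β ≠ 1 := by
    intro h
    rw [h, orderOf_one] at hβord
    exact hq.one_lt.ne hβord
  have hβq : β ^ q = 1 := by rw [← hβord]; exact pow_orderOf_eq_one β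
  obtain ⟨-, hcyc⟩ := key S le_rfl β hβA hβcop hβ1
  have hAut : (F.autGroup S : Subgroup (MulAut ↥S)) = Inn ↥S ⊔ Subgroup.zpowers β := by
    rw [← cycSystem_autGroup S β]
    unfold FusionSystem.autGroup
    rw [hcyc S]
  -- the hyperfocal subgroup
  have hhyp : F.hyperfocalSubgroup p = S := by
    obtain ⟨T, hTdef⟩ : ∃ T, T = F.hyperfocalSubgroup p := ⟨_, rfl⟩
    rw [← hTdef]
    have hT : F.StronglyClosed T := by rw [hTdef]; exact hyperfocal_stronglyClosed hS F hF
    have hTS : T ≤ S := hT.1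
    haveI : Finite T := finite_of_le hTS
    have hTp : IsPGroup p T := hS.to_le hTS
    have hψ : S.subtype.comp β.toMonoidHom ∈ F.Hom S := (mem_autGroup_iff F le_rfl β).mp hβA
    have himg : (T.subgroupOf S).map (S.subtype.comp β.toMonoidHom) = T := by
      have hle : (T.subgroupOf S).map (S.subtype.comp β.toMonoidHom) ≤ T := by
        rintro _ ⟨x, hx, rfl⟩
        exact aut_mem_of_stronglyClosed F hT le_rfl hβA hx
      apply Subgroup.eq_of_le_of_card_ge hle
      rw [Subgroup.card_map_of_injective (F.injective_of_mem hψ)]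
      exact le_of_eq (Nat.card_congr (Subgroup.subgroupOfEquivOfLe hTS).toEquiv).symm
    have hγF := restrictEquiv_mem F hψ hTS himg
    obtain ⟨γ, hγdef⟩ : ∃ γ : MulAut T, γ = restrictEquiv (S.subtype.comp β.toMonoidHom)
      (F.injective_of_mem hψ) hTS himg := ⟨_, rfl⟩
    rw [← hγdef] at hγF
    have hγA : γ ∈ F.autGroup T := (mem_autGroup_iff F hTS γ).mpr hγF
    have hγapp : ∀ u : T, ((γ u : T) : Ω) = ((β ⟨u, hTS u.2⟩ : S) : Ω) := by
      intro u
      rw [hγdef]
      rfl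
    have hγpow : ∀ (k : ℕ) (u : T), (((γ ^ k) u : T) : Ω) = (((β ^ k) ⟨u, hTS u.2⟩ : S) : Ω) := by
      intro k
      induction k with
      | zero => intro u; simp
      | succ k ih =>
        intro u
        rw [pow_succ, pow_succ, MulAut.mul_apply, MulAut.mul_apply, ih (γ u)]
        congr 2
        exact Subtype.ext (hγapp u)
    have hγq : γ ^ q = 1 := by
      ext u
      rw [hγpow q u, hβq]
      rfl
    have hγcop : (orderOf γ).Coprime p :=
      Nat.Coprime.coprime_dvd_left (orderOf_dvd_of_pow_eq_one hγq) hqcop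
    rcases hsp T (cycSystem T γ) (cycSystem_saturated hTp γ hγcop) (cycSystem_le F hTS hγA) with
      ⟨h, -⟩ | h
    · exact h
    · exfalso
      have hγ1 : γ = 1 := eq_one_of_mem_inn hTp (mem_inn_of_inner h) hγcop
      apply hβ1
      ext x
      have hβres : (⟨β, hβA⟩ : F.autGroup S) ∈ pResidual p (F.autGroup S) := by
        apply Subgroup.subset_closure
        show Nat.Coprime (orderOf (⟨β, hβA⟩ : F.autGroup S)) p
        rw [← Subgroup.orderOf_coe]
        exact hβcop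
      have hw := inv_mul_apply_mem_hyperfocal F p le_rfl hβres x
      rw [← hTdef] at hw
      have hw' : (x⁻¹ * β x : S) = ((⟨(x : Ω)⁻¹ * ((β x : S) : Ω), hTS hw⟩ : S)) := Subtype.ext rfl
      have hfixw : β (x⁻¹ * β x) = x⁻¹ * β x := by
        apply Subtype.ext
        rw [hw']
        have := hγapp ⟨(x : Ω)⁻¹ * ((β x : S) : Ω), hw⟩
        rw [hγ1] at this
        exact this.symm
      have h3 := eq_one_of_coprime_fix hS β q hqcop hβq x (x⁻¹ * β x)
        (by group) hfixw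
      have h4 : β x = x := by
        have := congrArg (fun z => x * z) h3
        simpa using this
      rw [h4]
      rfl
  refine ⟨hnormal, ?_, hhyp, q, β, hq, hqp, hβA, hβord, hAut⟩
  rw [focal_eq hS F hF, hhyp]
  exact sup_eq_left.mpr (Subgroup.commutator_le.mpr (fun a ha b hb =>
    S.mul_mem (S.mul_mem (S.mul_mem ha hb) (S.inv_mem ha)) (S.inv_mem hb)))

end Cfsg.Agent.Lib.Helper8_Sparse
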