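import Mathlib
import Cfsg.Prelude.Def_RootSubgroups
import Cfsg.Prelude.Def_Transfer
import Cfsg.Agent.Lib.Helper8_RankOne

set_option autoImplicit false
set_option linter.unusedVariables false
set_option linter.unusedSimpArgs false
open Cfsg

/-!
# Special rank one groups with abelian unipotent subgroups

The unipotent subgroups are elementary abelian or torsion-free and divisible.
-/

namespace Cfsg.Agent.Lib.Helper8_SpecialRankOne

open Cfsg.Agent.Lib.Helper8_RankOne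

variable {G : Type*} [Group G]

/-- The right conjugate `A^g = g⁻¹ A g`. -/
def rc (A : Subgroup G) (g : G) : Subgroup G := Cfsg.conjBy A g⁻¹

theorem rc_rc (A : Subgroup G) (g h : G) : rc (rc A g) h = rc A (g * h) := by
  unfold rc; rw [conjBy_conjBy, mul_inv_rev]

theorem rc_one (A : Subgroup G) : rc A 1 = A := by
  unfold rc; rw [inv_one, conjBy_one]

theorem rc_of_mem {A : Subgroup G} {g : G} (hg : g ∈ A) : rc A g = A :=
  conjBy_of_mem (A.inv_mem hg)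

theorem rc_mem_mul {A : Subgroup G} {a : G} (ha : a ∈ A) (g : G) : rc A (a * g) = rc A g := by
  rw [← rc_rc, rc_of_mem ha]

theorem rc_injective (g : G) {A B : Subgroup G} (h : rc A g = rc B g) : A = B :=
  conjBy_injective g⁻¹ h

theorem mem_rc (A : Subgroup G) (g y : G) : y ∈ rc A g ↔ g * y * g⁻¹ ∈ A := by
  unfold rc; rw [mem_conjBy, inv_inv]

theorem conj_mem_rc (A : Subgroup G) (g : G) {x : G} (hx : x ∈ A) : g⁻¹ * x * g ∈ rc A g := by
  rw [mem_rc]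
  have : g * (g⁻¹ * x * g) * g⁻¹ = x := by group
  rw [this]; exact hx

/-- The relation `b = b(a)`: `A^b = B^a` for non-identity `a ∈ A`, `b ∈ B`. -/
def Rel (A B : Subgroup G) (a b : G) : Prop :=
  a ∈ A ∧ a ≠ 1 ∧ b ∈ B ∧ b ≠ 1 ∧ rc A b = rc B a

variable {A B : Subgroup G}

theorem Rel.swap_mul {a b : G} (h : Rel A B a b) (g : G) : rc A (b * g) = rc B (a * g) := by
  rw [← rc_rc, h.2.2.2.2, rc_rc]

theorem rel_unique_right (hp : Cfsg.IsRankOnePair A B) {a b b' : G} (hb : b ∈ B) (hb' : b' ∈ B)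
    (e : rc A b = rc B a) (e' : rc A b' = rc B a) : b = b' :=
  unique_left hp hb hb' e e'

theorem rel_unique_left (hp : Cfsg.IsRankOnePair A B) {a a' b : G} (ha : a ∈ A) (ha' : a' ∈ A)
    (e : rc A b = rc B a) (e' : rc A b = rc B a') : a = a' :=
  unique_right hp ha ha' e e'

theorem exists_rel_right (hp : Cfsg.IsRankOnePair A B) {a : G} (ha : a ∈ A) (ha1 : a ≠ 1) :
    ∃ b, Rel A B a b := by
  obtain ⟨b, hb, hb1, e⟩ := hp.cond_left a ha ha1
  exact ⟨b, ha, ha1, hb, hb1, e⟩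

theorem exists_rel_left (hp : Cfsg.IsRankOnePair A B) {b : G} (hb : b ∈ B) (hb1 : b ≠ 1) :
    ∃ a, Rel A B a b := by
  obtain ⟨a, ha, ha1, e⟩ := hp.cond_right b hb hb1
  exact ⟨a, ha, ha1, hb, hb1, e.symm⟩

section Special

variable (hs : Cfsg.IsSpecialRankOnePair A B)
include hs

theorem braid {a b : G} (h : Rel A B a b) : a * b⁻¹ * a = b⁻¹ * a * b⁻¹ := by
  have := hs.2 a h.1 h.2.1 b h.2.2.1 h.2.2.2.1 h.2.2.2.2
  have h2 : a * (b⁻¹ * a * b) * b⁻¹ = a * (a⁻¹ * b⁻¹ * a) * b⁻¹ := by rw [this]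
  have e1 : a * (b⁻¹ * a * b) * b⁻¹ = a * b⁻¹ * a := by group
  have e2 : a * (a⁻¹ * b⁻¹ * a) * b⁻¹ = b⁻¹ * a * b⁻¹ := by group
  rw [e1, e2] at h2; exact h2

omit hs in
theorem rc_right_n {a b : G} (h : Rel A B a b) : rc B (a * b⁻¹ * a) = A := by
  rw [mul_assoc, ← h.swap_mul, mul_inv_cancel_left, rc_of_mem h.1]

theorem conj_n_left {a b : G} (h : Rel A B a b) :
    (a * b⁻¹ * a)⁻¹ * a * (a * b⁻¹ * a) = b⁻¹ := by
  have hb := braid hs h
  have : a * (a * b⁻¹ * a) = (a * b⁻¹ * a) * b⁻¹ := by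
    conv_lhs => rw [hb]
    group
  rw [mul_assoc, this, inv_mul_cancel_left]

theorem conj_n_right {a b : G} (h : Rel A B a b) :
    (a * b⁻¹ * a)⁻¹ * b⁻¹ * (a * b⁻¹ * a) = a := by
  have hb := braid hs h
  have : b⁻¹ * (a * b⁻¹ * a) = (a * b⁻¹ * a) * a := by
    conv_rhs => rw [hb]
    group
  rw [mul_assoc, this, inv_mul_cancel_left]

theorem rc_left_n {a b : G} (h : Rel A B a b) : rc A (a * b⁻¹ * a) = B := by
  have hp := hs.1
  have hnmem : a * b⁻¹ * a ∈ A ⊔ B :=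
    mul_mem (mul_mem (Subgroup.mem_sup_left h.1) (inv_mem (Subgroup.mem_sup_right h.2.2.1)))
      (Subgroup.mem_sup_left h.1)
  have hD : rc A (a * b⁻¹ * a) ∈ Cfsg.unipotentSubgroups A B := ⟨_, inv_mem hnmem, rfl⟩
  have hbD : b⁻¹ ∈ rc A (a * b⁻¹ * a) := by
    have := conj_mem_rc A (a * b⁻¹ * a) h.1
    rwa [conj_n_left hs h] at this
  by_contra hne
  have hpair : Cfsg.IsRankOnePair B (rc A (a * b⁻¹ * a)) :=
    rankOnePair_of_mem_unipotent hp (right_mem_unipotent hp) hD (Ne.symm hne)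
  have := inf_eq_one hpair (B.inv_mem h.2.2.1) hbD
  exact h.2.2.2.1 (inv_eq_one.mp this)

theorem rel_inv {a b : G} (h : Rel A B a b) : Rel A B a⁻¹ b⁻¹ := by
  refine ⟨inv_mem h.1, inv_ne_one.mpr h.2.1, inv_mem h.2.2.1, inv_ne_one.mpr h.2.2.2.1, ?_⟩
  have h1 := rc_left_n hs h
  rw [braid hs h] at h1
  have h2 : rc B (b * a⁻¹) = rc A b⁻¹ := by
    rw [← h1, rc_rc]; congr 1; group
  rw [← h2, rc_mem_mul h.2.2.1]

theorem pow_eq_one_iff {a b : G} (h : Rel A B a b) (k : ℕ) : a ^ k = 1 ↔ b ^ k = 1 := by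
  have h1 := conj_n_left hs h
  have h2 : (b⁻¹) ^ k = (a * b⁻¹ * a)⁻¹ * a ^ k * (a * b⁻¹ * a) := by
    have : ∀ n x : G, (n⁻¹ * x * n) ^ k = n⁻¹ * x ^ k * n := by
      intro n x
      have := conj_pow (a := n⁻¹) (b := x) (i := k)
      rwa [inv_inv] at this
    calc (b⁻¹) ^ k = ((a * b⁻¹ * a)⁻¹ * a * (a * b⁻¹ * a)) ^ k := by rw [h1]
      _ = _ := this _ _
  constructor
  · intro e
    rw [e, mul_one, inv_mul_cancel, inv_pow, inv_eq_one] at h2
    exact h2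
  · intro e
    rw [inv_pow, e, inv_one] at h2
    have h3 := congrArg (fun z => (a * b⁻¹ * a) * z * (a * b⁻¹ * a)⁻¹) h2
    simp only [mul_one, mul_inv_cancel] at h3
    rw [h3]; group

end Special

/-- `y` is good for `m`: raising to the `k`-th power is injective on `⟨y⟩` for `1 ≤ k ≤ m`. -/
def Good (A : Subgroup G) (m : ℕ) (y : G) : Prop :=
  y ∈ A ∧ y ≠ 1 ∧ ∀ k, 1 ≤ k → k ≤ m → ∀ z ∈ Subgroup.zpowers y, z ^ k = 1 → z = 1

theorem Good.pow_ne_one {m k : ℕ} {y : G} (h : Good A m y) (hk1 : 1 ≤ k) (hkm : k ≤ m) :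
    y ^ k ≠ 1 :=
  fun e => h.2.1 (h.2.2 k hk1 hkm y (Subgroup.mem_zpowers y) e)

theorem Good.pow {m k : ℕ} {y : G} (h : Good A m y) (hk1 : 1 ≤ k) (hkm : k ≤ m) :
    Good A m (y ^ k) := by
  refine ⟨A.pow_mem h.1 k, h.pow_ne_one hk1 hkm, ?_⟩
  intro j hj1 hjm z hz e
  have hle : Subgroup.zpowers (y ^ k) ≤ Subgroup.zpowers y :=
    Subgroup.zpowers_le.mpr (Subgroup.pow_mem _ (Subgroup.mem_zpowers y) k)
  exact h.2.2 j hj1 hjm z (hle hz) e

theorem Good.mono {m m' : ℕ} {y : G} (h : Good A m y) (hm : m' ≤ m) : Good A m' y :=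
  ⟨h.1, h.2.1, fun k hk1 hkm => h.2.2 k hk1 (le_trans hkm hm)⟩

theorem good_of_not_finOrder {y : G} (hy : y ∈ A) (hinf : ¬ IsOfFinOrder y) (m : ℕ) :
    Good A m y := by
  refine ⟨hy, ?_, ?_⟩
  · rintro rfl
    exact hinf IsOfFinOrder.one
  · intro k hk1 _ z hz e
    obtain ⟨i, rfl⟩ := Subgroup.mem_zpowers_iff.mp hz
    have h0 : orderOf y = 0 := orderOf_eq_zero_iff.mpr hinf
    have h1 : y ^ (i * (k : ℤ)) = 1 := by
      rw [zpow_mul, zpow_natCast]; exact e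
    have h2 := orderOf_dvd_iff_zpow_eq_one.mpr h1
    rw [h0] at h2
    have h3 : i * (k : ℤ) = 0 := by simpa using h2
    have hk0 : (k : ℤ) ≠ 0 := by
      have : k ≠ 0 := by omega
      exact_mod_cast this
    rcases mul_eq_zero.mp h3 with h4 | h4
    · rw [h4, zpow_zero]
    · exact absurd h4 hk0

theorem good_of_coprime {y : G} (hy : y ∈ A) (hy1 : y ≠ 1) {m : ℕ}
    (hco : ∀ k, 1 ≤ k → k ≤ m → Nat.Coprime k (orderOf y)) : Good A m y := by
  refine ⟨hy, hy1, ?_⟩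
  intro k hk1 hkm z hz e
  obtain ⟨i, rfl⟩ := Subgroup.mem_zpowers_iff.mp hz
  have h1 : (y ^ i) ^ (orderOf y) = 1 := by
    rw [← zpow_natCast, ← zpow_mul, mul_comm, zpow_mul, zpow_natCast, pow_orderOf_eq_one, one_zpow]
  have d1 : orderOf (y ^ i) ∣ k := orderOf_dvd_of_pow_eq_one e
  have d2 : orderOf (y ^ i) ∣ orderOf y := orderOf_dvd_of_pow_eq_one h1
  have d3 : orderOf (y ^ i) ∣ Nat.gcd k (orderOf y) := Nat.dvd_gcd d1 d2
  rw [hco k hk1 hkm] at d3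
  exact orderOf_eq_one_iff.mp (Nat.dvd_one.mp d3)

/-- The inductive statement. -/
def Pm (A B : Subgroup G) (k : ℕ) : Prop :=
  ∀ y, Good A k y →
    (∀ c c', Rel A B y c → Rel A B (y ^ k) c' → c' ^ k = c) ∧
    (∀ c' c'', Rel A B (y ^ k) c' → Rel A B (y ^ (k * k)) c'' →
      (y ^ k * c'⁻¹ * y ^ k)⁻¹ * y * (y ^ k * c'⁻¹ * y ^ k) = c''⁻¹)

section Main

variable (hs : Cfsg.IsSpecialRankOnePair A B) (hab : Cfsg.HasAbelianUnipotents A B)
include hs hab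

theorem step {k : ℕ} (hk : 1 ≤ k) (hP : Pm A B k) {y : G} (hy : Good A k y)
    (hx : Good A k (y ^ (k + 1))) :
    (∀ c c', Rel A B y c → Rel A B (y ^ (k + 1)) c' → c' ^ (k + 1) = c) ∧
    (∀ c' c'', Rel A B (y ^ (k + 1)) c' → Rel A B (y ^ ((k + 1) * (k + 1))) c'' →
      (y ^ (k + 1) * c'⁻¹ * y ^ (k + 1))⁻¹ * y * (y ^ (k + 1) * c'⁻¹ * y ^ (k + 1)) = c''⁻¹) := by
  have hp := hs.1
  have hA := hab.1
  have hB := hab.2
  have hyk : Good A k (y ^ k) := hy.pow hk le_rfl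
  obtain ⟨c₁, R₁⟩ := exists_rel_right hp hyk.1 hyk.2.1
  obtain ⟨c₂, R₂⟩ := exists_rel_right hp (A.pow_mem hx.1 k) (hx.pow_ne_one hk le_rfl)
  have hkk : y ^ (k * k) ≠ 1 := by
    rw [pow_mul]; exact hyk.pow_ne_one hk le_rfl
  obtain ⟨c₃, R₃⟩ := exists_rel_right hp (A.pow_mem hy.1 (k * k)) hkk
  have hcomm : ∀ j : ℕ, y * y ^ j = y ^ j * y := fun j => ((Commute.refl y).pow_right j).eq
  -- the harmonic relation
  have harm : ∀ c', Rel A B (y ^ (k + 1)) c' → c₁ = c₂ * c' := by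
    intro c' R'
    have h2 := (hP y hy).2 c₁ c₃ R₁ R₃
    have w1 : (y ^ k * c₁⁻¹ * y ^ k)⁻¹ * y * (y ^ k * c₁⁻¹ * y ^ k) =
        (y ^ k)⁻¹ * (c₁ * (y * (c₁⁻¹ * y ^ k))) := by
      have e1 : (y ^ k * c₁⁻¹ * y ^ k)⁻¹ * y * (y ^ k * c₁⁻¹ * y ^ k) =
          (y ^ k)⁻¹ * c₁ * (y ^ k)⁻¹ * (y * y ^ k) * c₁⁻¹ * y ^ k := by group
      rw [e1, hcomm k]; group
    rw [w1] at h2
    have h3 : rc A c₃⁻¹ = rc A (c' * (c₁⁻¹ * y ^ k)) := by
      rw [← h2, rc_mem_mul (inv_mem hyk.1), R₁.swap_mul, ← mul_assoc (y ^ k) y, ← pow_succ,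
        ← R'.swap_mul]
    have h4 := (rel_inv hs R₃).2.2.2.2
    have h5 : rc A (c' * c₁⁻¹) = rc B ((y ^ (k + 1)) ^ k)⁻¹ := by
      have e1 : c' * c₁⁻¹ = (c' * (c₁⁻¹ * y ^ k)) * (y ^ k)⁻¹ := by group
      have e2 : ((y ^ (k + 1)) ^ k)⁻¹ = (y ^ (k * k))⁻¹ * (y ^ k)⁻¹ := by
        rw [← mul_inv_rev, ← pow_add, ← pow_mul]
        congr 2; ring
      rw [e1, e2, ← rc_rc, ← h3, h4, rc_rc]
    have h6 := (rel_inv hs R₂).2.2.2.2
    have h7 : c' * c₁⁻¹ = c₂⁻¹ :=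
      rel_unique_right hp (B.mul_mem R'.2.2.1 (B.inv_mem R₁.2.2.1)) (B.inv_mem R₂.2.2.1) h5 h6
    have : c₁ = (c' * c₁⁻¹)⁻¹ * c' := by group
    rw [this, h7, inv_inv]
  constructor
  · intro c c' R R'
    have h1 := harm c' R'
    have h2 := (hP y hy).1 c c₁ R R₁
    have h3 := (hP (y ^ (k + 1)) hx).1 c' c₂ R' R₂
    have hcm : Commute c₂ c' := comm_of_isMulCommutative hB R₂.2.2.1 R'.2.2.1
    rw [← h2, h1, hcm.mul_pow, h3, ← pow_succ']
  · intro c' c'' R' R''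
    have h1 := harm c' R'
    have hgB : (y ^ (k + 1) * c'⁻¹ * y ^ (k + 1))⁻¹ * y⁻¹ * (y ^ (k + 1) * c'⁻¹ * y ^ (k + 1)) ∈ B := by
      have := conj_mem_rc A (y ^ (k + 1) * c'⁻¹ * y ^ (k + 1)) (inv_mem hy.1)
      rwa [rc_left_n hs R'] at this
    have hcomm' : y⁻¹ * y ^ (k + 1) = y ^ (k + 1) * y⁻¹ := by
      have := ((Commute.refl y).pow_right (k + 1)).inv_left
      exact this.eq
    have w1 : (y ^ (k + 1) * c'⁻¹ * y ^ (k + 1))⁻¹ * y⁻¹ * (y ^ (k + 1) * c'⁻¹ * y ^ (k + 1)) =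
        (y ^ (k + 1))⁻¹ * (c' * (y⁻¹ * (c'⁻¹ * y ^ (k + 1)))) := by
      have e1 : (y ^ (k + 1) * c'⁻¹ * y ^ (k + 1))⁻¹ * y⁻¹ * (y ^ (k + 1) * c'⁻¹ * y ^ (k + 1)) =
          (y ^ (k + 1))⁻¹ * c' * (y ^ (k + 1))⁻¹ * (y⁻¹ * y ^ (k + 1)) * c'⁻¹ * y ^ (k + 1) := by
        group
      rw [e1, hcomm']; group
    have h3 : rc A ((y ^ (k + 1) * c'⁻¹ * y ^ (k + 1))⁻¹ * y⁻¹ * (y ^ (k + 1) * c'⁻¹ * y ^ (k + 1))) =
        rc B (y ^ ((k + 1) * (k + 1))) := by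
      have e1 : y ^ (k + 1) * (y⁻¹ * (c'⁻¹ * y ^ (k + 1))) = y ^ k * (c'⁻¹ * y ^ (k + 1)) := by
        rw [← mul_assoc, pow_succ, mul_inv_cancel_right]
      have e2 : c₁ * (c'⁻¹ * y ^ (k + 1)) = c₂ * y ^ (k + 1) := by
        rw [h1]; group
      have e3 : (y ^ (k + 1)) ^ k * y ^ (k + 1) = y ^ ((k + 1) * (k + 1)) := by
        rw [← pow_succ, ← pow_mul]
      rw [w1, rc_mem_mul (inv_mem hx.1), R'.swap_mul, e1, ← R₁.swap_mul, e2, R₂.swap_mul, e3]
    have h4 := rel_unique_right hp hgB R''.2.2.1 h3 R''.2.2.2.2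
    have : (y ^ (k + 1) * c'⁻¹ * y ^ (k + 1))⁻¹ * y * (y ^ (k + 1) * c'⁻¹ * y ^ (k + 1)) =
        ((y ^ (k + 1) * c'⁻¹ * y ^ (k + 1))⁻¹ * y⁻¹ * (y ^ (k + 1) * c'⁻¹ * y ^ (k + 1)))⁻¹ := by
      group
    rw [this, h4]

theorem all_Pm : ∀ k, 1 ≤ k → Pm A B k := by
  have hp := hs.1
  intro k hk
  induction k, hk using Nat.le_induction with
  | base =>
    intro y hy
    constructor
    · intro c c' R R'
      rw [pow_one] at R' ⊢
      exact rel_unique_right hp R'.2.2.1 R.2.2.1 R'.2.2.2.2 R.2.2.2.2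
    · intro c' c'' R' R''
      rw [mul_one, pow_one] at R''
      rw [pow_one] at R' ⊢
      have := rel_unique_right hp R'.2.2.1 R''.2.2.1 R'.2.2.2.2 R''.2.2.2.2
      rw [← this]
      exact conj_n_left hs R'
  | succ k hk ih =>
    intro y hy
    exact step hs hab hk ih (hy.mono (Nat.le_succ k))
      ((hy.pow (by omega) le_rfl).mono (Nat.le_succ k))

/-- Finite orders are prime. -/
theorem prime_order {y : G} (hy : y ∈ A) (hy1 : y ≠ 1) (hfin : IsOfFinOrder y) :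
    (orderOf y).Prime := by
  have hp := hs.1
  have hN0 : 0 < orderOf y := hfin.orderOf_pos
  have hN1 : orderOf y ≠ 1 := by rw [Ne, orderOf_eq_one_iff]; exact hy1
  obtain ⟨N, hN⟩ : ∃ N, N = orderOf y := ⟨_, rfl⟩
  rw [← hN] at hN0 hN1 ⊢
  have hqp : (N.minFac).Prime := Nat.minFac_prime hN1
  have hqd : N.minFac ∣ N := Nat.minFac_dvd N
  obtain ⟨q, hq⟩ : ∃ q, q = N.minFac := ⟨_, rfl⟩
  rw [← hq] at hqp hqd
  by_contra hnp
  have hqN : q ≠ N := fun e => hnp (e ▸ hqp)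
  have hqlt : q < N := lt_of_le_of_ne (Nat.le_of_dvd hN0 hqd) hqN
  obtain ⟨k, rfl⟩ : ∃ k, q = k + 1 := ⟨q - 1, by have := hqp.two_le; omega⟩
  have hk1 : 1 ≤ k := by have := hqp.two_le; omega
  -- y is good for k
  have hco : ∀ j, 1 ≤ j → j ≤ k → Nat.Coprime j N := by
    intro j hj1 hjk
    have : j < N.minFac := by rw [← hq]; omega
    exact (Nat.coprime_of_lt_minFac (by omega) this).symm
  have hgy : Good A k y := good_of_coprime hy hy1 (by rw [← hN]; exact hco)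
  have hyq1 : y ^ (k + 1) ≠ 1 := by
    apply pow_ne_one_of_lt_orderOf (by omega)
    rw [← hN]; exact hqlt
  have hoq : orderOf (y ^ (k + 1)) = N / (k + 1) := by
    rw [hN]; exact orderOf_pow_of_dvd (by omega) (hN ▸ hqd)
  have hgx : Good A k (y ^ (k + 1)) := by
    apply good_of_coprime (A.pow_mem hy _) hyq1
    intro j hj1 hjk
    rw [hoq]
    exact Nat.Coprime.coprime_dvd_right (Nat.div_dvd_of_dvd hqd) (hco j hj1 hjk)
  have hst := (step hs hab hk1 (all_Pm hs hab k hk1) hgy hgx).1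
  obtain ⟨c, R⟩ := exists_rel_right hp hy hy1
  obtain ⟨c', R'⟩ := exists_rel_right hp (A.pow_mem hy _) hyq1
  have h1 := hst c c' R R'
  have h2 : (y ^ (k + 1)) ^ (N / (k + 1)) = 1 := by
    rw [← hoq]; exact pow_orderOf_eq_one _
  have h3 : c' ^ (N / (k + 1)) = 1 := (pow_eq_one_iff hs R' _).mp h2
  have h4 : c ^ (N / (k + 1)) = 1 := by
    rw [← h1, ← pow_mul, mul_comm, pow_mul, h3, one_pow]
  have h5 : y ^ (N / (k + 1)) = 1 := (pow_eq_one_iff hs R _).mpr h4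
  have h6 : N ∣ N / (k + 1) := by
    have := orderOf_dvd_of_pow_eq_one h5
    rwa [← hN] at this
  have h7 : N / (k + 1) < N := Nat.div_lt_self hN0 (by omega)
  have h8 : 0 < N / (k + 1) := Nat.div_pos (Nat.le_of_dvd hN0 hqd) (by omega)
  exact absurd (Nat.le_of_dvd h8 h6) (by omega)

theorem main :
    (∃ p : ℕ, p.Prime ∧ Cfsg.IsElementaryAbelian p A) ∨
    ((∀ a ∈ A, a ≠ 1 → ¬ IsOfFinOrder a) ∧ ∀ a ∈ A, ∀ n : ℕ, 0 < n → ∃ c ∈ A, c ^ n = a) := by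
  have hp := hs.1
  by_cases htf : ∀ a ∈ A, a ≠ 1 → ¬ IsOfFinOrder a
  · right
    refine ⟨htf, ?_⟩
    intro a ha n hn
    by_cases ha1 : a = 1
    · exact ⟨1, A.one_mem, by rw [one_pow, ha1]⟩
    have hinf := htf a ha ha1
    have han : a ^ n ≠ 1 := by
      intro e
      exact hinf (isOfFinOrder_iff_pow_eq_one.mpr ⟨n, hn, e⟩)
    obtain ⟨b, R⟩ := exists_rel_right hp ha ha1
    obtain ⟨c', R'⟩ := exists_rel_right hp (A.pow_mem ha n) han
    have h1 := (all_Pm hs hab n hn a (good_of_not_finOrder ha hinf n)).1 b c' R R'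
    refine ⟨(a * b⁻¹ * a)⁻¹ * c'⁻¹ * (a * b⁻¹ * a), ?_, ?_⟩
    · have := conj_mem_rc B (a * b⁻¹ * a) (B.inv_mem R'.2.2.1)
      rwa [rc_right_n R] at this
    · have : ∀ m x : G, (m⁻¹ * x * m) ^ n = m⁻¹ * x ^ n * m := by
        intro m x
        have := conj_pow (a := m⁻¹) (b := x) (i := n)
        rwa [inv_inv] at this
      rw [this, inv_pow, h1]
      exact conj_n_right hs R
  · left
    push Not at htf
    obtain ⟨a₀, ha₀, ha₀1, hfin₀⟩ := htf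
    have hq := prime_order hs hab ha₀ ha₀1 hfin₀
    refine ⟨orderOf a₀, hq, hab.1, ?_⟩
    intro z hz
    by_contra hzq
    have hz1 : z ≠ 1 := by
      rintro rfl
      exact hzq (one_pow _)
    have hcz : Commute a₀ z := comm_of_isMulCommutative hab.1 ha₀ hz
    by_cases hzfin : IsOfFinOrder z
    · have hq' := prime_order hs hab hz hz1 hzfin
      have hne : orderOf a₀ ≠ orderOf z := by
        intro e
        apply hzq
        rw [e]; exact pow_orderOf_eq_one z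
      have hco : Nat.Coprime (orderOf a₀) (orderOf z) := (Nat.coprime_primes hq hq').mpr hne
      have ho := hcz.orderOf_mul_eq_mul_orderOf_of_coprime hco
      have hw1 : a₀ * z ≠ 1 := by
        intro e
        rw [e, orderOf_one] at ho
        have := hq.two_le
        have := hq'.two_le
        nlinarith
      have hwfin : IsOfFinOrder (a₀ * z) := by
        rw [← orderOf_pos_iff, ho]
        exact Nat.mul_pos hq.pos hq'.pos
      have hpr := prime_order hs hab (A.mul_mem ha₀ hz) hw1 hwfin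
      rw [ho] at hpr
      exact Nat.not_prime_mul hq.one_lt.ne' hq'.one_lt.ne' hpr
    · -- z has infinite order
      have hwinf : ¬ IsOfFinOrder (a₀ * z) := by
        intro hw
        have h1 : IsOfFinOrder ((a₀ * z) ^ orderOf a₀) := hw.pow
        rw [hcz.mul_pow, pow_orderOf_eq_one, one_mul] at h1
        exact hzfin (h1.of_pow hq.pos.ne')
      have hw1 : a₀ * z ≠ 1 := by
        intro e
        rw [e] at hwinf
        exact hwinf IsOfFinOrder.one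
      have hwq : (a₀ * z) ^ orderOf a₀ = z ^ orderOf a₀ := by
        rw [hcz.mul_pow, pow_orderOf_eq_one, one_mul]
      obtain ⟨bz, Rz⟩ := exists_rel_right hp hz hz1
      obtain ⟨bw, Rw⟩ := exists_rel_right hp (A.mul_mem ha₀ hz) hw1
      obtain ⟨c', R'⟩ := exists_rel_right hp (A.pow_mem hz (orderOf a₀)) hzq
      have hP := all_Pm hs hab (orderOf a₀) hq.pos
      have h1 := (hP z (good_of_not_finOrder hz hzfin _)).1 bz c' Rz R'
      have h2 := (hP (a₀ * z) (good_of_not_finOrder (A.mul_mem ha₀ hz) hwinf _)).1 bw c' Rw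
        (by rw [hwq]; exact R')
      have h3 : bz = bw := h1.symm.trans h2
      have h4 := rel_unique_left hp hz (A.mul_mem ha₀ hz) Rz.2.2.2.2 (h3 ▸ Rw.2.2.2.2)
      apply ha₀1
      have : a₀ = (a₀ * z) * z⁻¹ := by group
      rw [this, ← h4, mul_inv_cancel]

end Main

end Cfsg.Agent.Lib.Helper8_SpecialRankOne
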