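import Cfsg.Agent.Lib.Helper8_CosetBig
import Cfsg.Agent.Lib.Helper8_SuzbData
import Cfsg.Agent.Lib.Helper8_SuzbStates0
import Cfsg.Agent.Lib.Helper8_SuzbStates1
import Cfsg.Agent.Lib.Helper8_SuzbStates2

set_option autoImplicit false
set_option Elab.async false

namespace Cfsg.Agent.H8Suzb

open Cfsg.Agent.H8CE

set_option maxRecDepth 1000000 in
theorem hinvx0 : allBelow (fun i => Nat.blt (dig (nth pt 0) i) 22880 && Nat.beq (dig (nth pt 0) (dig (nth pt 0) i)) i) 22880 = true := by decide +kernel

set_option maxRecDepth 1000000 in
theorem hinvx1 : allBelow (fun i => Nat.blt (dig (nth pt 1) i) 22880 && Nat.beq (dig (nth pt 1) (dig (nth pt 1) i)) i) 22880 = true := by decide +kernel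

set_option maxRecDepth 1000000 in
theorem hinvx2 : allBelow (fun i => Nat.blt (dig (nth pt 2) i) 22880 && Nat.beq (dig (nth pt 2) (dig (nth pt 2) i)) i) 22880 = true := by decide +kernel

set_option maxRecDepth 1000000 in
theorem hinvx3 : allBelow (fun i => Nat.blt (dig (nth pt 3) i) 22880 && Nat.beq (dig (nth pt 3) (dig (nth pt 3) i)) i) 22880 = true := by decide +kernel

set_option maxRecDepth 1000000 in
theorem hinvx4 : allBelow (fun i => Nat.blt (dig (nth pt 4) i) 22880 && Nat.beq (dig (nth pt 4) (dig (nth pt 4) i)) i) 22880 = true := by decide +kernel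

set_option maxRecDepth 1000000 in
theorem hinvx5 : allBelow (fun i => Nat.blt (dig (nth pt 5) i) 22880 && Nat.beq (dig (nth pt 5) (dig (nth pt 5) i)) i) 22880 = true := by decide +kernel

set_option maxRecDepth 1000000 in
theorem hinvx6 : allBelow (fun i => Nat.blt (dig (nth pt 6) i) 22880 && Nat.beq (dig (nth pt 6) (dig (nth pt 6) i)) i) 22880 = true := by decide +kernel

set_option maxRecDepth 1000000 in
theorem hwr0 : checkWordsR pt rels 0 177 = true := by decide +kernel

set_option maxRecDepth 1000000 in
theorem hwr1 : checkWordsR pt rels 177 177 = true := by decide +kernel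

set_option maxRecDepth 1000000 in
theorem hwr2 : checkWordsR pt rels 354 177 = true := by decide +kernel

set_option maxRecDepth 1000000 in
theorem hwr3 : checkWordsR pt rels 531 177 = true := by decide +kernel

set_option maxRecDepth 1000000 in
theorem hwr4 : checkWordsR pt rels 708 177 = true := by decide +kernel

set_option maxRecDepth 1000000 in
theorem hwr5 : checkWordsR pt rels 885 177 = true := by decide +kernel

set_option maxRecDepth 1000000 in
theorem hwr6 : checkWordsR pt rels 1062 177 = true := by decide +kernel

set_option maxRecDepth 1000000 in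
theorem hwr7 : checkWordsR pt rels 1239 177 = true := by decide +kernel

set_option maxRecDepth 1000000 in
theorem hwr8 : checkWordsR pt rels 1416 177 = true := by decide +kernel

set_option maxRecDepth 1000000 in
theorem hwr9 : checkWordsR pt rels 1593 177 = true := by decide +kernel

set_option maxRecDepth 1000000 in
theorem hwr10 : checkWordsR pt rels 1770 177 = true := by decide +kernel

set_option maxRecDepth 1000000 in
theorem hwr11 : checkWordsR pt rels 1947 177 = true := by decide +kernel

set_option maxRecDepth 1000000 in
theorem hwr12 : checkWordsR pt rels 2124 177 = true := by decide +kernel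

set_option maxRecDepth 1000000 in
theorem hwr13 : checkWordsR pt rels 2301 177 = true := by decide +kernel

end Cfsg.Agent.H8Suzb
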