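import Cfsg.Agent.Lib.Helper8_CosetBig
import Cfsg.Agent.Lib.Helper8_SuzbData
import Cfsg.Agent.Lib.Helper8_SuzbStates0
import Cfsg.Agent.Lib.Helper8_SuzbStates1
import Cfsg.Agent.Lib.Helper8_SuzbStates2

set_option autoImplicit false
set_option Elab.async false

namespace Cfsg.Agent.H8Suzb

open Cfsg.Agent.H8CE

set_option maxRecDepth 1000000 in
theorem hwr14 : checkWordsR pt rels 2478 177 = true := by decide +kernel

set_option maxRecDepth 1000000 in
theorem hwr15 : checkWordsR pt rels 2655 177 = true := by decide +kernel

set_option maxRecDepth 1000000 in
theorem hwr16 : checkWordsR pt rels 2832 177 = true := by decide +kernel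

set_option maxRecDepth 1000000 in
theorem hwr17 : checkWordsR pt rels 3009 177 = true := by decide +kernel

set_option maxRecDepth 1000000 in
theorem hwr18 : checkWordsR pt rels 3186 177 = true := by decide +kernel

set_option maxRecDepth 1000000 in
theorem hwr19 : checkWordsR pt rels 3363 177 = true := by decide +kernel

set_option maxRecDepth 1000000 in
theorem hwr20 : checkWordsR pt rels 3540 177 = true := by decide +kernel

set_option maxRecDepth 1000000 in
theorem hwr21 : checkWordsR pt rels 3717 177 = true := by decide +kernel

set_option maxRecDepth 1000000 in
theorem hwr22 : checkWordsR pt rels 3894 177 = true := by decide +kernel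

set_option maxRecDepth 1000000 in
theorem hwr23 : checkWordsR pt rels 4071 177 = true := by decide +kernel

set_option maxRecDepth 1000000 in
theorem hwr24 : checkWordsR pt rels 4248 177 = true := by decide +kernel

set_option maxRecDepth 1000000 in
theorem hwr25 : checkWordsR pt rels 4425 177 = true := by decide +kernel

set_option maxRecDepth 1000000 in
theorem hwr26 : checkWordsR pt rels 4602 177 = true := by decide +kernel

set_option maxRecDepth 1000000 in
theorem hwr27 : checkWordsR pt rels 4779 177 = true := by decide +kernel

set_option maxRecDepth 1000000 in
theorem hwr28 : checkWordsR pt rels 4956 177 = true := by decide +kernel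

set_option maxRecDepth 1000000 in
theorem hwr29 : checkWordsR pt rels 5133 177 = true := by decide +kernel

set_option maxRecDepth 1000000 in
theorem hwr30 : checkWordsR pt rels 5310 177 = true := by decide +kernel

set_option maxRecDepth 1000000 in
theorem hwr31 : checkWordsR pt rels 5487 177 = true := by decide +kernel

set_option maxRecDepth 1000000 in
theorem hwr32 : checkWordsR pt rels 5664 177 = true := by decide +kernel

set_option maxRecDepth 1000000 in
theorem hwr33 : checkWordsR pt rels 5841 177 = true := by decide +kernel

set_option maxRecDepth 1000000 in
theorem hwr34 : checkWordsR pt rels 6018 177 = true := by decide +kernel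

end Cfsg.Agent.H8Suzb
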