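import Cfsg.Agent.Lib.Helper8_CosetBig
import Cfsg.Agent.Lib.Helper8_SuzbData
import Cfsg.Agent.Lib.Helper8_SuzbStates0
import Cfsg.Agent.Lib.Helper8_SuzbStates1
import Cfsg.Agent.Lib.Helper8_SuzbStates2

set_option autoImplicit false
set_option Elab.async false

namespace Cfsg.Agent.H8Suzb

open Cfsg.Agent.H8CE

set_option maxRecDepth 1000000 in
theorem hwr35 : checkWordsR pt rels 6195 177 = true := by decide +kernel

set_option maxRecDepth 1000000 in
theorem hwr36 : checkWordsR pt rels 6372 177 = true := by decide +kernel

set_option maxRecDepth 1000000 in
theorem hwr37 : checkWordsR pt rels 6549 177 = true := by decide +kernel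

set_option maxRecDepth 1000000 in
theorem hwr38 : checkWordsR pt rels 6726 177 = true := by decide +kernel

set_option maxRecDepth 1000000 in
theorem hwr39 : checkWordsR pt rels 6903 177 = true := by decide +kernel

set_option maxRecDepth 1000000 in
theorem hwr40 : checkWordsR pt rels 7080 177 = true := by decide +kernel

set_option maxRecDepth 1000000 in
theorem hwr41 : checkWordsR pt rels 7257 177 = true := by decide +kernel

set_option maxRecDepth 1000000 in
theorem hwr42 : checkWordsR pt rels 7434 177 = true := by decide +kernel

set_option maxRecDepth 1000000 in
theorem hwr43 : checkWordsR pt rels 7611 177 = true := by decide +kernel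

set_option maxRecDepth 1000000 in
theorem hwr44 : checkWordsR pt rels 7788 177 = true := by decide +kernel

set_option maxRecDepth 1000000 in
theorem hwr45 : checkWordsR pt rels 7965 177 = true := by decide +kernel

set_option maxRecDepth 1000000 in
theorem hwr46 : checkWordsR pt rels 8142 177 = true := by decide +kernel

set_option maxRecDepth 1000000 in
theorem hwr47 : checkWordsR pt rels 8319 177 = true := by decide +kernel

set_option maxRecDepth 1000000 in
theorem hwr48 : checkWordsR pt rels 8496 177 = true := by decide +kernel

set_option maxRecDepth 1000000 in
theorem hwr49 : checkWordsR pt rels 8673 177 = true := by decide +kernel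

set_option maxRecDepth 1000000 in
theorem hwr50 : checkWordsR pt rels 8850 177 = true := by decide +kernel

set_option maxRecDepth 1000000 in
theorem hwr51 : checkWordsR pt rels 9027 177 = true := by decide +kernel

set_option maxRecDepth 1000000 in
theorem hwr52 : checkWordsR pt rels 9204 177 = true := by decide +kernel

set_option maxRecDepth 1000000 in
theorem hwr53 : checkWordsR pt rels 9381 177 = true := by decide +kernel

set_option maxRecDepth 1000000 in
theorem hwr54 : checkWordsR pt rels 9558 177 = true := by decide +kernel

set_option maxRecDepth 1000000 in
theorem hwr55 : checkWordsR pt rels 9735 177 = true := by decide +kernel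

end Cfsg.Agent.H8Suzb
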