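import Cfsg.Agent.Lib.Helper8_CosetBig
import Cfsg.Agent.Lib.Helper8_SuzbData
import Cfsg.Agent.Lib.Helper8_SuzbStates0
import Cfsg.Agent.Lib.Helper8_SuzbStates1
import Cfsg.Agent.Lib.Helper8_SuzbStates2

set_option autoImplicit false
set_option Elab.async false

namespace Cfsg.Agent.H8Suzb

open Cfsg.Agent.H8CE

set_option maxRecDepth 1000000 in
theorem hwr56 : checkWordsR pt rels 9912 177 = true := by decide +kernel

set_option maxRecDepth 1000000 in
theorem hwr57 : checkWordsR pt rels 10089 177 = true := by decide +kernel

set_option maxRecDepth 1000000 in
theorem hwr58 : checkWordsR pt rels 10266 177 = true := by decide +kernel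

set_option maxRecDepth 1000000 in
theorem hwr59 : checkWordsR pt rels 10443 177 = true := by decide +kernel

set_option maxRecDepth 1000000 in
theorem hwr60 : checkWordsR pt rels 10620 177 = true := by decide +kernel

set_option maxRecDepth 1000000 in
theorem hwr61 : checkWordsR pt rels 10797 177 = true := by decide +kernel

set_option maxRecDepth 1000000 in
theorem hwr62 : checkWordsR pt rels 10974 177 = true := by decide +kernel

set_option maxRecDepth 1000000 in
theorem hwr63 : checkWordsR pt rels 11151 177 = true := by decide +kernel

set_option maxRecDepth 1000000 in
theorem hwr64 : checkWordsR pt rels 11328 177 = true := by decide +kernel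

set_option maxRecDepth 1000000 in
theorem hwr65 : checkWordsR pt rels 11505 177 = true := by decide +kernel

set_option maxRecDepth 1000000 in
theorem hwr66 : checkWordsR pt rels 11682 177 = true := by decide +kernel

set_option maxRecDepth 1000000 in
theorem hwr67 : checkWordsR pt rels 11859 177 = true := by decide +kernel

set_option maxRecDepth 1000000 in
theorem hwr68 : checkWordsR pt rels 12036 177 = true := by decide +kernel

set_option maxRecDepth 1000000 in
theorem hwr69 : checkWordsR pt rels 12213 177 = true := by decide +kernel

set_option maxRecDepth 1000000 in
theorem hwr70 : checkWordsR pt rels 12390 177 = true := by decide +kernel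

set_option maxRecDepth 1000000 in
theorem hwr71 : checkWordsR pt rels 12567 177 = true := by decide +kernel

set_option maxRecDepth 1000000 in
theorem hwr72 : checkWordsR pt rels 12744 177 = true := by decide +kernel

set_option maxRecDepth 1000000 in
theorem hwr73 : checkWordsR pt rels 12921 177 = true := by decide +kernel

set_option maxRecDepth 1000000 in
theorem hwr74 : checkWordsR pt rels 13098 177 = true := by decide +kernel

set_option maxRecDepth 1000000 in
theorem hwr75 : checkWordsR pt rels 13275 177 = true := by decide +kernel

set_option maxRecDepth 1000000 in
theorem hwr76 : checkWordsR pt rels 13452 177 = true := by decide +kernel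

end Cfsg.Agent.H8Suzb
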