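import Cfsg.Agent.Lib.Helper8_CosetBig
import Cfsg.Agent.Lib.Helper8_SuzbData
import Cfsg.Agent.Lib.Helper8_SuzbStates0
import Cfsg.Agent.Lib.Helper8_SuzbStates1
import Cfsg.Agent.Lib.Helper8_SuzbStates2

set_option autoImplicit false
set_option Elab.async false

namespace Cfsg.Agent.H8Suzb

open Cfsg.Agent.H8CE

set_option maxRecDepth 1000000 in
theorem hwr77 : checkWordsR pt rels 13629 177 = true := by decide +kernel

set_option maxRecDepth 1000000 in
theorem hwr78 : checkWordsR pt rels 13806 177 = true := by decide +kernel

set_option maxRecDepth 1000000 in
theorem hwr79 : checkWordsR pt rels 13983 177 = true := by decide +kernel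

set_option maxRecDepth 1000000 in
theorem hwr80 : checkWordsR pt rels 14160 177 = true := by decide +kernel

set_option maxRecDepth 1000000 in
theorem hwr81 : checkWordsR pt rels 14337 177 = true := by decide +kernel

set_option maxRecDepth 1000000 in
theorem hwr82 : checkWordsR pt rels 14514 177 = true := by decide +kernel

set_option maxRecDepth 1000000 in
theorem hwr83 : checkWordsR pt rels 14691 177 = true := by decide +kernel

set_option maxRecDepth 1000000 in
theorem hwr84 : checkWordsR pt rels 14868 177 = true := by decide +kernel

set_option maxRecDepth 1000000 in
theorem hwr85 : checkWordsR pt rels 15045 177 = true := by decide +kernel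

set_option maxRecDepth 1000000 in
theorem hwr86 : checkWordsR pt rels 15222 177 = true := by decide +kernel

set_option maxRecDepth 1000000 in
theorem hwr87 : checkWordsR pt rels 15399 177 = true := by decide +kernel

set_option maxRecDepth 1000000 in
theorem hwr88 : checkWordsR pt rels 15576 177 = true := by decide +kernel

set_option maxRecDepth 1000000 in
theorem hwr89 : checkWordsR pt rels 15753 177 = true := by decide +kernel

set_option maxRecDepth 1000000 in
theorem hwr90 : checkWordsR pt rels 15930 177 = true := by decide +kernel

set_option maxRecDepth 1000000 in
theorem hwr91 : checkWordsR pt rels 16107 177 = true := by decide +kernel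

set_option maxRecDepth 1000000 in
theorem hwr92 : checkWordsR pt rels 16284 177 = true := by decide +kernel

set_option maxRecDepth 1000000 in
theorem hwr93 : checkWordsR pt rels 16461 177 = true := by decide +kernel

set_option maxRecDepth 1000000 in
theorem hwr94 : checkWordsR pt rels 16638 177 = true := by decide +kernel

set_option maxRecDepth 1000000 in
theorem hwr95 : checkWordsR pt rels 16815 177 = true := by decide +kernel

set_option maxRecDepth 1000000 in
theorem hwr96 : checkWordsR pt rels 16992 177 = true := by decide +kernel

set_option maxRecDepth 1000000 in
theorem hwr97 : checkWordsR pt rels 17169 177 = true := by decide +kernel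

end Cfsg.Agent.H8Suzb
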