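import Cfsg.Agent.Lib.Helper8_CosetBig
import Cfsg.Agent.Lib.Helper8_SuzbData
import Cfsg.Agent.Lib.Helper8_SuzbStates0
import Cfsg.Agent.Lib.Helper8_SuzbStates1
import Cfsg.Agent.Lib.Helper8_SuzbStates2

set_option autoImplicit false
set_option Elab.async false

namespace Cfsg.Agent.H8Suzb

open Cfsg.Agent.H8CE

set_option maxRecDepth 1000000 in
theorem hwr98 : checkWordsR pt rels 17346 177 = true := by decide +kernel

set_option maxRecDepth 1000000 in
theorem hwr99 : checkWordsR pt rels 17523 177 = true := by decide +kernel

set_option maxRecDepth 1000000 in
theorem hwr100 : checkWordsR pt rels 17700 177 = true := by decide +kernel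

set_option maxRecDepth 1000000 in
theorem hwr101 : checkWordsR pt rels 17877 177 = true := by decide +kernel

set_option maxRecDepth 1000000 in
theorem hwr102 : checkWordsR pt rels 18054 177 = true := by decide +kernel

set_option maxRecDepth 1000000 in
theorem hwr103 : checkWordsR pt rels 18231 177 = true := by decide +kernel

set_option maxRecDepth 1000000 in
theorem hwr104 : checkWordsR pt rels 18408 177 = true := by decide +kernel

set_option maxRecDepth 1000000 in
theorem hwr105 : checkWordsR pt rels 18585 177 = true := by decide +kernel

set_option maxRecDepth 1000000 in
theorem hwr106 : checkWordsR pt rels 18762 177 = true := by decide +kernel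

set_option maxRecDepth 1000000 in
theorem hwr107 : checkWordsR pt rels 18939 177 = true := by decide +kernel

set_option maxRecDepth 1000000 in
theorem hwr108 : checkWordsR pt rels 19116 177 = true := by decide +kernel

set_option maxRecDepth 1000000 in
theorem hwr109 : checkWordsR pt rels 19293 177 = true := by decide +kernel

set_option maxRecDepth 1000000 in
theorem hwr110 : checkWordsR pt rels 19470 177 = true := by decide +kernel

set_option maxRecDepth 1000000 in
theorem hwr111 : checkWordsR pt rels 19647 177 = true := by decide +kernel

set_option maxRecDepth 1000000 in
theorem hwr112 : checkWordsR pt rels 19824 177 = true := by decide +kernel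

set_option maxRecDepth 1000000 in
theorem hwr113 : checkWordsR pt rels 20001 177 = true := by decide +kernel

set_option maxRecDepth 1000000 in
theorem hwr114 : checkWordsR pt rels 20178 177 = true := by decide +kernel

set_option maxRecDepth 1000000 in
theorem hwr115 : checkWordsR pt rels 20355 177 = true := by decide +kernel

set_option maxRecDepth 1000000 in
theorem hwr116 : checkWordsR pt rels 20532 177 = true := by decide +kernel

set_option maxRecDepth 1000000 in
theorem hwr117 : checkWordsR pt rels 20709 177 = true := by decide +kernel

set_option maxRecDepth 1000000 in
theorem hwr118 : checkWordsR pt rels 20886 177 = true := by decide +kernel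

end Cfsg.Agent.H8Suzb
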