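import Cfsg.Agent.Lib.Helper8_CosetBig
import Cfsg.Agent.Lib.Helper8_SuzbData
import Cfsg.Agent.Lib.Helper8_SuzbStates0
import Cfsg.Agent.Lib.Helper8_SuzbStates1
import Cfsg.Agent.Lib.Helper8_SuzbStates2

set_option autoImplicit false
set_option Elab.async false

namespace Cfsg.Agent.H8Suzb

open Cfsg.Agent.H8CE

set_option maxRecDepth 1000000 in
theorem hwr119 : checkWordsR pt rels 21063 177 = true := by decide +kernel

set_option maxRecDepth 1000000 in
theorem hwr120 : checkWordsR pt rels 21240 177 = true := by decide +kernel

set_option maxRecDepth 1000000 in
theorem hwr121 : checkWordsR pt rels 21417 177 = true := by decide +kernel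

set_option maxRecDepth 1000000 in
theorem hwr122 : checkWordsR pt rels 21594 177 = true := by decide +kernel

set_option maxRecDepth 1000000 in
theorem hwr123 : checkWordsR pt rels 21771 177 = true := by decide +kernel

set_option maxRecDepth 1000000 in
theorem hwr124 : checkWordsR pt rels 21948 177 = true := by decide +kernel

set_option maxRecDepth 1000000 in
theorem hwr125 : checkWordsR pt rels 22125 177 = true := by decide +kernel

set_option maxRecDepth 1000000 in
theorem hwr126 : checkWordsR pt rels 22302 177 = true := by decide +kernel

set_option maxRecDepth 1000000 in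
theorem hwr127 : checkWordsR pt rels 22479 177 = true := by decide +kernel

set_option maxRecDepth 1000000 in
theorem hwr128 : checkWordsR pt rels 22656 177 = true := by decide +kernel

set_option maxRecDepth 1000000 in
theorem hwr129 : checkWordsR pt rels 22833 47 = true := by decide +kernel

set_option maxRecDepth 1000000 in
theorem htr0 : allBelow (fun i => allBelow (fun x => checkEntry st38 fuel canon pt (Nat.add 0 i) x) 7) 855 = true := by decide +kernel

set_option maxRecDepth 1000000 in
theorem htr1 : allBelow (fun i => allBelow (fun x => checkEntry st38 fuel canon pt (Nat.add 855 i) x) 7) 855 = true := by decide +kernel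

set_option maxRecDepth 1000000 in
theorem htr2 : allBelow (fun i => allBelow (fun x => checkEntry st38 fuel canon pt (Nat.add 1710 i) x) 7) 855 = true := by decide +kernel

set_option maxRecDepth 1000000 in
theorem htr3 : allBelow (fun i => allBelow (fun x => checkEntry st38 fuel canon pt (Nat.add 2565 i) x) 7) 855 = true := by decide +kernel

set_option maxRecDepth 1000000 in
theorem htr4 : allBelow (fun i => allBelow (fun x => checkEntry st38 fuel canon pt (Nat.add 3420 i) x) 7) 855 = true := by decide +kernel

set_option maxRecDepth 1000000 in
theorem htr5 : allBelow (fun i => allBelow (fun x => checkEntry st38 fuel canon pt (Nat.add 4275 i) x) 7) 855 = true := by decide +kernel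

set_option maxRecDepth 1000000 in
theorem htr6 : allBelow (fun i => allBelow (fun x => checkEntry st38 fuel canon pt (Nat.add 5130 i) x) 7) 855 = true := by decide +kernel

set_option maxRecDepth 1000000 in
theorem htr7 : allBelow (fun i => allBelow (fun x => checkEntry st38 fuel canon pt (Nat.add 5985 i) x) 7) 855 = true := by decide +kernel

set_option maxRecDepth 1000000 in
theorem htr8 : allBelow (fun i => allBelow (fun x => checkEntry st38 fuel canon pt (Nat.add 6840 i) x) 7) 855 = true := by decide +kernel

set_option maxRecDepth 1000000 in
theorem htr9 : allBelow (fun i => allBelow (fun x => checkEntry st38 fuel canon pt (Nat.add 7695 i) x) 7) 855 = true := by decide +kernel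

end Cfsg.Agent.H8Suzb
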