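import Cfsg.Agent.Lib.Helper8_CosetBig
import Cfsg.Agent.Lib.Helper8_SuzbData
import Cfsg.Agent.Lib.Helper8_SuzbStates0
import Cfsg.Agent.Lib.Helper8_SuzbStates1
import Cfsg.Agent.Lib.Helper8_SuzbStates2

set_option autoImplicit false
set_option Elab.async false

namespace Cfsg.Agent.H8Suzb

open Cfsg.Agent.H8CE

set_option maxRecDepth 1000000 in
theorem htr10 : allBelow (fun i => allBelow (fun x => checkEntry st38 fuel canon pt (Nat.add 8550 i) x) 7) 855 = true := by decide +kernel

set_option maxRecDepth 1000000 in
theorem htr11 : allBelow (fun i => allBelow (fun x => checkEntry st38 fuel canon pt (Nat.add 9405 i) x) 7) 855 = true := by decide +kernel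

set_option maxRecDepth 1000000 in
theorem htr12 : allBelow (fun i => allBelow (fun x => checkEntry st38 fuel canon pt (Nat.add 10260 i) x) 7) 855 = true := by decide +kernel

set_option maxRecDepth 1000000 in
theorem htr13 : allBelow (fun i => allBelow (fun x => checkEntry st38 fuel canon pt (Nat.add 11115 i) x) 7) 855 = true := by decide +kernel

set_option maxRecDepth 1000000 in
theorem htr14 : allBelow (fun i => allBelow (fun x => checkEntry st38 fuel canon pt (Nat.add 11970 i) x) 7) 855 = true := by decide +kernel

set_option maxRecDepth 1000000 in
theorem htr15 : allBelow (fun i => allBelow (fun x => checkEntry st38 fuel canon pt (Nat.add 12825 i) x) 7) 855 = true := by decide +kernel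

set_option maxRecDepth 1000000 in
theorem htr16 : allBelow (fun i => allBelow (fun x => checkEntry st38 fuel canon pt (Nat.add 13680 i) x) 7) 855 = true := by decide +kernel

set_option maxRecDepth 1000000 in
theorem htr17 : allBelow (fun i => allBelow (fun x => checkEntry st38 fuel canon pt (Nat.add 14535 i) x) 7) 855 = true := by decide +kernel

set_option maxRecDepth 1000000 in
theorem htr18 : allBelow (fun i => allBelow (fun x => checkEntry st38 fuel canon pt (Nat.add 15390 i) x) 7) 855 = true := by decide +kernel

set_option maxRecDepth 1000000 in
theorem htr19 : allBelow (fun i => allBelow (fun x => checkEntry st38 fuel canon pt (Nat.add 16245 i) x) 7) 855 = true := by decide +kernel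

set_option maxRecDepth 1000000 in
theorem htr20 : allBelow (fun i => allBelow (fun x => checkEntry st38 fuel canon pt (Nat.add 17100 i) x) 7) 855 = true := by decide +kernel

set_option maxRecDepth 1000000 in
theorem htr21 : allBelow (fun i => allBelow (fun x => checkEntry st38 fuel canon pt (Nat.add 17955 i) x) 7) 855 = true := by decide +kernel

set_option maxRecDepth 1000000 in
theorem htr22 : allBelow (fun i => allBelow (fun x => checkEntry st38 fuel canon pt (Nat.add 18810 i) x) 7) 855 = true := by decide +kernel

set_option maxRecDepth 1000000 in
theorem htr23 : allBelow (fun i => allBelow (fun x => checkEntry st38 fuel canon pt (Nat.add 19665 i) x) 7) 855 = true := by decide +kernel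

set_option maxRecDepth 1000000 in
theorem htr24 : allBelow (fun i => allBelow (fun x => checkEntry st38 fuel canon pt (Nat.add 20520 i) x) 7) 855 = true := by decide +kernel

set_option maxRecDepth 1000000 in
theorem htr25 : allBelow (fun i => allBelow (fun x => checkEntry st38 fuel canon pt (Nat.add 21375 i) x) 7) 855 = true := by decide +kernel

set_option maxRecDepth 1000000 in
theorem htr26 : allBelow (fun i => allBelow (fun x => checkEntry st38 fuel canon pt (Nat.add 22230 i) x) 7) 650 = true := by decide +kernel

end Cfsg.Agent.H8Suzb
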