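import Mathlib

set_option autoImplicit false

namespace Cfsg.Agent.Helper8SylowAlt

/-- A `p`-subgroup of the symmetric group on fewer than `p²` points is commutative. -/
theorem perm_pgroup_comm {α : Type*} [Fintype α] [DecidableEq α] (p : ℕ) [Fact p.Prime]
    (Q : Subgroup (Equiv.Perm α)) (hQ : IsPGroup p Q) (hn : Fintype.card α < p ^ 2)
    (g h : Equiv.Perm α) (hg : g ∈ Q) (hh : h ∈ Q) : g * h = h * g := by
  have hp : p.Prime := Fact.out
  ext x
  obtain ⟨k, hk⟩ := hQ.card_orbit x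
  have hle : Nat.card (MulAction.orbit Q x) ≤ Fintype.card α := by
    rw [← Nat.card_eq_fintype_card]
    exact Nat.card_le_card_of_injective _ Subtype.val_injective
  have hk1 : k ≤ 1 := by
    by_contra hk2
    push Not at hk2
    have : p ^ 2 ≤ p ^ k := Nat.pow_le_pow_right hp.pos hk2
    omega
  obtain ⟨ρ, hρ⟩ : ∃ ρ : Q →* Equiv.Perm (MulAction.orbit Q x),
      ρ = MulAction.toPermHom Q (MulAction.orbit Q x) := ⟨_, rfl⟩
  have hPr : IsPGroup p ρ.range := hQ.of_surjective ρ.rangeRestrict ρ.rangeRestrict_surjective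
  obtain ⟨m, hm⟩ := IsPGroup.iff_card.mp hPr
  have hdvd : Nat.card ρ.range ∣ (Nat.card (MulAction.orbit Q x)).factorial := by
    have := Subgroup.card_subgroup_dvd_card ρ.range
    rwa [Nat.card_perm] at this
  have hm1 : Nat.card ρ.range ∣ p := by
    rw [hm]
    have hm1 : m ≤ 1 := by
      by_contra hm2
      push Not at hm2
      have h2 : p ^ 2 ∣ (Nat.card (MulAction.orbit Q x)).factorial :=
        (pow_dvd_pow p hm2).trans (hm ▸ hdvd)
      rw [hk] at h2
      interval_cases k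
      · simp at h2
        have := hp.two_le
        nlinarith
      · rw [pow_one] at h2
        obtain ⟨q, hq⟩ : ∃ q, p = q + 1 := ⟨p - 1, by have := hp.pos; omega⟩
        rw [hq, Nat.factorial_succ, ← hq, pow_two] at h2
        have h3 : p ∣ q.factorial := Nat.dvd_of_mul_dvd_mul_left hp.pos h2
        have := (hp.dvd_factorial).mp h3
        omega
    calc p ^ m ∣ p ^ 1 := pow_dvd_pow p hm1
      _ = p := pow_one p
  have : IsCyclic ρ.range := isCyclic_of_card_dvd_prime hm1
  have hc := (IsCyclic.isMulCommutative (α := ρ.range)).is_comm.comm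
    ⟨ρ ⟨g, hg⟩, ⟨_, rfl⟩⟩ ⟨ρ ⟨h, hh⟩, ⟨_, rfl⟩⟩
  have hc2 : ρ ⟨g, hg⟩ * ρ ⟨h, hh⟩ = ρ ⟨h, hh⟩ * ρ ⟨g, hg⟩ := congrArg Subtype.val hc
  have hc3 := congrArg (fun σ => ((σ ⟨x, MulAction.mem_orbit_self x⟩ :
    MulAction.orbit Q x) : α)) hc2
  subst hρ
  simpa using hc3

/-- If some `p`-subgroup of a finite group contains two non-commuting elements, then no Sylow
`p`-subgroup is commutative. -/
theorem sylow_not_comm_of_pgroup {G : Type*} [Group G] [Finite G] (p : ℕ) [Fact p.Prime]
    (P : Subgroup G) (hP : IsPGroup p P) (x y : G) (hx : x ∈ P) (hy : y ∈ P)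
    (hxy : x * y ≠ y * x) (S : Sylow p G) : ¬ IsMulCommutative S := by
  intro hS
  obtain ⟨S', hS'⟩ := hP.exists_le_sylow
  have e : S ≃* S' := Sylow.equiv S S'
  have h1 : (⟨x, hS' hx⟩ : S') * ⟨y, hS' hy⟩ = ⟨y, hS' hy⟩ * ⟨x, hS' hx⟩ := by
    have h2 := hS.is_comm.comm (e.symm ⟨x, hS' hx⟩) (e.symm ⟨y, hS' hy⟩)
    have h3 := congrArg e h2
    simpa using h3
  exact hxy (congrArg Subtype.val h1)

section Heis

variable (p : ℕ) [Fact p.Prime]

/-- The shear `(a, b) ↦ (a, b + f a)`. -/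
def shear (f : ZMod p → ZMod p) : Equiv.Perm (ZMod p × ZMod p) where
  toFun v := (v.1, v.2 + f v.1)
  invFun v := (v.1, v.2 - f v.1)
  left_inv v := by simp
  right_inv v := by simp

/-- The translation `(a, b) ↦ (a + 1, b)`. -/
def transl : Equiv.Perm (ZMod p × ZMod p) where
  toFun v := (v.1 + 1, v.2)
  invFun v := (v.1 - 1, v.2)
  left_inv v := by simp
  right_inv v := by simp

theorem shear_mul (f g : ZMod p → ZMod p) : shear p f * shear p g = shear p (f + g) := by
  ext v <;> simp [shear, add_comm, add_left_comm]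

theorem shear_zero : shear p 0 = 1 := by
  ext v <;> simp [shear]

theorem shear_inv (f : ZMod p → ZMod p) : (shear p f)⁻¹ = shear p (-f) := by
  rw [inv_eq_iff_mul_eq_one, shear_mul, add_neg_cancel, shear_zero]

theorem shear_pow (f : ZMod p → ZMod p) (m : ℕ) : (shear p f) ^ m = shear p (m • f) := by
  induction m with
  | zero => simp [shear_zero]
  | succ m ih => rw [pow_succ, ih, shear_mul, succ_nsmul]

/-- The subgroup of all shears. -/
def shearGroup : Subgroup (Equiv.Perm (ZMod p × ZMod p)) where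
  carrier := {σ | ∃ f, σ = shear p f}
  one_mem' := ⟨0, (shear_zero p).symm⟩
  mul_mem' := by
    rintro _ _ ⟨f, rfl⟩ ⟨g, rfl⟩
    exact ⟨f + g, shear_mul p f g⟩
  inv_mem' := by
    rintro _ ⟨f, rfl⟩
    exact ⟨-f, shear_inv p f⟩

theorem shearGroup_isPGroup : IsPGroup p (shearGroup p) := by
  rintro ⟨_, f, rfl⟩
  refine ⟨1, ?_⟩
  apply Subtype.ext
  rw [pow_one, Subgroup.coe_pow, Subgroup.coe_one, shear_pow]
  have : (p • f) = 0 := by
    ext a
    simp
  rw [this, shear_zero]

theorem transl_conj (f : ZMod p → ZMod p) :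
    transl p * shear p f * (transl p)⁻¹ = shear p (fun a => f (a - 1)) := by
  ext v <;> simp [shear, transl]

theorem transl_mem_normalizer :
    transl p ∈ Subgroup.normalizer (shearGroup p : Set (Equiv.Perm (ZMod p × ZMod p))) := by
  have : NeZero p := ⟨(Fact.out : p.Prime).ne_zero⟩
  apply Subgroup.mem_normalizer_fintype
  rintro _ ⟨f, rfl⟩
  exact ⟨_, transl_conj p f⟩

theorem transl_pow (m : ℕ) (v : ZMod p × ZMod p) : ((transl p) ^ m) v = (v.1 + m, v.2) := by
  induction m generalizing v with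
  | zero => simp
  | succ m ih =>
    rw [pow_succ, Equiv.Perm.mul_apply, ih]
    simp only [transl, Equiv.coe_fn_mk, Nat.cast_succ, Prod.mk.injEq, and_true]
    ring

theorem transl_pow_p : (transl p) ^ p = 1 := by
  ext v <;> simp [transl_pow]

theorem zpowers_transl_isPGroup : IsPGroup p (Subgroup.zpowers (transl p)) := by
  rintro ⟨_, k, rfl⟩
  refine ⟨1, ?_⟩
  apply Subtype.ext
  show ((transl p) ^ k) ^ (p ^ 1) = 1
  rw [pow_one, ← zpow_natCast, ← zpow_mul, mul_comm, zpow_mul, zpow_natCast, transl_pow_p,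
    one_zpow]

theorem shear_transl_ne : shear p id * transl p ≠ transl p * shear p id := by
  intro h
  have h1 := congrArg (fun σ => (σ (0, 0)).2) h
  simp [shear, transl] at h1

/-- A noncommutative `p`-subgroup of the symmetric group on `p²` points. -/
theorem exists_heis : ∃ P : Subgroup (Equiv.Perm (ZMod p × ZMod p)), IsPGroup p P ∧
    ∃ x ∈ P, ∃ y ∈ P, x * y ≠ y * x := by
  refine ⟨shearGroup p ⊔ Subgroup.zpowers (transl p),
    (shearGroup_isPGroup p).to_sup_of_normal_left' (zpowers_transl_isPGroup p)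
      (Subgroup.zpowers_le.mpr (transl_mem_normalizer p)),
    shear p id, Subgroup.mem_sup_left ⟨id, rfl⟩, transl p,
    Subgroup.mem_sup_right (Subgroup.mem_zpowers _), shear_transl_ne p⟩

end Heis

theorem units_eq_one_of_odd_pow (u : ℤˣ) (m : ℕ) (hm : Odd m) (h : u ^ m = 1) : u = 1 := by
  rcases Int.units_eq_one_or u with h1 | h1
  · exact h1
  · rw [h1, hm.neg_one_pow] at h
    exact absurd h (by decide)

/-- Transfer a noncommutative even `p`-subgroup along an embedding into `Fin n`. -/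
theorem exists_alt_pgroup_of {γ : Type*} [Fintype γ] [DecidableEq γ] (p : ℕ) [Fact p.Prime]
    (n : ℕ) (hn : Fintype.card γ ≤ n) (P' : Subgroup (Equiv.Perm γ)) (hP' : IsPGroup p P')
    (heven : ∀ σ ∈ P', Equiv.Perm.sign σ = 1)
    (hnc : ∃ x ∈ P', ∃ y ∈ P', x * y ≠ y * x) :
    ∃ P : Subgroup (alternatingGroup (Fin n)), IsPGroup p P ∧
      ∃ x ∈ P, ∃ y ∈ P, x * y ≠ y * x := by
  obtain ⟨ι⟩ : Nonempty (γ ↪ Fin n) :=
    Function.Embedding.nonempty_of_card_le (by simpa using hn)
  have hsign : ∀ τ : Equiv.Perm γ,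
      Equiv.Perm.sign (Equiv.Perm.viaEmbeddingHom ι τ) = Equiv.Perm.sign τ := by
    intro τ
    rw [Equiv.Perm.viaEmbeddingHom_apply]
    unfold Equiv.Perm.viaEmbedding
    exact @Equiv.Perm.sign_extendDomain _ _ _ _ _ _ τ _ (fun a => Classical.propDecidable _) _
  obtain ⟨x, hx, y, hy, hxy⟩ := hnc
  have hmem : ∀ τ ∈ P', Equiv.Perm.viaEmbeddingHom ι τ ∈ alternatingGroup (Fin n) := by
    intro τ hτ
    rw [Equiv.Perm.mem_alternatingGroup, hsign, heven τ hτ]
  refine ⟨(P'.map (Equiv.Perm.viaEmbeddingHom ι)).comap (alternatingGroup (Fin n)).subtype,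
    (hP'.map _).comap_subtype, ⟨_, hmem x hx⟩, ?_, ⟨_, hmem y hy⟩, ?_, ?_⟩
  · exact ⟨x, hx, rfl⟩
  · exact ⟨y, hy, rfl⟩
  · intro h
    apply hxy
    apply Equiv.Perm.viaEmbeddingHom_injective ι
    rw [map_mul, map_mul]
    exact congrArg Subtype.val h

/-- The homomorphism `ℤˣ → Sym(2)` inverse to the sign. -/
def unitsToPerm : ℤˣ →* Equiv.Perm (Fin 2) where
  toFun u := if u = 1 then 1 else Equiv.swap 0 1
  map_one' := by simp
  map_mul' := by
    intro u v
    rcases Int.units_eq_one_or u with rfl | rfl <;> rcases Int.units_eq_one_or v with rfl | rfl <;>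
      simp

theorem sign_unitsToPerm (u : ℤˣ) : Equiv.Perm.sign (unitsToPerm u) = u := by
  rcases Int.units_eq_one_or u with rfl | rfl
  · simp [unitsToPerm]
  · have : (-1 : ℤˣ) ≠ 1 := by decide
    simp [unitsToPerm, this]

/-- The parity-fixing homomorphism `Sym(β) → Alt(β ⊕ 2)`. -/
def parityFix (β : Type*) [Fintype β] [DecidableEq β] :
    Equiv.Perm β →* Equiv.Perm (β ⊕ Fin 2) where
  toFun σ := Equiv.Perm.sumCongr σ (unitsToPerm (Equiv.Perm.sign σ))
  map_one' := by simp
  map_mul' := by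
    intro σ τ
    rw [map_mul, map_mul, Equiv.Perm.sumCongr_mul]

theorem parityFix_injective (β : Type*) [Fintype β] [DecidableEq β] :
    Function.Injective (parityFix β) := by
  intro σ τ h
  ext a
  have := congrArg (fun ρ => ρ (Sum.inl a)) h
  simpa [parityFix] using this

theorem sign_parityFix (β : Type*) [Fintype β] [DecidableEq β] (σ : Equiv.Perm β) :
    Equiv.Perm.sign (parityFix β σ) = 1 := by
  show Equiv.Perm.sign (Equiv.Perm.sumCongr σ (unitsToPerm (Equiv.Perm.sign σ))) = 1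
  rw [Equiv.Perm.sign_sumCongr, sign_unitsToPerm, Int.units_mul_self]

/-- For `n ≥ max (p², 6)` the alternating group of degree `n` has a noncommutative
`p`-subgroup. -/
theorem exists_alt_pgroup (p : ℕ) [Fact p.Prime] (n : ℕ) (hn : p ^ 2 ≤ n) (hn6 : 6 ≤ n) :
    ∃ P : Subgroup (alternatingGroup (Fin n)), IsPGroup p P ∧
      ∃ x ∈ P, ∃ y ∈ P, x * y ≠ y * x := by
  have hp : p.Prime := Fact.out
  have : NeZero p := ⟨hp.ne_zero⟩
  obtain ⟨P, hP, x, hx, y, hy, hxy⟩ := exists_heis p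
  have hcard : Fintype.card (ZMod p × ZMod p) = p ^ 2 := by
    rw [Fintype.card_prod, ZMod.card, pow_two]
  rcases hp.eq_two_or_odd' with h2 | hodd
  · -- p = 2
    refine exists_alt_pgroup_of p n ?_ (P.map (parityFix _)) (hP.map _) ?_ ?_
    · rw [Fintype.card_sum, hcard, h2]
      simpa using hn6
    · rintro _ ⟨σ, _, rfl⟩
      exact sign_parityFix _ σ
    · refine ⟨_, ⟨x, hx, rfl⟩, _, ⟨y, hy, rfl⟩, ?_⟩
      intro h
      apply hxy
      apply parityFix_injective
      rw [map_mul, map_mul]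
      exact h
  · refine exists_alt_pgroup_of p n (by rw [hcard]; exact hn) P hP ?_ ⟨x, hx, y, hy, hxy⟩
    intro σ hσ
    obtain ⟨k, hk⟩ := hP ⟨σ, hσ⟩
    have hk' : σ ^ (p ^ k) = 1 := congrArg Subtype.val hk
    apply units_eq_one_of_odd_pow _ (p ^ k) (hodd.pow)
    rw [← map_pow, hk', map_one]


end Cfsg.Agent.Helper8SylowAlt
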