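import Mathlib
import Cfsg.Prelude.Def_FischerSpaces
import Cfsg.Agent.Lib.Helper4_PCore
import Cfsg.Agent.Lib.Helper4_Subnormal
import Cfsg.Agent.Lib.Helper3_PResidual

set_option autoImplicit false

/-! 3-transposition toolkit: braid relations, the relation `Veq` ("commutes with the same
members of `D`"), the path lemma `key`, and the normal 2-subgroup generated by the products
`e * u` with `Veq D e u`. -/

namespace Cfsg.Agent.Lib.Helper8_ThreeTransp

open Cfsg

variable {G : Type*} [Group G] {D : Set G}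

theorem mul_self (hD : IsThreeTranspositionSet D) {d : G} (hd : d ∈ D) : d * d = 1 := by
  have h := hD.1 d hd
  have h2 : d ^ 2 = 1 := by rw [← h]; exact pow_orderOf_eq_one d
  rwa [pow_two] at h2

theorem inv_eq (hD : IsThreeTranspositionSet D) {d : G} (hd : d ∈ D) : d⁻¹ = d :=
  inv_eq_of_mul_eq_one_left (mul_self hD hd)

theorem commute_or_braid (hD : IsThreeTranspositionSet D) {d e : G} (hd : d ∈ D) (he : e ∈ D) :
    Commute d e ∨ d * e * d = e * d * e := by
  have hdi := inv_eq hD hd
  have hei := inv_eq hD he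
  rcases hD.2 d hd e he with h | h
  · left
    have h' : d * e * (d * e) = 1 := by rwa [pow_two] at h
    have h2 : d * e = (d * e)⁻¹ := eq_inv_of_mul_eq_one_left h'
    rw [mul_inv_rev, hdi, hei] at h2
    exact h2
  · right
    have h' : d * e * (d * e) * (d * e) = 1 := by rwa [pow_succ, pow_two] at h
    have h2 : d * e * d = (e * d * e)⁻¹ := eq_inv_of_mul_eq_one_left (by rw [← h']; group)
    rw [mul_inv_rev, mul_inv_rev, hdi, hei, ← mul_assoc] at h2
    exact h2

theorem braid (hD : IsThreeTranspositionSet D) {d e : G} (hd : d ∈ D) (he : e ∈ D)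
    (h : ¬ Commute d e) : d * e * d = e * d * e :=
  (commute_or_braid hD hd he).resolve_left h

theorem commute_conj_iff {g a b : G} : Commute (g * a * g⁻¹) b ↔ Commute a (g⁻¹ * b * g) := by
  constructor
  · intro h
    show a * (g⁻¹ * b * g) = g⁻¹ * b * g * a
    calc a * (g⁻¹ * b * g) = g⁻¹ * (g * a * g⁻¹ * b) * g := by group
      _ = g⁻¹ * (b * (g * a * g⁻¹)) * g := by rw [h.eq]
      _ = g⁻¹ * b * g * a := by group
  · intro h
    show g * a * g⁻¹ * b = b * (g * a * g⁻¹)
    calc g * a * g⁻¹ * b = g * (a * (g⁻¹ * b * g)) * g⁻¹ := by group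
      _ = g * (g⁻¹ * b * g * a) * g⁻¹ := by rw [h.eq]
      _ = b * (g * a * g⁻¹) := by group

/-- `v` is a member of `D` commuting with exactly the same members of `D` as `d`. -/
def Veq (D : Set G) (d v : G) : Prop := v ∈ D ∧ ∀ e ∈ D, Commute v e ↔ Commute d e

theorem Veq.refl {d : G} (hd : d ∈ D) : Veq D d d := ⟨hd, fun _ _ => Iff.rfl⟩

theorem Veq.symm {d v : G} (h : Veq D d v) (hd : d ∈ D) : Veq D v d :=
  ⟨hd, fun e he => (h.2 e he).symm⟩

theorem Veq.trans {a b c : G} (h1 : Veq D a b) (h2 : Veq D b c) : Veq D a c :=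
  ⟨h2.1, fun e he => (h2.2 e he).trans (h1.2 e he)⟩

theorem Veq.commute {d v : G} (h : Veq D d v) (hd : d ∈ D) : Commute d v :=
  ((h.2 d hd).mpr (Commute.refl d)).symm

theorem Veq.conj (hconj : ∀ g : G, ∀ d ∈ D, g * d * g⁻¹ ∈ D) {d v : G} (h : Veq D d v) (g : G) :
    Veq D (g * d * g⁻¹) (g * v * g⁻¹) := by
  refine ⟨hconj g v h.1, fun e he => ?_⟩
  rw [commute_conj_iff, commute_conj_iff]
  have : g⁻¹ * e * g ∈ D := by
    have := hconj g⁻¹ e he
    rwa [inv_inv] at this
  exact h.2 _ this

theorem key_dir (hD : IsThreeTranspositionSet D) (hconj : ∀ g : G, ∀ d ∈ D, g * d * g⁻¹ ∈ D)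
    {d e u x : G} (hd : d ∈ D) (he : e ∈ D) (hu : Veq D e u) (hed : ¬ Commute e d)
    (hx : x ∈ D) (hdx : Commute d x) : Commute ((e * u) * d * (e * u)⁻¹) x := by
  have huD := hu.1
  by_cases hex : Commute e x
  · have hux : Commute u x := (hu.2 x hx).mpr hex
    exact ((hex.mul_left hux).mul_left hdx).mul_left (hex.mul_left hux).inv_left
  · have hud : ¬ Commute u d := fun h => hed ((hu.2 d hd).mp h)
    have hff' : Veq D (d * e * d⁻¹) (d * u * d⁻¹) := hu.conj hconj d
    have hg : e * x * e⁻¹ ∈ D := hconj e x hx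
    have hdi := inv_eq hD hd
    have hei := inv_eq hD he
    have hui := inv_eq hD huD
    have hb1 : d * e * d = e * d * e := braid hD hd he (fun h => hed h.symm)
    have hb3 : u * d * u = d * u * d := braid hD huD hd hud
    have hfg : Commute (d * e * d⁻¹) (e * x * e⁻¹) := by
      rw [hdi, hei, hb1]
      show e * d * e * (e * x * e) = e * x * e * (e * d * e)
      calc e * d * e * (e * x * e) = e * d * (e * e) * x * e := by group
        _ = e * (d * x) * e := by rw [mul_self hD he]; group
        _ = e * (x * d) * e := by rw [hdx.eq]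
        _ = e * x * (e * e) * d * e := by rw [mul_self hD he]; group
        _ = e * x * e * (e * d * e) := by group
    have hf'g : Commute (d * u * d⁻¹) (e * x * e⁻¹) := (hff'.2 _ hg).mpr hfg
    have h1 : (e * u) * d * (e * u)⁻¹ = e * (d * u * d⁻¹) * e⁻¹ := by
      rw [hdi, ← hb3, mul_inv_rev, hui]; group
    rw [h1, commute_conj_iff]
    have h2 : e⁻¹ * x * e = e * x * e⁻¹ := by rw [hei]
    rw [h2]; exact hf'g

theorem gen_mul_self (hD : IsThreeTranspositionSet D) {e u : G} (he : e ∈ D) (hu : Veq D e u) :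
    (e * u) * (e * u) = 1 := by
  have heu : Commute e u := hu.commute he
  calc e * u * (e * u) = e * (u * e) * u := by group
    _ = e * (e * u) * u := by rw [heu.eq]
    _ = (e * e) * (u * u) := by group
    _ = 1 := by rw [mul_self hD he, mul_self hD hu.1, one_mul]

theorem gen_inv (hD : IsThreeTranspositionSet D) {e u : G} (he : e ∈ D) (hu : Veq D e u) :
    (e * u)⁻¹ = e * u := inv_eq_of_mul_eq_one_left (gen_mul_self hD he hu)

/-- The path lemma: if `e, u` are `Veq`-equivalent and `d` does not commute with `e`, then the conjugate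
of `d` by `e * u` is `Veq`-equivalent to `d`. -/
theorem key (hD : IsThreeTranspositionSet D) (hconj : ∀ g : G, ∀ d ∈ D, g * d * g⁻¹ ∈ D)
    {d e u : G} (hd : d ∈ D) (he : e ∈ D) (hu : Veq D e u) (hed : ¬ Commute e d) :
    Veq D d ((e * u) * d * (e * u)⁻¹) := by
  have hss := gen_mul_self hD he hu
  have hsi := gen_inv hD he hu
  refine ⟨hconj _ d hd, fun x hx => ⟨fun h => ?_, fun h => key_dir hD hconj hd he hu hed hx h⟩⟩
  have hd' : (e * u) * d * (e * u)⁻¹ ∈ D := hconj _ d hd
  have hed' : ¬ Commute e ((e * u) * d * (e * u)⁻¹) := by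
    intro hc
    apply hed
    have h2 := (commute_conj_iff (g := e * u) (a := d) (b := e)).mp hc.symm
    have h3 : (e * u)⁻¹ * e * (e * u) = e := by
      rw [hsi]
      calc e * u * e * (e * u) = e * u * (e * e) * u := by group
        _ = e * (u * u) := by rw [mul_self hD he]; group
        _ = e := by rw [mul_self hD hu.1, mul_one]
    rw [h3] at h2
    exact h2.symm
  have h5 := key_dir hD hconj hd' he hu hed' hx h
  have h4 : (e * u) * ((e * u) * d * (e * u)⁻¹) * (e * u)⁻¹ = d := by
    rw [hsi]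
    calc e * u * (e * u * d * (e * u)) * (e * u)
        = (e * u * (e * u)) * d * (e * u * (e * u)) := by group
      _ = d := by rw [hss, one_mul, mul_one]
  rwa [h4] at h5

theorem gen_conj_mem (hD : IsThreeTranspositionSet D) (hconj : ∀ g : G, ∀ d ∈ D, g * d * g⁻¹ ∈ D)
    {d e u v : G} (he : e ∈ D) (hu : Veq D e u) (hv : Veq D d v) :
    Veq D d ((e * u) * v * (e * u)⁻¹) := by
  by_cases hed : Commute e d
  · have hev : Commute e v := ((hv.2 e he).mpr hed.symm).symm
    have huv : Commute u v := (hu.2 v hv.1).mpr hev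
    have h1 : (e * u) * v * (e * u)⁻¹ = v := by
      have hc : Commute (e * u) v := hev.mul_left huv
      rw [hc.eq]; group
    rw [h1]; exact hv
  · have hev : ¬ Commute e v := fun h => hed (((hv.2 e he).mp h.symm).symm)
    exact hv.trans (key hD hconj hv.1 he hu hev)

/-- A subgroup generated by pairwise commuting involutions is a 2-group. -/
theorem isPGroup_two_closure {E : Set G}
    (h2 : ∀ a ∈ E, a * a = 1) (hc : ∀ a ∈ E, ∀ b ∈ E, Commute a b) :
    IsPGroup 2 (Subgroup.closure E) := by
  have hcomm : ∀ x ∈ Subgroup.closure E, ∀ y ∈ Subgroup.closure E, x * y = y * x := by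
    have := Subgroup.isMulCommutative_closure (k := E) (fun x hx y hy => hc x hx y hy)
    intro x hx y hy
    have h := this.is_comm.comm ⟨x, hx⟩ ⟨y, hy⟩
    exact congrArg Subtype.val h
  have hsq : ∀ x (hx : x ∈ Subgroup.closure E), x * x = 1 := by
    intro x hx
    induction hx using Subgroup.closure_induction with
    | mem x hx => exact h2 x hx
    | one => simp
    | mul x y hx hy ihx ihy =>
      calc x * y * (x * y) = x * (y * x) * y := by group
        _ = x * (x * y) * y := by rw [hcomm y hy x hx]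
        _ = (x * x) * (y * y) := by group
        _ = 1 := by rw [ihx, ihy, one_mul]
    | inv x hx ih =>
      have : x⁻¹ = x := inv_eq_of_mul_eq_one_left ih
      rw [this, ih]
  intro g
  refine ⟨1, ?_⟩
  apply Subtype.ext
  have := hsq g.1 g.2
  simp [pow_two, this]

/-- The elementary abelian 2-group generated by the products `d * v`, `v` equivalent to `d`. -/
def Esub (D : Set G) (d : G) : Subgroup G := Subgroup.closure {s | ∃ v, Veq D d v ∧ s = d * v}

/-- The subgroup generated by all products `e * u` with `e ∈ D` and `u` equivalent to `e`. -/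
def Nsub (D : Set G) : Subgroup G :=
  Subgroup.closure {s | ∃ e ∈ D, ∃ u, Veq D e u ∧ s = e * u}

theorem Esub_le_Nsub {d : G} (hd : d ∈ D) : Esub D d ≤ Nsub D :=
  Subgroup.closure_mono (fun _ ⟨v, hv, hs⟩ => ⟨d, hd, v, hv, hs⟩)

theorem mem_Esub {d v : G} (hv : Veq D d v) : d * v ∈ Esub D d :=
  Subgroup.subset_closure ⟨v, hv, rfl⟩

theorem Esub_isPGroup (hD : IsThreeTranspositionSet D) {d : G} (hd : d ∈ D) :
    IsPGroup 2 (Esub D d) := by
  apply isPGroup_two_closure
  · rintro a ⟨v, hv, rfl⟩
    exact gen_mul_self hD hd hv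
  · rintro a ⟨v, hv, rfl⟩ b ⟨w, hw, rfl⟩
    have hdv := hv.commute hd
    have hdw := hw.commute hd
    have hvw : Commute v w := (hv.2 w hw.1).mpr hdw
    exact (hdw.mul_right hdw |> fun _ => (Commute.refl d).mul_right hdw).mul_left
      (hdv.symm.mul_right hvw)

theorem Nsub_normal (hconj : ∀ g : G, ∀ d ∈ D, g * d * g⁻¹ ∈ D) : (Nsub D).Normal := by
  apply Cfsg.Agent.Lib.Helper3_PResidual.closure_normal_of_conj_invariant
  rintro n ⟨e, he, u, hu, rfl⟩ g
  refine ⟨g * e * g⁻¹, hconj g e he, g * u * g⁻¹, hu.conj hconj g, ?_⟩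
  group

theorem gen_conj_Esub (hD : IsThreeTranspositionSet D)
    (hconj : ∀ g : G, ∀ d ∈ D, g * d * g⁻¹ ∈ D) {d e u : G} (hd : d ∈ D) (he : e ∈ D)
    (hu : Veq D e u) : ∀ h ∈ Esub D d, (e * u) * h * (e * u)⁻¹ ∈ Esub D d := by
  intro h hh
  induction hh using Subgroup.closure_induction with
  | mem x hx =>
    obtain ⟨v, hv, rfl⟩ := hx
    have h1 := gen_conj_mem hD hconj he hu (Veq.refl hd)
    have h2 := gen_conj_mem hD hconj he hu hv
    have e1 : (e * u) * (d * v) * (e * u)⁻¹
        = (d * ((e * u) * d * (e * u)⁻¹))⁻¹ * (d * ((e * u) * v * (e * u)⁻¹)) := by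
      rw [mul_inv_rev d, inv_eq hD h1.1]; group
    rw [e1]
    exact Subgroup.mul_mem _ (Subgroup.inv_mem _ (mem_Esub h1)) (mem_Esub h2)
  | one => simp
  | mul a b _ _ ha hb =>
    have : (e * u) * (a * b) * (e * u)⁻¹
        = ((e * u) * a * (e * u)⁻¹) * ((e * u) * b * (e * u)⁻¹) := by group
    rw [this]; exact Subgroup.mul_mem _ ha hb
  | inv a _ ha =>
    have : (e * u) * a⁻¹ * (e * u)⁻¹ = ((e * u) * a * (e * u)⁻¹)⁻¹ := by group
    rw [this]; exact Subgroup.inv_mem _ ha

theorem Nsub_le_normalizer (hD : IsThreeTranspositionSet D)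
    (hconj : ∀ g : G, ∀ d ∈ D, g * d * g⁻¹ ∈ D) {d : G} (hd : d ∈ D) :
    Nsub D ≤ Subgroup.normalizer (Esub D d : Set G) := by
  unfold Nsub
  rw [Subgroup.closure_le]
  rintro s ⟨e, he, u, hu, rfl⟩
  rw [SetLike.mem_coe, Subgroup.mem_normalizer_iff]
  intro h
  constructor
  · exact gen_conj_Esub hD hconj hd he hu h
  · intro hh
    have := gen_conj_Esub hD hconj hd he hu _ hh
    have hss := gen_mul_self hD he hu
    have hsi := gen_inv hD he hu
    have e1 : (e * u) * ((e * u) * h * (e * u)⁻¹) * (e * u)⁻¹ = h := by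
      rw [hsi]
      calc e * u * (e * u * h * (e * u)) * (e * u)
          = (e * u * (e * u)) * h * (e * u * (e * u)) := by group
        _ = h := by rw [hss, one_mul, mul_one]
    rwa [e1] at this

theorem Esub_le_pCore [Finite G] (hD : IsThreeTranspositionSet D)
    (hconj : ∀ g : G, ∀ d ∈ D, g * d * g⁻¹ ∈ D) {d : G} (hd : d ∈ D) :
    Esub D d ≤ Cfsg.pCore 2 G := by
  have : Fact (Nat.Prime 2) := ⟨Nat.prime_two⟩
  apply Cfsg.Agent.Lib.Helper4_Subnormal.subnormal_pGroup_le_pCore _ _ (Esub_isPGroup hD hd)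
  exact Subgroup.IsSubnormal.step _ (Nsub D) (Esub_le_Nsub hd) (Nsub_normal hconj).isSubnormal
    ((Subgroup.normal_subgroupOf_iff_le_normalizer (Esub_le_Nsub hd)).mpr
      (Nsub_le_normalizer hD hconj hd))

/-- An element of a 2-group whose cube is trivial is trivial. -/
theorem eq_one_of_mem_two_group {Q : Subgroup G} (hQ : IsPGroup 2 Q) {x : G} (hx : x ∈ Q)
    (h3 : x ^ 3 = 1) : x = 1 := by
  obtain ⟨k, hk⟩ := hQ ⟨x, hx⟩
  have hk' : x ^ (2 ^ k) = 1 := by
    have := congrArg Subtype.val hk
    simpa using this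
  have h1 : orderOf x ∣ 2 ^ k := orderOf_dvd_of_pow_eq_one hk'
  have h2 : orderOf x ∣ 3 := orderOf_dvd_of_pow_eq_one h3
  have hco : Nat.Coprime (2 ^ k) 3 := Nat.Coprime.pow_left k (by norm_num)
  have := Nat.eq_one_of_dvd_coprimes hco h1 h2
  exact orderOf_eq_one_iff.mp this

/-- Members of `D` in the same coset of a normal 2-subgroup commute with the same members of `D`. -/
theorem commute_of_coset (hD : IsThreeTranspositionSet D) {Q : Subgroup G} (hQn : Q.Normal)
    (hQ : IsPGroup 2 Q) {a b e : G} (ha : a ∈ D) (hb : b ∈ D) (he : e ∈ D) (hab : a⁻¹ * b ∈ Q)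
    (hae : Commute a e) : Commute b e := by
  have hai := inv_eq hD ha
  have hbi := inv_eq hD hb
  have hei := inv_eq hD he
  rcases hD.2 e he b hb with h | h
  · have h' : e * b * (e * b) = 1 := by rwa [pow_two] at h
    have h2 : e * b = (e * b)⁻¹ := eq_inv_of_mul_eq_one_left h'
    rw [mul_inv_rev, hbi, hei] at h2
    exact h2.symm
  · -- (e b)^2 ∈ Q
    have hz : a * b ∈ Q := by rwa [hai] at hab
    have hsq : (e * b) * (e * b) ∈ Q := by
      have e1 : (e * b) * (e * b) = (a * (e * (a * b) * e⁻¹) * a⁻¹) * (a * b) := by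
        rw [hai, hei]
        calc e * b * (e * b) = (e * (a * a) * b * e) * ((a * a) * b) := by
              rw [mul_self hD ha]; group
          _ = (e * a) * (a * b * e) * (a * (a * b)) := by group
          _ = (a * e) * (a * b * e) * (a * (a * b)) := by rw [hae.eq]
          _ = a * (e * (a * b) * e) * a * (a * b) := by group
      rw [e1]
      exact Q.mul_mem (hQn.conj_mem _ (hQn.conj_mem _ hz e) a) hz
    have h' : (e * b) * (e * b) * (e * b) = 1 := by rwa [pow_succ, pow_two] at h
    have h2 : e * b = ((e * b) * (e * b))⁻¹ := eq_inv_of_mul_eq_one_right h'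
    have h3 : e * b ∈ Q := by rw [h2]; exact Q.inv_mem hsq
    have h4 := eq_one_of_mem_two_group hQ h3 h
    have h5 : b = e := by
      have : b = e⁻¹ := eq_inv_of_mul_eq_one_right h4
      rwa [hei] at this
    rw [h5]

/-- The word identity in `S₄`: with `d, v` commuting and `e` joined to both, conjugating `d` by
`e * ((d v) e (d v))` gives `v`. -/
theorem path_conj {d e v : G} (hdd : d * d = 1) (hee : e * e = 1) (hvv : v * v = 1)
    (hdv : d * v = v * d) (b1 : e * v * e = v * e * v) (b2 : e * d * e = d * e * d) :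
    e * (d * v * e * (d * v)) * d * (e * (d * v * e * (d * v))) = v := by
  have h_dvd : d * v * d = v := by rw [hdv, mul_assoc, hdd, mul_one]
  have h_vdv : v * d * v = d := by rw [← hdv, mul_assoc, hvv, mul_one]
  calc e * (d * v * e * (d * v)) * d * (e * (d * v * e * (d * v)))
      = e * d * v * e * (d * v * d) * e * d * v * e * d * v := by group
    _ = e * d * v * e * v * e * d * v * e * d * v := by rw [h_dvd]
    _ = e * d * v * (e * v * e) * d * v * e * d * v := by group
    _ = e * d * v * (v * e * v) * d * v * e * d * v := by rw [b1]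
    _ = e * d * (v * v) * e * (v * d * v) * e * d * v := by group
    _ = e * d * e * d * e * d * v := by rw [hvv, h_vdv]; group
    _ = (e * d * e) * d * e * d * v := by group
    _ = (d * e * d) * d * e * d * v := by rw [b2]
    _ = d * e * (d * d) * e * d * v := by group
    _ = d * (e * e) * d * v := by rw [hdd]; group
    _ = v := by rw [hee, mul_one, hdd, one_mul]

theorem conj_mem_of_class (hD : IsThreeTranspositionClass D) :
    ∀ g : G, ∀ x ∈ D, g * x * g⁻¹ ∈ D := by
  obtain ⟨_, ⟨d₀, _, hcls⟩, _⟩ := hD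
  intro g x hx
  rw [hcls] at hx ⊢
  have hx' : IsConj d₀ x := hx
  show IsConj d₀ (g * x * g⁻¹)
  exact hx'.trans (isConj_iff.mpr ⟨g, rfl⟩)

theorem isConj_of_class (hD : IsThreeTranspositionClass D) {a b : G} (ha : a ∈ D) (hb : b ∈ D) :
    IsConj a b := by
  obtain ⟨_, ⟨d₀, _, hcls⟩, _⟩ := hD
  rw [hcls] at ha hb
  have ha' : IsConj d₀ a := ha
  have hb' : IsConj d₀ b := hb
  exact ha'.symm.trans hb'

/-- In a class of 3-transpositions with at least two members, every member fails to commute with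
some member. -/
theorem exists_not_commute (hD : IsThreeTranspositionClass D) (hD2 : ∃ a ∈ D, ∃ b ∈ D, a ≠ b)
    {d : G} (hd : d ∈ D) : ∃ e ∈ D, ¬ Commute e d := by
  by_contra hno
  push Not at hno
  have hgen := hD.2.2
  have hcen : ∀ g : G, g * d = d * g := by
    have hle : Subgroup.closure D ≤ Subgroup.centralizer {d} := by
      rw [Subgroup.closure_le]
      intro e he
      rw [SetLike.mem_coe, Subgroup.mem_centralizer_iff]
      intro h hh
      rw [Set.mem_singleton_iff] at hh
      rw [hh]; exact (hno e he).eq.symm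
    intro g
    have hg : g ∈ Subgroup.centralizer {d} := hle (hgen ▸ Subgroup.mem_top g)
    rw [Subgroup.mem_centralizer_iff] at hg
    exact (hg d rfl).symm
  have hall : ∀ a ∈ D, a = d := by
    intro a ha
    obtain ⟨c, hc⟩ := isConj_iff.mp (isConj_of_class hD hd ha)
    rw [← hc, hcen c]; group
  obtain ⟨a, ha, b, hb, hab⟩ := hD2
  exact hab ((hall a ha).trans (hall b hb).symm)

end Cfsg.Agent.Lib.Helper8_ThreeTransp
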