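import Mathlib
import Cfsg.Prelude.Def_FischerSpaces
import Cfsg.Agent.Lib.Helper8_ThreeTransp

set_option autoImplicit false

/-! The line system of a set of 3-transpositions: lines through two points, partial linearity,
three points per line, and a criterion for the subspace spanned by two meeting lines to be
isomorphic to a given model line system. -/

namespace Cfsg.Agent.Lib.Helper8_TTLines

open Cfsg Cfsg.LineSystem Cfsg.Agent.Lib.Helper8_ThreeTransp

section iso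

variable {X Y : Type*}

theorem iso_range (L : Set (Set X)) (M : Set (Set Y)) (f : Y → X) (hinj : Function.Injective f)
    (hline : ∀ n ∈ L, n ⊆ Set.range f → ∃ k ∈ M, n = f '' k)
    (hM : ∀ k ∈ M, f '' k ∈ L) :
    Isomorphic (restrict L (Set.range f)) M := by
  let e := Equiv.ofInjective f hinj
  have he : ∀ y, ((e y : Set.range f) : X) = f y := fun y => rfl
  refine ⟨e.symm, fun l' => ⟨?_, ?_⟩⟩
  · rintro ⟨n, hn, hsub, rfl⟩
    obtain ⟨k, hk, rfl⟩ := hline n hn hsub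
    have : e.symm '' {x : Set.range f | (x : X) ∈ f '' k} = k := by
      ext z
      constructor
      · rintro ⟨x, ⟨y, hy, hyx⟩, rfl⟩
        have : e y = x := Subtype.ext hyx
        rw [← this, Equiv.symm_apply_apply]
        exact hy
      · intro hz
        exact ⟨e z, ⟨z, hz, rfl⟩, Equiv.symm_apply_apply e z⟩
    rw [this]; exact hk
  · intro h
    refine ⟨f '' (e.symm '' l'), hM _ h, Set.image_subset_range _ _, ?_⟩
    ext x
    constructor
    · intro hx
      exact ⟨e.symm x, ⟨x, hx, rfl⟩, by rw [← he, Equiv.apply_symm_apply]⟩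
    · rintro ⟨y, ⟨x', hx', rfl⟩, hyx⟩
      have : x' = x := by
        apply Subtype.ext
        rw [← hyx, ← he, Equiv.apply_symm_apply]
      rwa [← this]

theorem iso_of_param (L : Set (Set X)) (M : Set (Set Y)) (U : Set X) (f : Y → X)
    (hinj : Function.Injective f)
    (h2 : ∀ n ∈ L, ∃ p ∈ n, ∃ q ∈ n, p ≠ q)
    (hsub : U ⊆ Set.range f)
    (hline : ∀ n ∈ L, ∀ y y' : Y, y ≠ y' → f y ∈ n → f y' ∈ n → ∃ k ∈ M, n = f '' k)
    (hM : ∀ k ∈ M, f '' k ∈ L)
    (hmin : ∀ T, IsSubspace L T → U ⊆ T → Set.range f ⊆ T) :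
    Isomorphic (restrict L (span L U)) M := by
  have hsubsp : IsSubspace L (Set.range f) := by
    rintro n hn _ ⟨y, rfl⟩ _ ⟨y', rfl⟩ hne hy hy'
    obtain ⟨k, _, rfl⟩ := hline n hn y y' (fun h => hne (by rw [h])) hy hy'
    exact Set.image_subset_range _ _
  have hS : span L U = Set.range f := by
    apply Set.Subset.antisymm
    · exact Set.sInter_subset_of_mem ⟨hsub, hsubsp⟩
    · apply Set.subset_sInter
      rintro T ⟨hUT, hT⟩
      exact hmin T hT hUT
  rw [hS]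
  apply iso_range L M f hinj _ hM
  intro n hn hsubn
  obtain ⟨p, hp, q, hq, hpq⟩ := h2 n hn
  obtain ⟨y, rfl⟩ := hsubn hp
  obtain ⟨y', rfl⟩ := hsubn hq
  exact hline n hn y y' (fun h => hpq (by rw [h])) hp hq

end iso

section lines

variable {G : Type*} [Group G] {D : Set G}

/-- The line through `p` and `q`, as a set of points of `D`. -/
def Ln (D : Set G) (p q : G) : Set D :=
  {z : D | (z : G) = p ∨ (z : G) = q ∨ (z : G) = p * q * p}

theorem ne_of_not_commute {u v : G} (h : ¬ Commute u v) : u ≠ v :=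
  fun e => h (e ▸ Commute.refl u)

theorem mem_lines (hD : IsThreeTranspositionSet D) {l : Set D} :
    l ∈ threeTranspositionLines D ↔ ∃ p ∈ D, ∃ q ∈ D, ¬ Commute p q ∧ l = Ln D p q := by
  constructor
  · rintro ⟨x, y, hxy, rfl⟩
    refine ⟨x, x.2, y, y.2, hxy, ?_⟩
    ext z
    simp only [Ln, Set.mem_ofPred_eq]
    rw [inv_eq hD y.2, ← braid hD x.2 y.2 hxy]
  · rintro ⟨p, hp, q, hq, hpq, rfl⟩
    refine ⟨⟨p, hp⟩, ⟨q, hq⟩, hpq, ?_⟩
    ext z
    simp only [Ln, Set.mem_ofPred_eq]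
    rw [inv_eq hD hq, ← braid hD hp hq hpq]

/-- `p`, `q` are non-commuting members of `D`. -/
def Good (D : Set G) (p q : G) : Prop := p ∈ D ∧ q ∈ D ∧ ¬ Commute p q

theorem third_mem (hD : IsThreeTranspositionSet D) (hconj : ∀ g : G, ∀ d ∈ D, g * d * g⁻¹ ∈ D)
    {p q : G} (hp : p ∈ D) (hq : q ∈ D) : p * q * p ∈ D := by
  have := hconj p q hq
  rwa [inv_eq hD hp] at this

theorem good_symm (hD : IsThreeTranspositionSet D) {p q : G} (h : Good D p q) :
    Good D q p ∧ Ln D q p = Ln D p q := by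
  obtain ⟨hp, hq, hpq⟩ := h
  refine ⟨⟨hq, hp, fun h => hpq h.symm⟩, ?_⟩
  ext z
  simp only [Ln, Set.mem_ofPred_eq]
  rw [braid hD hp hq hpq]
  tauto

theorem good_cycle (hD : IsThreeTranspositionSet D) (hconj : ∀ g : G, ∀ d ∈ D, g * d * g⁻¹ ∈ D)
    {p q : G} (h : Good D p q) :
    Good D q (p * q * p) ∧ Ln D q (p * q * p) = Ln D p q ∧ q * (p * q * p) * q = p := by
  obtain ⟨hp, hq, hpq⟩ := h
  have hbr := braid hD hp hq hpq
  have hpp := mul_self hD hp
  have hqq := mul_self hD hq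
  have ht : q * (p * q * p) * q = p := by
    calc q * (p * q * p) * q = (q * p * q) * (p * q) := by simp only [mul_assoc]
      _ = (p * q * p) * (p * q) := by rw [hbr]
      _ = p * q * (p * p) * q := by simp only [mul_assoc]
      _ = p := by rw [hpp, mul_one, mul_assoc, hqq, mul_one]
  refine ⟨⟨hq, third_mem hD hconj hp hq, ?_⟩, ?_, ht⟩
  · intro hc
    apply hpq
    have e1 : q * (p * q * p) = p * q := by
      calc q * (p * q * p) = (q * p * q) * p := by simp only [mul_assoc]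
        _ = (p * q * p) * p := by rw [hbr]
        _ = p * q * (p * p) := by simp only [mul_assoc]
        _ = p * q := by rw [hpp, mul_one]
    have e2 : (p * q * p) * q = q * p := by
      calc (p * q * p) * q = (q * p * q) * q := by rw [hbr]
        _ = q * p * (q * q) := by simp only [mul_assoc]
        _ = q * p := by rw [hqq, mul_one]
    have := hc.eq
    rw [e1, e2] at this
    exact this
  · ext z
    simp only [Ln, Set.mem_ofPred_eq]
    rw [ht]
    tauto

theorem line_of_two (hD : IsThreeTranspositionSet D) (hconj : ∀ g : G, ∀ d ∈ D, g * d * g⁻¹ ∈ D)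
    {l : Set D} (hl : l ∈ threeTranspositionLines D) {u v : D} (hu : u ∈ l) (hv : v ∈ l)
    (huv : u ≠ v) : ¬ Commute (u : G) (v : G) ∧ l = Ln D u v := by
  obtain ⟨p, hp, q, hq, hpq, rfl⟩ := (mem_lines hD).mp hl
  have g0 : Good D p q := ⟨hp, hq, hpq⟩
  obtain ⟨g1, e1, t1⟩ := good_cycle hD hconj g0
  obtain ⟨g2, e2, t2⟩ := good_cycle hD hconj g1
  rw [t1] at g2 e2
  have huv' : (u : G) ≠ v := fun h => huv (Subtype.ext h)
  rcases hu with hu | hu | hu <;> rcases hv with hv | hv | hv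
  · exact absurd (hu.trans hv.symm) huv'
  · rw [hu, hv]; exact ⟨hpq, rfl⟩
  · rw [hu, hv]
    obtain ⟨g3, e3⟩ := good_symm hD g2
    exact ⟨g3.2.2, by rw [e3, e2, e1]⟩
  · rw [hu, hv]
    obtain ⟨g3, e3⟩ := good_symm hD g0
    exact ⟨g3.2.2, e3.symm⟩
  · exact absurd (hu.trans hv.symm) huv'
  · rw [hu, hv]; exact ⟨g1.2.2, e1.symm⟩
  · rw [hu, hv]; exact ⟨g2.2.2, by rw [e2, e1]⟩
  · rw [hu, hv]
    obtain ⟨g3, e3⟩ := good_symm hD g1
    exact ⟨g3.2.2, by rw [e3, e1]⟩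
  · exact absurd (hu.trans hv.symm) huv'

theorem pl (hD : IsThreeTranspositionSet D) (hconj : ∀ g : G, ∀ d ∈ D, g * d * g⁻¹ ∈ D) :
    IsPartialLinear (threeTranspositionLines D) := by
  intro l hl m hm x y hxy hxl hyl hxm hym
  rw [(line_of_two hD hconj hl hxl hyl hxy).2, (line_of_two hD hconj hm hxm hym hxy).2]

theorem third_ne (hD : IsThreeTranspositionSet D) (hconj : ∀ g : G, ∀ d ∈ D, g * d * g⁻¹ ∈ D)
    {p q : G} (h : Good D p q) : p * q * p ≠ p ∧ p * q * p ≠ q := by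
  obtain ⟨g1, _, t1⟩ := good_cycle hD hconj h
  obtain ⟨g2, _, _⟩ := good_cycle hD hconj g1
  rw [t1] at g2
  exact ⟨ne_of_not_commute g2.2.2, (ne_of_not_commute g1.2.2).symm⟩

theorem three (hD : IsThreeTranspositionSet D) (hconj : ∀ g : G, ∀ d ∈ D, g * d * g⁻¹ ∈ D) :
    ∀ l ∈ threeTranspositionLines D, l.ncard = 3 := by
  intro l hl
  obtain ⟨p, hp, q, hq, hpq, rfl⟩ := (mem_lines hD).mp hl
  have g0 : Good D p q := ⟨hp, hq, hpq⟩
  obtain ⟨n1, n2⟩ := third_ne hD hconj g0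
  have hr := third_mem hD hconj hp hq
  rw [Set.ncard_eq_three]
  refine ⟨⟨p, hp⟩, ⟨q, hq⟩, ⟨p * q * p, hr⟩, ?_, ?_, ?_, ?_⟩
  · intro h; exact ne_of_not_commute hpq (congrArg Subtype.val h)
  · intro h; exact n1 (congrArg Subtype.val h).symm
  · intro h; exact n2 (congrArg Subtype.val h).symm
  · ext z
    simp only [Ln, Set.mem_ofPred_eq, Set.mem_insert_iff, Set.mem_singleton_iff, Subtype.ext_iff]

theorem exists_other (hD : IsThreeTranspositionSet D)
    (hconj : ∀ g : G, ∀ d ∈ D, g * d * g⁻¹ ∈ D) {l : Set D}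
    (hl : l ∈ threeTranspositionLines D) (z : D) : ∃ b ∈ l, b ≠ z := by
  have h3 := three hD hconj l hl
  exact Set.exists_ne_of_one_lt_ncard (by rw [h3]; norm_num) z

theorem image_triple {Y : Type*} (fG : Y → G) (hf : ∀ s, fG s ∈ D) {s t r : Y}
    (hr : fG s * fG t * fG s = fG r) :
    (fun s => (⟨fG s, hf s⟩ : D)) '' {u | u = s ∨ u = t ∨ u = r} = Ln D (fG s) (fG t) := by
  ext z
  constructor
  · rintro ⟨u, (rfl | rfl | rfl), rfl⟩
    · exact Or.inl rfl
    · exact Or.inr (Or.inl rfl)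
    · exact Or.inr (Or.inr hr.symm)
  · rintro (h | h | h)
    · exact ⟨s, Or.inl rfl, Subtype.ext h.symm⟩
    · exact ⟨t, Or.inr (Or.inl rfl), Subtype.ext h.symm⟩
    · exact ⟨r, Or.inr (Or.inr rfl), Subtype.ext (h.trans hr).symm⟩

/-- Criterion: the subspace spanned by two lines through `a` is isomorphic to the model `M`. -/
theorem iso_of_star (hD : IsThreeTranspositionSet D) (hconj : ∀ g : G, ∀ d ∈ D, g * d * g⁻¹ ∈ D)
    {Y : Type*} (M : Set (Set Y)) (fG : Y → G) (hf : ∀ s, fG s ∈ D) {a b c : G}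
    (ha : a ∈ D) (hb : b ∈ D) (hc : c ∈ D)
    (h1 : ∀ s t, s ≠ t → (Commute (fG s) (fG t) ∧ fG s ≠ fG t) ∨
        (¬ Commute (fG s) (fG t) ∧
          ∃ r, fG s * fG t * fG s = fG r ∧ {u | u = s ∨ u = t ∨ u = r} ∈ M))
    (h3 : ∀ k ∈ M, ∃ s t r, ¬ Commute (fG s) (fG t) ∧ fG s * fG t * fG s = fG r ∧
        k = {u | u = s ∨ u = t ∨ u = r})
    (hU : ∀ p ∈ ({a, b, a * b * a, c, a * c * a} : Set G), ∃ s, fG s = p)
    (hmin : ∀ T : Set G,
        (∀ p ∈ D, ∀ q ∈ D, p ∈ T → q ∈ T → ¬ Commute p q → p * q * p ∈ T) →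
        ({a, b, a * b * a, c, a * c * a} : Set G) ⊆ T → ∀ s, fG s ∈ T) :
    Isomorphic (restrict (threeTranspositionLines D)
      (span (threeTranspositionLines D) (Ln D a b ∪ Ln D a c))) M := by
  have hinj : Function.Injective (fun s => (⟨fG s, hf s⟩ : D)) := by
    intro s t hst
    by_contra hne
    have e : fG s = fG t := congrArg Subtype.val hst
    rcases h1 s t hne with ⟨_, h⟩ | ⟨h, _⟩
    · exact h e
    · rw [e] at h; exact h (Commute.refl _)
  apply iso_of_param _ M _ (fun s => (⟨fG s, hf s⟩ : D)) hinj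
  · intro n hn
    obtain ⟨p, hp, q, hq, hpq, rfl⟩ := (mem_lines hD).mp hn
    exact ⟨⟨p, hp⟩, Or.inl rfl, ⟨q, hq⟩, Or.inr (Or.inl rfl),
      fun h => ne_of_not_commute hpq (congrArg Subtype.val h)⟩
  · rintro z (hz | hz)
    · obtain ⟨s, hs⟩ := hU z.val (by
        rcases hz with h | h | h <;> rw [h] <;> simp)
      exact ⟨s, Subtype.ext hs⟩
    · obtain ⟨s, hs⟩ := hU z.val (by
        rcases hz with h | h | h <;> rw [h] <;> simp)
      exact ⟨s, Subtype.ext hs⟩
  · intro n hn s t hst hs ht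
    have hne : (⟨fG s, hf s⟩ : D) ≠ ⟨fG t, hf t⟩ := fun h => hst (hinj h)
    obtain ⟨hnc, rfl⟩ := line_of_two hD hconj hn hs ht hne
    rcases h1 s t hst with ⟨hc, _⟩ | ⟨_, r, hr, hk⟩
    · exact absurd hc hnc
    · exact ⟨_, hk, (image_triple fG hf hr).symm⟩
  · intro k hk
    obtain ⟨s, t, r, hnc, hr, rfl⟩ := h3 k hk
    rw [image_triple fG hf hr, mem_lines hD]
    exact ⟨fG s, hf s, fG t, hf t, hnc, rfl⟩
  · intro T hT hUT
    rintro _ ⟨s, rfl⟩
    have key := hmin (Subtype.val '' T) ?_ ?_ s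
    · obtain ⟨z, hz, hzs⟩ := key
      have : z = ⟨fG s, hf s⟩ := Subtype.ext hzs
      show (⟨fG s, hf s⟩ : D) ∈ T
      rwa [← this]
    · rintro p hp q hq ⟨zp, hzp, rfl⟩ ⟨zq, hzq, rfl⟩ hnc
      have hline : Ln D (zp : G) (zq : G) ∈ threeTranspositionLines D :=
        (mem_lines hD).mpr ⟨zp, hp, zq, hq, hnc, rfl⟩
      have hsub := hT _ hline zp hzp zq hzq
        (fun h => ne_of_not_commute hnc (congrArg Subtype.val h))
        (Or.inl rfl) (Or.inr (Or.inl rfl))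
      have hr := third_mem hD hconj hp hq
      exact ⟨⟨(zp : G) * zq * zp, hr⟩, hsub (Or.inr (Or.inr rfl)), rfl⟩
    · intro g hg
      simp only [Set.mem_insert_iff, Set.mem_singleton_iff] at hg
      rcases hg with rfl | rfl | rfl | rfl | rfl
      · exact ⟨⟨_, ha⟩, hUT (Or.inl (Or.inl rfl)), rfl⟩
      · exact ⟨⟨_, hb⟩, hUT (Or.inl (Or.inr (Or.inl rfl))), rfl⟩
      · exact ⟨⟨_, third_mem hD hconj ha hb⟩, hUT (Or.inl (Or.inr (Or.inr rfl))), rfl⟩
      · exact ⟨⟨_, hc⟩, hUT (Or.inr (Or.inr (Or.inl rfl))), rfl⟩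
      · exact ⟨⟨_, third_mem hD hconj ha hc⟩, hUT (Or.inr (Or.inr (Or.inr rfl))), rfl⟩

end lines

end Cfsg.Agent.Lib.Helper8_TTLines
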