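import Mathlib
import Cfsg.Prelude.Def_FischerSpaces
import Cfsg.Agent.Lib.Helper8_ThreeTransp
import Cfsg.Agent.Lib.Helper8_FischerModels
import Cfsg.Agent.Lib.Helper8_TTLines

set_option autoImplicit false

/-! Two lines `{a, b, aba}`, `{a, c, aca}` of a set of 3-transpositions such that neither `b` nor
`aba` commutes with `c` span an affine plane of order three. -/

namespace Cfsg.Agent.Lib.Helper8_TTAffine

open Cfsg Cfsg.LineSystem Cfsg.Agent.Lib.Helper8_ThreeTransp Cfsg.Agent.Lib.Helper8_TTLines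
open Cfsg.Agent.Lib.Helper8_FischerModels

variable {G : Type*} [Group G]

theorem sq_eq_inv_of_cube {g : G} (h : g ^ 3 = 1) : g * g = g⁻¹ := by
  rw [pow_succ, pow_two] at h
  exact eq_inv_of_mul_eq_one_left h

theorem commute_conj_of_cubes {x y : G} (hy : y ^ 3 = 1) (h1 : (x * y) ^ 3 = 1)
    (h2 : (x * y⁻¹) ^ 3 = 1) : Commute x (y⁻¹ * x * y) := by
  have e1 := sq_eq_inv_of_cube hy
  have e2 := sq_eq_inv_of_cube h1
  have e3 := sq_eq_inv_of_cube h2
  have l : x * (y⁻¹ * x * y) = y * x⁻¹ * y⁻¹ := by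
    calc x * (y⁻¹ * x * y) = (x * y⁻¹ * (x * y⁻¹)) * (y * y) := by group
      _ = (x * y⁻¹)⁻¹ * y⁻¹ := by rw [e3, e1]
      _ = y * x⁻¹ * y⁻¹ := by group
  have r : y⁻¹ * x * y * x = y * x⁻¹ * y⁻¹ := by
    calc y⁻¹ * x * y * x = y⁻¹ * (x * y * (x * y)) * y⁻¹ := by group
      _ = y⁻¹ * (x * y)⁻¹ * y⁻¹ := by rw [e2]
      _ = (y * y)⁻¹ * x⁻¹ * y⁻¹ := by group
      _ = y * x⁻¹ * y⁻¹ := by rw [e1, inv_inv]
  show x * (y⁻¹ * x * y) = y⁻¹ * x * y * x
  exact l.trans r.symm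

/-- The relations of the Burnside group `B(2,3)`. -/
structure Exp3 (x y : G) : Prop where
  hx : x ^ 3 = 1
  hy : y ^ 3 = 1
  hxy : (x * y) ^ 3 = 1
  hxy' : (x * y⁻¹) ^ 3 = 1

/-- The commutator `y⁻¹ x⁻¹ y x`. -/
def W (x y : G) : G := y⁻¹ * x⁻¹ * y * x

theorem yx_eq (x y : G) : y * x = x * y * W x y := by unfold W; group

theorem Exp3.comm_x {x y : G} (h : Exp3 x y) : Commute x (W x y) := by
  have h1 := commute_conj_of_cubes h.hy h.hxy h.hxy'
  have h2 : Commute x (y⁻¹ * x⁻¹ * y) := by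
    have := h1.inv_right
    have e : (y⁻¹ * x * y)⁻¹ = y⁻¹ * x⁻¹ * y := by group
    rwa [e] at this
  unfold W
  exact h2.mul_right (Commute.refl x)

theorem Exp3.comm_y {x y : G} (h : Exp3 x y) : Commute y (W x y) := by
  have hyx : (y * x) ^ 3 = 1 := by
    have e : y * x = x⁻¹ * (x * y) * (x⁻¹)⁻¹ := by group
    rw [e, conj_pow, h.hxy]; group
  have hyx' : (y * x⁻¹) ^ 3 = 1 := by
    have e : y * x⁻¹ = (x * y⁻¹)⁻¹ := by group
    rw [e, inv_pow, h.hxy', inv_one]
  have h1 := commute_conj_of_cubes h.hx hyx hyx'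
  have e : W x y = y⁻¹ * (x⁻¹ * y * x) := by unfold W; group
  rw [e]
  exact ((Commute.refl y).inv_right).mul_right h1

theorem Exp3.comm_a {a x y : G} (h : Exp3 x y) (hax : a * x * a⁻¹ = x⁻¹)
    (hay : a * y * a⁻¹ = y⁻¹) : Commute a (W x y) := by
  have e1 : a * W x y * a⁻¹
      = (a * y * a⁻¹)⁻¹ * (a * x * a⁻¹)⁻¹ * (a * y * a⁻¹) * (a * x * a⁻¹) := by
    unfold W; group
  rw [hax, hay, inv_inv, inv_inv] at e1
  have hW : Commute (W x y) (x * y) := (h.comm_x.symm).mul_right h.comm_y.symm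
  have e2 : y * x * y⁻¹ * x⁻¹ = W x y := by
    calc y * x * y⁻¹ * x⁻¹ = (x * y * W x y) * y⁻¹ * x⁻¹ := by rw [← yx_eq]
      _ = (W x y * (x * y)) * y⁻¹ * x⁻¹ := by rw [hW.eq]
      _ = W x y := by group
  rw [e2] at e1
  exact mul_inv_eq_iff_eq_mul.mp e1

/-- The point with coordinates `(i, j)`. -/
def P (a x y : G) (i j : ℤ) : G := x ^ i * y ^ j * a * (x ^ i * y ^ j)⁻¹

theorem P_tx (a x y : G) (k i j : ℤ) :
    x ^ k * P a x y i j * (x ^ k)⁻¹ = P a x y (k + i) j := by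
  unfold P; rw [zpow_add]; group

theorem P_ty {a x y : G} (h : Exp3 x y) (hax : a * x * a⁻¹ = x⁻¹) (hay : a * y * a⁻¹ = y⁻¹)
    (i j : ℤ) : y * P a x y i j * y⁻¹ = P a x y i (j + 1) := by
  have hWa : Commute (W x y ^ i) a := ((h.comm_a hax hay).symm).zpow_left i
  have hWy : Commute (W x y ^ i) (y ^ (j + 1)) :=
    ((h.comm_y.symm).zpow_left i).zpow_right (j + 1)
  have hs : SemiconjBy y x (x * W x y) := by
    show y * x = x * W x y * y
    rw [yx_eq x y, mul_assoc, mul_assoc, h.comm_y.eq]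
  have hsi : y * x ^ i = x ^ i * W x y ^ i * y := by
    have := (hs.zpow_right i).eq
    rwa [h.comm_x.mul_zpow] at this
  have key : y * (x ^ i * y ^ j) = x ^ i * y ^ (j + 1) * W x y ^ i := by
    calc y * (x ^ i * y ^ j) = (y * x ^ i) * y ^ j := by rw [mul_assoc]
      _ = (x ^ i * W x y ^ i * y) * y ^ j := by rw [hsi]
      _ = x ^ i * (W x y ^ i * y ^ (j + 1)) := by group
      _ = x ^ i * (y ^ (j + 1) * W x y ^ i) := by rw [hWy.eq]
      _ = x ^ i * y ^ (j + 1) * W x y ^ i := by rw [mul_assoc]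
  unfold P
  calc y * (x ^ i * y ^ j * a * (x ^ i * y ^ j)⁻¹) * y⁻¹
      = (y * (x ^ i * y ^ j)) * a * (y * (x ^ i * y ^ j))⁻¹ := by group
    _ = (x ^ i * y ^ (j + 1) * W x y ^ i) * a * (x ^ i * y ^ (j + 1) * W x y ^ i)⁻¹ := by
        rw [key]
    _ = x ^ i * y ^ (j + 1) * (W x y ^ i * a) * (W x y ^ i)⁻¹ * (x ^ i * y ^ (j + 1))⁻¹ := by
        group
    _ = x ^ i * y ^ (j + 1) * (a * W x y ^ i) * (W x y ^ i)⁻¹ * (x ^ i * y ^ (j + 1))⁻¹ := by
        rw [hWa.eq]
    _ = x ^ i * y ^ (j + 1) * a * (x ^ i * y ^ (j + 1))⁻¹ := by group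

theorem P_tyl {a x y : G} (h : Exp3 x y) (hax : a * x * a⁻¹ = x⁻¹) (hay : a * y * a⁻¹ = y⁻¹)
    (i j l : ℤ) : y ^ l * P a x y i j * (y ^ l)⁻¹ = P a x y i (j + l) := by
  refine Int.induction_on
    (motive := fun l => y ^ l * P a x y i j * (y ^ l)⁻¹ = P a x y i (j + l)) l ?_ ?_ ?_
  · simp
  · intro l ih
    calc y ^ ((l : ℤ) + 1) * P a x y i j * (y ^ ((l : ℤ) + 1))⁻¹
        = y * (y ^ (l : ℤ) * P a x y i j * (y ^ (l : ℤ))⁻¹) * y⁻¹ := by group
      _ = y * P a x y i (j + l) * y⁻¹ := by rw [ih]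
      _ = P a x y i (j + l + 1) := P_ty h hax hay i (j + l)
      _ = P a x y i (j + (l + 1)) := by rw [add_assoc]
  · intro l ih
    have h1 := P_ty h hax hay i (j + (-(l : ℤ) - 1))
    have e : j + (-(l : ℤ) - 1) + 1 = j + -(l : ℤ) := by ring
    rw [e] at h1
    calc y ^ (-(l : ℤ) - 1) * P a x y i j * (y ^ (-(l : ℤ) - 1))⁻¹
        = y⁻¹ * (y ^ (-(l : ℤ)) * P a x y i j * (y ^ (-(l : ℤ)))⁻¹) * y := by group
      _ = y⁻¹ * P a x y i (j + -(l : ℤ)) * y := by rw [ih]
      _ = y⁻¹ * (y * P a x y i (j + (-(l : ℤ) - 1)) * y⁻¹) * y := by rw [h1]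
      _ = P a x y i (j + (-(l : ℤ) - 1)) := by group

theorem P_trans {a x y : G} (h : Exp3 x y) (hax : a * x * a⁻¹ = x⁻¹) (hay : a * y * a⁻¹ = y⁻¹)
    (k l i j : ℤ) :
    (x ^ k * y ^ l) * P a x y i j * (x ^ k * y ^ l)⁻¹ = P a x y (k + i) (j + l) := by
  calc (x ^ k * y ^ l) * P a x y i j * (x ^ k * y ^ l)⁻¹
      = x ^ k * (y ^ l * P a x y i j * (y ^ l)⁻¹) * (x ^ k)⁻¹ := by group
    _ = x ^ k * P a x y i (j + l) * (x ^ k)⁻¹ := by rw [P_tyl h hax hay]
    _ = P a x y (k + i) (j + l) := P_tx a x y k i (j + l)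

theorem P_inv {a x y : G} (hax : a * x * a⁻¹ = x⁻¹) (hay : a * y * a⁻¹ = y⁻¹) (i j : ℤ) :
    a * P a x y i j * a⁻¹ = P a x y (-i) (-j) := by
  have e : a * (x ^ i * y ^ j) * a⁻¹ = x ^ (-i) * y ^ (-j) := by
    calc a * (x ^ i * y ^ j) * a⁻¹ = (a * x ^ i * a⁻¹) * (a * y ^ j * a⁻¹) := by group
      _ = (a * x * a⁻¹) ^ i * (a * y * a⁻¹) ^ j := by rw [conj_zpow, conj_zpow]
      _ = x ^ (-i) * y ^ (-j) := by rw [hax, hay, inv_zpow', inv_zpow']
  unfold P
  calc a * (x ^ i * y ^ j * a * (x ^ i * y ^ j)⁻¹) * a⁻¹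
      = (a * (x ^ i * y ^ j) * a⁻¹) * a * (a * (x ^ i * y ^ j) * a⁻¹)⁻¹ := by group
    _ = x ^ (-i) * y ^ (-j) * a * (x ^ (-i) * y ^ (-j))⁻¹ := by rw [e]

theorem zpow_cong {g : G} (hg : g ^ 3 = 1) {i i' : ℤ} (h : (i : ZMod 3) = (i' : ZMod 3)) :
    g ^ i = g ^ i' := by
  obtain ⟨k, hk⟩ := (ZMod.intCast_eq_intCast_iff_dvd_sub i i' 3).mp h
  have e : i' = i + 3 * k := by push_cast at hk; linarith
  have h3 : g ^ (3 : ℤ) = 1 := by
    have := zpow_natCast g 3
    rw [hg] at this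
    exact_mod_cast this
  rw [e, zpow_add, zpow_mul, h3, one_zpow, mul_one]

theorem P_cong {a x y : G} (h : Exp3 x y) {i i' j j' : ℤ} (hi : (i : ZMod 3) = (i' : ZMod 3))
    (hj : (j : ZMod 3) = (j' : ZMod 3)) : P a x y i j = P a x y i' j' := by
  unfold P; rw [zpow_cong h.hx hi, zpow_cong h.hy hj]

theorem cube_of_braid {p q : G} (hp : p * p = 1) (hq : q * q = 1)
    (hpq : p * q * p = q * p * q) : (p * q) ^ 3 = 1 := by
  calc (p * q) ^ 3 = (p * q * p) * (q * p * q) := by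
        rw [pow_succ, pow_two]; simp only [mul_assoc]
    _ = (p * q * p) * (p * q * p) := by rw [← hpq]
    _ = p * q * (p * p) * q * p := by simp only [mul_assoc]
    _ = 1 := by rw [hp, mul_one, mul_assoc p q q, hq, mul_one, hp]

theorem conj_ab {a b : G} (ha : a * a = 1) (hb : b * b = 1) (hab : a * b * a = b * a * b) :
    (a * b) * a * (a * b)⁻¹ = b := by
  have ia : a⁻¹ = a := inv_eq_of_mul_eq_one_left ha
  have ib : b⁻¹ = b := inv_eq_of_mul_eq_one_left hb
  rw [mul_inv_rev, ia, ib]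
  calc a * b * a * (b * a) = (a * b * a) * b * a := by simp only [mul_assoc]
    _ = (b * a * b) * b * a := by rw [hab]
    _ = b * a * (b * b) * a := by simp only [mul_assoc]
    _ = b := by rw [hb, mul_one, mul_assoc, ha, mul_one]

theorem conj_ab' {a b : G} (ha : a * a = 1) (hb : b * b = 1) (hab : a * b * a = b * a * b) :
    (a * b)⁻¹ * a * (a * b) = a * b * a := by
  have ia : a⁻¹ = a := inv_eq_of_mul_eq_one_left ha
  have ib : b⁻¹ = b := inv_eq_of_mul_eq_one_left hb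
  rw [mul_inv_rev, ia, ib]
  calc b * a * a * (a * b) = b * (a * a) * a * b := by simp only [mul_assoc]
    _ = b * a * b := by rw [ha, mul_one]
    _ = a * b * a := hab.symm

/-- A section of the reduction map from the integers to the integers modulo three. -/
def sec (s : ZMod 3) : ℤ := if s = 0 then 0 else if s = 1 then 1 else -1

theorem sec_cast : ∀ s : ZMod 3, ((sec s : ℤ) : ZMod 3) = s := by decide

theorem sec_zero : sec 0 = 0 := by decide
theorem sec_one : sec 1 = 1 := by decide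
theorem sec_two : sec 2 = -1 := by decide

/-- The configuration: involutions `a`, `b`, `c` with braid relations between `a, b`, `a, c`,
`b, c` and `aba, c`, none of these pairs commuting. -/
structure Cfg (a b c : G) : Prop where
  ha : a * a = 1
  hb : b * b = 1
  hc : c * c = 1
  hab : a * b * a = b * a * b
  hac : a * c * a = c * a * c
  hbc : b * c * b = c * b * c
  hbc' : (a * b * a) * c * (a * b * a) = c * (a * b * a) * c
  nab : ¬ Commute a b
  nac : ¬ Commute a c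
  nbc : ¬ Commute b c
  nbc' : ¬ Commute (a * b * a) c

namespace Cfg

variable {a b c : G}

theorem inv_a (h : Cfg a b c) : a⁻¹ = a := inv_eq_of_mul_eq_one_left h.ha
theorem inv_b (h : Cfg a b c) : b⁻¹ = b := inv_eq_of_mul_eq_one_left h.hb
theorem inv_c (h : Cfg a b c) : c⁻¹ = c := inv_eq_of_mul_eq_one_left h.hc

theorem caa (h : Cfg a b c) (g : G) : a * (a * g) = g := by rw [← mul_assoc, h.ha, one_mul]

theorem exp3 (h : Cfg a b c) : Exp3 (a * b) (a * c) := by
  have hbb' : (a * b * a) * (a * b * a) = 1 := by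
    calc (a * b * a) * (a * b * a) = a * b * (a * a) * b * a := by simp only [mul_assoc]
      _ = 1 := by rw [h.ha, mul_one, mul_assoc a b b, h.hb, mul_one, h.ha]
  refine ⟨cube_of_braid h.ha h.hb h.hab, cube_of_braid h.ha h.hc h.hac, ?_, ?_⟩
  · have e : a * b * (a * c) = (a * b * a) * c := by simp only [mul_assoc]
    rw [e]
    exact cube_of_braid hbb' h.hc h.hbc'
  · have e : a * b * (a * c)⁻¹ = a * (b * c) * a⁻¹ := by
      rw [mul_inv_rev, h.inv_c, h.inv_a]; simp only [mul_assoc]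
    rw [e, conj_pow, cube_of_braid h.hb h.hc h.hbc, mul_one, mul_inv_cancel]

theorem conj_x (h : Cfg a b c) : a * (a * b) * a⁻¹ = (a * b)⁻¹ := by
  rw [mul_inv_rev, h.inv_a, h.inv_b, ← mul_assoc, h.ha, one_mul]

theorem conj_y (h : Cfg a b c) : a * (a * c) * a⁻¹ = (a * c)⁻¹ := by
  rw [mul_inv_rev, h.inv_a, h.inv_c, ← mul_assoc, h.ha, one_mul]

theorem P00 (h : Cfg a b c) : P a (a * b) (a * c) 0 0 = a := by simp [P]

theorem P10 (h : Cfg a b c) : P a (a * b) (a * c) 1 0 = b := by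
  simp only [P, zpow_one, zpow_zero, mul_one]
  exact conj_ab h.ha h.hb h.hab

theorem Pm10 (h : Cfg a b c) : P a (a * b) (a * c) (-1) 0 = a * b * a := by
  simp only [P, zpow_neg, zpow_one, zpow_zero, mul_one, inv_inv]
  exact conj_ab' h.ha h.hb h.hab

theorem P01 (h : Cfg a b c) : P a (a * b) (a * c) 0 1 = c := by
  simp only [P, zpow_one, zpow_zero, one_mul]
  exact conj_ab h.ha h.hc h.hac

theorem P0m1 (h : Cfg a b c) : P a (a * b) (a * c) 0 (-1) = a * c * a := by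
  simp only [P, zpow_neg, zpow_one, zpow_zero, one_mul, inv_inv]
  exact conj_ab' h.ha h.hc h.hac

theorem comm_conj_a (h : Cfg a b c) {u v : G} :
    Commute (a * u * a) (a * v * a) ↔ Commute u v := by
  have := Commute.conj_iff (a := u) (b := v) a
  rwa [h.inv_a] at this

theorem nc_a_conj (h : Cfg a b c) {u : G} (hu : ¬ Commute a u) : ¬ Commute a (a * u * a) := by
  intro hc
  apply hu
  have e : a * a * a = a := by rw [h.ha, one_mul]
  have hc' : Commute (a * a * a) (a * u * a) := by rw [e]; exact hc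
  exact h.comm_conj_a.mp hc'

theorem key_step (h : Cfg a b c) (i j : ℤ)
    (hc : Commute a (P a (a * b) (a * c) i j)) :
    Commute (P a (a * b) (a * c) (-i) 0) (P a (a * b) (a * c) 0 j) := by
  have h1 : (a * b) ^ (-i) * a * ((a * b) ^ (-i))⁻¹ = P a (a * b) (a * c) (-i) 0 := by
    simp only [P, zpow_zero, mul_one]
  have h2 : (a * b) ^ (-i) * P a (a * b) (a * c) i j * ((a * b) ^ (-i))⁻¹
      = P a (a * b) (a * c) 0 j := by
    rw [P_tx, neg_add_cancel]
  rw [← h1, ← h2]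
  exact (Commute.conj_iff _).mpr hc

theorem not_comm_a (h : Cfg a b c) (s t : ZMod 3) (hst : ¬ (s = 0 ∧ t = 0)) :
    ¬ Commute a (P a (a * b) (a * c) (sec s) (sec t)) := by
  have h3 : ∀ s : ZMod 3, s = 0 ∨ s = 1 ∨ s = 2 := by decide
  have e1 : a * (a * c * a) * a = c := by
    simp only [mul_assoc, h.ha, mul_one, h.caa]
  rcases h3 s with rfl | rfl | rfl
  · rcases h3 t with rfl | rfl | rfl
    · exact absurd ⟨rfl, rfl⟩ hst
    · rw [sec_zero, sec_one, h.P01]; exact h.nac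
    · rw [sec_zero, sec_two, h.P0m1]; exact h.nc_a_conj h.nac
  · intro hc
    have hk := h.key_step _ _ hc
    rw [sec_one, h.Pm10] at hk
    rcases h3 t with rfl | rfl | rfl
    · rw [sec_zero, h.P00] at hk
      exact h.nc_a_conj h.nab hk.symm
    · rw [sec_one, h.P01] at hk
      exact h.nbc' hk
    · rw [sec_two, h.P0m1] at hk
      exact h.nbc (h.comm_conj_a.mp hk)
  · intro hc
    have hk := h.key_step _ _ hc
    rw [sec_two, neg_neg, h.P10] at hk
    rcases h3 t with rfl | rfl | rfl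
    · rw [sec_zero, h.P00] at hk
      exact h.nab hk.symm
    · rw [sec_one, h.P01] at hk
      exact h.nbc hk
    · rw [sec_two, h.P0m1] at hk
      apply h.nbc'
      have := h.comm_conj_a.mpr hk
      rwa [e1] at this

theorem star (h : Cfg a b c) {k l i j : ℤ}
    (hne : ¬ (((i - k : ℤ) : ZMod 3) = 0 ∧ ((j - l : ℤ) : ZMod 3) = 0)) :
    ¬ Commute (P a (a * b) (a * c) k l) (P a (a * b) (a * c) i j) ∧
      P a (a * b) (a * c) k l * P a (a * b) (a * c) i j * P a (a * b) (a * c) k l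
        = P a (a * b) (a * c) (2 * k - i) (2 * l - j) := by
  have e1 : P a (a * b) (a * c) k l
      = ((a * b) ^ k * (a * c) ^ l) * a * ((a * b) ^ k * (a * c) ^ l)⁻¹ := rfl
  have e2 : P a (a * b) (a * c) i j = ((a * b) ^ k * (a * c) ^ l) *
      P a (a * b) (a * c) (i - k) (j - l) * ((a * b) ^ k * (a * c) ^ l)⁻¹ := by
    rw [P_trans h.exp3 h.conj_x h.conj_y]
    congr 1 <;> ring
  have hQ : ¬ Commute a (P a (a * b) (a * c) (i - k) (j - l)) := by
    rw [P_cong h.exp3 (sec_cast _).symm (sec_cast _).symm]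
    exact h.not_comm_a _ _ hne
  constructor
  · rw [e1, e2, Commute.conj_iff]; exact hQ
  · rw [e1, e2]
    calc (a * b) ^ k * (a * c) ^ l * a * ((a * b) ^ k * (a * c) ^ l)⁻¹ *
          ((a * b) ^ k * (a * c) ^ l * P a (a * b) (a * c) (i - k) (j - l) *
            ((a * b) ^ k * (a * c) ^ l)⁻¹) *
          ((a * b) ^ k * (a * c) ^ l * a * ((a * b) ^ k * (a * c) ^ l)⁻¹)
        = ((a * b) ^ k * (a * c) ^ l) * (a * P a (a * b) (a * c) (i - k) (j - l) * a) *
            ((a * b) ^ k * (a * c) ^ l)⁻¹ := by group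
      _ = ((a * b) ^ k * (a * c) ^ l) * (a * P a (a * b) (a * c) (i - k) (j - l) * a⁻¹) *
            ((a * b) ^ k * (a * c) ^ l)⁻¹ := by rw [h.inv_a]
      _ = ((a * b) ^ k * (a * c) ^ l) * P a (a * b) (a * c) (-(i - k)) (-(j - l)) *
            ((a * b) ^ k * (a * c) ^ l)⁻¹ := by rw [P_inv h.conj_x h.conj_y]
      _ = P a (a * b) (a * c) (k + -(i - k)) (-(j - l) + l) :=
          P_trans h.exp3 h.conj_x h.conj_y _ _ _ _
      _ = P a (a * b) (a * c) (2 * k - i) (2 * l - j) := by congr 1 <;> ring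

/-- The parametrisation of the nine points by the affine plane of order three. -/
def fP (a b c : G) (v : Fin 2 → ZMod 3) : G := P a (a * b) (a * c) (sec (v 0)) (sec (v 1))

theorem star_f (h : Cfg a b c) {s t : Fin 2 → ZMod 3} (hst : s ≠ t) :
    ¬ Commute (fP a b c s) (fP a b c t) ∧
      fP a b c s * fP a b c t * fP a b c s = fP a b c (-s - t) := by
  have hne : ¬ (((sec (t 0) - sec (s 0) : ℤ) : ZMod 3) = 0 ∧
      ((sec (t 1) - sec (s 1) : ℤ) : ZMod 3) = 0) := by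
    rintro ⟨h0, h1⟩
    apply hst
    push_cast at h0 h1
    rw [sec_cast, sec_cast, sub_eq_zero] at h0 h1
    funext i
    fin_cases i
    · exact h0.symm
    · exact h1.symm
  obtain ⟨hnc, hprod⟩ := h.star hne
  refine ⟨hnc, ?_⟩
  have harith : ∀ u w : ZMod 3, 2 * u - w = -u - w := by decide
  unfold fP
  rw [hprod]
  apply P_cong h.exp3
  · push_cast
    rw [sec_cast, sec_cast, sec_cast]
    simp only [Pi.sub_apply, Pi.neg_apply]
    exact harith _ _
  · push_cast
    rw [sec_cast, sec_cast, sec_cast]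
    simp only [Pi.sub_apply, Pi.neg_apply]
    exact harith _ _

theorem f00 (h : Cfg a b c) : fP a b c ![0, 0] = a := by
  show P a (a * b) (a * c) (sec 0) (sec 0) = a
  rw [sec_zero, h.P00]

theorem f10 (h : Cfg a b c) : fP a b c ![1, 0] = b := by
  show P a (a * b) (a * c) (sec 1) (sec 0) = b
  rw [sec_zero, sec_one, h.P10]

theorem f20 (h : Cfg a b c) : fP a b c ![2, 0] = a * b * a := by
  show P a (a * b) (a * c) (sec 2) (sec 0) = a * b * a
  rw [sec_zero, sec_two, h.Pm10]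

theorem f01 (h : Cfg a b c) : fP a b c ![0, 1] = c := by
  show P a (a * b) (a * c) (sec 0) (sec 1) = c
  rw [sec_zero, sec_one, h.P01]

theorem f02 (h : Cfg a b c) : fP a b c ![0, 2] = a * c * a := by
  show P a (a * b) (a * c) (sec 0) (sec 2) = a * c * a
  rw [sec_zero, sec_two, h.P0m1]

end Cfg

theorem set_triple {α : Type*} (s t r : α) :
    {u | u = s ∨ u = t ∨ u = r} = ({s, t, r} : Set α) := by
  ext u; simp

theorem affine_case {D : Set G} (hD : IsThreeTranspositionSet D)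
    (hconj : ∀ g : G, ∀ d ∈ D, g * d * g⁻¹ ∈ D) {a b c : G} (ha : a ∈ D) (hb : b ∈ D)
    (hc : c ∈ D) (nab : ¬ Commute a b) (nac : ¬ Commute a c) (nbc : ¬ Commute b c)
    (nbc' : ¬ Commute (a * b * a) c) :
    Isomorphic (restrict (threeTranspositionLines D)
      (span (threeTranspositionLines D) (Ln D a b ∪ Ln D a c))) affinePlaneThree := by
  have hab' := third_mem hD hconj ha hb
  have h : Cfg a b c := ⟨mul_self hD ha, mul_self hD hb, mul_self hD hc, braid hD ha hb nab,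
    braid hD ha hc nac, braid hD hb hc nbc, braid hD hab' hc nbc', nab, nac, nbc, nbc'⟩
  have hmem : ∀ v, Cfg.fP a b c v ∈ D := fun v => hconj _ a ha
  apply iso_of_star hD hconj affinePlaneThree (Cfg.fP a b c) hmem ha hb hc
  · intro s t hst
    right
    obtain ⟨hnc, hprod⟩ := h.star_f hst
    refine ⟨hnc, -s - t, hprod, ?_⟩
    rw [set_triple]
    exact aff_triple_mem hst
  · rintro k ⟨v, w, hw, rfl⟩
    have hst : v + (0 : ZMod 3) • w ≠ v + (1 : ZMod 3) • w := by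
      intro e
      apply hw
      simpa using e
    obtain ⟨hnc, hprod⟩ := h.star_f hst
    refine ⟨_, _, _, hnc, hprod, ?_⟩
    rw [set_triple]
    exact aff_line_eq rfl rfl hst
  · intro p hp
    simp only [Set.mem_insert_iff, Set.mem_singleton_iff] at hp
    rcases hp with rfl | rfl | rfl | rfl | rfl
    · exact ⟨![0, 0], h.f00⟩
    · exact ⟨![1, 0], h.f10⟩
    · exact ⟨![2, 0], h.f20⟩
    · exact ⟨![0, 1], h.f01⟩
    · exact ⟨![0, 2], h.f02⟩
  · intro T hT hsub
    have step : ∀ s t : Fin 2 → ZMod 3, s ≠ t → Cfg.fP a b c s ∈ T → Cfg.fP a b c t ∈ T →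
        Cfg.fP a b c (-s - t) ∈ T := by
      intro s t hst hs ht
      obtain ⟨hnc, hprod⟩ := h.star_f hst
      rw [← hprod]
      exact hT _ (hmem s) _ (hmem t) hs ht hnc
    have h00 : Cfg.fP a b c ![0, 0] ∈ T := by rw [h.f00]; exact hsub (by simp)
    have h10 : Cfg.fP a b c ![1, 0] ∈ T := by rw [h.f10]; exact hsub (by simp)
    have h20 : Cfg.fP a b c ![2, 0] ∈ T := by rw [h.f20]; exact hsub (by simp)
    have h01 : Cfg.fP a b c ![0, 1] ∈ T := by rw [h.f01]; exact hsub (by simp)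
    have h02 : Cfg.fP a b c ![0, 2] ∈ T := by rw [h.f02]; exact hsub (by simp)
    have h22 : Cfg.fP a b c ![2, 2] ∈ T := by
      have := step ![1, 0] ![0, 1] (by decide) h10 h01
      rwa [show -![1, 0] - ![0, 1] = (![2, 2] : Fin 2 → ZMod 3) from by decide] at this
    have h11 : Cfg.fP a b c ![1, 1] ∈ T := by
      have := step ![2, 0] ![0, 2] (by decide) h20 h02
      rwa [show -![2, 0] - ![0, 2] = (![1, 1] : Fin 2 → ZMod 3) from by decide] at this
    have h12 : Cfg.fP a b c ![1, 2] ∈ T := by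
      have := step ![2, 0] ![0, 1] (by decide) h20 h01
      rwa [show -![2, 0] - ![0, 1] = (![1, 2] : Fin 2 → ZMod 3) from by decide] at this
    have h21 : Cfg.fP a b c ![2, 1] ∈ T := by
      have := step ![1, 0] ![0, 2] (by decide) h10 h02
      rwa [show -![1, 0] - ![0, 2] = (![2, 1] : Fin 2 → ZMod 3) from by decide] at this
    intro v
    have hv : ∀ v : Fin 2 → ZMod 3, v = ![0, 0] ∨ v = ![1, 0] ∨ v = ![2, 0] ∨ v = ![0, 1] ∨
        v = ![1, 1] ∨ v = ![2, 1] ∨ v = ![0, 2] ∨ v = ![1, 2] ∨ v = ![2, 2] := by decide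
    rcases hv v with rfl | rfl | rfl | rfl | rfl | rfl | rfl | rfl | rfl
    · exact h00
    · exact h10
    · exact h20
    · exact h01
    · exact h11
    · exact h21
    · exact h02
    · exact h12
    · exact h22

end Cfsg.Agent.Lib.Helper8_TTAffine
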