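import Mathlib
import Cfsg.Prelude.Def_FischerSpaces
import Cfsg.Agent.Lib.Helper8_ThreeTransp
import Cfsg.Agent.Lib.Helper8_TTLines
import Cfsg.Agent.S5344

set_option autoImplicit false

/-! Two lines `{a, b, aba}`, `{a, c, aca}` of a set of 3-transpositions with `b`, `c` different and
commuting span a dual affine plane of order two. -/

namespace Cfsg.Agent.Lib.Helper8_TTDual

open Cfsg Cfsg.LineSystem Cfsg.Agent.Lib.Helper8_ThreeTransp Cfsg.Agent.Lib.Helper8_TTLines

/-- The transposition attached to a two-element subset of `Fin 4`. -/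
def tau (s : DualAffinePoint) : Equiv.Perm (Fin 4) :=
  if 0 ∈ s.val then
    (if 1 ∈ s.val then Equiv.swap 0 1 else if 2 ∈ s.val then Equiv.swap 0 2 else Equiv.swap 0 3)
  else if 1 ∈ s.val then (if 2 ∈ s.val then Equiv.swap 1 2 else Equiv.swap 1 3)
  else Equiv.swap 2 3

theorem tau_pair : ∀ s t : DualAffinePoint, s ≠ t →
    (tau s * tau t = tau t * tau s ∧ tau s ≠ tau t) ∨
    (tau s * tau t ≠ tau t * tau s ∧ ∃ r : DualAffinePoint, tau s * tau t * tau s = tau r ∧
      ∃ i : Fin 4, ∀ u : DualAffinePoint, i ∉ u.val ↔ (u = s ∨ u = t ∨ u = r)) := by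
  decide

theorem tau_line : ∀ i : Fin 4, ∃ s t r : DualAffinePoint, tau s * tau t ≠ tau t * tau s ∧
    tau s * tau t * tau s = tau r ∧
    ∀ u : DualAffinePoint, i ∉ u.val ↔ (u = s ∨ u = t ∨ u = r) := by
  decide

theorem tau_conj : ∀ s : DualAffinePoint, ∃ g : Equiv.Perm (Fin 4),
    tau s = g * Equiv.swap 0 1 * g⁻¹ := by
  decide

theorem tau_enum : ∀ s : DualAffinePoint, tau s = Equiv.swap 0 1 ∨ tau s = Equiv.swap 0 2 ∨
    tau s = Equiv.swap 0 3 ∨ tau s = Equiv.swap 1 2 ∨ tau s = Equiv.swap 1 3 ∨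
    tau s = Equiv.swap 2 3 := by
  decide

theorem tau_surj : (∃ s, tau s = Equiv.swap 0 1) ∧ (∃ s, tau s = Equiv.swap 0 2) ∧
    (∃ s, tau s = Equiv.swap 1 2) ∧ (∃ s, tau s = Equiv.swap 1 3) ∧
    (∃ s, tau s = Equiv.swap 2 3) := by
  decide

variable {G : Type*} [Group G]

theorem dual_case {D : Set G} (hD : IsThreeTranspositionSet D)
    (hconj : ∀ g : G, ∀ d ∈ D, g * d * g⁻¹ ∈ D) {a b c : G} (ha : a ∈ D) (hb : b ∈ D)
    (hc : c ∈ D) (nab : ¬ Commute a b) (nac : ¬ Commute a c) (hbc : Commute b c)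
    (hne : b ≠ c) :
    Isomorphic (restrict (threeTranspositionLines D)
      (span (threeTranspositionLines D) (Ln D a b ∪ Ln D a c))) dualAffinePlaneTwo := by
  obtain ⟨φ, hinj, h01, h12, h23⟩ :=
    Cfsg.Agent.S5344.result hD hb ha hc hne hbc (fun h => nab h.symm) nac
  have h02 : φ (Equiv.swap 0 2) = a * b * a := by
    rw [← h01, ← h12, ← map_mul, ← map_mul]; congr 1; decide
  have h13 : φ (Equiv.swap 1 3) = a * c * a := by
    rw [← h23, ← h12, ← map_mul, ← map_mul]; congr 1; decide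
  have h03 : φ (Equiv.swap 0 3) = b * (a * c * a) * b := by
    rw [← h01, ← h13, ← map_mul, ← map_mul]; congr 1; decide
  have hmem : ∀ s, φ (tau s) ∈ D := by
    intro s
    obtain ⟨g, hg⟩ := tau_conj s
    rw [hg, map_mul, map_mul, map_inv, h01]
    exact hconj _ b hb
  have hcomm : ∀ p q : Equiv.Perm (Fin 4), p * q ≠ q * p → ¬ Commute (φ p) (φ q) := by
    intro p q hpq hc
    apply hpq
    apply hinj
    rw [map_mul, map_mul]
    exact hc.eq
  apply iso_of_star hD hconj dualAffinePlaneTwo (fun s => φ (tau s)) hmem ha hb hc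
  · intro s t hst
    rcases tau_pair s t hst with ⟨h1, h2⟩ | ⟨h1, r, hr, i, hi⟩
    · left
      refine ⟨?_, fun e => h2 (hinj e)⟩
      show φ _ * φ _ = φ _ * φ _
      rw [← map_mul, ← map_mul, h1]
    · right
      refine ⟨hcomm _ _ h1, r, by rw [← map_mul, ← map_mul, hr], i, ?_⟩
      ext u
      exact (hi u).symm
  · rintro k ⟨i, rfl⟩
    obtain ⟨s, t, r, h1, hr, hi⟩ := tau_line i
    refine ⟨s, t, r, hcomm _ _ h1, by rw [← map_mul, ← map_mul, hr], ?_⟩
    ext u
    exact hi u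
  · intro p hp
    simp only [Set.mem_insert_iff, Set.mem_singleton_iff] at hp
    obtain ⟨⟨s01, e01⟩, ⟨s02, e02⟩, ⟨s12, e12⟩, ⟨s13, e13⟩, ⟨s23, e23⟩⟩ := tau_surj
    rcases hp with rfl | rfl | rfl | rfl | rfl
    · exact ⟨s12, by rw [e12, h12]⟩
    · exact ⟨s01, by rw [e01, h01]⟩
    · exact ⟨s02, by rw [e02, h02]⟩
    · exact ⟨s23, by rw [e23, h23]⟩
    · exact ⟨s13, by rw [e13, h13]⟩
  · intro T hT hsub s
    have hTa : a ∈ T := hsub (by simp)
    have hTb : b ∈ T := hsub (by simp)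
    have hTab : a * b * a ∈ T := hsub (by simp)
    have hTc : c ∈ T := hsub (by simp)
    have hTac : a * c * a ∈ T := hsub (by simp)
    show φ (tau s) ∈ T
    rcases tau_enum s with e | e | e | e | e | e <;> rw [e]
    · rw [h01]; exact hTb
    · rw [h02]; exact hTab
    · rw [h03]
      refine hT b hb (a * c * a) (third_mem hD hconj ha hc) hTb hTac ?_
      rw [← h01, ← h13]
      exact hcomm _ _ (by decide)
    · rw [h12]; exact hTa
    · rw [h13]; exact hTac
    · rw [h23]; exact hTc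

end Cfsg.Agent.Lib.Helper8_TTDual
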