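import Mathlib
import Cfsg.Agent.Lib.Helper8_ThreeTransp
import Cfsg.Agent.S5344

set_option autoImplicit false

/-! 3-transposition classes in which every member commutes with exactly one other member:
the group is `S₄`. -/

namespace Cfsg.Agent.Lib.Helper8_ThreeTranspS4

open Cfsg Cfsg.Agent.Lib.Helper8_ThreeTransp

variable {G : Type*} [Group G] {D : Set G}

/-- uniqueness of the commuting partner -/
def Uniq (D : Set G) : Prop :=
  ∀ a ∈ D, ∀ x ∈ D, ∀ x' ∈ D, Commute a x → Commute a x' → x ≠ a → x' ≠ a → x = x'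

/-- existence of the commuting partner -/
def Ex (D : Set G) : Prop := ∀ a ∈ D, ∃ a' ∈ D, Commute a a' ∧ a' ≠ a

theorem conj_self_mem (hD3 : IsThreeTranspositionSet D)
    (hconj : ∀ g : G, ∀ d ∈ D, g * d * g⁻¹ ∈ D) {a b : G} (ha : a ∈ D) (hb : b ∈ D) :
    a * b * a ∈ D := by
  have := hconj a b hb
  rwa [inv_eq hD3 ha] at this

theorem commute_conj_self_iff {g a b : G} (hg : g * g = 1) :
    Commute (g * a * g) b ↔ Commute a (g * b * g) := by
  have hgi : g⁻¹ = g := inv_eq_of_mul_eq_one_left hg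
  have := commute_conj_iff (g := g) (a := a) (b := b)
  rwa [hgi] at this

theorem not_commute_partner (hP : Uniq D) {a a' b : G} (ha : a ∈ D) (ha' : a' ∈ D)
    (haa' : Commute a a') (hne : a' ≠ a) (hb : b ∈ D) (hab : ¬ Commute a b) : ¬ Commute b a' := by
  intro h
  have hb_ne : b ≠ a' := by
    intro hh; apply hab; rw [hh]; exact haa'
  have : b = a := hP a' ha' b hb a ha h.symm haa'.symm hb_ne (fun hh => hne hh.symm)
  apply hab; rw [this]

/-- The copy of `S₄` spanned by `a`, `b` and the partner `a'` of `a`. -/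
theorem s4_facts (hD3 : IsThreeTranspositionSet D) (hconj : ∀ g : G, ∀ d ∈ D, g * d * g⁻¹ ∈ D)
    (hP : Uniq D) {a a' b : G} (ha : a ∈ D) (ha' : a' ∈ D) (haa' : Commute a a')
    (hne : a' ≠ a) (hb : b ∈ D) (hab : ¬ Commute a b) :
    ∃ φ : Equiv.Perm (Fin 4) →* G, Function.Injective φ ∧ φ (Equiv.swap 0 1) = a ∧
      φ (Equiv.swap 1 2) = b ∧ φ (Equiv.swap 2 3) = a' ∧
      (φ (Equiv.swap 0 3) ∈ D ∧ Commute b (φ (Equiv.swap 0 3)) ∧ φ (Equiv.swap 0 3) ≠ b) ∧
      φ (Equiv.swap 0 2) = a * b * a ∧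
      (φ (Equiv.swap 1 3) ∈ D ∧ Commute (a * b * a) (φ (Equiv.swap 1 3)) ∧
        φ (Equiv.swap 1 3) ≠ a * b * a) := by
  have hba' : ¬ Commute b a' := not_commute_partner hP ha ha' haa' hne hb hab
  obtain ⟨φ, hinj, h01, h12, h23⟩ :=
    Cfsg.Agent.S5344.result hD3 ha hb ha' (fun hh => hne hh.symm) haa' hab hba'
  have e03 : (Equiv.swap (0 : Fin 4) 3) = (Equiv.swap 0 1 * Equiv.swap 2 3) * Equiv.swap 1 2 *
      (Equiv.swap 0 1 * Equiv.swap 2 3)⁻¹ := by decide
  have h03D : φ (Equiv.swap 0 3) ∈ D := by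
    rw [e03, map_mul, map_mul, map_inv, h12]; exact hconj _ b hb
  have h03c : Commute b (φ (Equiv.swap 0 3)) := by
    rw [← h12]
    show φ _ * φ _ = φ _ * φ _
    rw [← map_mul, ← map_mul]; congr 1; decide
  have h03ne : φ (Equiv.swap 0 3) ≠ b := by
    rw [← h12]; intro h; exact absurd (hinj h) (by decide)
  have h02 : φ (Equiv.swap 0 2) = a * b * a := by
    rw [← h01, ← h12, ← map_mul, ← map_mul]; congr 1; decide
  have e13 : (Equiv.swap (1 : Fin 4) 3) = Equiv.swap 1 2 * Equiv.swap 2 3 * (Equiv.swap 1 2)⁻¹ := by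
    decide
  have h13D : φ (Equiv.swap 1 3) ∈ D := by
    rw [e13, map_mul, map_mul, map_inv, h12, h23]; exact hconj b a' ha'
  have h13c : Commute (a * b * a) (φ (Equiv.swap 1 3)) := by
    rw [← h02]
    show φ _ * φ _ = φ _ * φ _
    rw [← map_mul, ← map_mul]; congr 1; decide
  have h13ne : φ (Equiv.swap 1 3) ≠ a * b * a := by
    rw [← h02]; intro h; exact absurd (hinj h) (by decide)
  exact ⟨φ, hinj, h01, h12, h23, ⟨h03D, h03c, h03ne⟩, h02, ⟨h13D, h13c, h13ne⟩⟩

theorem lemT (hD3 : IsThreeTranspositionSet D) (hconj : ∀ g : G, ∀ d ∈ D, g * d * g⁻¹ ∈ D)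
    (hP : Uniq D) {a a' b b' c' : G} (ha : a ∈ D) (ha' : a' ∈ D) (haa' : Commute a a')
    (hne : a' ≠ a) (hb : b ∈ D) (hab : ¬ Commute a b)
    (hb' : b' ∈ D) (hbb' : Commute b b') (hbne : b' ≠ b)
    (hc' : c' ∈ D) (hcc' : Commute (a * b * a) c') (hcne : c' ≠ a * b * a) :
    (a * b * a) * c' = (a * a') * (b * b') ∧ Commute (a * a') (b * b') := by
  obtain ⟨φ, hinj, h01, h12, h23, ⟨h03D, h03c, h03ne⟩, h02, ⟨h13D, h13c, h13ne⟩⟩ :=
    s4_facts hD3 hconj hP ha ha' haa' hne hb hab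
  have hb'eq : b' = φ (Equiv.swap 0 3) := hP b hb b' hb' _ h03D hbb' h03c hbne h03ne
  have habaD : a * b * a ∈ D := conj_self_mem hD3 hconj ha hb
  have hc'eq : c' = φ (Equiv.swap 1 3) := hP _ habaD c' hc' _ h13D hcc' h13c hcne h13ne
  constructor
  · rw [hc'eq, hb'eq, ← h02]
    calc φ (Equiv.swap 0 2) * φ (Equiv.swap 1 3)
        = φ (Equiv.swap 0 1 * Equiv.swap 2 3 * (Equiv.swap 1 2 * Equiv.swap 0 3)) := by
          rw [← map_mul]; congr 1; decide
      _ = a * a' * (b * φ (Equiv.swap 0 3)) := by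
          rw [map_mul, map_mul, map_mul, h01, h12, h23]
  · rw [hb'eq]
    have : a * a' * (b * φ (Equiv.swap 0 3))
        = φ (Equiv.swap 0 1 * Equiv.swap 2 3 * (Equiv.swap 1 2 * Equiv.swap 0 3)) := by
      rw [map_mul, map_mul, map_mul, h01, h12, h23]
    show a * a' * (b * φ (Equiv.swap 0 3)) = b * φ (Equiv.swap 0 3) * (a * a')
    rw [this]
    have h2 : b * φ (Equiv.swap 0 3) * (a * a')
        = φ (Equiv.swap 1 2 * Equiv.swap 0 3 * (Equiv.swap 0 1 * Equiv.swap 2 3)) := by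
      rw [map_mul, map_mul, map_mul, h01, h12, h23]
    rw [h2]; congr 1; decide

/-- Every member of `D` commutes with some point of each line `{o, u, o u o}`. -/
theorem no_outside (hD3 : IsThreeTranspositionSet D)
    (hconj : ∀ g : G, ∀ d ∈ D, g * d * g⁻¹ ∈ D) (hP : Uniq D) (hE : Ex D) {o u v : G}
    (ho : o ∈ D) (hu : u ∈ D) (hv : v ∈ D) (hou : ¬ Commute o u) (hov : ¬ Commute o v)
    (huv : ¬ Commute u v) (h1 : ¬ Commute (o * u * o) v) : False := by
  have hoo := mul_self hD3 ho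
  have huu := mul_self hD3 hu
  obtain ⟨o', ho', hoo', hone⟩ := hE o ho
  obtain ⟨u', hu', huu', hune⟩ := hE u hu
  obtain ⟨v', hv', hvv', hvne⟩ := hE v hv
  have hmu : o * u * o ∈ D := conj_self_mem hD3 hconj ho hu
  have hmv : o * v * o ∈ D := conj_self_mem hD3 hconj ho hv
  have hp : u * (o * v * o) * u ∈ D := conj_self_mem hD3 hconj hu hmv
  have hq : v * (o * u * o) * v ∈ D := conj_self_mem hD3 hconj hv hmu
  obtain ⟨mu', hmu', hmumu', hmune⟩ := hE _ hmu
  obtain ⟨mv', hmv', hmvmv', hmvne⟩ := hE _ hmv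
  obtain ⟨p', hp', hpp', hpne⟩ := hE _ hp
  obtain ⟨q', hq', hqq', hqne⟩ := hE _ hq
  have c3 : ¬ Commute u (o * v * o) := by
    intro h
    exact h1 (((commute_conj_self_iff hoo).mp h.symm).symm)
  have c4 : ¬ Commute v (o * u * o) := fun h => h1 h.symm
  have c5 : ¬ Commute o (u * (o * v * o) * u) := by
    intro h
    have h2 := (commute_conj_self_iff huu).mp h.symm
    have h3 := (commute_conj_self_iff hoo).mp h2
    have hb : u * o * u = o * u * o := braid hD3 hu ho (fun hh => hou hh.symm)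
    have h4 : o * (u * o * u) * o = u := by
      rw [hb]
      calc o * (o * u * o) * o = (o * o) * u * (o * o) := by group
        _ = u := by rw [hoo, one_mul, mul_one]
    rw [h4] at h3
    exact huv h3.symm
  obtain ⟨L1, K1⟩ := lemT hD3 hconj hP ho ho' hoo' hone hu hou hu' huu' hune hmu' hmumu' hmune
  obtain ⟨L2, K2⟩ := lemT hD3 hconj hP ho ho' hoo' hone hv hov hv' hvv' hvne hmv' hmvmv' hmvne
  obtain ⟨L3, _⟩ := lemT hD3 hconj hP hu hu' huu' hune hmv c3 hmv' hmvmv' hmvne hp' hpp' hpne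
  obtain ⟨L4, _⟩ := lemT hD3 hconj hP hv hv' hvv' hvne hmu c4 hmu' hmumu' hmune hq' hqq' hqne
  have hqeq : o * (u * (o * v * o) * u) * o = v * (o * u * o) * v := by
    rw [braid hD3 hv hmu c4]; group
  have hq'' : Commute (o * (u * (o * v * o) * u) * o) q' := by rw [hqeq]; exact hqq'
  have hqne' : q' ≠ o * (u * (o * v * o) * u) * o := by rw [hqeq]; exact hqne
  obtain ⟨L5, _⟩ := lemT hD3 hconj hP ho ho' hoo' hone hp c5 hp' hpp' hpne hq' hq'' hqne'
  have huvu : u * v * u ∈ D := conj_self_mem hD3 hconj hu hv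
  obtain ⟨w', hw', hww', hwne⟩ := hE _ huvu
  obtain ⟨_, K6⟩ := lemT hD3 hconj hP hu hu' huu' hune hv huv hv' hvv' hvne hw' hww' hwne
  have hAA : (o * o') * (o * o') = 1 := by
    calc o * o' * (o * o') = o * (o' * o) * o' := by group
      _ = o * (o * o') * o' := by rw [hoo'.eq]
      _ = (o * o) * (o' * o') := by group
      _ = 1 := by rw [hoo, mul_self hD3 ho', one_mul]
  have hmain : (v * v') * ((o * o') * (u * u')) = (o * o') * ((u * u') * ((o * o') * (v * v'))) := by
    rw [← L1, ← L4, ← hqeq, L5, L3, L2]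
  have hA1 : o * o' = 1 := by
    have e1 : (o * o') * ((u * u') * ((o * o') * (v * v'))) = (u * u') * (v * v') := by
      calc (o * o') * ((u * u') * ((o * o') * (v * v')))
          = (o * o') * (((u * u') * (o * o')) * (v * v')) := by group
        _ = (o * o') * (((o * o') * (u * u')) * (v * v')) := by rw [K1.eq]
        _ = ((o * o') * (o * o')) * ((u * u') * (v * v')) := by group
        _ = (u * u') * (v * v') := by rw [hAA, one_mul]
    have e2 : (v * v') * ((o * o') * (u * u')) = (o * o') * ((u * u') * (v * v')) := by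
      calc (v * v') * ((o * o') * (u * u')) = ((v * v') * (o * o')) * (u * u') := by group
        _ = ((o * o') * (v * v')) * (u * u') := by rw [K2.eq]
        _ = (o * o') * ((v * v') * (u * u')) := by group
        _ = (o * o') * ((u * u') * (v * v')) := by rw [K6.eq]
    rw [e1, e2] at hmain
    have : (o * o') * ((u * u') * (v * v')) = 1 * ((u * u') * (v * v')) := by rw [one_mul]; exact hmain
    exact mul_right_cancel this
  have : o' = o⁻¹ := eq_inv_of_mul_eq_one_right hA1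
  rw [inv_eq hD3 ho] at this
  exact hone this

end Cfsg.Agent.Lib.Helper8_ThreeTranspS4
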