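import Mathlib
import Cfsg.Prelude.Def_FusionSystem
import Cfsg.Agent.Lib.Helper8_Chain

set_option autoImplicit false
set_option linter.style.haveILetI false
set_option linter.unusedVariables false
open Cfsg

namespace Cfsg.Agent.Lib.Helper8_WeaklyClosed

open scoped commutatorElement
open Cfsg.FusionSystem
open Cfsg.Agent.Lib.Helper8_Fusion
open Cfsg.Agent.Lib.Helper8_GroupFusion
open Cfsg.Agent.Lib.Helper8_Saturated
open Cfsg.Agent.Lib.Helper8_Alperin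
open Cfsg.Agent.Lib.Helper8_Chain

variable {Ω : Type*} [Group Ω] {S : Subgroup Ω}

/-- A strongly closed subgroup is weakly closed. -/
theorem weaklyClosed_of_stronglyClosed [Finite S] (F : FusionSystem S) {C : Subgroup Ω}
    (hC : F.StronglyClosed C) : F.WeaklyClosed C := by
  refine ⟨hC.1, fun φ hφ => ?_⟩
  haveI : Finite C := finite_of_le hC.1
  apply Subgroup.eq_of_le_of_card_ge
  · rintro _ ⟨x, rfl⟩
    exact hC.2 C le_rfl φ hφ x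
  · exact (Nat.card_congr (MonoidHom.ofInjective (F.injective_of_mem hφ)).toEquiv).le

/-- If `c ∈ C₁` and `[C₁, Q] ≤ C₀ ≤ R ≤ Q` then `c` normalizes `R`. -/
theorem mem_normalizer_of_commutator_le {Q C₀ C₁ R : Subgroup Ω} [Finite R]
    (hcomm : ⁅C₁, Q⁆ ≤ C₀) (hC₀R : C₀ ≤ R) (hRQ : R ≤ Q) {c : Ω} (hc : c ∈ C₁) :
    c ∈ Subgroup.normalizer (R : Set Ω) := by
  haveI : Finite ((R : Set Ω)) := ‹Finite R›
  apply Subgroup.mem_normalizer_fintype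
  intro y hy
  have h1 : ⁅c, y⁆ ∈ ⁅C₁, Q⁆ := Subgroup.commutator_mem_commutator hc (hRQ hy)
  have h2 : c * y * c⁻¹ = ⁅c, y⁆ * y := by
    rw [commutatorElement_def]; group
  show c * y * c⁻¹ ∈ R
  rw [h2]
  exact R.mul_mem (hC₀R (hcomm h1)) hy

/-- Inductive step: a weakly closed term `C₁` of a central series of the strongly closed subgroup
`Q`, lying over a term `C₀` which is normal in the system, is strongly closed. -/
theorem stronglyClosed_of_weaklyClosed_step [Finite S] {p : ℕ} [Fact p.Prime] (hS : IsPGroup p S)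
    (F : FusionSystem S) (hF : F.IsSaturated p) {Q C₀ C₁ : Subgroup Ω} (hQ : F.StronglyClosed Q)
    (hC₀ : F.IsNormal C₀) (hC₀C₁ : C₀ ≤ C₁) (hC₁Q : C₁ ≤ Q) (hcomm : ⁅C₁, Q⁆ ≤ C₀)
    (hw : F.WeaklyClosed C₁) : F.StronglyClosed C₁ := by
  have hC₁S : C₁ ≤ S := hw.1
  refine ⟨hC₁S, fun R hR φ hφ x => ?_⟩
  obtain ⟨φh, hφh, hφhR, hφhC₀⟩ := hC₀.2 R φ hφ
  have hR₁C₁ : R ⊔ C₀ ≤ C₁ := sup_le hR hC₀C₁
  have hR₁Q : R ⊔ C₀ ≤ Q := hR₁C₁.trans hC₁Q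
  have hR₁S : R ⊔ C₀ ≤ S := hR₁C₁.trans hC₁S
  have hR₁'Q : φh.range ≤ Q := by
    rintro _ ⟨y, rfl⟩
    exact hQ.2 _ hR₁Q φh hφh y
  have hR₁'S : φh.range ≤ S := hR₁'Q.trans hQ.1
  have hC₀R₁' : C₀ ≤ φh.range := by
    intro y hy
    rw [← hφhC₀] at hy
    obtain ⟨z, -, rfl⟩ := hy
    exact ⟨z, rfl⟩
  haveI : Finite ↥(R ⊔ C₀) := finite_of_le hR₁S
  haveI : Finite ↥φh.range := finite_of_le hR₁'S
  have hnorm₁ : C₁ ≤ normalizerIn S (R ⊔ C₀) := fun c hc =>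
    ⟨hC₁S hc, mem_normalizer_of_commutator_le hcomm le_sup_right hR₁Q hc⟩
  have hnorm₂ : C₁ ≤ normalizerIn S φh.range := fun c hc =>
    ⟨hC₁S hc, mem_normalizer_of_commutator_le hcomm hC₀R₁' hR₁'Q hc⟩
  obtain ⟨R'', hconj, hR''n⟩ := exists_fullyNormalized F hR₁S
  obtain ⟨-, hR''a⟩ := fullyNormalized_facts hS F hF hR''n
  have hR''r := receptive_of_fullyNormalized hS F hF hR''n
  have hconj' : F.IsConj φh.range R'' :=
    isConj_trans F (isConj_symm F ⟨φh, hφh, rfl⟩) hconj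
  obtain ⟨χ₁, hχ₁, -, hχ₁img⟩ := exists_normalizer_map hS F hR''a hR''r hconj
  obtain ⟨χ₂, hχ₂, -, hχ₂img⟩ := exists_normalizer_map hS F hR''a hR''r hconj'
  have hr₁ := hw.2 _ (restrict_mem F hnorm₁ hχ₁)
  have hr₂ := hw.2 _ (restrict_mem F hnorm₂ hχ₂)
  -- `R'' ≤ C₁`
  have hR''C₁ : R'' ≤ C₁ := by
    intro y hy
    rw [← hχ₁img] at hy
    obtain ⟨r, hr, rfl⟩ := hy
    have hrR₁ : (r : Ω) ∈ R ⊔ C₀ := by simpa [Subgroup.mem_subgroupOf] using hr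
    rw [← hr₁]
    exact ⟨⟨r, hR₁C₁ hrR₁⟩, rfl⟩
  -- `φh.range ≤ C₁`
  have hR₁'C₁ : φh.range ≤ C₁ := by
    intro z hz
    have h1 : χ₂ ⟨z, le_normalizerIn hR₁'S hz⟩ ∈ R'' := by
      rw [← hχ₂img]
      exact ⟨⟨z, le_normalizerIn hR₁'S hz⟩, by simpa [Subgroup.mem_subgroupOf] using hz, rfl⟩
    have h2 := hR''C₁ h1
    rw [← hr₂] at h2
    obtain ⟨c, hc⟩ := h2
    have h3 : χ₂ (Subgroup.inclusion hnorm₂ c) = χ₂ ⟨z, le_normalizerIn hR₁'S hz⟩ := hc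
    have h4 := F.injective_of_mem hχ₂ h3
    have h5 : (c : Ω) = z := congrArg (fun w : normalizerIn S φh.range => (w : Ω)) h4
    rw [← h5]
    exact c.2
  rw [← hφhR x]
  exact hR₁'C₁ ⟨_, rfl⟩

end Cfsg.Agent.Lib.Helper8_WeaklyClosed
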