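-- helper9: anisotropic binary quadratic forms over finite fields.
import Mathlib

set_option autoImplicit false

namespace Cfsg.Agent.Helper9AnisoPlane

open Finset

variable {F : Type*} [Field F]

/-- The binary form `z₁² + a z₁ z₂ + b z₂²` is anisotropic. -/
def Aniso (a b : F) : Prop := ∀ z₁ z₂ : F, z₁ ^ 2 + a * z₁ * z₂ + b * z₂ ^ 2 = 0 → z₁ = 0 ∧ z₂ = 0

lemma disc_not_square (h2 : (2 : F) ≠ 0) {a b : F} (h : Aniso a b) : ¬ IsSquare (a ^ 2 - 4 * b) := by
  rintro ⟨d, hd⟩
  have := (h ((-a + d) / 2) 1 (by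
    field_simp
    linear_combination -hd)).2
  exact one_ne_zero this

lemma exists_rep_odd [Fintype F] (h2 : (2 : F) ≠ 0) {a b a' b' : F} (h : Aniso a b) (h' : Aniso a' b') :
    ∃ s t : F, 2 * s + a' * t = a ∧ s ^ 2 + a' * s * t + b' * t ^ 2 = b := by
  classical
  have hD := disc_not_square h2 h
  have hD' := disc_not_square h2 h'
  have hD0 : a ^ 2 - 4 * b ≠ 0 := fun h0 => hD (h0 ▸ ⟨0, by ring⟩)
  have hD'0 : a' ^ 2 - 4 * b' ≠ 0 := fun h0 => hD' (h0 ▸ ⟨0, by ring⟩)
  have h1 := quadraticChar_neg_one_iff_not_isSquare.2 hD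
  have h1' := quadraticChar_neg_one_iff_not_isSquare.2 hD'
  have h3 : quadraticChar F ((a ^ 2 - 4 * b) * (a' ^ 2 - 4 * b')) = 1 := by
    rw [map_mul, h1, h1']; norm_num
  obtain ⟨r, hr⟩ := (quadraticChar_one_iff_isSquare (mul_ne_zero hD0 hD'0)).1 h3
  have h4 : (4 : F) ≠ 0 := by
    have : (4 : F) = 2 * 2 := by norm_num
    rw [this]; exact mul_ne_zero h2 h2
  obtain ⟨t, ht⟩ : ∃ t : F, t = r / (a' ^ 2 - 4 * b') := ⟨_, rfl⟩
  have ht2 : t ^ 2 * (a' ^ 2 - 4 * b') = a ^ 2 - 4 * b := by
    rw [ht]; field_simp; linear_combination (-1 : F) * hr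
  obtain ⟨s, hs⟩ : ∃ s : F, s = (a - a' * t) / 2 := ⟨_, rfl⟩
  have hs2 : 2 * s = a - a' * t := by rw [hs]; field_simp
  refine ⟨s, t, by linear_combination hs2, ?_⟩
  apply mul_left_cancel₀ h4
  linear_combination (2 * s + a + a' * t) * hs2 - ht2

/-- The Artin–Schreier map in characteristic 2. -/
def wp (h2 : (2 : F) = 0) : F →+ F where
  toFun x := x ^ 2 + x
  map_zero' := by simp
  map_add' x y := by
    have : (x + y) ^ 2 = x ^ 2 + y ^ 2 + 2 * (x * y) := by ring
    rw [this, h2]; ring

lemma wp_index [Fintype F] (h2 : (2 : F) = 0) : (wp h2).range.index = 2 := by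
  classical
  have hker : Nat.card (wp h2).ker = 2 := by
    have : ((wp h2).ker : Set F) = {0, 1} := by
      ext x
      simp only [SetLike.mem_coe, AddMonoidHom.mem_ker, Set.mem_insert_iff, Set.mem_singleton_iff]
      show x ^ 2 + x = 0 ↔ _
      constructor
      · intro hx
        have : x * (x + 1) = 0 := by linear_combination hx
        rcases mul_eq_zero.1 this with h | h
        · exact Or.inl h
        · right
          have h3 : x = -1 := by linear_combination h
          rw [h3]
          linear_combination (-1 : F) * h2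
      · rintro (rfl | rfl)
        · simp
        · linear_combination h2
    have h3 : Nat.card (wp h2).ker = Nat.card ({0, 1} : Set F) := by
      rw [← this]; rfl
    rw [h3, Nat.card_eq_fintype_card, ← Set.toFinset_card]
    simp
  have h4 := AddSubgroup.index_ker (wp h2)
  have h5 := AddSubgroup.card_mul_index (wp h2).ker
  have h6 := AddSubgroup.card_mul_index (wp h2).range
  rw [hker, h4] at h5
  rw [← h5] at h6
  have hpos : 0 < Nat.card (wp h2).range := Nat.card_pos
  rw [mul_comm] at h6
  exact Nat.eq_of_mul_eq_mul_right hpos h6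

lemma exists_rep_even [Fintype F] (h2 : (2 : F) = 0) {a b a' b' : F} (h : Aniso a b) (h' : Aniso a' b') :
    ∃ s t : F, 2 * s + a' * t = a ∧ s ^ 2 + a' * s * t + b' * t ^ 2 = b := by
  classical
  haveI : CharP F 2 := by
    have := (CharP.cast_eq_zero_iff F (ringChar F) 2).1 (by exact_mod_cast h2)
    have hp : (ringChar F).Prime := CharP.char_is_prime F _
    have : ringChar F = 2 := ((Nat.prime_dvd_prime_iff_eq hp Nat.prime_two).1 this)
    rw [← this]; infer_instance
  -- the linear coefficients are non-zero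
  have hne : ∀ {a b : F}, Aniso a b → a ≠ 0 := by
    intro a b hab ha
    obtain ⟨β, hβ⟩ : ∃ β : F, β ^ 2 = b := by
      have := (frobeniusEquiv F 2).surjective b
      obtain ⟨β, hβ⟩ := this
      exact ⟨β, by simpa [frobeniusEquiv_apply, frobenius_def] using hβ⟩
    have := (hab β 1 (by rw [ha, ← hβ]; linear_combination (β ^ 2) * h2)).2
    exact one_ne_zero this
  have ha := hne h
  have ha' := hne h'
  have hnot : ∀ {a b : F}, Aniso a b → b / a ^ 2 ∉ (wp h2).range := by
    intro a b hab hmem
    have ha := hne hab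
    obtain ⟨σ, hσ⟩ := hmem
    have hσ' : σ ^ 2 + σ = b / a ^ 2 := hσ
    have := (hab (a * σ) 1 (by
      have e : b = (σ ^ 2 + σ) * a ^ 2 := by rw [hσ']; field_simp
      rw [e]
      linear_combination (a ^ 2 * σ ^ 2 + a ^ 2 * σ) * h2)).2
    exact one_ne_zero this
  have hidx := wp_index h2
  have hmem : b / a ^ 2 + b' / a' ^ 2 ∈ (wp h2).range := by
    rw [AddSubgroup.add_mem_iff_of_index_two hidx]
    exact ⟨fun hh => absurd hh (hnot h), fun hh => absurd hh (hnot h')⟩
  obtain ⟨σ, hσ⟩ := hmem
  have hσ' : σ ^ 2 + σ = b / a ^ 2 + b' / a' ^ 2 := hσ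
  obtain ⟨t, ht⟩ : ∃ t : F, t = a / a' := ⟨_, rfl⟩
  have hat : a' * t = a := by rw [ht]; field_simp
  have e1 : a ^ 2 * σ ^ 2 + a ^ 2 * σ = b + b' * t ^ 2 := by
    calc a ^ 2 * σ ^ 2 + a ^ 2 * σ = a ^ 2 * (σ ^ 2 + σ) := by ring
      _ = a ^ 2 * (b / a ^ 2 + b' / a' ^ 2) := by rw [hσ']
      _ = b + b' * t ^ 2 := by rw [ht]; field_simp
  refine ⟨a * σ, t, ?_, ?_⟩
  · rw [h2, hat]; ring
  · linear_combination e1 + (a * σ) * hat + (b' * t ^ 2) * h2

lemma exists_rep [Fintype F] {a b a' b' : F} (h : Aniso a b) (h' : Aniso a' b') :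
    ∃ s t : F, 2 * s + a' * t = a ∧ s ^ 2 + a' * s * t + b' * t ^ 2 = b := by
  by_cases h2 : (2 : F) = 0
  · exact exists_rep_even h2 h h'
  · exact exists_rep_odd h2 h h'

/-- Every non-zero constant term occurs in an anisotropic form. -/
lemma exists_aniso [Fintype F] {c : F} (hc : c ≠ 0) : ∃ α : F, Aniso α c := by
  classical
  let g : {r : F // r ≠ 0} → F := fun r => -(r.1 + c / r.1)
  have hns : ¬ Function.Surjective g := by
    intro hs
    have h1 := Fintype.card_le_of_surjective g hs
    have h2 : Fintype.card {r : F // r ≠ 0} < Fintype.card F :=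
      Fintype.card_subtype_lt (x := (0 : F)) (by simp)
    omega
  obtain ⟨α, hα⟩ : ∃ α, ∀ r, g r ≠ α := by
    by_contra hcon
    push Not at hcon
    exact hns hcon
  refine ⟨α, ?_⟩
  intro z₁ z₂ hz
  by_cases hz2 : z₂ = 0
  · rw [hz2] at hz
    simp only [mul_zero, ne_eq, OfNat.ofNat_ne_zero, not_false_eq_true, zero_pow, add_zero] at hz
    exact ⟨by simpa using hz, hz2⟩
  · exfalso
    have hz1 : z₁ ≠ 0 := by
      intro h0
      rw [h0] at hz
      simp only [ne_eq, OfNat.ofNat_ne_zero, not_false_eq_true, zero_pow, mul_zero, zero_mul,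
        add_zero, zero_add] at hz
      rcases mul_eq_zero.1 hz with h | h
      · exact hc h
      · exact hz2 (by simpa using h)
    have hr : z₁ / z₂ ≠ 0 := div_ne_zero hz1 hz2
    apply hα ⟨z₁ / z₂, hr⟩
    show -(z₁ / z₂ + c / (z₁ / z₂)) = α
    field_simp
    linear_combination (-1 : F) * hz

/-- The norm form as a function on pairs. -/
def nrm (a b : F) (p : F × F) : F := p.1 ^ 2 + a * p.1 * p.2 + b * p.2 ^ 2

/-- Multiplication in the quadratic algebra. -/
def mulK (a b : F) (z w : F × F) : F × F :=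
  (z.1 * w.1 - b * z.2 * w.2, z.1 * w.2 + z.2 * w.1 + a * z.2 * w.2)

lemma nrm_mulK (a b : F) (z w : F × F) : nrm a b (mulK a b z w) = nrm a b z * nrm a b w := by
  simp only [nrm, mulK]; ring

lemma mulK_sub (a b : F) (z z' w : F × F) : mulK a b (z - z') w = mulK a b z w - mulK a b z' w := by
  simp only [mulK, Prod.fst_sub, Prod.snd_sub, Prod.mk_sub_mk]
  refine Prod.ext ?_ ?_ <;> ring

lemma nrm_eq_zero {a b : F} (h : Aniso a b) (z : F × F) (hz : nrm a b z = 0) : z = 0 := by
  obtain ⟨h1, h2⟩ := h z.1 z.2 hz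
  exact Prod.ext h1 h2

lemma norm_surj [Fintype F] {a b : F} (h : Aniso a b) {c : F} (hc : c ≠ 0) :
    ∃ w : F × F, nrm a b w = c := by
  obtain ⟨α, hα⟩ := exists_aniso hc
  obtain ⟨s, t, _, hst⟩ := exists_rep hα h
  exact ⟨(s, t), hst⟩

lemma card_le_of_mul [Fintype F] {a b : F} (h : Aniso a b) (c d : F) (w : F × F) (hw : nrm a b w = d)
    (hd : d ≠ 0) :
    Nat.card {z : F × F // nrm a b z = c} ≤ Nat.card {z : F × F // nrm a b z = c * d} := by
  apply Nat.card_le_card_of_injective
    (fun z : {z : F × F // nrm a b z = c} => (⟨mulK a b z.1 w, by rw [nrm_mulK, z.2, hw]⟩ :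
      {z : F × F // nrm a b z = c * d}))
  intro z z' hzz
  have h1 : mulK a b z.1 w = mulK a b z'.1 w := congrArg Subtype.val hzz
  have h2 : mulK a b (z.1 - z'.1) w = 0 := by rw [mulK_sub, h1, sub_self]
  have h3 : nrm a b (z.1 - z'.1) = 0 := by
    have := nrm_mulK a b (z.1 - z'.1) w
    rw [h2, hw] at this
    have h0 : nrm a b (0 : F × F) = 0 := by simp [nrm]
    rw [h0] at this
    rcases mul_eq_zero.1 this.symm with h | h
    · exact h
    · exact absurd h hd
  apply Subtype.ext
  exact sub_eq_zero.1 (nrm_eq_zero h _ h3)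

/-- All non-zero values of an anisotropic form are taken equally often. -/
lemma card_nrm_eq [Fintype F] {a b : F} (h : Aniso a b) {c : F} (hc : c ≠ 0) :
    Nat.card {z : F × F // nrm a b z = c} = Nat.card {z : F × F // nrm a b z = 1} := by
  obtain ⟨w, hw⟩ := norm_surj h hc
  obtain ⟨w', hw'⟩ := norm_surj h (inv_ne_zero hc)
  apply le_antisymm
  · have := card_le_of_mul h c c⁻¹ w' hw' (inv_ne_zero hc)
    rwa [mul_inv_cancel₀ hc] at this
  · have := card_le_of_mul h 1 c w hw hc
    rwa [one_mul] at this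

/-- An anisotropic binary form takes the value 1 exactly `q + 1` times. -/
lemma card_nrm_one [Fintype F] {a b : F} (h : Aniso a b) :
    Nat.card {z : F × F // nrm a b z = 1} = Fintype.card F + 1 := by
  classical
  have hsum : ∑ c : F, Nat.card {z : F × F // nrm a b z = c} = Fintype.card F ^ 2 := by
    simp only [Nat.card_eq_fintype_card, Fintype.card_subtype]
    rw [← Finset.card_eq_sum_card_fiberwise (f := nrm a b) (s := univ) (t := univ)
      (fun x _ => Finset.mem_univ _), Finset.card_univ, Fintype.card_prod]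
    ring
  have h0 : Nat.card {z : F × F // nrm a b z = 0} = 1 := by
    rw [Nat.card_eq_one_iff_unique]
    refine ⟨⟨fun z z' => ?_⟩, ⟨⟨0, by simp [nrm]⟩⟩⟩
    apply Subtype.ext
    rw [nrm_eq_zero h _ z.2, nrm_eq_zero h _ z'.2]
  rw [Fintype.sum_eq_add_sum_compl (0 : F), h0] at hsum
  have hrest : ∑ c ∈ ({0}ᶜ : Finset F), Nat.card {z : F × F // nrm a b z = c} =
      (Fintype.card F - 1) * Nat.card {z : F × F // nrm a b z = 1} := by
    rw [Finset.sum_congr rfl (fun c hc => card_nrm_eq h (by simpa using hc)), Finset.sum_const,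
      Finset.card_compl, Finset.card_singleton, smul_eq_mul]
  rw [hrest] at hsum
  have hq : 2 ≤ Fintype.card F := Fintype.one_lt_card
  obtain ⟨k, hk⟩ : ∃ k, Fintype.card F = k + 2 := ⟨Fintype.card F - 2, by omega⟩
  rw [hk] at hsum ⊢
  have h3 : k + 2 - 1 = k + 1 := by omega
  rw [h3] at hsum
  have h4 : (k + 1) * Nat.card {z : F × F // nrm a b z = 1} = (k + 1) * (k + 2 + 1) := by
    nlinarith
  exact Nat.eq_of_mul_eq_mul_left (by omega) h4

/-- In characteristic 2 the middle coefficient of an anisotropic form is non-zero. -/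
lemma aniso_lin_ne [Fintype F] (h2 : (2 : F) = 0) {a b : F} (hab : Aniso a b) : a ≠ 0 := by
  classical
  have : CharP F 2 := by
    have := (CharP.cast_eq_zero_iff F (ringChar F) 2).1 (by exact_mod_cast h2)
    have hp : (ringChar F).Prime := CharP.char_is_prime F _
    have : ringChar F = 2 := ((Nat.prime_dvd_prime_iff_eq hp Nat.prime_two).1 this)
    rw [← this]; infer_instance
  intro ha
  obtain ⟨β, hβ⟩ : ∃ β : F, β ^ 2 = b := by
    have := (frobeniusEquiv F 2).surjective b
    obtain ⟨β, hβ⟩ := this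
    exact ⟨β, by simpa [frobeniusEquiv_apply, frobenius_def] using hβ⟩
  have := (hab β 1 (by rw [ha, ← hβ]; linear_combination (β ^ 2) * h2)).2
  exact one_ne_zero this

/-- The polar form of an anisotropic binary form is non-degenerate. -/
lemma polar_nondeg [Fintype F] {a b : F} (h : Aniso a b) (z : F × F)
    (h1 : 2 * z.1 + a * z.2 = 0) (h2' : a * z.1 + 2 * b * z.2 = 0) : z = 0 := by
  by_cases h2 : (2 : F) = 0
  · have ha := aniso_lin_ne h2 h
    rw [h2] at h1 h2'
    have e1 : z.2 = 0 := by
      have : a * z.2 = 0 := by linear_combination h1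
      rcases mul_eq_zero.1 this with h | h
      · exact absurd h ha
      · exact h
    have e2 : z.1 = 0 := by
      have : a * z.1 = 0 := by linear_combination h2'
      rcases mul_eq_zero.1 this with h | h
      · exact absurd h ha
      · exact h
    exact Prod.ext e2 e1
  · have hD := disc_not_square h2 h
    have hD0 : a ^ 2 - 4 * b ≠ 0 := fun h0 => hD (h0 ▸ ⟨0, by ring⟩)
    have e1 : z.2 = 0 := by
      have : (a ^ 2 - 4 * b) * z.2 = 0 := by linear_combination a * h1 - 2 * h2'
      rcases mul_eq_zero.1 this with h | h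
      · exact absurd h hD0
      · exact h
    have e2 : z.1 = 0 := by
      rw [e1] at h1
      have : 2 * z.1 = 0 := by linear_combination h1
      rcases mul_eq_zero.1 this with h | h
      · exact absurd h h2
      · exact h
    exact Prod.ext e2 e1

/-- The two completions of the first basis vector to a standard basis. -/
lemma completions [Fintype F] {a b : F} (h : Aniso a b) (p : F × F) :
    (nrm a b p = b ∧ 2 * p.1 + a * p.2 = a) ↔ (p = (0, 1) ∨ p = (a, -1)) := by
  constructor
  · rintro ⟨h1, h2'⟩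
    simp only [nrm] at h1
    by_cases h2 : (2 : F) = 0
    · have ha := aniso_lin_ne h2 h
      rw [h2] at h2'
      have e1 : p.2 = 1 := by
        have : a * (p.2 - 1) = 0 := by linear_combination h2'
        rcases mul_eq_zero.1 this with h | h
        · exact absurd h ha
        · linear_combination h
      rw [e1] at h1
      have e2 : p.1 * (p.1 + a) = 0 := by linear_combination h1
      rcases mul_eq_zero.1 e2 with h | h
      · left; exact Prod.ext h e1
      · right
        refine Prod.ext ?_ ?_
        · show p.1 = a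
          linear_combination h - a * h2
        · show p.2 = -1
          rw [e1]; linear_combination h2
    · have hD := disc_not_square h2 h
      have hD0 : a ^ 2 - 4 * b ≠ 0 := fun h0 => hD (h0 ▸ ⟨0, by ring⟩)
      have e : (a ^ 2 - 4 * b) * ((1 - p.2) * (1 + p.2)) = 0 := by
        linear_combination (4 : F) * h1 - (2 * p.1 + a + a * p.2) * h2'
      rcases mul_eq_zero.1 e with h | h
      · exact absurd h hD0
      · rcases mul_eq_zero.1 h with h | h
        · left
          have e1 : p.2 = 1 := by linear_combination (-1 : F) * h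
          rw [e1] at h2'
          have : 2 * p.1 = 0 := by linear_combination h2'
          rcases mul_eq_zero.1 this with h' | h'
          · exact absurd h' h2
          · exact Prod.ext h' e1
        · right
          have e1 : p.2 = -1 := by linear_combination h
          rw [e1] at h2'
          have : 2 * (p.1 - a) = 0 := by linear_combination h2'
          rcases mul_eq_zero.1 this with h' | h'
          · exact absurd h' h2
          · exact Prod.ext (by show p.1 = a; linear_combination h') e1
  · rintro (rfl | rfl)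
    · simp [nrm]
    · simp only [nrm]
      constructor <;> ring

lemma completions_ne [Fintype F] {a b : F} (h : Aniso a b) : ((0 : F), (1 : F)) ≠ (a, -1) := by
  intro he
  have h1 : (0 : F) = a := congrArg Prod.fst he
  have h2' : (1 : F) = -1 := congrArg Prod.snd he
  have h2 : (2 : F) = 0 := by linear_combination h2'
  exact aniso_lin_ne h2 h h1.symm

end Cfsg.Agent.Helper9AnisoPlane
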