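import Mathlib
import Cfsg.Prelude.Def_ClassicalGeometry
import Cfsg.Agent.Lib.Helper4_Transv1

/-! Counting centralisers of transvections in `GL_n(q)` by explicit matrix shapes. -/

namespace Cfsg.Agent.Helper9BlockGL
open Matrix Cfsg.Agent.Lib.Helper4_Transv1

variable {F : Type*} [Field F]

/-- the shape of a matrix commuting with `E10`. -/
def Comm10 (k : ℕ) (g : Matrix (Fin (k+2)) (Fin (k+2)) F) : Prop :=
  (∀ j, j ≠ 0 → g 0 j = 0) ∧ (∀ i, i ≠ 1 → g i 1 = 0) ∧ g 0 0 = g 1 1

theorem mul_E10 (k : ℕ) (g : Matrix (Fin (k+2)) (Fin (k+2)) F) (i j : Fin (k+2)) :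
    (g * E10 k F) i j = if j = 0 then g i 1 else 0 := by
  rw [Matrix.mul_apply]
  unfold E10
  simp only [Matrix.of_apply]
  by_cases hj : j = 0
  · subst hj
    rw [if_pos rfl, Finset.sum_eq_single (1 : Fin (k+2))]
    · simp
    · intro l _ hl
      rw [if_neg (fun h => hl h.1), mul_zero]
    · intro h; exact absurd (Finset.mem_univ _) h
  · rw [if_neg hj]
    apply Finset.sum_eq_zero
    intro l _
    rw [if_neg (fun h => hj h.2), mul_zero]

theorem E10_mul (k : ℕ) (g : Matrix (Fin (k+2)) (Fin (k+2)) F) (i j : Fin (k+2)) :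
    (E10 k F * g) i j = if i = 1 then g 0 j else 0 := by
  rw [Matrix.mul_apply]
  unfold E10
  simp only [Matrix.of_apply]
  by_cases hi : i = 1
  · subst hi
    rw [if_pos rfl, Finset.sum_eq_single (0 : Fin (k+2))]
    · simp
    · intro l _ hl
      rw [if_neg (fun h => hl h.2), zero_mul]
    · intro h; exact absurd (Finset.mem_univ _) h
  · rw [if_neg hi]
    apply Finset.sum_eq_zero
    intro l _
    rw [if_neg (fun h => hi h.1), zero_mul]

theorem comm_iff (k : ℕ) (g : Matrix (Fin (k+2)) (Fin (k+2)) F) :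
    g * (1 + E10 k F) = (1 + E10 k F) * g ↔ Comm10 k g := by
  rw [mul_add, add_mul, mul_one, one_mul, add_right_inj]
  constructor
  · intro h
    have h' : ∀ i j, (if j = 0 then g i 1 else 0) = if i = 1 then g 0 j else 0 := by
      intro i j
      rw [← mul_E10, ← E10_mul, h]
    refine ⟨fun j hj => ?_, fun i hi => ?_, ?_⟩
    · have := h' 1 j
      rw [if_neg hj, if_pos rfl] at this
      exact this.symm
    · have := h' i 0
      rw [if_pos rfl, if_neg hi] at this
      exact this
    · have := h' 1 0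
      rw [if_pos rfl, if_pos rfl] at this
      exact this.symm
  · rintro ⟨h1, h2, h3⟩
    ext i j
    rw [mul_E10, E10_mul]
    by_cases hj : j = 0
    · subst hj
      by_cases hi : i = 1
      · subst hi
        rw [if_pos rfl, if_pos rfl, h3]
      · rw [if_pos rfl, if_neg hi, h2 i hi]
    · by_cases hi : i = 1
      · subst hi
        rw [if_neg hj, if_pos rfl, h1 j hj]
      · rw [if_neg hj, if_neg hi]

theorem det_comm10 (k : ℕ) (g : Matrix (Fin (k+2)) (Fin (k+2)) F) (h : Comm10 k g) :
    g.det = g 0 0 * g 0 0 *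
      (g.submatrix (fun i : Fin k => i.succ.succ) (fun i : Fin k => i.succ.succ)).det := by
  obtain ⟨h1, h2, h3⟩ := h
  rw [Matrix.det_succ_row_zero, Finset.sum_eq_single (0 : Fin (k+2))]
  · rw [Matrix.det_succ_column_zero, Finset.sum_eq_single (0 : Fin (k+1))]
    · simp only [Fin.val_zero, pow_zero, one_mul, Fin.succAbove_zero, Matrix.submatrix_apply,
        Matrix.submatrix_submatrix]
      rw [show g (Fin.succ 0) (Fin.succ 0) = g 1 1 from rfl, ← h3, mul_assoc]
      rfl
    · intro i _ hi
      have : g.submatrix Fin.succ (Fin.succAbove 0) i 0 = 0 := by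
        simp only [Fin.succAbove_zero, Matrix.submatrix_apply]
        apply h2
        intro hh
        apply hi
        exact Fin.succ_injective _ hh
      rw [this, mul_zero, zero_mul]
    · intro h; exact absurd (Finset.mem_univ _) h
  · intro j _ hj
    rw [h1 j hj, mul_zero, zero_mul]
  · intro h; exact absurd (Finset.mem_univ _) h

/-- build a matrix of the shape `Comm10` from its free parameters. -/
def build (k : ℕ) (c : F) (x : Fin (k+1) → F) (y : Fin k → F) (D : Matrix (Fin k) (Fin k) F) :
    Matrix (Fin (k+2)) (Fin (k+2)) F :=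
  Matrix.of (fun i j =>
    Fin.cases (motive := fun _ => F)
      (Fin.cases (motive := fun _ => F) c (fun _ => 0) j)
      (fun i' => Fin.cases (motive := fun _ => F)
        (Fin.cases (motive := fun _ => F) (x 0)
          (fun j' => Fin.cases (motive := fun _ => F) c (fun s => y s) j') j)
        (fun r => Fin.cases (motive := fun _ => F) (x r.succ)
          (fun j' => Fin.cases (motive := fun _ => F) 0 (fun s => D r s) j') j) i') i)

theorem build_comm10 (k : ℕ) (c : F) (x : Fin (k+1) → F) (y : Fin k → F)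
    (D : Matrix (Fin k) (Fin k) F) : Comm10 k (build k c x y D) := by
  refine ⟨fun j hj => ?_, fun i hi => ?_, ?_⟩
  · induction j using Fin.cases with
    | zero => exact absurd rfl hj
    | succ j => rfl
  · induction i using Fin.cases with
    | zero => rfl
    | succ i =>
      induction i using Fin.cases with
      | zero => exact absurd rfl hi
      | succ r => rfl
  · rfl

theorem build_00 (k : ℕ) (c : F) (x : Fin (k+1) → F) (y : Fin k → F)
    (D : Matrix (Fin k) (Fin k) F) : build k c x y D 0 0 = c := rfl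

theorem build_sub (k : ℕ) (c : F) (x : Fin (k+1) → F) (y : Fin k → F)
    (D : Matrix (Fin k) (Fin k) F) :
    (build k c x y D).submatrix (fun i : Fin k => i.succ.succ) (fun i : Fin k => i.succ.succ) = D := by
  ext r s
  rfl

theorem build_x (k : ℕ) (c : F) (x : Fin (k+1) → F) (y : Fin k → F)
    (D : Matrix (Fin k) (Fin k) F) (i : Fin (k+1)) : build k c x y D i.succ 0 = x i := by
  induction i using Fin.cases with
  | zero => rfl
  | succ r => rfl

theorem build_y (k : ℕ) (c : F) (x : Fin (k+1) → F) (y : Fin k → F)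
    (D : Matrix (Fin k) (Fin k) F) (s : Fin k) : build k c x y D 1 s.succ.succ = y s := rfl

theorem build_eq (k : ℕ) (g : Matrix (Fin (k+2)) (Fin (k+2)) F) (h : Comm10 k g) :
    build k (g 0 0) (fun i => g i.succ 0) (fun s => g 1 s.succ.succ)
      (g.submatrix (fun i : Fin k => i.succ.succ) (fun i : Fin k => i.succ.succ)) = g := by
  obtain ⟨h1, h2, h3⟩ := h
  ext i j
  induction i using Fin.cases with
  | zero =>
    induction j using Fin.cases with
    | zero => rfl
    | succ j => exact (h1 j.succ (Fin.succ_ne_zero j)).symm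
  | succ i =>
    induction i using Fin.cases with
    | zero =>
      induction j using Fin.cases with
      | zero => rfl
      | succ j =>
        induction j using Fin.cases with
        | zero => exact h3
        | succ s => rfl
    | succ r =>
      induction j using Fin.cases with
      | zero => rfl
      | succ j =>
        induction j using Fin.cases with
        | zero =>
          refine (h2 r.succ.succ ?_).symm
          intro hh
          exact Fin.succ_ne_zero r (Fin.succ_injective _ hh)
        | succ s => rfl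


/-- matrices of shape `Comm10` with non-zero determinant are parametrised explicitly. -/
noncomputable def shapeEquiv (k : ℕ) :
    {g : Matrix (Fin (k+2)) (Fin (k+2)) F // Comm10 k g ∧ g.det ≠ 0} ≃
      (Fˣ × (Fin (k+1) → F)) × ((Fin k → F) × GL (Fin k) F) where
  toFun g :=
    have hc : g.1 0 0 ≠ 0 := by
      intro h0
      apply g.2.2
      rw [det_comm10 k g.1 g.2.1, h0, zero_mul, zero_mul]
    have hD : (g.1.submatrix (fun i : Fin k => i.succ.succ) (fun i : Fin k => i.succ.succ)).det ≠ 0 := by
      intro h0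
      apply g.2.2
      rw [det_comm10 k g.1 g.2.1, h0, mul_zero]
    ((Units.mk0 _ hc, fun i => g.1 i.succ 0),
      (fun s => g.1 1 s.succ.succ, Matrix.GeneralLinearGroup.mkOfDetNeZero _ hD))
  invFun p := ⟨build k (p.1.1 : F) p.1.2 p.2.1 (p.2.2 : Matrix (Fin k) (Fin k) F),
    build_comm10 _ _ _ _ _, by
      rw [det_comm10 k _ (build_comm10 _ _ _ _ _), build_00, build_sub]
      have h1 : (p.1.1 : F) ≠ 0 := p.1.1.ne_zero
      have h2 : (p.2.2 : Matrix (Fin k) (Fin k) F).det ≠ 0 :=
        (Matrix.isUnits_det_units p.2.2).ne_zero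
      exact mul_ne_zero (mul_ne_zero h1 h1) h2⟩
  left_inv g := by
    apply Subtype.ext
    exact build_eq k g.1 g.2.1
  right_inv p := by
    obtain ⟨⟨c, x⟩, ⟨y, D⟩⟩ := p
    refine Prod.ext (Prod.ext ?_ ?_) (Prod.ext ?_ ?_)
    · apply Units.ext
      rfl
    · funext i
      exact build_x _ _ _ _ _ i
    · funext s
      rfl
    · apply Units.ext
      exact build_sub _ _ _ _ _

/-- elements of `GL` with a matrix property, counted as matrices. -/
noncomputable def glSubtypeEquiv {ι : Type*} [Fintype ι] [DecidableEq ι] (P : Matrix ι ι F → Prop) :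
    {g : GL ι F // P (g : Matrix ι ι F)} ≃ {M : Matrix ι ι F // P M ∧ M.det ≠ 0} where
  toFun g := ⟨(g.1 : Matrix ι ι F), g.2, (Matrix.isUnits_det_units g.1).ne_zero⟩
  invFun M := ⟨Matrix.GeneralLinearGroup.mkOfDetNeZero M.1 M.2.2, M.2.1⟩
  left_inv g := by
    apply Subtype.ext
    apply Units.ext
    rfl
  right_inv M := by
    apply Subtype.ext
    rfl

theorem card_shape [Fintype F] (k : ℕ) :
    Nat.card {g : Matrix (Fin (k+2)) (Fin (k+2)) F // Comm10 k g ∧ g.det ≠ 0} =
      ((Fintype.card F - 1) * Fintype.card F ^ (k+1)) *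
        (Fintype.card F ^ k * ∏ i : Fin k, (Fintype.card F ^ k - Fintype.card F ^ (i : ℕ))) := by
  classical
  rw [Nat.card_congr (shapeEquiv k), Nat.card_prod, Nat.card_prod, Nat.card_prod,
    Matrix.card_GL_field, Nat.card_eq_fintype_card, Fintype.card_units,
    Nat.card_eq_fintype_card, Nat.card_eq_fintype_card, Fintype.card_fun, Fintype.card_fun,
    Fintype.card_fin, Fintype.card_fin]

/-- the centraliser of the standard transvection `1 + E10`. -/
theorem card_centralizer_std [Fintype F] (k : ℕ) (t : GL (Fin (k+2)) F)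
    (ht : (t : Matrix (Fin (k+2)) (Fin (k+2)) F) = 1 + E10 k F) :
    Nat.card (Subgroup.centralizer ({t} : Set (GL (Fin (k+2)) F))) =
      ((Fintype.card F - 1) * Fintype.card F ^ (k+1)) *
        (Fintype.card F ^ k * ∏ i : Fin k, (Fintype.card F ^ k - Fintype.card F ^ (i : ℕ))) := by
  classical
  rw [← card_shape k]
  have e1 : (Subgroup.centralizer ({t} : Set (GL (Fin (k+2)) F))) ≃
      {g : GL (Fin (k+2)) F // Comm10 k (g : Matrix (Fin (k+2)) (Fin (k+2)) F)} := by
    refine Equiv.subtypeEquivRight ?_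
    intro g
    rw [Subgroup.mem_centralizer_iff]
    simp only [Set.mem_singleton_iff, forall_eq]
    rw [← comm_iff, ← ht]
    constructor
    · intro h
      have := congrArg (fun u : GL (Fin (k+2)) F => (u : Matrix (Fin (k+2)) (Fin (k+2)) F)) h
      simp only [Units.val_mul] at this
      exact this.symm
    · intro h
      apply Units.ext
      simp only [Units.val_mul]
      exact h.symm
  rw [Nat.card_congr e1, Nat.card_congr (glSubtypeEquiv _)]

/-- centralisers of conjugate elements have the same order. -/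
theorem card_centralizer_conj {G : Type*} [Group G] (t Q : G) :
    Nat.card (Subgroup.centralizer ({Q⁻¹ * t * Q} : Set G)) =
      Nat.card (Subgroup.centralizer ({t} : Set G)) := by
  apply Nat.card_congr
  refine Equiv.subtypeEquiv (MulAut.conj Q).toEquiv ?_
  intro g
  simp only [Subgroup.mem_centralizer_iff, Set.mem_singleton_iff, forall_eq, MulEquiv.toEquiv_eq_coe,
    EquivLike.coe_coe, MulAut.conj_apply]
  constructor
  · intro h
    calc t * (Q * g * Q⁻¹) = Q * ((Q⁻¹ * t * Q) * g) * Q⁻¹ := by group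
      _ = Q * (g * (Q⁻¹ * t * Q)) * Q⁻¹ := by rw [h]
      _ = Q * g * Q⁻¹ * t := by group
  · intro h
    calc Q⁻¹ * t * Q * g = Q⁻¹ * (t * (Q * g * Q⁻¹)) * Q := by group
      _ = Q⁻¹ * ((Q * g * Q⁻¹) * t) * Q := by rw [h]
      _ = g * (Q⁻¹ * t * Q) := by group

/-- the centraliser of any transvection of `GL_{k+2}(q)`. -/
theorem card_centralizer_transvection [Fintype F] (k : ℕ) (t : GL (Fin (k+2)) F)
    (ht : Cfsg.IsTransvection (t : Matrix (Fin (k+2)) (Fin (k+2)) F)) :
    Nat.card (Subgroup.centralizer ({t} : Set (GL (Fin (k+2)) F))) =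
      ((Fintype.card F - 1) * Fintype.card F ^ (k+1)) *
        (Fintype.card F ^ k * ∏ i : Fin k, (Fintype.card F ^ k - Fintype.card F ^ (i : ℕ))) := by
  classical
  obtain ⟨Q, hQ, hNQ⟩ := conj_E10 ((t : Matrix (Fin (k+2)) (Fin (k+2)) F) - 1) ht.1 ht.2
  set Qg : GL (Fin (k+2)) F := Matrix.GeneralLinearGroup.mkOfDetNeZero Q hQ with hQg
  rw [← card_centralizer_conj t Qg]
  apply card_centralizer_std
  have hQv : (Qg : Matrix (Fin (k+2)) (Fin (k+2)) F) = Q := rfl
  have h1 : (t : Matrix (Fin (k+2)) (Fin (k+2)) F) * Q = Q * (1 + E10 k F) := by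
    rw [mul_add, mul_one, ← hNQ, sub_mul, one_mul]
    abel
  have h2 : ((Qg⁻¹ : GL (Fin (k+2)) F) : Matrix (Fin (k+2)) (Fin (k+2)) F) * Q = 1 := by
    rw [← hQv, ← Units.val_mul, inv_mul_cancel]
    rfl
  simp only [Units.val_mul]
  rw [hQv, mul_assoc, h1, ← mul_assoc, h2, one_mul]


/-! ### Two-block triangular matrices -/

section twoblock

variable {ι : Type*}

/-- number of invertible matrices over any finite index type. -/
theorem card_det_ne_zero [Fintype ι] [DecidableEq ι] [Fintype F] (m : ℕ) (hm : Fintype.card ι = m) :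
    Nat.card {A : Matrix ι ι F // A.det ≠ 0} =
      ∏ i : Fin m, (Fintype.card F ^ m - Fintype.card F ^ (i : ℕ)) := by
  classical
  rw [← Matrix.card_GL_field]
  let e : ι ≃ Fin m := Fintype.equivFinOfCardEq hm
  have e2 : {A : Matrix ι ι F // A.det ≠ 0} ≃ {A : Matrix (Fin m) (Fin m) F // True ∧ A.det ≠ 0} := by
    refine Equiv.subtypeEquiv (Matrix.reindex e e) ?_
    intro A
    rw [Matrix.det_reindex_self]
    simp
  rw [Nat.card_congr e2, ← Nat.card_congr (glSubtypeEquiv (fun _ => True))]
  exact Nat.card_congr (Equiv.subtypeUnivEquiv (fun _ => trivial))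

/-- assemble a block upper triangular matrix. -/
def assemble (p : ι → Prop) [DecidablePred p] (A : Matrix {i // p i} {i // p i} F)
    (D : Matrix {i // ¬ p i} {i // ¬ p i} F) (B : Matrix {i // p i} {i // ¬ p i} F) :
    Matrix ι ι F :=
  Matrix.of fun i j =>
    if hi : p i then (if hj : p j then A ⟨i, hi⟩ ⟨j, hj⟩ else B ⟨i, hi⟩ ⟨j, hj⟩)
    else (if hj : p j then 0 else D ⟨i, hi⟩ ⟨j, hj⟩)

theorem assemble_tri (p : ι → Prop) [DecidablePred p] (A : Matrix {i // p i} {i // p i} F)
    (D : Matrix {i // ¬ p i} {i // ¬ p i} F) (B : Matrix {i // p i} {i // ¬ p i} F) :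
    ∀ i, ¬ p i → ∀ j, p j → assemble p A D B i j = 0 := by
  intro i hi j hj
  simp [assemble, hi, hj]

theorem assemble_A (p : ι → Prop) [DecidablePred p] (A : Matrix {i // p i} {i // p i} F)
    (D : Matrix {i // ¬ p i} {i // ¬ p i} F) (B : Matrix {i // p i} {i // ¬ p i} F) :
    (assemble p A D B).toSquareBlockProp p = A := by
  ext i j
  simp [assemble, Matrix.toSquareBlockProp, i.2, j.2]

theorem assemble_D (p : ι → Prop) [DecidablePred p] (A : Matrix {i // p i} {i // p i} F)
    (D : Matrix {i // ¬ p i} {i // ¬ p i} F) (B : Matrix {i // p i} {i // ¬ p i} F) :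
    (assemble p A D B).toSquareBlockProp (fun i => ¬ p i) = D := by
  ext i j
  simp [assemble, Matrix.toSquareBlockProp, i.2, j.2]

theorem assemble_B (p : ι → Prop) [DecidablePred p] (A : Matrix {i // p i} {i // p i} F)
    (D : Matrix {i // ¬ p i} {i // ¬ p i} F) (B : Matrix {i // p i} {i // ¬ p i} F) :
    (assemble p A D B).toBlock p (fun i => ¬ p i) = B := by
  ext i j
  simp [assemble, Matrix.toBlock, i.2, j.2]

theorem assemble_eq (p : ι → Prop) [DecidablePred p] (M : Matrix ι ι F)
    (h : ∀ i, ¬ p i → ∀ j, p j → M i j = 0) :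
    assemble p (M.toSquareBlockProp p) (M.toSquareBlockProp (fun i => ¬ p i))
      (M.toBlock p (fun i => ¬ p i)) = M := by
  ext i j
  by_cases hi : p i <;> by_cases hj : p j <;>
    simp [assemble, Matrix.toSquareBlockProp, Matrix.toBlock, hi, hj]
  exact (h i hi j hj).symm

/-- the parametrisation of invertible block upper triangular matrices. -/
noncomputable def triEquiv [Fintype ι] [DecidableEq ι] (p : ι → Prop) [DecidablePred p] :
    {M : Matrix ι ι F // (∀ i, ¬ p i → ∀ j, p j → M i j = 0) ∧ M.det ≠ 0} ≃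
      ({A : Matrix {i // p i} {i // p i} F // A.det ≠ 0} ×
        {D : Matrix {i // ¬ p i} {i // ¬ p i} F // D.det ≠ 0}) ×
        Matrix {i // p i} {i // ¬ p i} F where
  toFun M :=
    ((⟨M.1.toSquareBlockProp p, by
        intro h0
        apply M.2.2
        rw [Matrix.twoBlockTriangular_det M.1 p M.2.1, h0, zero_mul]⟩,
      ⟨M.1.toSquareBlockProp (fun i => ¬ p i), by
        intro h0
        apply M.2.2
        rw [Matrix.twoBlockTriangular_det M.1 p M.2.1, h0, mul_zero]⟩),
      M.1.toBlock p (fun i => ¬ p i))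
  invFun X := ⟨assemble p X.1.1.1 X.1.2.1 X.2, assemble_tri p _ _ _, by
    rw [Matrix.twoBlockTriangular_det _ p (assemble_tri p _ _ _), assemble_A, assemble_D]
    exact mul_ne_zero X.1.1.2 X.1.2.2⟩
  left_inv M := by
    apply Subtype.ext
    exact assemble_eq p M.1 M.2.1
  right_inv X := by
    obtain ⟨⟨⟨A, hA⟩, ⟨D, hD⟩⟩, B⟩ := X
    refine Prod.ext (Prod.ext ?_ ?_) ?_
    · apply Subtype.ext
      exact assemble_A p A D B
    · apply Subtype.ext
      exact assemble_D p A D B
    · exact assemble_B p A D B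

theorem card_tri [Fintype ι] [DecidableEq ι] [Fintype F] (p : ι → Prop) [DecidablePred p] (a b : ℕ)
    (ha : Fintype.card {i // p i} = a) (hb : Fintype.card {i // ¬ p i} = b) :
    Nat.card {M : Matrix ι ι F // (∀ i, ¬ p i → ∀ j, p j → M i j = 0) ∧ M.det ≠ 0} =
      (∏ i : Fin a, (Fintype.card F ^ a - Fintype.card F ^ (i : ℕ))) *
        (∏ i : Fin b, (Fintype.card F ^ b - Fintype.card F ^ (i : ℕ))) *
        Fintype.card F ^ (a * b) := by
  classical
  rw [Nat.card_congr (triEquiv p), Nat.card_prod, Nat.card_prod, card_det_ne_zero a ha,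
    card_det_ne_zero b hb]
  congr 1
  change Nat.card ({i // p i} → {i // ¬ p i} → F) = _
  rw [Nat.card_fun, Nat.card_fun, Nat.card_eq_fintype_card, Nat.card_eq_fintype_card,
    Nat.card_eq_fintype_card, ha, hb, ← pow_mul, mul_comm]

end twoblock

/-- the stabiliser of the span of the first `k` coordinate vectors, as a block shape. -/
theorem mem_stabilizing_iff [Fintype F] (n k : ℕ) (g : GL (Fin n) F) :
    g ∈ Cfsg.stabilizing (Cfsg.glToMat (Fin n) F) {v : Fin n → F | ∀ i : Fin n, k ≤ (i : ℕ) → v i = 0} ↔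
      ∀ i : Fin n, ¬ ((i : ℕ) < k) → ∀ j : Fin n, (j : ℕ) < k → (g : Matrix (Fin n) (Fin n) F) i j = 0 := by
  classical
  set W : Set (Fin n → F) := {v : Fin n → F | ∀ i : Fin n, k ≤ (i : ℕ) → v i = 0} with hW
  constructor
  · intro hg i hi j hj
    have hmem : (Pi.single j 1 : Fin n → F) ∈ W := by
      intro l hl
      rw [Pi.single_apply, if_neg]
      intro h
      rw [h] at hl
      omega
    have := (hg _).1 hmem i (by omega)
    simpa using this
  · intro hblock
    have hfwd : ∀ v, v ∈ W → (g : Matrix (Fin n) (Fin n) F) *ᵥ v ∈ W := by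
      intro v hv i hi
      rw [Matrix.mulVec, dotProduct]
      apply Finset.sum_eq_zero
      intro j _
      by_cases hj : (j : ℕ) < k
      · rw [hblock i (by omega) j hj, zero_mul]
      · rw [hv j (by omega), mul_zero]
    have hinj : Function.Injective (fun v : Fin n → F => (g : Matrix (Fin n) (Fin n) F) *ᵥ v) := by
      intro v w hvw
      have := congrArg (fun u => ((g⁻¹ : GL (Fin n) F) : Matrix (Fin n) (Fin n) F) *ᵥ u) hvw
      simp only [Matrix.mulVec_mulVec, ← Units.val_mul, inv_mul_cancel, Units.val_one,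
        Matrix.one_mulVec] at this
      exact this
    intro v
    refine ⟨hfwd v, fun hv => ?_⟩
    let f : W → W := fun w => ⟨(g : Matrix (Fin n) (Fin n) F) *ᵥ w.1, hfwd w.1 w.2⟩
    have hfinj : Function.Injective f := by
      intro a b hab
      apply Subtype.ext
      exact hinj (congrArg Subtype.val hab)
    obtain ⟨w, hw⟩ := (Finite.injective_iff_surjective.1 hfinj) ⟨_, hv⟩
    have : w.1 = v := hinj (congrArg Subtype.val hw)
    rw [← this]
    exact w.2

end Cfsg.Agent.Helper9BlockGL
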