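-- helper9: symplectic frames whose second members are constrained to lie in given subspaces.
import Cfsg.Agent.Lib.Helper9_Frames
import Cfsg.Agent.S0245
import Mathlib

set_option autoImplicit false
open Cfsg

namespace Cfsg.Agent.Helper9CFrames

open Matrix Cfsg.Agent.Lib.Helper1_Symp Cfsg.Agent.Helper9Sp Cfsg.Agent.Helper9Frames

variable {F : Type*} [Field F] {m : ℕ}

/-- The constraint: the second member of the `a`-th pair lies in `W a`, for `a < k`. -/
def Constr (W : ℕ → Submodule F (Fin m ⊕ Fin m → F)) (k : ℕ) {j : ℕ}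
    (c : Fin j → (Fin m ⊕ Fin m → F) × (Fin m ⊕ Fin m → F)) : Prop :=
  ∀ a : Fin j, a.val < k → (c a).2 ∈ W a.val

lemma constr_snoc (W : ℕ → Submodule F (Fin m ⊕ Fin m → F)) (k : ℕ) {j : ℕ}
    (c : Fin j → (Fin m ⊕ Fin m → F) × (Fin m ⊕ Fin m → F))
    (p : (Fin m ⊕ Fin m → F) × (Fin m ⊕ Fin m → F)) :
    Constr W k (Fin.snoc c p : Fin (j + 1) → (Fin m ⊕ Fin m → F) × (Fin m ⊕ Fin m → F)) ↔
      Constr W k c ∧ (j < k → p.2 ∈ W j) := by
  constructor
  · intro h
    constructor
    · intro a ha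
      have := h a.castSucc (by simpa using ha)
      simpa [Fin.snoc_castSucc] using this
    · intro hj
      have := h (Fin.last j) (by simpa using hj)
      simpa [Fin.snoc_last] using this
  · rintro ⟨h1, h2⟩ a
    refine Fin.lastCases ?_ (fun a' => ?_) a
    · intro ha
      simp only [Fin.snoc_last]
      exact h2 (by simpa using ha)
    · intro ha
      simp only [Fin.snoc_castSucc]
      exact h1 a' (by simpa using ha)

/-- Constrained frames. -/
abbrev CFr (W : ℕ → Submodule F (Fin m ⊕ Fin m → F)) (k j : ℕ) : Type _ :=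
  {c : Fin j → (Fin m ⊕ Fin m → F) × (Fin m ⊕ Fin m → F) // IsFrame c ∧ Constr W k c}

/-- Restriction of a constrained frame. -/
def restrC (W : ℕ → Submodule F (Fin m ⊕ Fin m → F)) (k : ℕ) {j : ℕ} (x : CFr W k (j + 1)) :
    CFr W k j :=
  ⟨Fin.init x.1, by
    have h := x.2
    rw [← Fin.snoc_init_self x.1] at h
    exact ⟨((isFrame_snoc _ _).1 h.1).1, ((constr_snoc W k _ _).1 h.2).1⟩⟩

/-- The fibre of the restriction over a constrained frame. -/
def cfibre (W : ℕ → Submodule F (Fin m ⊕ Fin m → F)) (k : ℕ) {j : ℕ} (y : CFr W k j) :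
    {x : CFr W k (j + 1) // restrC W k x = y} ≃
      {p : (Fin m ⊕ Fin m → F) × (Fin m ⊕ Fin m → F) // IsExt y.1 p ∧ (j < k → p.2 ∈ W j)} where
  toFun x := ⟨x.1.1 (Fin.last j), by
    have h := x.1.2
    rw [← Fin.snoc_init_self x.1.1] at h
    have h2 : Fin.init x.1.1 = y.1 := congrArg Subtype.val x.2
    rw [h2] at h
    exact ⟨((isFrame_snoc _ _).1 h.1).2, ((constr_snoc W k _ _).1 h.2).2⟩⟩
  invFun p := ⟨⟨(Fin.snoc y.1 p.1 : Fin (j + 1) → (Fin m ⊕ Fin m → F) × (Fin m ⊕ Fin m → F)),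
    (isFrame_snoc _ _).2 ⟨y.2.1, p.2.1⟩, (constr_snoc W k _ _).2 ⟨y.2.2, p.2.2⟩⟩, by
      apply Subtype.ext
      show Fin.init (Fin.snoc y.1 p.1 : Fin (j + 1) → _) = y.1
      exact Fin.init_snoc _ _⟩
  left_inv x := by
    apply Subtype.ext
    apply Subtype.ext
    have h2 : Fin.init x.1.1 = y.1 := congrArg Subtype.val x.2
    show (Fin.snoc y.1 (x.1.1 (Fin.last j)) : Fin (j + 1) → _) = x.1.1
    rw [← h2]
    exact Fin.snoc_init_self x.1.1
  right_inv p := by
    apply Subtype.ext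
    show (Fin.snoc y.1 p.1 : Fin (j + 1) → _) (Fin.last j) = p.1
    exact Fin.snoc_last _ _

/-- Mirror image of `card_fibre`: partners on the left. -/
theorem card_fibre_left [Fintype F] {j : ℕ}
    {c : Fin j → (Fin m ⊕ Fin m → F) × (Fin m ⊕ Fin m → F)}
    (hc : IsFrame c) {y : Fin m ⊕ Fin m → F} (hy : InOrth c y) (hy0 : y ≠ 0) :
    Fintype.card F * Nat.card {x : Fin m ⊕ Fin m → F // InOrth c x ∧ sympForm m F x y = 1} =
      Nat.card {x : Fin m ⊕ Fin m → F // InOrth c x} := by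
  rw [← card_fibre hc hy hy0]
  congr 1
  apply Nat.card_congr
  refine ⟨fun x => ⟨(-1 : F) • x.1, inOrth_smul _ x.2.1, ?_⟩,
    fun x => ⟨(-1 : F) • x.1, inOrth_smul _ x.2.1, ?_⟩, ?_, ?_⟩
  · rw [sympForm_smul_right, sympForm_swap, x.2.2]
    ring
  · rw [sympForm_smul_left, sympForm_swap, x.2.2]
    ring
  · intro x; apply Subtype.ext; simp
  · intro x; apply Subtype.ext; simp

/-- The part of a totally isotropic subspace containing the second members of a frame that is
orthogonal to the frame. -/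
theorem card_W_orth [Fintype F] {j : ℕ} {c : Fin j → (Fin m ⊕ Fin m → F) × (Fin m ⊕ Fin m → F)}
    (hc : IsFrame c) (W : Submodule F (Fin m ⊕ Fin m → F)) (hcW : ∀ a, (c a).2 ∈ W)
    (hW : ∀ x ∈ W, ∀ y ∈ W, sympForm m F x y = 0) :
    Fintype.card F ^ j * Nat.card {w : Fin m ⊕ Fin m → F // w ∈ W ∧ InOrth c w} = Nat.card W := by
  classical
  have h1 : ∀ a b, sympForm m F (c a).1 (c b).2 = if a = b then 1 else 0 := fun a b => (hc a b).1
  have key : ∀ (t : Fin j → F) (w : Fin m ⊕ Fin m → F), InOrth c w → ∀ b,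
      sympForm m F (c b).1 (w + ∑ a, t a • (c a).2) = t b := by
    intro t w hw b
    rw [sympForm_add_right, (hw b).1, form_sum_smul_right, zero_add]
    simp [h1]
  have hsum : ∀ t : Fin j → F, ∑ a, t a • (c a).2 ∈ W := fun t =>
    Submodule.sum_mem _ (fun a _ => W.smul_mem _ (hcW a))
  let e : W ≃ (Fin j → F) × {w : Fin m ⊕ Fin m → F // w ∈ W ∧ InOrth c w} :=
    { toFun := fun w => (fun a => sympForm m F (c a).1 w.1,
        ⟨w.1 - ∑ a, sympForm m F (c a).1 w.1 • (c a).2, W.sub_mem w.2 (hsum _), by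
          intro b
          constructor
          · rw [sympForm_sub_right, form_sum_smul_right]
            simp [h1]
          · rw [sympForm_sub_right, form_sum_smul_right, hW _ (hcW b) _ w.2]
            have : ∀ a, sympForm m F (c b).2 (c a).2 = 0 := fun a => (hc b a).2.2
            simp [this]⟩)
      invFun := fun t => ⟨t.2.1 + ∑ a, t.1 a • (c a).2, W.add_mem t.2.2.1 (hsum _)⟩
      left_inv := by
        intro w
        apply Subtype.ext
        simp
      right_inv := by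
        rintro ⟨t, ⟨w, hwW, hw⟩⟩
        have e1 : (fun a => sympForm m F (c a).1 (w + ∑ a, t a • (c a).2)) = t :=
          funext (key t w hw)
        refine Prod.ext e1 (Subtype.ext ?_)
        show w + ∑ a, t a • (c a).2 -
          ∑ a, sympForm m F (c a).1 (w + ∑ a, t a • (c a).2) • (c a).2 = w
        simp only [key t w hw]
        abel }
  rw [Nat.card_congr e, Nat.card_prod, Nat.card_fun, Nat.card_eq_fintype_card (α := F),
    Nat.card_eq_fintype_card (α := Fin j), Fintype.card_fin]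

/-- The number of constrained extensions of a frame. -/
theorem card_cext [Fintype F] {j : ℕ} {c : Fin j → (Fin m ⊕ Fin m → F) × (Fin m ⊕ Fin m → F)}
    (hc : IsFrame c) (W : Submodule F (Fin m ⊕ Fin m → F)) :
    Fintype.card F * Nat.card {p : (Fin m ⊕ Fin m → F) × (Fin m ⊕ Fin m → F) //
        IsExt c p ∧ p.2 ∈ W} =
      (Nat.card {w : Fin m ⊕ Fin m → F // w ∈ W ∧ InOrth c w} - 1) *
        Nat.card {y : Fin m ⊕ Fin m → F // InOrth c y} := by
  classical
  set U := {w : Fin m ⊕ Fin m → F // w ∈ W ∧ InOrth c w} with hU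
  let zU : U := ⟨0, W.zero_mem, inOrth_zero c⟩
  have e : {p : (Fin m ⊕ Fin m → F) × (Fin m ⊕ Fin m → F) // IsExt c p ∧ p.2 ∈ W} ≃
      Σ y : {y : U // y ≠ zU}, {x : Fin m ⊕ Fin m → F // InOrth c x ∧ sympForm m F x y.1.1 = 1} :=
    { toFun := fun p => ⟨⟨⟨p.1.2, p.2.2, p.2.1.2.1⟩, by
          intro h
          have h0 : p.1.2 = 0 := congrArg Subtype.val h
          have := p.2.1.2.2
          rw [h0, sympForm_zero_right] at this
          exact zero_ne_one this⟩, ⟨p.1.1, p.2.1.1, p.2.1.2.2⟩⟩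
      invFun := fun s => ⟨(s.2.1, s.1.1.1), ⟨s.2.2.1, s.1.1.2.2, s.2.2.2⟩, s.1.1.2.1⟩
      left_inv := by rintro ⟨⟨x, y⟩, ⟨h1, h2, h3⟩, h4⟩; rfl
      right_inv := by rintro ⟨⟨⟨y, hy1, hy2⟩, hy0⟩, ⟨x, hx⟩⟩; rfl }
  rw [Nat.card_congr e, Nat.card_sigma, Finset.mul_sum]
  have hfib : ∀ y : {y : U // y ≠ zU}, Fintype.card F *
      Nat.card {x : Fin m ⊕ Fin m → F // InOrth c x ∧ sympForm m F x y.1.1 = 1} =
        Nat.card {y : Fin m ⊕ Fin m → F // InOrth c y} := by
    intro y
    apply card_fibre_left hc y.1.2.2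
    intro h0
    exact y.2 (Subtype.ext h0)
  rw [Finset.sum_congr rfl (fun y _ => hfib y), Finset.sum_const, smul_eq_mul, Finset.card_univ]
  congr 1
  rw [Nat.card_eq_fintype_card (α := U)]
  exact Set.card_ne_eq zU


/-- The data of an admissible constraint. -/
structure Admissible [Fintype F] (W : ℕ → Submodule F (Fin m ⊕ Fin m → F)) (k : ℕ) (d : ℕ → ℕ) :
    Prop where
  mono : ∀ a b, a ≤ b → b < k → W a ≤ W b
  iso : ∀ b, b < k → ∀ x ∈ W b, ∀ y ∈ W b, sympForm m F x y = 0
  card : ∀ b, b < k → Nat.card (W b) = Fintype.card F ^ d b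

/-- The factor contributed by the `i`-th extension step. -/
def term (q m k : ℕ) (d : ℕ → ℕ) (i : ℕ) : ℕ :=
  if i < k then (q ^ (d i - i) - 1) * q ^ (2 * (m - i) - 1)
  else (q ^ (2 * (m - i)) - 1) * q ^ (2 * (m - i) - 1)

theorem card_cfr_zero (W : ℕ → Submodule F (Fin m ⊕ Fin m → F)) (k : ℕ) :
    Nat.card (CFr W k 0) = 1 := by
  rw [Nat.card_eq_one_iff_unique]
  refine ⟨⟨fun a b => Subtype.ext (funext fun i => i.elim0)⟩,
    ⟨⟨fun i => i.elim0, fun a => a.elim0, fun a => a.elim0⟩⟩⟩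

theorem card_orth' [Fintype F] {j : ℕ} (c : Fin j → (Fin m ⊕ Fin m → F) × (Fin m ⊕ Fin m → F))
    (hc : IsFrame c) (hj : j ≤ m) :
    Nat.card {x : Fin m ⊕ Fin m → F // InOrth c x} = Fintype.card F ^ (2 * (m - j)) := by
  have hqpos : 0 < Fintype.card F := Fintype.card_pos
  have h2 := card_orth c hc
  have : Fintype.card F ^ (2 * j) * Nat.card {x : Fin m ⊕ Fin m → F // InOrth c x} =
      Fintype.card F ^ (2 * j) * Fintype.card F ^ (2 * (m - j)) := by
    rw [h2, ← pow_add]
    congr 1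
    omega
  exact Nat.eq_of_mul_eq_mul_left (pow_pos hqpos _) this

theorem card_cfr_succ [Fintype F] (W : ℕ → Submodule F (Fin m ⊕ Fin m → F)) (k : ℕ) (d : ℕ → ℕ)
    (hW : Admissible W k d) (j : ℕ) (hj : j < m) :
    Nat.card (CFr W k (j + 1)) = Nat.card (CFr W k j) * term (Fintype.card F) m k d j := by
  classical
  set q := Fintype.card F with hq
  have hqpos : 0 < q := Fintype.card_pos
  have h3 : q ^ (2 * (m - j)) = q * q ^ (2 * (m - j) - 1) := by
    rw [← pow_succ']
    congr 1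
    omega
  have hE : ∀ y : CFr W k j,
      Nat.card {p : (Fin m ⊕ Fin m → F) × (Fin m ⊕ Fin m → F) //
        IsExt y.1 p ∧ (j < k → p.2 ∈ W j)} = term q m k d j := by
    intro y
    have hu := card_orth' y.1 y.2.1 (le_of_lt hj)
    rw [← hq] at hu
    unfold term
    by_cases hjk : j < k
    · rw [if_pos hjk]
      have hcW : ∀ a : Fin j, (y.1 a).2 ∈ W j := fun a =>
        hW.mono a.val j (le_of_lt a.2) hjk (y.2.2 a (lt_trans a.2 hjk))
      have h1 := card_cext y.2.1 (W j)
      have h2 := card_W_orth y.2.1 (W j) hcW (hW.iso j hjk)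
      rw [hW.card j hjk, ← hq] at h2
      have hle : j ≤ d j := by
        by_contra hcon
        push Not at hcon
        have h5 : q ^ d j < q ^ j * 1 := by
          rw [mul_one]
          have hq2 : 2 ≤ q := Fintype.one_lt_card
          exact Nat.pow_lt_pow_right (by omega) hcon
        have h6 : q ^ j * 1 ≤ q ^ j * Nat.card {w : Fin m ⊕ Fin m → F // w ∈ W j ∧ InOrth y.1 w} := by
          apply Nat.mul_le_mul_left
          haveI : Nonempty {w : Fin m ⊕ Fin m → F // w ∈ W j ∧ InOrth y.1 w} :=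
            ⟨⟨0, (W j).zero_mem, inOrth_zero _⟩⟩
          exact Nat.one_le_iff_ne_zero.2 Nat.card_pos.ne'
        omega
      have hWo : Nat.card {w : Fin m ⊕ Fin m → F // w ∈ W j ∧ InOrth y.1 w} = q ^ (d j - j) := by
        have : q ^ j * Nat.card {w : Fin m ⊕ Fin m → F // w ∈ W j ∧ InOrth y.1 w} =
            q ^ j * q ^ (d j - j) := by
          rw [h2, ← pow_add]
          congr 1
          omega
        exact Nat.eq_of_mul_eq_mul_left (pow_pos hqpos _) this
      rw [hWo, hu, ← hq] at h1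
      have h4 : q * Nat.card {p : (Fin m ⊕ Fin m → F) × (Fin m ⊕ Fin m → F) //
          IsExt y.1 p ∧ (j < k → p.2 ∈ W j)} = q * ((q ^ (d j - j) - 1) * q ^ (2 * (m - j) - 1)) := by
        have hc2 : Nat.card {p : (Fin m ⊕ Fin m → F) × (Fin m ⊕ Fin m → F) //
            IsExt y.1 p ∧ (j < k → p.2 ∈ W j)} =
            Nat.card {p : (Fin m ⊕ Fin m → F) × (Fin m ⊕ Fin m → F) // IsExt y.1 p ∧ p.2 ∈ W j} := by
          apply Nat.card_congr
          apply Equiv.subtypeEquivRight
          intro p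
          constructor
          · rintro ⟨h1, h2⟩; exact ⟨h1, h2 hjk⟩
          · rintro ⟨h1, h2⟩; exact ⟨h1, fun _ => h2⟩
        rw [hc2, h1, h3]
        ring
      exact Nat.eq_of_mul_eq_mul_left hqpos h4
    · rw [if_neg hjk]
      have h1 := card_ext y.2.1
      rw [hu, ← hq] at h1
      have hc2 : Nat.card {p : (Fin m ⊕ Fin m → F) × (Fin m ⊕ Fin m → F) //
          IsExt y.1 p ∧ (j < k → p.2 ∈ W j)} =
          Nat.card {p : (Fin m ⊕ Fin m → F) × (Fin m ⊕ Fin m → F) // IsExt y.1 p} := by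
        apply Nat.card_congr
        apply Equiv.subtypeEquivRight
        intro p
        constructor
        · rintro ⟨h1, _⟩; exact h1
        · intro h1; exact ⟨h1, fun h => absurd h hjk⟩
      have h4 : q * Nat.card {p : (Fin m ⊕ Fin m → F) × (Fin m ⊕ Fin m → F) //
          IsExt y.1 p ∧ (j < k → p.2 ∈ W j)} =
          q * ((q ^ (2 * (m - j)) - 1) * q ^ (2 * (m - j) - 1)) := by
        rw [hc2, h1]
        generalize (q ^ (2 * (m - j)) - 1) = A
        rw [h3]
        ring
      exact Nat.eq_of_mul_eq_mul_left hqpos h4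
  haveI : Finite (CFr W k j) := by
    unfold CFr
    infer_instance
  haveI : Fintype (CFr W k j) := Fintype.ofFinite _
  rw [← Nat.card_congr (Equiv.sigmaFiberEquiv (restrC W k (j := j))), Nat.card_sigma]
  rw [Finset.sum_congr rfl (fun y _ => (Nat.card_congr (cfibre W k y)).trans (hE y)),
    Finset.sum_const, smul_eq_mul, Finset.card_univ, Nat.card_eq_fintype_card]

theorem card_cfr [Fintype F] (W : ℕ → Submodule F (Fin m ⊕ Fin m → F)) (k : ℕ) (d : ℕ → ℕ)
    (hW : Admissible W k d) (j : ℕ) (hj : j ≤ m) :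
    Nat.card (CFr W k j) = ∏ i ∈ Finset.range j, term (Fintype.card F) m k d i := by
  induction j with
  | zero => rw [card_cfr_zero, Finset.range_zero, Finset.prod_empty]
  | succ j ih =>
    rw [card_cfr_succ W k d hW j (by omega), ih (by omega), Finset.prod_range_succ]


/-- An injective endomorphism mapping a finite subspace into itself stabilises it. -/
theorem stab_iff_of_le {ι : Type} [Fintype ι] [DecidableEq ι] [Fintype F]
    (W : Submodule F (ι → F)) (M : Matrix ι ι F)
    (hM : Function.Injective (fun v : ι → F => M *ᵥ v)) (h : ∀ v ∈ W, M *ᵥ v ∈ W) :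
    ∀ v, v ∈ W ↔ M *ᵥ v ∈ W := by
  intro v
  refine ⟨h v, fun hv => ?_⟩
  let φ : W → W := fun w => ⟨M *ᵥ w.1, h w.1 w.2⟩
  have hφ : Function.Injective φ := by
    intro a b hab
    apply Subtype.ext
    exact hM (congrArg Subtype.val hab)
  obtain ⟨w, hw⟩ := (Finite.injective_iff_surjective.1 hφ) ⟨M *ᵥ v, hv⟩
  have : M *ᵥ w.1 = M *ᵥ v := congrArg Subtype.val hw
  rw [← hM this]
  exact w.2

theorem symp_mulVec_injective (A : Matrix.symplecticGroup (Fin m) F) :
    Function.Injective (fun v : Fin m ⊕ Fin m → F => A.1 *ᵥ v) := by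
  intro x y hxy
  have h1 := Cfsg.Agent.S0765.inv_mulVec A (x := x) (y := A.1 *ᵥ y) hxy
  have h2 := Cfsg.Agent.S0765.inv_mulVec A (x := y) (y := A.1 *ᵥ y) rfl
  rw [← h1, h2]

/-- A subgroup of the symplectic group cut out by a frame constraint (after translating by a
reference element) has as many elements as there are constrained frames. -/
theorem card_of_char [Fintype F] (W : ℕ → Submodule F (Fin m ⊕ Fin m → F)) (k : ℕ)
    (H : Subgroup (Matrix.symplecticGroup (Fin m) F)) (A₀ : Matrix.symplecticGroup (Fin m) F)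
    (hH : ∀ g, g ∈ H ↔ ∀ a : Fin m, a.val < k →
      (g * A₀).1 *ᵥ Cfsg.Agent.S0765.e a ∈ W a.val) :
    Nat.card H = Nat.card (CFr W k m) := by
  apply Nat.card_congr
  refine Equiv.ofBijective (fun g => ⟨(Cfsg.Agent.S0245.toFrame (g.1 * A₀)).1,
    (Cfsg.Agent.S0245.toFrame (g.1 * A₀)).2, (hH g.1).1 g.2⟩) ⟨?_, ?_⟩
  · intro g g' hgg
    have h0 : (Cfsg.Agent.S0245.toFrame (g.1 * A₀)).1 =
        (Cfsg.Agent.S0245.toFrame (g'.1 * A₀)).1 := congrArg (fun x : CFr W k m => x.1) hgg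
    have h1 : Cfsg.Agent.S0245.toFrame (g.1 * A₀) = Cfsg.Agent.S0245.toFrame (g'.1 * A₀) :=
      Subtype.ext h0
    have h2 := Cfsg.Agent.S0245.toFrame_injective h1
    exact Subtype.ext (mul_right_cancel h2)
  · intro c
    obtain ⟨B, hB⟩ := Cfsg.Agent.S0245.toFrame_surjective ⟨c.1, c.2.1⟩
    have hmem : B * A₀⁻¹ ∈ H := by
      rw [hH, inv_mul_cancel_right]
      intro a ha
      have h3 := c.2.2 a ha
      have h4 : (Cfsg.Agent.S0245.toFrame B).1 = c.1 := congrArg Subtype.val hB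
      rw [← h4] at h3
      exact h3
    refine ⟨⟨B * A₀⁻¹, hmem⟩, ?_⟩
    apply Subtype.ext
    show (Cfsg.Agent.S0245.toFrame (B * A₀⁻¹ * A₀)).1 = c.1
    rw [inv_mul_cancel_right, hB]

end Cfsg.Agent.Helper9CFrames
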