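import Mathlib
import Cfsg.Prelude.Def_ChevStructure
import Cfsg.Prelude.Def_LieTypes
import Cfsg.Prelude.Def_ChevB2

set_option autoImplicit false

open Cfsg Cfsg.Lie

namespace Cfsg.Agent.Helper9ChevTri

/-- order key on root indices: negative roots first, then (later) the Cartan part, then positive -/
def keyN (D : ChevalleyDatum) (s : ℕ) : ℕ :=
  if D.IsPosRoot s then D.nroots + D.rank + s else s

set_option maxRecDepth 100000 in
theorem tab_neg (D : ChevalleyDatum) (hD : D ∈ [chevG2, chevB2, chevD4, chevF4, chevE6, chevE7, chevE8]) :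
    ∀ r < D.nroots, D.neg r < D.nroots ∧ (D.IsPosRoot r → ¬ D.IsPosRoot (D.neg r)) ∧
      (¬ D.IsPosRoot r → D.IsPosRoot (D.neg r) ∧ D.neg (D.neg r) = r) := by
  simp only [List.mem_cons, List.mem_nil_iff, or_false] at hD
  rcases hD with rfl | rfl | rfl | rfl | rfl | rfl | rfl
  all_goals decide +kernel

set_option maxRecDepth 100000 in
theorem tab_half (D : ChevalleyDatum) (hD : D ∈ [chevG2, chevB2, chevD4, chevF4, chevE6, chevE7, chevE8]) :
    ∀ s < D.nroots, (D.IsPosRoot s ↔ D.nroots ≤ 2 * s) := by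
  simp only [List.mem_cons, List.mem_nil_iff, or_false] at hD
  rcases hD with rfl | rfl | rfl | rfl | rfl | rfl | rfl
  all_goals decide +kernel

set_option maxRecDepth 100000 in
set_option maxHeartbeats 2000000 in
theorem tab_chain' (D : ChevalleyDatum) (hD : D ∈ [chevG2, chevB2, chevD4, chevF4, chevE6, chevE7, chevE8]) :
    ∀ r < D.nroots,
      (D.IsPosRoot r → ∀ e ∈ (D.chain.getD r #[]).toList, ∀ q ∈ e.2.toList,
        e.1 < q.1 ∧ q.1 < D.nroots) ∧
      (¬ D.IsPosRoot r → ∀ e ∈ (D.chain.getD r #[]).toList, ∀ q ∈ e.2.toList,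
        q.1 < e.1 ∧ e.1 < D.nroots) := by
  simp only [List.mem_cons, List.mem_nil_iff, or_false] at hD
  rcases hD with rfl | rfl | rfl | rfl | rfl | rfl | rfl
  all_goals decide +kernel

theorem keyN_mono (D : ChevalleyDatum) (hD : D ∈ [chevG2, chevB2, chevD4, chevF4, chevE6, chevE7, chevE8])
    (s u : ℕ) (hsu : s < u) (hu : u < D.nroots) : keyN D s < keyN D u := by
  have hs' := tab_half D hD s (hsu.trans hu)
  have hu' := tab_half D hD u hu
  unfold keyN
  by_cases hs : D.IsPosRoot s <;> by_cases hu2 : D.IsPosRoot u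
  · rw [if_pos hs, if_pos hu2]
    omega
  · exfalso
    have h1 := hs'.mp hs
    have h2 := mt hu'.mpr hu2
    omega
  · rw [if_neg hs, if_pos hu2]
    omega
  · rw [if_neg hs, if_neg hu2]
    omega

theorem tab_chain (D : ChevalleyDatum) (hD : D ∈ [chevG2, chevB2, chevD4, chevF4, chevE6, chevE7, chevE8]) :
    ∀ r < D.nroots, ∀ e ∈ (D.chain.getD r #[]).toList, ∀ q ∈ e.2.toList,
      (D.IsPosRoot r → keyN D e.1 < keyN D q.1) ∧ (¬ D.IsPosRoot r → keyN D q.1 < keyN D e.1) := by
  intro r hr e he q hq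
  have h := tab_chain' D hD r hr
  constructor
  · intro hp
    obtain ⟨h1, h2⟩ := h.1 hp e he q hq
    exact keyN_mono D hD _ _ h1 h2
  · intro hp
    obtain ⟨h1, h2⟩ := h.2 hp e he q hq
    exact keyN_mono D hD _ _ h1 h2

end Cfsg.Agent.Helper9ChevTri
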