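import Mathlib
import Cfsg.Agent.Lib.Helper9_ChevTab

set_option autoImplicit false

open Cfsg Cfsg.Lie

namespace Cfsg.Agent.Helper9ChevTri

/-- order key on the coordinate index set (negated, so that positive root elements are upper
triangular) -/
def key (D : ChevalleyDatum) : D.Idx → ℤ
  | Sum.inl i => -((D.nroots + i.val : ℕ) : ℤ)
  | Sum.inr s => -((keyN D s.val : ℕ) : ℤ)

theorem key_inj (D : ChevalleyDatum) : Function.Injective (key D) := by
  intro a b h
  rcases a with i | s <;> rcases b with j | u
  · simp only [key] at h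
    congr 1
    apply Fin.ext
    omega
  · exfalso
    simp only [key, keyN] at h
    have := i.2
    have := u.2
    split_ifs at h <;> omega
  · exfalso
    simp only [key, keyN] at h
    have := j.2
    have := s.2
    split_ifs at h <;> omega
  · simp only [key, keyN] at h
    congr 1
    apply Fin.ext
    have := s.2
    have := u.2
    split_ifs at h <;> omega

theorem cc_rel (D : ChevalleyDatum) (r s u : ℕ) (R : ℕ → ℕ → Prop)
    (h : ∀ e ∈ (D.chain.getD r #[]).toList, ∀ q ∈ e.2.toList, R e.1 q.1)
    (hne : D.chainCoeff r s u ≠ []) : R s u := by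
  obtain ⟨km, hkm⟩ := List.exists_mem_of_ne_nil _ hne
  unfold ChevalleyDatum.chainCoeff at hkm
  rw [List.mem_flatMap] at hkm
  obtain ⟨e, he, hkm⟩ := hkm
  rw [List.mem_filter] at he
  rw [List.mem_map] at hkm
  obtain ⟨q, hq, -⟩ := hkm
  rw [List.mem_filter] at hq
  have h1 : e.1 = s := by simpa using he.2
  have h2 : q.1.1 = u := by simpa using hq.2
  have h3 := h e he.1 q.1 (List.fst_mem_of_mem_zipIdx hq.1)
  rw [h1, h2] at h3
  exact h3

section entries

variable {F : Type*} [Field F] (D : ChevalleyDatum) (r : Fin D.nroots) (t : F)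

theorem e_ll (i' i : Fin D.rank) :
    D.xMat F r t (Sum.inl i') (Sum.inl i) = if i' = i then 1 else 0 := by
  first | rfl | simp only [ChevalleyDatum.xMat, Matrix.of_apply]

theorem e_rl (u : Fin D.nroots) (i : Fin D.rank) :
    D.xMat F r t (Sum.inr u) (Sum.inl i) =
      if u = r then - (((D.cartanSR.getD i.val #[]).getD r.val 0 : ℤ) : F) * t else 0 := by
  first | rfl | simp only [ChevalleyDatum.xMat, Matrix.of_apply]

theorem e_lr (i : Fin D.rank) (s : Fin D.nroots) :
    D.xMat F r t (Sum.inl i) (Sum.inr s) =
      if s = r then 0 else if s.val = D.negIdx.getD r.val 0 then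
        (((D.coroot.getD r.val #[]).getD i.val 0 : ℤ) : F) * t else 0 := by
  first | rfl | simp only [ChevalleyDatum.xMat, Matrix.of_apply]

theorem e_rr (u s : Fin D.nroots) :
    D.xMat F r t (Sum.inr u) (Sum.inr s) =
      if s = r then (if u = r then 1 else 0)
      else if s.val = D.negIdx.getD r.val 0 then
        (if u = s then 1 else if u = r then -(t ^ 2) else 0)
      else (if u = s then 1 else 0) +
        ((D.chainCoeff r.val s.val u.val).map fun km => ((km.2 : ℤ) : F) * t ^ km.1).sum := by
  first | rfl | simp only [ChevalleyDatum.xMat, Matrix.of_apply]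

theorem xMat_tri_gen (b : D.Idx → ℤ)
    (hb1 : ∀ c : Fin D.rank, b (Sum.inr r) < b (Sum.inl c))
    (hb2 : ∀ s : Fin D.nroots, s.val = D.negIdx.getD r.val 0 →
      (∀ c : Fin D.rank, b (Sum.inl c) < b (Sum.inr s)) ∧ b (Sum.inr r) < b (Sum.inr s))
    (hb3 : ∀ s u : Fin D.nroots, D.chainCoeff r.val s.val u.val ≠ [] →
      b (Sum.inr u) < b (Sum.inr s)) :
    (D.xMat F r t).BlockTriangular b ∧ ∀ i : D.Idx, D.xMat F r t i i = 1 := by
  have hsum0 : ∀ s u : ℕ, D.chainCoeff r.val s u = [] →
      ((D.chainCoeff r.val s u).map fun km => ((km.2 : ℤ) : F) * t ^ km.1).sum = 0 := by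
    intro s u h
    rw [h]
    rfl
  constructor
  · intro i j hij
    rcases j with c | s
    · rcases i with c' | u
      · rw [e_ll]
        have hcc : c' ≠ c := by
          rintro rfl
          exact lt_irrefl _ hij
        rw [if_neg hcc]
      · rw [e_rl]
        by_cases h : u = r
        · exfalso
          rw [h] at hij
          exact lt_asymm hij (hb1 c)
        · rw [if_neg h]
    · rcases i with c | u
      · rw [e_lr]
        by_cases h1 : s = r
        · rw [if_pos h1]
        · rw [if_neg h1]
          by_cases h2 : s.val = D.negIdx.getD r.val 0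
          · exfalso
            exact lt_asymm hij ((hb2 s h2).1 c)
          · rw [if_neg h2]
      · rw [e_rr]
        have hne : u ≠ s := by
          rintro rfl
          exact lt_irrefl _ hij
        by_cases h1 : s = r
        · rw [if_pos h1, if_neg (fun h => hne (h.trans h1.symm))]
        · rw [if_neg h1]
          by_cases h2 : s.val = D.negIdx.getD r.val 0
          · rw [if_pos h2, if_neg hne]
            by_cases h3 : u = r
            · exfalso
              rw [h3] at hij
              exact lt_asymm hij (hb2 s h2).2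
            · rw [if_neg h3]
          · rw [if_neg h2, if_neg hne, zero_add]
            by_cases h4 : D.chainCoeff r.val s.val u.val = []
            · exact hsum0 _ _ h4
            · exfalso
              exact lt_asymm hij (hb3 s u h4)
  · intro i
    rcases i with c | s
    · rw [e_ll, if_pos rfl]
    · rw [e_rr]
      by_cases h1 : s = r
      · rw [if_pos h1, if_pos h1]
      · rw [if_neg h1]
        by_cases h2 : s.val = D.negIdx.getD r.val 0
        · rw [if_pos h2, if_pos rfl]
        · rw [if_neg h2, if_pos rfl]
          have h4 : D.chainCoeff r.val s.val s.val = [] := by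
            by_contra h
            exact lt_irrefl _ (hb3 s s h)
          rw [hsum0 _ _ h4, add_zero]

end entries

section tri

variable {F : Type*} [Field F] (D : ChevalleyDatum)
  (hD : D ∈ [chevG2, chevB2, chevD4, chevF4, chevE6, chevE7, chevE8])

include hD in
theorem xMat_tri_pos (r : Fin D.nroots) (hr : D.IsPosRoot r.val) (t : F) :
    (D.xMat F r t).BlockTriangular (key D) ∧ ∀ i : D.Idx, D.xMat F r t i i = 1 := by
  obtain ⟨hn1, hn2, -⟩ := tab_neg D hD r.val r.2
  have hn2' := hn2 hr
  have kr : keyN D r.val = D.nroots + D.rank + r.val := if_pos hr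
  have kn : keyN D (D.neg r.val) = D.neg r.val := if_neg hn2'
  apply xMat_tri_gen
  · intro c
    simp only [key]
    rw [kr]
    have := c.2
    omega
  · intro s hs
    have hs' : s.val = D.neg r.val := hs
    constructor
    · intro c
      simp only [key]
      rw [hs', kn]
      omega
    · simp only [key]
      rw [hs', kn, kr]
      omega
  · intro s u h
    have h5 := cc_rel D r.val s.val u.val (fun a b => keyN D a < keyN D b)
      (fun e he q hq => (tab_chain D hD r.val r.2 e he q hq).1 hr) h
    simp only [key]
    omega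

include hD in
theorem xMat_tri_neg (r : Fin D.nroots) (hr : ¬ D.IsPosRoot r.val) (t : F) :
    (D.xMat F r t).BlockTriangular (fun x => - key D x) ∧ ∀ i : D.Idx, D.xMat F r t i i = 1 := by
  obtain ⟨hn1, -, hn3⟩ := tab_neg D hD r.val r.2
  obtain ⟨hn3', -⟩ := hn3 hr
  have kr : keyN D r.val = r.val := if_neg hr
  have kn : keyN D (D.neg r.val) = D.nroots + D.rank + D.neg r.val := if_pos hn3'
  have hr2 := r.2
  apply xMat_tri_gen
  · intro c
    simp only [key]
    rw [kr]
    omega
  · intro s hs
    have hs' : s.val = D.neg r.val := hs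
    constructor
    · intro c
      simp only [key]
      rw [hs', kn]
      have := c.2
      omega
    · simp only [key]
      rw [hs', kn, kr]
      omega
  · intro s u h
    have h5 := cc_rel D r.val s.val u.val (fun a b => keyN D b < keyN D a)
      (fun e he q hq => (tab_chain D hD r.val r.2 e he q hq).2 hr) h
    simp only [key]
    omega

/-- a copy of the coordinate index type carrying the order given by `key` -/
def KIdx (D : ChevalleyDatum) : Type := D.Idx

instance instFintypeKIdx (D : ChevalleyDatum) : Fintype (KIdx D) := inferInstanceAs (Fintype D.Idx)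
instance instDecEqKIdx (D : ChevalleyDatum) : DecidableEq (KIdx D) :=
  inferInstanceAs (DecidableEq D.Idx)
instance instLinOrdKIdx (D : ChevalleyDatum) : LinearOrder (KIdx D) :=
  LinearOrder.lift' (α := KIdx D) (key D) (key_inj D)

theorem det_K (M : Matrix (KIdx D) (KIdx D) F) (h1 : M.IsUpperTriangular)
    (h2 : ∀ i, M i i = 1) : M.det = 1 := by
  rw [Matrix.det_of_isUpperTriangular h1]
  exact Finset.prod_eq_one (fun i _ => h2 i)

theorem nilp_K (M : Matrix (KIdx D) (KIdx D) F) (h1 : M.IsUpperTriangular)
    (h2 : ∀ i, M i i = 1) : (M - 1) ^ (D.rank + D.nroots) = 0 := by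
  have hcp := Matrix.charpoly_of_isUpperTriangular M h1
  have hae := Matrix.aeval_self_charpoly M
  rw [hcp] at hae
  have hcard : Fintype.card (KIdx D) = D.rank + D.nroots := by
    show Fintype.card (Fin D.rank ⊕ Fin D.nroots) = _
    rw [Fintype.card_sum, Fintype.card_fin, Fintype.card_fin]
  simp only [h2, map_one, Finset.prod_const, Finset.card_univ, hcard] at hae
  simpa using hae

theorem det_of_key_tri (M : Matrix D.Idx D.Idx F) (h1 : M.BlockTriangular (key D))
    (h2 : ∀ i, M i i = 1) : M.det = 1 :=
  det_K D M (fun i j hij => h1 hij) h2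

theorem nilp_of_key_tri (M : Matrix D.Idx D.Idx F) (h1 : M.BlockTriangular (key D))
    (h2 : ∀ i, M i i = 1) : (M - 1) ^ (D.rank + D.nroots) = 0 :=
  nilp_K D M (fun i j hij => h1 hij) h2

include hD in
/-- every root element is an invertible matrix -/
theorem x_isUnit (r : ℕ) (t : F) : IsUnit (D.x F r t) := by
  unfold ChevalleyDatum.x
  split_ifs with h
  · rw [Matrix.isUnit_iff_isUnit_det]
    by_cases hp : D.IsPosRoot r
    · obtain ⟨h1, h2⟩ := xMat_tri_pos D hD ⟨r, h⟩ hp t
      rw [det_of_key_tri D _ h1 h2]
      exact isUnit_one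
    · obtain ⟨h1, h2⟩ := xMat_tri_neg D hD ⟨r, h⟩ hp t
      have h1' : ((D.xMat F ⟨r, h⟩ t).transpose).BlockTriangular (key D) := by
        intro i j hij
        rw [Matrix.transpose_apply]
        exact h1 (show (fun x => - key D x) i < (fun x => - key D x) j from neg_lt_neg hij)
      rw [← Matrix.det_transpose,
        det_of_key_tri D _ h1' (fun i => by rw [Matrix.transpose_apply]; exact h2 i)]
      exact isUnit_one
  · exact isUnit_one

theorem diag_mul (A B : Matrix D.Idx D.Idx F) (hA : A.BlockTriangular (key D))
    (hB : B.BlockTriangular (key D)) (i : D.Idx) : (A * B) i i = A i i * B i i := by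
  rw [Matrix.mul_apply, Finset.sum_eq_single i]
  · intro k _ hk
    rcases lt_or_gt_of_ne (fun h => hk (key_inj D h)) with h | h
    · rw [hA h, zero_mul]
    · rw [hB h, mul_zero]
  · intro h
    exact absurd (Finset.mem_univ i) h

include hD in
/-- elements of `U` are upper unitriangular for the order `key` -/
theorem U_tri (g : GL D.Idx F) (hg : g ∈ D.posUnipotent F) :
    (g : Matrix D.Idx D.Idx F).BlockTriangular (key D) ∧
      ∀ i : D.Idx, (g : Matrix D.Idx D.Idx F) i i = 1 := by
  unfold ChevalleyDatum.posUnipotent at hg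
  induction hg using Subgroup.closure_induction with
  | mem x hx =>
    obtain ⟨r, t, hr, hx⟩ := hx
    rw [hx]
    unfold ChevalleyDatum.x
    rw [dif_pos hr.1]
    exact xMat_tri_pos D hD ⟨r, hr.1⟩ hr t
  | one =>
    simp only [Units.val_one]
    exact ⟨Matrix.blockTriangular_one, fun i => Matrix.one_apply_eq i⟩
  | mul x y _ _ hx hy =>
    rw [Units.val_mul]
    refine ⟨hx.1.mul hy.1, fun i => ?_⟩
    rw [diag_mul D _ _ hx.1 hy.1, hx.2, hy.2, mul_one]
  | inv x _ hx =>
    obtain ⟨h1, h2⟩ := hx
    have hinv : ((x⁻¹ : GL D.Idx F) : Matrix D.Idx D.Idx F) = (x : Matrix D.Idx D.Idx F)⁻¹ :=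
      Matrix.coe_units_inv x
    have h3 : ((x : Matrix D.Idx D.Idx F)⁻¹).BlockTriangular (key D) :=
      Matrix.blockTriangular_inv_of_blockTriangular h1
    rw [hinv]
    refine ⟨h3, fun i => ?_⟩
    have h4 := diag_mul D _ _ h1 h3 i
    rw [Matrix.mul_inv_of_invertible, Matrix.one_apply_eq, h2, one_mul] at h4
    exact h4.symm

end tri

end Cfsg.Agent.Helper9ChevTri
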