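-- helper9: the second exterior power of a 4 x 4 matrix, as a 6 x 6 matrix preserving the Pfaffian form.
import Mathlib
import Cfsg.Prelude.Def_Classical

set_option autoImplicit false
open Cfsg

namespace Cfsg.Agent.Helper9Ext2

open Matrix

abbrev J := Fin 3 ⊕ Fin 3

/-- The pairs of indices labelling the basis of the exterior square. -/
def p : J → Fin 4 × Fin 4
  | .inl 0 => (0, 1)
  | .inl 1 => (0, 2)
  | .inl 2 => (0, 3)
  | .inr 0 => (2, 3)
  | .inr 1 => (3, 1)
  | .inr 2 => (1, 2)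

variable {R : Type*} [Field R]

/-- Second exterior power of a matrix: the matrix of its `2 × 2` minors. -/
def L (g : Matrix (Fin 4) (Fin 4) R) : Matrix J J R :=
  fun a b => g (p a).1 (p b).1 * g (p a).2 (p b).2 - g (p a).1 (p b).2 * g (p a).2 (p b).1

theorem det4 (g : Matrix (Fin 4) (Fin 4) R) : g.det =
    g 0 0 * (g 1 1 * (g 2 2 * g 3 3 - g 2 3 * g 3 2) - g 1 2 * (g 2 1 * g 3 3 - g 2 3 * g 3 1) + g 1 3 * (g 2 1 * g 3 2 - g 2 2 * g 3 1))
    - g 0 1 * (g 1 0 * (g 2 2 * g 3 3 - g 2 3 * g 3 2) - g 1 2 * (g 2 0 * g 3 3 - g 2 3 * g 3 0) + g 1 3 * (g 2 0 * g 3 2 - g 2 2 * g 3 0))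
    + g 0 2 * (g 1 0 * (g 2 1 * g 3 3 - g 2 3 * g 3 1) - g 1 1 * (g 2 0 * g 3 3 - g 2 3 * g 3 0) + g 1 3 * (g 2 0 * g 3 1 - g 2 1 * g 3 0))
    - g 0 3 * (g 1 0 * (g 2 1 * g 3 2 - g 2 2 * g 3 1) - g 1 1 * (g 2 0 * g 3 2 - g 2 2 * g 3 0) + g 1 2 * (g 2 0 * g 3 1 - g 2 1 * g 3 0)) := by
  rw [Matrix.det_succ_row_zero]
  simp only [Fin.sum_univ_four, Matrix.det_fin_three]
  simp [Fin.succAbove, Matrix.submatrix_apply]
  ring

theorem L_mul (g h : Matrix (Fin 4) (Fin 4) R) : L (g * h) = L g * L h := by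
  ext a b
  simp only [L, Matrix.mul_apply, Fintype.sum_sum_type, Fin.sum_univ_three, Fin.sum_univ_four]
  rcases a with a | a <;> rcases b with b | b <;> fin_cases a <;> fin_cases b <;>
    simp only [p] <;> ring

theorem L_one : L (1 : Matrix (Fin 4) (Fin 4) R) = 1 := by
  ext a b
  rcases a with a | a <;> rcases b with b | b <;> fin_cases a <;> fin_cases b <;>
    simp [L, p, Matrix.one_apply]

/-- The exterior square multiplies the Pfaffian form by the determinant. -/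
theorem L_quad (g : Matrix (Fin 4) (Fin 4) R) (v : J → R) :
    Cfsg.quadFormPlus 3 R (L g *ᵥ v) = g.det * Cfsg.quadFormPlus 3 R v := by
  rw [det4]
  simp only [Cfsg.quadFormPlus, Matrix.mulVec, dotProduct, Fintype.sum_sum_type, Fin.sum_univ_three, L, p]
  ring

theorem L_map {S : Type*} [Field S] (f : R →+* S) (g : Matrix (Fin 4) (Fin 4) R) :
    L (g.map f) = (L g).map f := by
  ext a b
  simp [L, map_sub, map_mul]

set_option maxRecDepth 100000 in
/-- Over the field with two elements the exterior square is faithful. -/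
theorem L_inj2 : ∀ M : Matrix (Fin 4) (Fin 4) (ZMod 2), L M = 1 → M = 1 := by decide +kernel

end Cfsg.Agent.Helper9Ext2
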