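import Mathlib
import Cfsg.Prelude.Def_Solvable

set_option autoImplicit false

namespace Cfsg.Agent.Lib.Helper9_FrobCompl
namespace Helper9FC

open scoped Pointwise

/-- In a semidirect product `N ⋊ S` with fixed-point-free action, the copy of `S` is a Frobenius
complement. -/
theorem frob_inr {N S : Type*} [Group N] [Group S] (φ : S →* MulAut N)
    (hN : ∃ v : N, v ≠ 1) (hS : ∃ s : S, s ≠ 1)
    (hfpf : ∀ s : S, ∀ v : N, φ s v = v → v ≠ 1 → s = 1) :
    Cfsg.IsFrobeniusComplement (SemidirectProduct.inr : S →* N ⋊[φ] S).range := by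
  refine ⟨?_, ?_, ?_⟩
  · obtain ⟨s, hs⟩ := hS
    intro h
    have h1 : (SemidirectProduct.inr s : N ⋊[φ] S) ∈
        (SemidirectProduct.inr : S →* N ⋊[φ] S).range := ⟨s, rfl⟩
    rw [h, Subgroup.mem_bot] at h1
    apply hs
    have h2 := congrArg SemidirectProduct.right h1
    simpa using h2
  · obtain ⟨v, hv⟩ := hN
    intro h
    have h1 : (SemidirectProduct.inl v : N ⋊[φ] S) ∈
        (SemidirectProduct.inr : S →* N ⋊[φ] S).range := by
      rw [h]; exact Subgroup.mem_top _
    obtain ⟨s, hs⟩ := h1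
    have h2 := congrArg SemidirectProduct.left hs
    apply hv
    simpa using h2.symm
  · intro g hg
    rw [eq_bot_iff]
    intro x hx
    rw [Subgroup.mem_inf] at hx
    obtain ⟨⟨t, rfl⟩, hx2⟩ := hx
    rw [Subgroup.mem_pointwise_smul_iff_inv_smul_mem] at hx2
    obtain ⟨t', ht'⟩ := hx2
    rw [Subgroup.mem_bot]
    have hgl : g.left ≠ 1 := by
      intro h1
      apply hg
      refine ⟨g.right, ?_⟩
      ext
      · simp [h1]
      · simp
    have e : g * SemidirectProduct.inr t' = SemidirectProduct.inr t * g := by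
      rw [ht']
      simp [MulAut.smul_def, mul_assoc]
    have e1 := congrArg SemidirectProduct.left e
    simp only [SemidirectProduct.mul_left, SemidirectProduct.left_inr,
      SemidirectProduct.right_inr, map_one, mul_one, one_mul] at e1
    have ht : t = 1 := hfpf t g.left e1.symm hgl
    rw [ht, map_one]

/-- The natural action of `SL(2,R)` on column vectors, by automorphisms of the multiplicative
copy of the vector space. -/
noncomputable def act (R : Type*) [CommRing R] :
    Matrix.SpecialLinearGroup (Fin 2) R →* MulAut (Multiplicative (Fin 2 → R)) :=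
  (MulAutMultiplicative (Fin 2 → R)).symm.toMonoidHom.comp
    ((DistribMulAction.toAddAut ((Fin 2 → R) ≃ₗ[R] (Fin 2 → R)) (Fin 2 → R)).comp
      Matrix.SpecialLinearGroup.toLin')

theorem act_apply (R : Type*) [CommRing R] (A : Matrix.SpecialLinearGroup (Fin 2) R)
    (v : Multiplicative (Fin 2 → R)) :
    act R A v = Multiplicative.ofAdd (A.1.mulVec (Multiplicative.toAdd v)) := rfl

/-- An element of `SL(2,p)` fixing a nonzero vector is unipotent, hence of order dividing `p`. -/
theorem pow_eq_one_of_fixed {p : ℕ} [Fact p.Prime]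
    (A : Matrix.SpecialLinearGroup (Fin 2) (ZMod p))
    (v : Fin 2 → ZMod p) (hv : v ≠ 0) (h : A.1.mulVec v = v) : A ^ p = 1 := by
  obtain ⟨a, ha⟩ : ∃ a, a = A.1 0 0 := ⟨_, rfl⟩
  obtain ⟨b, hb⟩ : ∃ b, b = A.1 0 1 := ⟨_, rfl⟩
  obtain ⟨c, hc⟩ : ∃ c, c = A.1 1 0 := ⟨_, rfl⟩
  obtain ⟨d, hd⟩ : ∃ d, d = A.1 1 1 := ⟨_, rfl⟩
  have hA : A.1 = !![a, b; c, d] := by
    rw [ha, hb, hc, hd]; exact Matrix.eta_fin_two A.1
  have hdet : a * d - b * c = 1 := by
    have h0 := A.2
    rw [hA, Matrix.det_fin_two_of] at h0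
    exact h0
  obtain ⟨x, hx⟩ : ∃ x, x = v 0 := ⟨_, rfl⟩
  obtain ⟨y, hy⟩ : ∃ y, y = v 1 := ⟨_, rfl⟩
  have e1 : a * x + b * y = x := by
    have h0 := congrFun h 0
    rw [hA] at h0
    simpa [Matrix.mulVec, dotProduct, Fin.sum_univ_two, ← hx, ← hy] using h0
  have e2 : c * x + d * y = y := by
    have h0 := congrFun h 1
    rw [hA] at h0
    simpa [Matrix.mulVec, dotProduct, Fin.sum_univ_two, ← hx, ← hy] using h0
  have hk : (a - 1) * (d - 1) - b * c = 0 := by
    have hxy : x ≠ 0 ∨ y ≠ 0 := by
      by_contra hcon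
      push Not at hcon
      have h0 : v 0 = 0 := by rw [← hx]; exact hcon.1
      have h1 : v 1 = 0 := by rw [← hy]; exact hcon.2
      apply hv
      funext i
      fin_cases i
      · exact h0
      · exact h1
    rcases hxy with hx0 | hy0
    · have h0 : ((a - 1) * (d - 1) - b * c) * x = 0 := by
        linear_combination (d - 1) * e1 - b * e2
      exact (mul_eq_zero.mp h0).resolve_right hx0
    · have h0 : ((a - 1) * (d - 1) - b * c) * y = 0 := by
        linear_combination (a - 1) * e2 - c * e1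
      exact (mul_eq_zero.mp h0).resolve_right hy0
  have htr : a + d = 2 := by linear_combination hdet - hk
  obtain ⟨N, hN⟩ : ∃ N : Matrix (Fin 2) (Fin 2) (ZMod p), N = !![a - 1, b; c, d - 1] :=
    ⟨_, rfl⟩
  have hA1 : A.1 = 1 + N := by
    rw [hA, hN]
    ext i j
    fin_cases i <;> fin_cases j <;> simp
  have hNN : N * N = 0 := by
    have q1 : (a - 1) * (a - 1) + b * c = 0 := by linear_combination a * htr - hdet
    have q2 : (a - 1) * b + b * (d - 1) = 0 := by linear_combination b * htr
    have q3 : c * (a - 1) + (d - 1) * c = 0 := by linear_combination c * htr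
    have q4 : c * b + (d - 1) * (d - 1) = 0 := by linear_combination d * htr - hdet
    rw [hN, Matrix.mul_fin_two, q1, q2, q3, q4]
    ext i j
    fin_cases i <;> fin_cases j <;> rfl
  have hpow : ∀ k : ℕ, A.1 ^ k = 1 + (k : ZMod p) • N := by
    intro k
    induction k with
    | zero => simp
    | succ k ih =>
      rw [pow_succ, ih, hA1, mul_add, mul_one, add_mul, one_mul, smul_mul_assoc, hNN, smul_zero,
        add_zero, Nat.cast_succ, add_smul, one_smul]
      abel
  apply Subtype.ext
  rw [Matrix.SpecialLinearGroup.coe_pow, hpow p]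
  simp

/-- A subgroup of `SL(2,p)` of order prime to `p` acts fixed-point-freely on nonzero vectors. -/
theorem fpf_of_coprime {p : ℕ} [Fact p.Prime]
    (S : Subgroup (Matrix.SpecialLinearGroup (Fin 2) (ZMod p)))
    (hc : (Nat.card S).Coprime p) (s : S) (v : Multiplicative (Fin 2 → ZMod p))
    (h : act (ZMod p) s.1 v = v) (hv : v ≠ 1) : s = 1 := by
  have hv0 : Multiplicative.toAdd v ≠ 0 := fun h0 =>
    hv (Multiplicative.toAdd.injective (h0.trans toAdd_one.symm))
  have hfix : s.1.1.mulVec (Multiplicative.toAdd v) = Multiplicative.toAdd v := by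
    have h0 := congrArg Multiplicative.toAdd h
    rw [act_apply] at h0
    exact h0
  have h1 : (s.1) ^ p = 1 := pow_eq_one_of_fixed s.1 (Multiplicative.toAdd v) hv0 hfix
  have h2 : s ^ p = 1 := Subtype.ext (by simpa using h1)
  have h3 : orderOf s ∣ p := orderOf_dvd_of_pow_eq_one h2
  have h4 : orderOf s ∣ Nat.card S := orderOf_dvd_natCard s
  have h5 : orderOf s ∣ Nat.gcd (Nat.card S) p := Nat.dvd_gcd h4 h3
  rw [Nat.Coprime.gcd_eq_one hc] at h5
  exact orderOf_eq_one_iff.mp (Nat.dvd_one.mp h5)

/-- A nontrivial subgroup of `SL(2,p)` of order prime to `p` is a Frobenius complement in the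
semidirect product with the natural module. -/
theorem exists_frob {p : ℕ} [Fact p.Prime]
    (S : Subgroup (Matrix.SpecialLinearGroup (Fin 2) (ZMod p))) (hS : S ≠ ⊥)
    (hc : (Nat.card S).Coprime p) :
    ∃ (L : Type) (_ : Group L) (_ : Finite L) (H : Subgroup L),
      Cfsg.IsFrobeniusComplement H ∧ Nonempty (H ≃* S) := by
  let φ : S →* MulAut (Multiplicative (Fin 2 → ZMod p)) := (act (ZMod p)).comp S.subtype
  have : Finite (Multiplicative (Fin 2 → ZMod p) ⋊[φ] S) :=
    Finite.of_equiv _ SemidirectProduct.equivProd.symm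
  refine ⟨Multiplicative (Fin 2 → ZMod p) ⋊[φ] S, inferInstance, inferInstance,
    (SemidirectProduct.inr : S →* Multiplicative (Fin 2 → ZMod p) ⋊[φ] S).range, ?_, ?_⟩
  · apply frob_inr φ
    · refine ⟨Multiplicative.ofAdd (fun _ => 1), ?_⟩
      intro h
      have h0 := congrFun (congrArg Multiplicative.toAdd h) 0
      change (1 : ZMod p) = 0 at h0
      exact one_ne_zero h0
    · exact (Subgroup.ne_bot_iff_exists_ne_one).mp hS
    · intro s v h hv
      exact fpf_of_coprime S hc s v h hv
  · exact ⟨(MonoidHom.ofInjective SemidirectProduct.inr_injective).symm⟩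

end Helper9FC
end Cfsg.Agent.Lib.Helper9_FrobCompl
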