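import Mathlib

set_option autoImplicit false

namespace Cfsg.Agent.Helper9GF4

variable {F : Type*} [Field F]

/-- addition table of the field with four elements, indices `0,1,ω,ω²` -/
def addT : Fin 4 → Fin 4 → Fin 4 :=
  ![![0, 1, 2, 3], ![1, 0, 3, 2], ![2, 3, 0, 1], ![3, 2, 1, 0]]

/-- multiplication table -/
def mulT : Fin 4 → Fin 4 → Fin 4 :=
  ![![0, 0, 0, 0], ![0, 1, 2, 3], ![0, 2, 3, 1], ![0, 3, 1, 2]]

/-- the elements -/
def el (ω : F) : Fin 4 → F := ![0, 1, ω, ω ^ 2]

theorem two_eq_zero [Fintype F] (hF : Fintype.card F = 4) : (2 : F) = 0 := by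
  have h4 : ((Fintype.card F : ℕ) : F) = 0 := FiniteField.cast_card_eq_zero F
  rw [hF] at h4
  have : (2 : F) ^ 2 = 0 := by
    have e : (2 : F) ^ 2 = ((4 : ℕ) : F) := by norm_num
    rw [e, h4]
  exact pow_eq_zero_iff (two_ne_zero) |>.mp this

theorem el_add {ω : F} (h2 : (2 : F) = 0) (hω : ω ^ 2 + ω + 1 = 0) (i j : Fin 4) :
    el ω i + el ω j = el ω (addT i j) := by
  fin_cases i <;> fin_cases j <;> simp [el, addT]
  · linear_combination h2
  · linear_combination (-1) * hω + (1 + ω) * h2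
  · linear_combination hω - ω * h2
  · linear_combination (-1) * hω + (1 + ω) * h2
  · linear_combination ω * h2
  · linear_combination hω - h2
  · linear_combination hω - ω * h2
  · linear_combination hω - h2
  · linear_combination ω ^ 2 * h2

theorem el_mul {ω : F} (h2 : (2 : F) = 0) (hω : ω ^ 2 + ω + 1 = 0) (i j : Fin 4) :
    el ω i * el ω j = el ω (mulT i j) := by
  fin_cases i <;> fin_cases j <;> simp [el, mulT]
  · ring
  · linear_combination (ω - 1) * hω
  · linear_combination (ω - 1) * hω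
  · linear_combination (ω * (ω - 1)) * hω

theorem omega_ne_zero {ω : F} (hω : ω ^ 2 + ω + 1 = 0) : ω ≠ 0 := by
  rintro rfl
  simp at hω

theorem omega_ne_one {ω : F} (h2 : (2 : F) = 0) (hω : ω ^ 2 + ω + 1 = 0) : ω ≠ 1 := by
  rintro rfl
  have : (1 : F) = 0 := by linear_combination hω - h2
  exact one_ne_zero this

theorem omega_sq_ne_one {ω : F} (h2 : (2 : F) = 0) (hω : ω ^ 2 + ω + 1 = 0) : ω ^ 2 ≠ 1 := by
  intro h
  have : ω = 0 := by linear_combination hω - h - h2
  exact omega_ne_zero hω this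

theorem omega_sq_ne_omega {ω : F} (h2 : (2 : F) = 0) (hω : ω ^ 2 + ω + 1 = 0) : ω ^ 2 ≠ ω := by
  intro h
  have h1 : ω * (ω - 1) = 0 := by linear_combination h
  rcases mul_eq_zero.mp h1 with h3 | h3
  · exact omega_ne_zero hω h3
  · exact omega_ne_one h2 hω (by linear_combination h3)

theorem el_injective {ω : F} (h2 : (2 : F) = 0) (hω : ω ^ 2 + ω + 1 = 0) :
    Function.Injective (el ω) := by
  have a1 := omega_ne_zero hω
  have a2 := omega_ne_one h2 hω
  have a3 := omega_sq_ne_one h2 hω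
  have a4 := omega_sq_ne_omega h2 hω
  intro i j h
  fin_cases i <;> fin_cases j <;> simp [el] at h ⊢
  · exact a1 h.symm
  · exact a1 ((pow_eq_zero_iff (by norm_num)).mp h.symm)
  · exact a2 h.symm
  · exact a3 h.symm
  · exact a1 h
  · exact a2 h
  · exact a4 h.symm
  · exact a1 h
  · rcases h with h | h
    · exact a2 h
    · exact a2 (by linear_combination h - h2)
  · exact a4 h

theorem el_bijective [Fintype F] (hF : Fintype.card F = 4) {ω : F} (hω : ω ^ 2 + ω + 1 = 0) :
    Function.Bijective (el ω) := by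
  rw [Fintype.bijective_iff_injective_and_card]
  exact ⟨el_injective (two_eq_zero hF) hω, by rw [hF]; rfl⟩

/-- the index of an element -/
noncomputable def idx [Fintype F] (hF : Fintype.card F = 4) {ω : F} (hω : ω ^ 2 + ω + 1 = 0) :
    F ≃ Fin 4 :=
  (Equiv.ofBijective _ (el_bijective hF hω)).symm

theorem el_idx [Fintype F] (hF : Fintype.card F = 4) {ω : F} (hω : ω ^ 2 + ω + 1 = 0) (x : F) :
    el ω (idx hF hω x) = x :=
  (Equiv.ofBijective _ (el_bijective hF hω)).apply_symm_apply x

theorem el_zero (ω : F) : el ω 0 = 0 := rfl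

theorem el_eq_zero_iff {ω : F} (h2 : (2 : F) = 0) (hω : ω ^ 2 + ω + 1 = 0) (i : Fin 4) :
    el ω i = 0 ↔ i = 0 := by
  constructor
  · intro h
    exact el_injective h2 hω (h.trans (el_zero ω).symm)
  · rintro rfl; rfl

end Cfsg.Agent.Helper9GF4
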