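import Cfsg.Agent.Lib.Helper9_Transv
import Mathlib

set_option autoImplicit false

namespace Cfsg.Agent.Helper9

open Matrix

variable {n : ℕ} {F : Type*} [Field F]

/-- the set of all transvections `v ↦ v + f v • y` (`f y = 0`) in `GL`. -/
def transvSet (n : ℕ) (F : Type*) [Field F] : Set (Matrix.GeneralLinearGroup (Fin n) F) :=
  {g | ∃ (f : Module.Dual F (Fin n → F)) (y : Fin n → F) (h : f y = 0), g = glTransv f y h}

theorem glTransv_mem_transvSet (f : Module.Dual F (Fin n → F)) (y : Fin n → F) (h : f y = 0) :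
    glTransv f y h ∈ transvSet n F := ⟨f, y, h, rfl⟩

/-- two elements of `GL` are equal if they act in the same way on vectors -/
theorem gl_ext_mulVec (g h : Matrix.GeneralLinearGroup (Fin n) F)
    (H : ∀ v, (g : Matrix (Fin n) (Fin n) F) *ᵥ v = (h : Matrix (Fin n) (Fin n) F) *ᵥ v) : g = h := by
  apply Units.ext
  exact Matrix.ext_iff_mulVec.2 H

theorem gl_mul_mulVec (g h : Matrix.GeneralLinearGroup (Fin n) F) (v : Fin n → F) :
    ((g * h : Matrix.GeneralLinearGroup (Fin n) F) : Matrix (Fin n) (Fin n) F) *ᵥ v =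
      (g : Matrix (Fin n) (Fin n) F) *ᵥ ((h : Matrix (Fin n) (Fin n) F) *ᵥ v) := by
  rw [Units.val_mul, Matrix.mulVec_mulVec]

/-- elementary transvection: adds `c * v j` to the coordinate `i`. -/
noncomputable def elemT (i j : Fin n) (hij : i ≠ j) (c : F) : Matrix.GeneralLinearGroup (Fin n) F :=
  glTransv (c • (LinearMap.proj j : (Fin n → F) →ₗ[F] F)) (Pi.single i 1) (by simp [hij.symm])

theorem elemT_mem (i j : Fin n) (hij : i ≠ j) (c : F) : elemT i j hij c ∈ transvSet n F :=
  glTransv_mem_transvSet _ _ _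

theorem elemT_mulVec (i j : Fin n) (hij : i ≠ j) (c : F) (v : Fin n → F) :
    ((elemT i j hij c : Matrix.GeneralLinearGroup (Fin n) F) : Matrix (Fin n) (Fin n) F) *ᵥ v =
      v + (c * v j) • Pi.single i 1 := by
  unfold elemT
  rw [glTransv_mulVec]
  rfl

theorem elemT_mulVec_apply (i j : Fin n) (hij : i ≠ j) (c : F) (v : Fin n → F) (k : Fin n) :
    (((elemT i j hij c : Matrix.GeneralLinearGroup (Fin n) F) : Matrix (Fin n) (Fin n) F) *ᵥ v) k =
      if k = i then v i + c * v j else v k := by
  rw [elemT_mulVec]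
  by_cases hk : k = i
  · subst hk; simp
  · simp [hk]

theorem elemT_coe (i j : Fin n) (hij : i ≠ j) (c : F) :
    ((elemT i j hij c : Matrix.GeneralLinearGroup (Fin n) F) : Matrix (Fin n) (Fin n) F) =
      Matrix.transvection i j c := by
  rw [Matrix.ext_iff_mulVec]
  intro v
  rw [elemT_mulVec, Matrix.transvection, Matrix.add_mulVec, Matrix.one_mulVec, Matrix.single_mulVec_eq]

/-- invertible diagonal matrices -/
noncomputable def diagGL (D : Fin n → Fˣ) : Matrix.GeneralLinearGroup (Fin n) F :=
  ⟨Matrix.diagonal (fun i => (D i : F)), Matrix.diagonal (fun i => ((D i)⁻¹ : Fˣ)),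
    by rw [Matrix.diagonal_mul_diagonal]; simp,
    by rw [Matrix.diagonal_mul_diagonal]; simp⟩

theorem diagGL_mulVec (D : Fin n → Fˣ) (v : Fin n → F) (k : Fin n) :
    (((diagGL D : Matrix.GeneralLinearGroup (Fin n) F) : Matrix (Fin n) (Fin n) F) *ᵥ v) k = D k * v k := by
  show (Matrix.diagonal (fun i => (D i : F)) *ᵥ v) k = _
  rw [Matrix.mulVec_diagonal]

theorem diagGL_mul (D E : Fin n → Fˣ) : diagGL (D * E) = diagGL D * diagGL E := by
  apply gl_ext_mulVec
  intro v
  funext k
  rw [gl_mul_mulVec, diagGL_mulVec, diagGL_mulVec, diagGL_mulVec]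
  simp [mul_assoc]

theorem diagGL_one : diagGL (1 : Fin n → Fˣ) = 1 := by
  apply gl_ext_mulVec
  intro v
  funext k
  rw [diagGL_mulVec]
  simp

/-- `diagGL` as a monoid hom -/
noncomputable def diagHom (n : ℕ) (F : Type*) [Field F] :
    (Fin n → Fˣ) →* Matrix.GeneralLinearGroup (Fin n) F where
  toFun := diagGL
  map_one' := diagGL_one
  map_mul' := diagGL_mul

/-- the basic diagonal elements `h_{ij}(a)` are products of transvections -/
theorem diagGL_pair_mem (i j : Fin n) (hij : i ≠ j) (a : Fˣ) :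
    diagGL (Pi.mulSingle i a * Pi.mulSingle j a⁻¹) ∈ Subgroup.closure (transvSet n F) := by
  have key : diagGL (Pi.mulSingle i a * Pi.mulSingle j a⁻¹) =
      elemT i j hij (a : F) * elemT j i hij.symm (-((a⁻¹ : Fˣ) : F)) * elemT i j hij (a : F) *
        (elemT i j hij (-1) * elemT j i hij.symm 1 * elemT i j hij (-1)) := by
    apply gl_ext_mulVec
    intro v
    funext k
    simp only [gl_mul_mulVec, elemT_mulVec_apply, diagGL_mulVec]
    have hji : j ≠ i := hij.symm
    by_cases hki : k = i
    · rw [hki]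
      simp [hij, hji, Pi.mulSingle_apply]
      field_simp
      ring
    · by_cases hkj : k = j
      · rw [hkj]
        simp [hij, hji, Pi.mulSingle_apply]
        field_simp
        ring
      · simp [hki, hkj, hij, hji, Pi.mulSingle_apply]
  rw [key]
  have hT : ∀ (i j : Fin n) (hij : i ≠ j) (c : F), elemT i j hij c ∈ Subgroup.closure (transvSet n F) :=
    fun i j hij c => Subgroup.subset_closure (elemT_mem i j hij c)
  exact Subgroup.mul_mem _ (Subgroup.mul_mem _ (Subgroup.mul_mem _ (hT _ _ _ _) (hT _ _ _ _)) (hT _ _ _ _))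
    (Subgroup.mul_mem _ (Subgroup.mul_mem _ (hT _ _ _ _) (hT _ _ _ _)) (hT _ _ _ _))

/-- diagonal matrices of determinant one are products of transvections -/
theorem diagGL_mem (D : Fin n → Fˣ) (hD : ∏ i, D i = 1) :
    diagGL D ∈ Subgroup.closure (transvSet n F) := by
  classical
  rcases Nat.eq_zero_or_pos n with hn | hn
  · subst hn
    have : D = 1 := Subsingleton.elim _ _
    rw [this, diagGL_one]
    exact Subgroup.one_mem _
  let i0 : Fin n := ⟨0, hn⟩
  let T' : Subgroup (Fin n → Fˣ) := (Subgroup.closure (transvSet n F)).comap (diagHom n F)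
  have hmem : ∀ i, Pi.mulSingle i (D i) * Pi.mulSingle i0 (D i)⁻¹ ∈ T' := by
    intro i
    by_cases hi : i = i0
    · rw [hi, ← Pi.mulSingle_mul, mul_inv_cancel, Pi.mulSingle_one]
      exact T'.one_mem
    · exact diagGL_pair_mem i i0 hi (D i)
  have hprod : ∏ i, (Pi.mulSingle i (D i) * Pi.mulSingle i0 (D i)⁻¹) = D := by
    rw [Finset.prod_mul_distrib, Finset.univ_prod_mulSingle]
    have : ∏ i, (Pi.mulSingle i0 (D i)⁻¹ : Fin n → Fˣ) = Pi.mulSingle i0 (∏ i, (D i)⁻¹) := by
      have := map_prod (MonoidHom.mulSingle (fun _ : Fin n => Fˣ) i0) (fun i => (D i)⁻¹) Finset.univ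
      simpa using this.symm
    rw [this, Finset.prod_inv_distrib, hD, inv_one, Pi.mulSingle_one, mul_one]
  have : D ∈ T' := by
    rw [← hprod]
    exact T'.prod_mem (fun i _ => hmem i)
  exact this

/-- `SL` is generated by transvections. -/
theorem specialLinear_le_closure_transvSet :
    Cfsg.Geo.specialLinear (Fin n) F ≤ Subgroup.closure (transvSet n F) := by
  classical
  intro g hg
  rw [mem_specialLinear_iff] at hg
  have key : ∃ x ∈ Subgroup.closure (transvSet n F),
      ((x : Matrix.GeneralLinearGroup (Fin n) F) : Matrix (Fin n) (Fin n) F) =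
        (g : Matrix (Fin n) (Fin n) F) := by
    apply Matrix.diagonal_transvection_induction
      (fun A => ∃ x ∈ Subgroup.closure (transvSet n F),
        ((x : Matrix.GeneralLinearGroup (Fin n) F) : Matrix (Fin n) (Fin n) F) = A)
    · intro D hD
      rw [hg, Matrix.det_diagonal] at hD
      have hne : ∀ i, D i ≠ 0 := by
        intro i hi
        have : ∏ i, D i = 0 := Finset.prod_eq_zero (Finset.mem_univ i) hi
        rw [this] at hD
        exact zero_ne_one hD
      refine ⟨diagGL (fun i => Units.mk0 (D i) (hne i)), diagGL_mem _ ?_, ?_⟩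
      · apply Units.ext
        rw [Units.coe_prod]
        simpa using hD
      · show Matrix.diagonal (fun i => ((Units.mk0 (D i) (hne i) : Fˣ) : F)) = _
        simp
    · intro t
      refine ⟨elemT t.i t.j t.hij t.c, Subgroup.subset_closure (elemT_mem _ _ _ _), ?_⟩
      rw [elemT_coe]
      rfl
    · rintro A B ⟨x, hx, rfl⟩ ⟨y, hy, rfl⟩
      exact ⟨x * y, Subgroup.mul_mem _ hx hy, Units.val_mul x y⟩
  obtain ⟨x, hx, hxg⟩ := key
  have : x = g := Units.ext hxg
  rw [← this]
  exact hx

end Cfsg.Agent.Helper9
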