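import Mathlib
import Cfsg.Agent.S0771
import Cfsg.Agent.S0772
import Cfsg.Agent.S0263

/-! Sylow `p`-subgroups of `GL₂(q)` in the defining characteristic. -/

namespace Cfsg.Agent.Helper9GL2
open Matrix

variable {F : Type*} [Field F]

/-- the Borel subgroup: stabiliser of the first coordinate line. -/
def B0 (F : Type*) [Field F] : Subgroup (GL (Fin 2) F) :=
  Cfsg.stabilizing (Cfsg.glToMat (Fin 2) F) {v : Fin 2 → F | ∀ i : Fin 2, 1 ≤ (i : ℕ) → v i = 0}

theorem mem_B0 [Fintype F] (g : GL (Fin 2) F) :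
    g ∈ B0 F ↔ (g : Matrix (Fin 2) (Fin 2) F) 1 0 = 0 := by
  unfold B0
  rw [Cfsg.Agent.Helper9BlockGL.mem_stabilizing_iff]
  constructor
  · intro h
    exact h 1 (by simp) 0 (by simp)
  · intro h i hi j hj
    fin_cases i
    · simp at hi
    · fin_cases j
      · exact h
      · simp at hj

theorem card_B0 [Fintype F] : Nat.card (B0 F) = Fintype.card F * (Fintype.card F - 1) ^ 2 := by
  unfold B0
  rw [Cfsg.Agent.S0771.result (F := F) rfl 2 1 (by norm_num)]
  simp
  ring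

theorem B0_coatom [Finite F] : IsCoatom (B0 F) :=
  Cfsg.Agent.S0772.result 2 1 (by norm_num) (by norm_num)

/-- the diagonal entries, a homomorphism on the Borel subgroup. -/
noncomputable def diagHom (F : Type*) [Field F] [Fintype F] : B0 F →* F × F where
  toFun g := ((g.1 : Matrix (Fin 2) (Fin 2) F) 0 0, (g.1 : Matrix (Fin 2) (Fin 2) F) 1 1)
  map_one' := by simp
  map_mul' := by
    intro g h
    have hg := (mem_B0 g.1).1 g.2
    have hh := (mem_B0 h.1).1 h.2
    simp only [Subgroup.coe_mul, Units.val_mul, Matrix.mul_apply, Fin.sum_univ_two, Prod.mk_mul_mk]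
    rw [hg, hh]
    simp

/-- the unipotent radical of the Borel subgroup. -/
noncomputable def U0 (F : Type*) [Field F] [Fintype F] : Subgroup (GL (Fin 2) F) :=
  (diagHom F).ker.map (B0 F).subtype

theorem mem_U0 [Fintype F] (g : GL (Fin 2) F) :
    g ∈ U0 F ↔ (g : Matrix (Fin 2) (Fin 2) F) 1 0 = 0 ∧ (g : Matrix (Fin 2) (Fin 2) F) 0 0 = 1 ∧
      (g : Matrix (Fin 2) (Fin 2) F) 1 1 = 1 := by
  unfold U0
  rw [Subgroup.mem_map]
  constructor
  · rintro ⟨x, hx, rfl⟩
    rw [MonoidHom.mem_ker] at hx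
    have h1 := (mem_B0 x.1).1 x.2
    have h2 := congrArg Prod.fst hx
    have h3 := congrArg Prod.snd hx
    exact ⟨h1, h2, h3⟩
  · rintro ⟨h1, h2, h3⟩
    refine ⟨⟨g, (mem_B0 g).2 h1⟩, ?_, rfl⟩
    rw [MonoidHom.mem_ker]
    exact Prod.ext h2 h3

theorem U0_le_B0 [Fintype F] : U0 F ≤ B0 F := by
  intro g hg
  exact (mem_B0 g).2 ((mem_U0 g).1 hg).1

/-- the elements of `U0`. -/
noncomputable def uMat (b : F) : GL (Fin 2) F :=
  Matrix.GeneralLinearGroup.mkOfDetNeZero !![1, b; 0, 1] (by simp [Matrix.det_fin_two])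

theorem uMat_mem [Fintype F] (b : F) : uMat b ∈ U0 F := by
  rw [mem_U0]
  refine ⟨rfl, rfl, rfl⟩

theorem eq_uMat [Fintype F] (g : GL (Fin 2) F) (hg : g ∈ U0 F) :
    g = uMat ((g : Matrix (Fin 2) (Fin 2) F) 0 1) := by
  obtain ⟨h1, h2, h3⟩ := (mem_U0 g).1 hg
  apply Units.ext
  ext i j
  fin_cases i <;> fin_cases j
  · exact h2
  · rfl
  · exact h1
  · exact h3

theorem card_U0 [Fintype F] : Nat.card (U0 F) = Fintype.card F := by
  rw [← Nat.card_eq_fintype_card]
  apply Nat.card_congr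
  exact
    { toFun := fun g => (g.1 : Matrix (Fin 2) (Fin 2) F) 0 1
      invFun := fun b => ⟨uMat b, uMat_mem b⟩
      left_inv := by
        intro g
        apply Subtype.ext
        exact (eq_uMat g.1 g.2).symm
      right_inv := by
        intro b
        rfl }

theorem uMat_mul (a b : F) : uMat a * uMat b = uMat (a + b) := by
  apply Units.ext
  show !![(1:F), a; 0, 1] * !![1, b; 0, 1] = !![1, a + b; 0, 1]
  rw [Matrix.mul_fin_two]
  ext i j
  fin_cases i <;> fin_cases j <;> simp [add_comm]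

theorem U0_comm [Fintype F] (x y : GL (Fin 2) F) (hx : x ∈ U0 F) (hy : y ∈ U0 F) : x * y = y * x := by
  rw [eq_uMat x hx, eq_uMat y hy, uMat_mul, uMat_mul, add_comm]

theorem B0_le_normalizer [Fintype F] : B0 F ≤ Subgroup.normalizer (U0 F : Set (GL (Fin 2) F)) := by
  have key : ∀ b ∈ B0 F, ∀ h ∈ U0 F, b * h * b⁻¹ ∈ U0 F := by
    intro b hb h hh
    unfold U0 at hh ⊢
    obtain ⟨x, hx, rfl⟩ := Subgroup.mem_map.1 hh
    have hk := (MonoidHom.normal_ker (diagHom F)).conj_mem x hx ⟨b, hb⟩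
    have := Subgroup.mem_map_of_mem (B0 F).subtype hk
    simpa using this
  intro b hb
  rw [Subgroup.mem_normalizer_iff]
  intro h
  constructor
  · exact key b hb h
  · intro hh
    have := key b⁻¹ ((B0 F).inv_mem hb) _ hh
    have h2 : b⁻¹ * (b * h * b⁻¹) * b⁻¹⁻¹ = h := by group
    rw [h2] at this
    exact this

/-- the coordinate swap. -/
noncomputable def wMat (F : Type*) [Field F] : GL (Fin 2) F :=
  Matrix.GeneralLinearGroup.mkOfDetNeZero !![0, 1; 1, 0] (by simp [Matrix.det_fin_two])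

theorem wMat_not_mem [Fintype F] : wMat F ∉ Subgroup.normalizer (U0 F : Set (GL (Fin 2) F)) := by
  intro h
  rw [Subgroup.mem_normalizer_iff] at h
  have h1 := (h (uMat 1)).1 (uMat_mem 1)
  have hinv : (wMat F)⁻¹ = wMat F := by
    rw [inv_eq_iff_mul_eq_one]
    apply Units.ext
    show !![(0:F), 1; 1, 0] * !![0, 1; 1, 0] = 1
    rw [Matrix.mul_fin_two]
    ext i j
    fin_cases i <;> fin_cases j <;> simp
  rw [hinv] at h1
  have h2 := ((mem_U0 _).1 h1).1
  have h3 : ((wMat F * uMat 1 * wMat F : GL (Fin 2) F) : Matrix (Fin 2) (Fin 2) F) 1 0 = 1 := by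
    show ((!![(0:F), 1; 1, 0] : Matrix (Fin 2) (Fin 2) F) * (!![1, 1; 0, 1] : Matrix (Fin 2) (Fin 2) F) *
      (!![0, 1; 1, 0] : Matrix (Fin 2) (Fin 2) F)) 1 0 = 1
    rw [Matrix.mul_fin_two, Matrix.mul_fin_two]
    simp
  rw [h3] at h2
  exact one_ne_zero h2

theorem normalizer_U0 [Fintype F] : Subgroup.normalizer (U0 F : Set (GL (Fin 2) F)) = B0 F := by
  rcases (B0_coatom (F := F)).le_iff.1 B0_le_normalizer with h | h
  · exfalso
    apply wMat_not_mem (F := F)
    rw [h]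
    exact Subgroup.mem_top _
  · exact h

section sylow

variable [Fintype F] (p : ℕ) [Fact p.Prime] [CharP F p]

theorem card_U0_eq : Nat.card (U0 F) = p ^ (Nat.card (GL (Fin 2) F)).factorization p := by
  have P : Sylow p (GL (Fin 2) F) := default
  rw [← P.card_eq_multiplicity, Cfsg.Agent.S0263.result (F := F) rfl p 2 P, card_U0]
  simp

/-- the standard Sylow `p`-subgroup. -/
noncomputable def P0 : Sylow p (GL (Fin 2) F) := Sylow.ofCard (U0 F) (card_U0_eq p)

theorem coe_P0 : ((P0 p : Sylow p (GL (Fin 2) F)) : Subgroup (GL (Fin 2) F)) = U0 F := rfl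

theorem coe_P0' : ((P0 p : Sylow p (GL (Fin 2) F)) : Set (GL (Fin 2) F)) = (U0 F : Set (GL (Fin 2) F)) := rfl

theorem card_normalizer (P : Sylow p (GL (Fin 2) F)) :
    Nat.card (Subgroup.normalizer ((P : Subgroup (GL (Fin 2) F)) : Set (GL (Fin 2) F))) =
      Fintype.card F * (Fintype.card F - 1) ^ 2 := by
  have h1 := P.card_eq_index_normalizer
  have h2 := (P0 p : Sylow p (GL (Fin 2) F)).card_eq_index_normalizer
  rw [h1, coe_P0', normalizer_U0] at h2
  have h3 := Subgroup.card_mul_index (Subgroup.normalizer ((P : Subgroup (GL (Fin 2) F)) : Set (GL (Fin 2) F)))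
  have h4 := Subgroup.card_mul_index (B0 F)
  have h2' : (Subgroup.normalizer ((P : Subgroup (GL (Fin 2) F)) : Set (GL (Fin 2) F))).index = (B0 F).index := h2
  rw [← h4, h2'] at h3
  have hpos : 0 < (B0 F).index := Nat.pos_of_ne_zero Subgroup.index_ne_zero_of_finite
  rw [← card_B0]
  exact Nat.eq_of_mul_eq_mul_right hpos h3

theorem card_sylow : Nat.card (Sylow p (GL (Fin 2) F)) = Fintype.card F + 1 := by
  have h2 := (P0 p : Sylow p (GL (Fin 2) F)).card_eq_index_normalizer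
  rw [coe_P0', normalizer_U0] at h2
  rw [h2]
  have h4 := Subgroup.card_mul_index (B0 F)
  rw [card_B0, Matrix.card_GL_field] at h4
  simp only [Fin.prod_univ_two, Fin.val_zero, Fin.val_one, pow_zero, pow_one] at h4
  have hq : 2 ≤ Fintype.card F := Fintype.one_lt_card
  obtain ⟨c, hc⟩ : ∃ c, Fintype.card F = c + 2 := ⟨Fintype.card F - 2, by omega⟩
  rw [hc] at h4 ⊢
  have e1 : (c + 2) ^ 2 - 1 = (c + 1) * (c + 3) := by
    have : (c + 2) ^ 2 = (c + 1) * (c + 3) + 1 := by ring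
    omega
  have e2 : (c + 2) ^ 2 - (c + 2) = (c + 2) * (c + 1) := by
    have : (c + 2) ^ 2 = (c + 2) * (c + 1) + (c + 2) := by ring
    omega
  have e3 : c + 2 - 1 = c + 1 := by omega
  rw [e1, e2, e3] at h4
  have hpos : 0 < (c + 2) * (c + 1) ^ 2 := by positivity
  apply Nat.eq_of_mul_eq_mul_left hpos
  rw [h4]
  ring

theorem sylow_comm (P : Sylow p (GL (Fin 2) F)) (x y : GL (Fin 2) F) (hx : x ∈ P) (hy : y ∈ P) :
    x * y = y * x := by
  have e : (P : Subgroup (GL (Fin 2) F)) ≃* (P0 p : Sylow p (GL (Fin 2) F)) := Sylow.equiv P (P0 p)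
  have h := U0_comm (e ⟨x, hx⟩).1 (e ⟨y, hy⟩).1 (e ⟨x, hx⟩).2 (e ⟨y, hy⟩).2
  have h2 : e ⟨x, hx⟩ * e ⟨y, hy⟩ = e ⟨y, hy⟩ * e ⟨x, hx⟩ := Subtype.ext h
  rw [← map_mul, ← map_mul] at h2
  exact congrArg Subtype.val (e.injective h2)

end sylow

end Cfsg.Agent.Helper9GL2
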