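-- helper9: orthonormal bases of non-degenerate subspaces of the standard Hermitian space,
-- and the stabiliser of such a subspace in GU.
import Mathlib
import Cfsg.Prelude.Def_LieClassical
import Cfsg.Prelude.Def_ClassicalGeometry
import Cfsg.Agent.Lib.Helper9_GUOrder

set_option autoImplicit false

namespace Cfsg.Agent.Helper9GUStab

open Finset Cfsg Cfsg.Agent.Helper9HermCount Cfsg.Agent.Helper9GUOrder

variable {F : Type*} [Field F] [Fintype F] [DecidableEq F] {q : ℕ} {n : ℕ}

/-- Extending an orthonormal family inside a non-degenerate subspace. -/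
lemma ext_frame_in (hF : Fintype.card F = q ^ 2) (W : Submodule F (Fin n → F))
    (hW : ∀ u ∈ W, (∀ v ∈ W, hermForm n F q u v = 0) → u = 0)
    {ι : Type*} [DecidableEq ι] [Fintype ι]
    (v : ι → Fin n → F) (hvW : ∀ i, v i ∈ W) (hv : IsON n q v)
    (hk : Fintype.card ι < Module.finrank F W) :
    ∃ u ∈ W, hermForm n F q u u = 1 ∧ ∀ j, hermForm n F q u (v j) = 0 := by
  have hq := q_ge_two hF
  have hq0 : q ≠ 0 := by omega
  have hconj := Cfsg.Agent.Lib.Helper1_Herm.hermForm_conj hF (n := n)
  have hli := li_of_ON v hv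
  let proj : (Fin n → F) → (Fin n → F) := fun z => ∑ i, hermForm n F q z (v i) • v i
  have hprojperp : ∀ z j, hermForm n F q (z - proj z) (v j) = 0 := fun z j => proj_perp v hv z j
  have hle : Submodule.span F (Set.range v) ≤ W := by
    rw [Submodule.span_le]
    rintro _ ⟨i, rfl⟩
    exact hvW i
  have hspan : Submodule.span F (Set.range v) ≠ W := by
    intro htop
    have h1 := finrank_span_eq_card hli
    rw [htop] at h1
    omega
  obtain ⟨w, hwW, hw⟩ : ∃ w ∈ W, w ∉ Submodule.span F (Set.range v) := by
    by_contra hcon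
    push Not at hcon
    exact hspan (le_antisymm hle fun x hx => hcon x hx)
  have hprojmem : ∀ z, proj z ∈ Submodule.span F (Set.range v) := by
    intro z
    apply Submodule.sum_mem
    intro i _
    exact Submodule.smul_mem _ _ (Submodule.subset_span ⟨i, rfl⟩)
  have hprojW : ∀ z, z ∈ W → z - proj z ∈ W := fun z hz => W.sub_mem hz (hle (hprojmem z))
  obtain ⟨u₀, hu₀⟩ : ∃ u₀, u₀ = w - proj w := ⟨_, rfl⟩
  have hu₀W : u₀ ∈ W := hu₀ ▸ hprojW w hwW
  have hu₀ne : u₀ ≠ 0 := by
    intro h0
    rw [hu₀, sub_eq_zero] at h0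
    exact hw (h0 ▸ hprojmem w)
  have hu₀perp : ∀ j, hermForm n F q u₀ (v j) = 0 := fun j => hu₀ ▸ hprojperp w j
  obtain ⟨u, huW, huperp, huu⟩ : ∃ u ∈ W, (∀ j, hermForm n F q u (v j) = 0) ∧
      hermForm n F q u u ≠ 0 := by
    by_contra hcon
    push Not at hcon
    have hzero : ∀ u u', u ∈ W → u' ∈ W → (∀ j, hermForm n F q u (v j) = 0) →
        (∀ j, hermForm n F q u' (v j) = 0) → hermForm n F q u u' = 0 := by
      intro u u' huW hu'W hu hu'
      obtain ⟨a, ha⟩ : ∃ a : F, a ^ q ≠ a := by
        by_contra h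
        push Not at h
        have h1 : (S F q).card = Fintype.card F := by
          rw [← Finset.card_univ]; congr 1
          ext y; simp [mem_S, h y]
        rw [S_card hF, hF] at h1
        nlinarith
      have hsum : ∀ t : F, hermForm n F q (u + t • u') (u + t • u') = 0 := by
        intro t
        apply hcon _ (W.add_mem huW (W.smul_mem t hu'W))
        intro j
        rw [Cfsg.Agent.Lib.Helper1_Herm.hermForm_add_left,
          Cfsg.Agent.Lib.Helper1_Herm.hermForm_smul_left, hu j, hu' j, mul_zero, add_zero]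
      have e1 : ∀ t : F, t ^ q * hermForm n F q u u' + t * hermForm n F q u' u = 0 := by
        intro t
        have := hsum t
        simp only [Cfsg.Agent.Lib.Helper1_Herm.hermForm_add_left,
          Cfsg.Agent.Lib.Helper1_Herm.hermForm_add_right hF,
          Cfsg.Agent.Lib.Helper1_Herm.hermForm_smul_left,
          Cfsg.Agent.Lib.Helper1_Herm.hermForm_smul_right] at this
        rw [hcon u huW hu, hcon u' hu'W hu'] at this
        linear_combination this
      have e2 := e1 1
      have e3 := e1 a
      rw [one_pow, one_mul, one_mul] at e2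
      have e4 : (a ^ q - a) * hermForm n F q u u' = 0 := by
        linear_combination e3 - a * e2
      rcases mul_eq_zero.1 e4 with h | h
      · exact absurd (sub_eq_zero.1 h) ha
      · exact h
    apply hu₀ne
    apply hW u₀ hu₀W
    intro z hz
    have hz' : z = proj z + (z - proj z) := by abel
    rw [hz', Cfsg.Agent.Lib.Helper1_Herm.hermForm_add_right hF]
    have h1 : hermForm n F q u₀ (z - proj z) = 0 :=
      hzero _ _ hu₀W (hprojW z hz) hu₀perp (hprojperp z)
    have h2 : hermForm n F q u₀ (proj z) = 0 := by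
      simp only [proj]
      rw [herm_sum_right hF]
      apply Finset.sum_eq_zero
      intro i _
      rw [hu₀perp i, mul_zero]
    rw [h1, h2, add_zero]
  have hc : hermForm n F q u u ∈ S F q := herm_mem_S hF n u
  have hcinv : (hermForm n F q u u)⁻¹ ∈ (S F q).erase 0 := by
    rw [mem_erase, mem_S, inv_pow, mem_S.1 hc]
    exact ⟨inv_ne_zero huu, rfl⟩
  have hcard := (counts hF).1 _ hcinv
  obtain ⟨a, ha⟩ : (fiber q (hermForm n F q u u)⁻¹).Nonempty := by
    rw [← Finset.card_pos, hcard]; omega
  rw [mem_fiber] at ha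
  refine ⟨a • u, W.smul_mem a huW, ?_, ?_⟩
  · rw [Cfsg.Agent.Lib.Helper1_Herm.hermForm_smul_left,
      Cfsg.Agent.Lib.Helper1_Herm.hermForm_smul_right, ← mul_assoc, ← pow_succ', ha,
      inv_mul_cancel₀ huu]
  · intro j
    rw [Cfsg.Agent.Lib.Helper1_Herm.hermForm_smul_left, huperp j, mul_zero]

/-- A non-degenerate subspace has an orthonormal basis. -/
lemma exists_ON_basis (hF : Fintype.card F = q ^ 2) (W : Submodule F (Fin n → F))
    (hW : ∀ u ∈ W, (∀ v ∈ W, hermForm n F q u v = 0) → u = 0) :
    ∀ m, m ≤ Module.finrank F W → ∃ w : Fin m → Fin n → F, IsON n q w ∧ ∀ i, w i ∈ W := by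
  intro m
  induction m with
  | zero => intro _; exact ⟨Fin.elim0, fun i => i.elim0, fun i => i.elim0⟩
  | succ m ih =>
    intro hm
    obtain ⟨w, hw, hwW⟩ := ih (by omega)
    obtain ⟨u, huW, hu1, hu2⟩ := ext_frame_in hF W hW w hwW hw (by
      rw [Fintype.card_fin]; omega)
    refine ⟨Fin.cons u w, (ON_cons_iff hF u w).2 ⟨hw, hu1, hu2⟩, ?_⟩
    intro i
    refine Fin.cases ?_ (fun i => ?_) i
    · simpa using huW
    · simpa using hwW i

/-- A form-preserving matrix is invertible. -/
lemma isUnit_of_pres (hq : q ≠ 0) (M : Matrix (Fin n) (Fin n) F)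
    (hpres : ∀ x y, hermForm n F q (M.mulVec x) (M.mulVec y) = hermForm n F q x y) : IsUnit M := by
  apply Matrix.mulVec_injective_iff_isUnit.1
  intro x y hxy
  rw [← sub_eq_zero]
  apply herm_nondeg hq
  intro z
  rw [← hpres, Matrix.mulVec_sub, hxy, sub_self, herm_zero_left]

/-- Build an element of `GU` from a form-preserving matrix. -/
noncomputable def mkGU (hq : q ≠ 0) (M : Matrix (Fin n) (Fin n) F)
    (hpres : ∀ x y, hermForm n F q (M.mulVec x) (M.mulVec y) = hermForm n F q x y) : GU n F q :=
  ⟨(isUnit_of_pres hq M hpres).unit, by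
    rw [mem_GU_iff]
    intro x y
    rw [IsUnit.unit_spec]
    exact hpres x y⟩

lemma mkGU_val (hq : q ≠ 0) (M : Matrix (Fin n) (Fin n) F)
    (hpres : ∀ x y, hermForm n F q (M.mulVec x) (M.mulVec y) = hermForm n F q x y) :
    (((mkGU hq M hpres).1 : Matrix.GeneralLinearGroup (Fin n) F) : Matrix (Fin n) (Fin n) F) = M :=
  IsUnit.unit_spec _

lemma GU_ext (g g' : GU n F q)
    (h : ((g.1 : Matrix.GeneralLinearGroup (Fin n) F) : Matrix (Fin n) (Fin n) F) = g'.1) : g = g' :=
  Subtype.ext (Units.ext h)

/-- Coordinates with respect to a family. -/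
def coords {m : ℕ} (q : ℕ) (p : Fin m → Fin n → F) (x : Fin n → F) : Fin m → F :=
  fun i => hermForm n F q x (p i)

/-- Linear combinations of a family. -/
def comb {m : ℕ} (p : Fin m → Fin n → F) (c : Fin m → F) : Fin n → F := ∑ i, c i • p i

/-- `coords` as a linear map. -/
def coordsL {m : ℕ} (q : ℕ) (p : Fin m → Fin n → F) : (Fin n → F) →ₗ[F] (Fin m → F) :=
  LinearMap.pi (fun i => hL n q (p i))

lemma coordsL_apply {m : ℕ} (p : Fin m → Fin n → F) (x : Fin n → F) :
    coordsL q p x = coords q p x := rfl

lemma comb_eq {m : ℕ} (p : Fin m → Fin n → F) (c : Fin m → F) :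
    Fintype.linearCombination F p c = comb p c := by
  rw [Fintype.linearCombination_apply]; rfl

section adapted

variable {k m : ℕ} (hF : Fintype.card F = q ^ 2) (w : Fin k → Fin n → F) (u : Fin m → Fin n → F)
  (hw : IsON n q w) (hu : IsON n q u) (huw : ∀ i j, hermForm n F q (u i) (w j) = 0)
  (hkm : k + m = n)

include hF hw hu huw in
lemma comb_ON : IsON n q (Sum.elim w u) := by
  rintro (i | i) (j | j)
  · simpa using hw i j
  · simpa using herm_perp_symm hF _ _ (huw j i)
  · simpa using huw i j
  · simpa using hu i j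

include hF hw hu huw hkm in
lemma decomp (x : Fin n → F) : x = comb w (coords q w x) + comb u (coords q u x) := by
  have h1 := expand_full hF (Sum.elim w u) (comb_ON hF w u hw hu huw) (by
    rw [Fintype.card_sum, Fintype.card_fin, Fintype.card_fin]; exact hkm) x
  rw [Fintype.sum_sum_type] at h1
  exact h1

include hF hw hu huw in
lemma herm_decomp (c c' : Fin k → F) (d d' : Fin m → F) :
    hermForm n F q (comb w c + comb u d) (comb w c' + comb u d') =
      hermForm k F q c c' + hermForm m F q d d' := by
  have h1 := herm_comb hF (Sum.elim w u) (comb_ON hF w u hw hu huw) (Sum.elim c d) (Sum.elim c' d')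
  rw [Fintype.sum_sum_type, Fintype.sum_sum_type, Fintype.sum_sum_type] at h1
  exact h1

include hF hw hu huw in
lemma coords_comb (c : Fin k → F) (d : Fin m → F) :
    coords q w (comb w c + comb u d) = c ∧ coords q u (comb w c + comb u d) = d := by
  have hw' : ∀ i j, hermForm n F q (w i) (w j) = if i = j then 1 else 0 := hw
  have hu' : ∀ i j, hermForm n F q (u i) (u j) = if i = j then 1 else 0 := hu
  have hwu : ∀ i j, hermForm n F q (w i) (u j) = 0 := fun i j => herm_perp_symm hF _ _ (huw j i)
  constructor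
  · funext j
    simp only [coords, comb, Cfsg.Agent.Lib.Helper1_Herm.hermForm_add_left, herm_sum_left, hw', huw,
      mul_ite, mul_one, mul_zero, Finset.sum_ite_eq', Finset.mem_univ, if_true,
      Finset.sum_const_zero, add_zero]
  · funext j
    simp only [coords, comb, Cfsg.Agent.Lib.Helper1_Herm.hermForm_add_left, herm_sum_left, hu', hwu,
      mul_ite, mul_one, mul_zero, Finset.sum_ite_eq', Finset.mem_univ, if_true,
      Finset.sum_const_zero, zero_add]

omit [Fintype F] [DecidableEq F] in
lemma comb_zero {m : ℕ} (p : Fin m → Fin n → F) : comb p (0 : Fin m → F) = 0 := by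
  simp [comb]

include hF hw hu huw hkm in
/-- Membership in `W` is the vanishing of the `u`-coordinates. -/
lemma mem_W_iff (W : Submodule F (Fin n → F)) (hWk : Module.finrank F W = k) (hwW : ∀ i, w i ∈ W)
    (x : Fin n → F) : x ∈ W ↔ coords q u x = 0 := by
  have hli := li_of_ON w hw
  have hspan : Submodule.span F (Set.range w) = W := by
    apply Submodule.eq_of_le_of_finrank_eq
    · rw [Submodule.span_le]
      rintro _ ⟨i, rfl⟩
      exact hwW i
    · rw [finrank_span_eq_card hli, Fintype.card_fin, hWk]
  constructor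
  · intro hx
    rw [← hspan] at hx
    obtain ⟨c, rfl⟩ := (Submodule.mem_span_range_iff_exists_fun F).1 hx
    have := (coords_comb hF w u hw hu huw c 0).2
    rw [comb_zero, add_zero] at this
    exact this
  · intro hx
    have h1 := decomp hF w u hw hu huw hkm x
    rw [hx, comb_zero, add_zero] at h1
    rw [h1, ← hspan]
    apply Submodule.sum_mem
    intro i _
    exact Submodule.smul_mem _ _ (Submodule.subset_span ⟨i, rfl⟩)

/-- The `w`-block of a matrix. -/
def blkA (q : ℕ) (M : Matrix (Fin n) (Fin n) F) : Matrix (Fin k) (Fin k) F :=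
  Matrix.of (fun i j => hermForm n F q (M.mulVec (w j)) (w i))

lemma mulVec_comb {m' : ℕ} (M : Matrix (Fin n) (Fin n) F) (p : Fin m' → Fin n → F)
    (c : Fin m' → F) : M.mulVec (comb p c) = ∑ j, c j • M.mulVec (p j) := by
  unfold comb
  rw [Matrix.mulVec_sum]
  apply Finset.sum_congr rfl
  intro j _
  rw [Matrix.mulVec_smul]

lemma coords_mulVec_comb {m' m'' : ℕ} (M : Matrix (Fin n) (Fin n) F) (p : Fin m' → Fin n → F)
    (p' : Fin m'' → Fin n → F) (c : Fin m' → F) :
    coords q p' (M.mulVec (comb p c)) =
      (Matrix.of (fun i j => hermForm n F q (M.mulVec (p j)) (p' i))).mulVec c := by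
  funext i
  rw [mulVec_comb]
  simp only [coords, herm_sum_left, Matrix.mulVec, dotProduct, Matrix.of_apply]
  apply Finset.sum_congr rfl
  intro j _
  ring

omit [Fintype F] [DecidableEq F] in
lemma mat_ext {k' : ℕ} (A A' : Matrix (Fin k') (Fin k') F) (h : ∀ c, A.mulVec c = A'.mulVec c) :
    A = A' := by
  ext i j
  have := congrFun (h (Pi.single j 1)) i
  simpa [Matrix.mulVec_single_one] using this

/-- A matrix mapping `span w` and `span u` to themselves. -/
def Adapted (q : ℕ) (M : Matrix (Fin n) (Fin n) F) : Prop :=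
  (∀ j, coords q u (M.mulVec (w j)) = 0) ∧ (∀ j, coords q w (M.mulVec (u j)) = 0)

lemma coords_add {m' : ℕ} (p : Fin m' → Fin n → F) (x y : Fin n → F) :
    coords q p (x + y) = coords q p x + coords q p y := by
  funext i
  simp only [coords, Pi.add_apply, Cfsg.Agent.Lib.Helper1_Herm.hermForm_add_left]

omit [Fintype F] [DecidableEq F] in
lemma zero_block {m' m'' : ℕ} (M : Matrix (Fin n) (Fin n) F) (p : Fin m' → Fin n → F)
    (p' : Fin m'' → Fin n → F) (h : ∀ j, coords q p' (M.mulVec (p j)) = 0) :
    (Matrix.of (fun i j => hermForm n F q (M.mulVec (p j)) (p' i))) = 0 := by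
  ext i j
  exact congrFun (h j) i

include hF hw hu huw hkm in
lemma adapted_apply (M : Matrix (Fin n) (Fin n) F) (hM : Adapted w u q M) (c : Fin k → F)
    (d : Fin m → F) :
    M.mulVec (comb w c + comb u d) = comb w ((blkA w q M).mulVec c) + comb u ((blkA u q M).mulVec d) := by
  have h1 := decomp hF w u hw hu huw hkm (M.mulVec (comb w c + comb u d))
  rw [h1]
  congr 2
  · rw [Matrix.mulVec_add, coords_add, coords_mulVec_comb, coords_mulVec_comb,
      zero_block M u w hM.2, Matrix.zero_mulVec, add_zero]
    rfl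
  · rw [Matrix.mulVec_add, coords_add, coords_mulVec_comb, coords_mulVec_comb,
      zero_block M w u hM.1, Matrix.zero_mulVec, zero_add]
    rfl

include hF hw hu huw hkm in
lemma adapted_mul (M M' : Matrix (Fin n) (Fin n) F) (hM : Adapted w u q M)
    (hM' : Adapted w u q M') :
    blkA w q (M * M') = blkA w q M * blkA w q M' ∧ blkA u q (M * M') = blkA u q M * blkA u q M' := by
  have key : ∀ c d, (M * M').mulVec (comb w c + comb u d) =
      comb w ((blkA w q M * blkA w q M').mulVec c) + comb u ((blkA u q M * blkA u q M').mulVec d) := by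
    intro c d
    rw [← Matrix.mulVec_mulVec, adapted_apply hF w u hw hu huw hkm M' hM',
      adapted_apply hF w u hw hu huw hkm M hM, Matrix.mulVec_mulVec, Matrix.mulVec_mulVec]
  constructor
  · apply mat_ext
    intro c
    have h1 := key c 0
    have h2 := congrArg (coords q w) h1
    rw [(coords_comb hF w u hw hu huw _ _).1, comb_zero, add_zero, coords_mulVec_comb] at h2
    exact h2
  · apply mat_ext
    intro d
    have h1 := key 0 d
    have h2 := congrArg (coords q u) h1
    rw [(coords_comb hF w u hw hu huw _ _).2, comb_zero, zero_add, coords_mulVec_comb] at h2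
    exact h2

include hF hw hu huw hkm in
lemma adapted_pres (M : Matrix (Fin n) (Fin n) F) (hM : Adapted w u q M)
    (hpres : ∀ x y, hermForm n F q (M.mulVec x) (M.mulVec y) = hermForm n F q x y) :
    (∀ c c', hermForm k F q ((blkA w q M).mulVec c) ((blkA w q M).mulVec c') = hermForm k F q c c') ∧
    (∀ d d', hermForm m F q ((blkA u q M).mulVec d) ((blkA u q M).mulVec d') = hermForm m F q d d') := by
  have h0 : ∀ (j : ℕ), hermForm j F q (0 : Fin j → F) 0 = 0 := fun j => herm_zero_left 0
  constructor
  · intro c c'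
    have h1 := hpres (comb w c + comb u 0) (comb w c' + comb u 0)
    rw [adapted_apply hF w u hw hu huw hkm M hM, adapted_apply hF w u hw hu huw hkm M hM,
      herm_decomp hF w u hw hu huw, herm_decomp hF w u hw hu huw, Matrix.mulVec_zero, h0,
      add_zero, add_zero] at h1
    exact h1
  · intro d d'
    have h1 := hpres (comb w 0 + comb u d) (comb w 0 + comb u d')
    rw [adapted_apply hF w u hw hu huw hkm M hM, adapted_apply hF w u hw hu huw hkm M hM,
      herm_decomp hF w u hw hu huw, herm_decomp hF w u hw hu huw, Matrix.mulVec_zero, h0,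
      zero_add, zero_add] at h1
    exact h1

end adapted

end Cfsg.Agent.Helper9GUStab
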