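import Mathlib

set_option autoImplicit false

namespace Cfsg.Agent.Helper9G

variable {n : ℕ}

/-- support of a binary word -/
def supp (u : Fin n → ZMod 2) : Finset (Fin n) := Finset.univ.filter (fun i => u i ≠ 0)

/-- indicator word of a set -/
def indic (s : Finset (Fin n)) : Fin n → ZMod 2 := fun i => if i ∈ s then 1 else 0

theorem zmod2_cases (a : ZMod 2) : a = 0 ∨ a = 1 := by
  fin_cases a
  · left; rfl
  · right; rfl

theorem mem_supp (u : Fin n → ZMod 2) (i : Fin n) : i ∈ supp u ↔ u i ≠ 0 := by
  simp [supp]

theorem mem_supp' (u : Fin n → ZMod 2) (i : Fin n) : i ∈ supp u ↔ u i = 1 := by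
  rw [mem_supp]
  rcases zmod2_cases (u i) with h | h <;> simp [h]

theorem hammingNorm_eq (u : Fin n → ZMod 2) : hammingNorm u = (supp u).card := by
  unfold hammingNorm supp
  congr 1

theorem supp_indic (s : Finset (Fin n)) : supp (indic s) = s := by
  ext i
  rw [mem_supp]
  unfold indic
  by_cases h : i ∈ s <;> simp [h]

theorem indic_supp (u : Fin n → ZMod 2) : indic (supp u) = u := by
  funext i
  unfold indic
  by_cases h : i ∈ supp u
  · rw [if_pos h]; exact ((mem_supp' u i).mp h).symm
  · rw [if_neg h]
    rw [mem_supp, not_not] at h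
    exact h.symm

theorem supp_injective : Function.Injective (supp : (Fin n → ZMod 2) → Finset (Fin n)) := by
  intro u v h
  rw [← indic_supp u, ← indic_supp v, h]

theorem supp_zero : supp (0 : Fin n → ZMod 2) = ∅ := by
  ext i; simp [mem_supp]

theorem supp_eq_empty (u : Fin n → ZMod 2) : supp u = ∅ ↔ u = 0 := by
  constructor
  · intro h
    apply supp_injective
    rw [h, supp_zero]
  · intro h; rw [h, supp_zero]

theorem sub_eq_add' (u v : Fin n → ZMod 2) : u - v = u + v := by
  funext i
  simp only [Pi.sub_apply, Pi.add_apply]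
  rcases zmod2_cases (v i) with h | h <;> rw [h]
  · simp
  · rcases zmod2_cases (u i) with h2 | h2 <;> rw [h2] <;> decide

theorem supp_add (u v : Fin n → ZMod 2) : supp (u + v) = symmDiff (supp u) (supp v) := by
  ext i
  rw [Finset.mem_symmDiff, mem_supp, mem_supp, mem_supp, Pi.add_apply]
  rcases zmod2_cases (u i) with h | h <;> rcases zmod2_cases (v i) with h2 | h2 <;> rw [h, h2] <;> decide

theorem card_supp_add (u v : Fin n → ZMod 2) :
    (supp (u + v)).card + 2 * (supp u ∩ supp v).card = (supp u).card + (supp v).card := by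
  rw [supp_add]
  have h1 : symmDiff (supp u) (supp v) = (supp u \ supp v) ∪ (supp v \ supp u) := rfl
  have hd : Disjoint (supp u \ supp v) (supp v \ supp u) := by
    rw [Finset.disjoint_left]
    intro x hx hx'
    rw [Finset.mem_sdiff] at hx hx'
    exact hx.2 hx'.1
  rw [h1, Finset.card_union_of_disjoint hd]
  have e1 := Finset.card_sdiff_add_card_inter (supp u) (supp v)
  have e2 := Finset.card_sdiff_add_card_inter (supp v) (supp u)
  rw [Finset.inter_comm (supp v) (supp u)] at e2
  omega

theorem dot_eq (u v : Fin n → ZMod 2) : ∑ i, u i * v i = ((supp u ∩ supp v).card : ZMod 2) := by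
  have : ∀ i, u i * v i = if i ∈ supp u ∩ supp v then 1 else 0 := by
    intro i
    by_cases hm : i ∈ supp u ∩ supp v
    · rw [if_pos hm]
      rw [Finset.mem_inter, mem_supp', mem_supp'] at hm
      rw [hm.1, hm.2]; rfl
    · rw [if_neg hm]
      rw [Finset.mem_inter, mem_supp, mem_supp, not_and_or, not_not, not_not] at hm
      rcases hm with h | h <;> rw [h] <;> simp
  simp_rw [this]
  rw [Finset.sum_boole]
  congr 2
  ext i; simp

theorem even_inter_of_dot_zero (u v : Fin n → ZMod 2) (h : ∑ i, u i * v i = 0) :
    Even (supp u ∩ supp v).card := by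
  rw [dot_eq] at h
  have := (ZMod.natCast_eq_zero_iff _ 2).mp h
  exact even_iff_two_dvd.mpr this

/-- the number of words of a given weight -/
theorem card_weight_eq (k : ℕ) :
    (Finset.univ.filter (fun u : Fin n → ZMod 2 => hammingNorm u = k)).card = Nat.choose n k := by
  have h1 : (Finset.univ.filter (fun u : Fin n → ZMod 2 => hammingNorm u = k)).card =
      (Finset.powersetCard k (Finset.univ : Finset (Fin n))).card := by
    apply Finset.card_bij (fun u _ => supp u)
    · intro u hu
      rw [Finset.mem_filter] at hu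
      rw [Finset.mem_powersetCard]
      exact ⟨Finset.subset_univ _, by rw [← hammingNorm_eq]; exact hu.2⟩
    · intro u _ v _ h
      exact supp_injective h
    · intro s hs
      rw [Finset.mem_powersetCard] at hs
      refine ⟨indic s, ?_, supp_indic s⟩
      rw [Finset.mem_filter]
      exact ⟨Finset.mem_univ _, by rw [hammingNorm_eq, supp_indic]; exact hs.2⟩
  rw [h1, Finset.card_powersetCard, Finset.card_univ, Fintype.card_fin]


/-- hypotheses of an abstract Golay code -/
structure IsGolay (C : Submodule (ZMod 2) (Fin 24 → ZMod 2)) : Prop where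
  hdim : Module.finrank (ZMod 2) C = 12
  horth : ∀ v ∈ C, ∀ w ∈ C, ∑ i, v i * w i = 0
  hmin : ∀ w ∈ C, w ≠ 0 → 8 ≤ hammingNorm w

variable {C : Submodule (ZMod 2) (Fin 24 → ZMod 2)}

/-- two distinct light words in the same coset have weight 4 and disjoint supports -/
theorem close_words (hC : IsGolay C) (u u' : Fin 24 → ZMod 2) (h : u - u' ∈ C) (hne : u ≠ u')
    (hu : hammingNorm u ≤ 4) (hu' : hammingNorm u' ≤ 4) :
    hammingNorm u = 4 ∧ hammingNorm u' = 4 ∧ Disjoint (supp u) (supp u') := by
  have h0 : u - u' ≠ 0 := sub_ne_zero.mpr hne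
  have h8 := hC.hmin _ h h0
  rw [sub_eq_add', hammingNorm_eq] at h8
  rw [hammingNorm_eq] at hu hu' ⊢
  rw [hammingNorm_eq]
  have := card_supp_add u u'
  have hi : (supp u ∩ supp u').card = 0 := by omega
  refine ⟨by omega, by omega, ?_⟩
  rw [Finset.disjoint_iff_inter_eq_empty]
  exact Finset.card_eq_zero.mp hi

theorem card_le_three : (Finset.univ.filter (fun u : Fin 24 → ZMod 2 => hammingNorm u ≤ 3)).card = 2325 := by
  have hmaps : Set.MapsTo (fun u : Fin 24 → ZMod 2 => hammingNorm u)
      ↑(Finset.univ.filter (fun u : Fin 24 → ZMod 2 => hammingNorm u ≤ 3)) ↑(Finset.range 4) := by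
    intro u hu
    simp only [Finset.coe_filter, Finset.mem_univ, true_and, Set.mem_setOf_eq] at hu
    simp only [Finset.coe_range, Set.mem_Iio]
    omega
  rw [Finset.card_eq_sum_card_fiberwise hmaps]
  have : ∀ k ∈ Finset.range 4, ((Finset.univ.filter (fun u : Fin 24 → ZMod 2 => hammingNorm u ≤ 3)).filter
      (fun u => hammingNorm u = k)).card = Nat.choose 24 k := by
    intro k hk
    rw [Finset.mem_range] at hk
    have e : ((Finset.univ.filter (fun u : Fin 24 → ZMod 2 => hammingNorm u ≤ 3)).filter
      (fun u => hammingNorm u = k)) = Finset.univ.filter (fun u : Fin 24 → ZMod 2 => hammingNorm u = k) := by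
      ext u
      simp only [Finset.mem_filter, Finset.mem_univ, true_and]
      constructor
      · rintro ⟨_, h⟩; exact h
      · intro h; exact ⟨by omega, h⟩
    rw [e]
    exact card_weight_eq k
  rw [Finset.sum_congr rfl this]
  simp only [Finset.sum_range_succ, Finset.sum_range_zero]
  norm_num [Nat.choose]

theorem card_quotient (hC : IsGolay C) : Nat.card ((Fin 24 → ZMod 2) ⧸ C) = 4096 := by
  have h1 := Submodule.card_eq_card_quotient_mul_card C
  have h2 : Nat.card (Fin 24 → ZMod 2) = 2 ^ 24 := by
    rw [Nat.card_eq_fintype_card, Fintype.card_fun, ZMod.card, Fintype.card_fin]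
  have h3 : Nat.card C = 2 ^ 12 := by
    rw [Module.natCard_eq_pow_finrank (K := ZMod 2), hC.hdim, Nat.card_eq_fintype_card, ZMod.card]
  rw [h2, h3] at h1
  have : (2 : ℕ) ^ 24 = 2 ^ 12 * 4096 := by norm_num
  rw [this] at h1
  exact (Nat.eq_of_mul_eq_mul_left (by norm_num) h1).symm


theorem card_eq_four : (Finset.univ.filter (fun u : Fin 24 → ZMod 2 => hammingNorm u = 4)).card = 10626 := by
  rw [card_weight_eq 4]
  norm_num [Nat.choose]

open Classical in
/-- the global counting statement -/
theorem counting (hC : IsGolay C) :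
    ∀ w : Fin 24 → ZMod 2,
      (∃ u, hammingNorm u ≤ 3 ∧ u - w ∈ C) ∨
      ((∀ u, u - w ∈ C → hammingNorm u ≤ 4 → hammingNorm u = 4) ∧
        ((Finset.univ.filter (fun u : Fin 24 → ZMod 2 => hammingNorm u = 4)).filter
          (fun u => u - w ∈ C)).card = 6) := by
  haveI : Fintype ((Fin 24 → ZMod 2) ⧸ C) := Fintype.ofFinite _
  set π : (Fin 24 → ZMod 2) → (Fin 24 → ZMod 2) ⧸ C := fun u => Submodule.Quotient.mk u with hπ
  have hπeq : ∀ u v, π u = π v ↔ u - v ∈ C := fun u v => Submodule.Quotient.eq C
  set L3 := Finset.univ.filter (fun u : Fin 24 → ZMod 2 => hammingNorm u ≤ 3) with hL3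
  set L4 := Finset.univ.filter (fun u : Fin 24 → ZMod 2 => hammingNorm u = 4) with hL4
  set T3 := L3.image π with hT3
  set T4 := L4.image π with hT4
  have hcardQ : Fintype.card ((Fin 24 → ZMod 2) ⧸ C) = 4096 := by
    rw [← Nat.card_eq_fintype_card]; exact card_quotient hC
  -- injectivity on L3
  have hinj : Set.InjOn π ↑L3 := by
    intro u hu v hv h
    by_contra hne
    have hu' : hammingNorm u ≤ 3 := by simpa [hL3] using hu
    have hv' : hammingNorm v ≤ 3 := by simpa [hL3] using hv
    have := close_words hC u v ((hπeq u v).mp h) hne (by omega) (by omega)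
    omega
  have hT3card : T3.card = 2325 := by
    rw [hT3, Finset.card_image_of_injOn hinj, hL3, card_le_three]
  have hdisj : Disjoint T3 T4 := by
    rw [Finset.disjoint_left]
    intro q hq3 hq4
    obtain ⟨u, hu, rfl⟩ := Finset.mem_image.mp hq3
    obtain ⟨v, hv, hv2⟩ := Finset.mem_image.mp hq4
    have hu' : hammingNorm u ≤ 3 := by simpa [hL3] using hu
    have hv' : hammingNorm v = 4 := by simpa [hL4] using hv
    have hne : v ≠ u := by
      intro h; rw [h] at hv'; omega
    have := close_words hC v u ((hπeq v u).mp hv2) hne (by omega) (by omega)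
    omega
  -- fibres have at most 6 elements
  have hfib : ∀ q ∈ T4, (L4.filter (fun u => π u = q)).card ≤ 6 := by
    intro q _
    have hpd : (↑(L4.filter (fun u => π u = q)) : Set (Fin 24 → ZMod 2)).PairwiseDisjoint supp := by
      intro u hu v hv hne
      have hu1 := Finset.mem_filter.mp hu
      have hv1 := Finset.mem_filter.mp hv
      have hu' : hammingNorm u = 4 := by simpa [hL4] using hu1.1
      have hv' : hammingNorm v = 4 := by simpa [hL4] using hv1.1
      have heq : π u = π v := by rw [hu1.2, hv1.2]
      exact (close_words hC u v ((hπeq u v).mp heq) hne (by omega) (by omega)).2.2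
    have h1 := Finset.card_biUnion hpd
    have h2 : ∀ u ∈ L4.filter (fun u => π u = q), (supp u).card = 4 := by
      intro u hu
      have hu1 := Finset.mem_filter.mp hu
      have hu' : hammingNorm u = 4 := by simpa [hL4] using hu1.1
      rw [← hammingNorm_eq]; exact hu'
    rw [Finset.sum_congr rfl h2, Finset.sum_const, smul_eq_mul] at h1
    have h3 : ((L4.filter (fun u => π u = q)).biUnion supp).card ≤ 24 := by
      have := Finset.card_le_univ ((L4.filter (fun u => π u = q)).biUnion supp)
      rw [Fintype.card_fin] at this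
      exact this
    omega
  have hsum : L4.card = ∑ q ∈ T4, (L4.filter (fun u => π u = q)).card :=
    Finset.card_eq_sum_card_image π L4
  have hL4card : L4.card = 10626 := card_eq_four
  have hunion : (T3 ∪ T4).card = T3.card + T4.card := Finset.card_union_of_disjoint hdisj
  have hle : (T3 ∪ T4).card ≤ 4096 := by
    rw [← hcardQ]; exact Finset.card_le_univ _
  have hT4le : T4.card ≤ 1771 := by omega
  have hsumle : ∑ q ∈ T4, (L4.filter (fun u => π u = q)).card ≤ ∑ _q ∈ T4, 6 := Finset.sum_le_sum hfib
  rw [Finset.sum_const, smul_eq_mul] at hsumle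
  have hT4card : T4.card = 1771 := by omega
  have hfib6 : ∀ q ∈ T4, (L4.filter (fun u => π u = q)).card = 6 := by
    intro q hq
    by_contra hne
    have hlt : (L4.filter (fun u => π u = q)).card < 6 := lt_of_le_of_ne (hfib q hq) hne
    have := Finset.sum_lt_sum hfib ⟨q, hq, hlt⟩
    rw [Finset.sum_const, smul_eq_mul] at this
    omega
  have huniv : T3 ∪ T4 = Finset.univ := by
    apply Finset.eq_univ_of_card
    rw [hunion, hT3card, hT4card, hcardQ]
  intro w
  have hw : π w ∈ T3 ∪ T4 := by rw [huniv]; exact Finset.mem_univ _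
  rcases Finset.mem_union.mp hw with h3 | h4
  · left
    obtain ⟨u, hu, hu2⟩ := Finset.mem_image.mp h3
    have hu' : hammingNorm u ≤ 3 := by simpa [hL3] using hu
    exact ⟨u, hu', (hπeq u w).mp hu2⟩
  · right
    constructor
    · intro u huw hu4
      by_contra hne
      have hu3 : hammingNorm u ≤ 3 := by omega
      have : π w ∈ T3 := by
        rw [← (hπeq u w).mpr huw]
        exact Finset.mem_image_of_mem π (by simp [hL3, hu3])
      exact (Finset.disjoint_left.mp hdisj) this h4
    · have h6 := hfib6 (π w) h4
      have e : (L4.filter (fun u => u - w ∈ C)) = L4.filter (fun u => π u = π w) := by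
        ext u; simp only [Finset.mem_filter, hπeq]
      rw [e]; exact h6


theorem octad_unique (hC : IsGolay C) (c c' : Fin 24 → ZMod 2) (hc : c ∈ C) (hc' : c' ∈ C)
    (h8 : hammingNorm c = 8) (h8' : hammingNorm c' = 8) (h5 : 5 ≤ (supp c ∩ supp c').card) : c = c' := by
  by_contra hne
  have h0 : c - c' ≠ 0 := sub_ne_zero.mpr hne
  have h := hC.hmin _ (C.sub_mem hc hc') h0
  rw [sub_eq_add', hammingNorm_eq] at h
  rw [hammingNorm_eq] at h8 h8'
  have := card_supp_add c c'
  omega

open Classical in
theorem octad_exists (hC : IsGolay C) (S : Finset (Fin 24)) (hS : S.card = 5) :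
    ∃ c ∈ C, hammingNorm c = 8 ∧ S ⊆ supp c := by
  obtain ⟨T, hTS, hTcard⟩ := Finset.exists_subset_card_eq (s := S) (n := 4) (by omega)
  have hex : ∃ x ∈ S, x ∉ T := by
    by_contra hcon
    push Not at hcon
    have : S ⊆ T := hcon
    have := Finset.card_le_card this
    omega
  obtain ⟨x, hxS, hxT⟩ := hex
  set w := indic T with hw
  have hw4 : hammingNorm w = 4 := by rw [hammingNorm_eq, hw, supp_indic, hTcard]
  rcases counting hC w with ⟨u, hu3, huw⟩ | ⟨_, hcard⟩
  · exfalso
    have hne : w ≠ u := by
      intro h; rw [← h] at hu3; omega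
    have h1 : w - u ∈ C := by
      have : w - u = -(u - w) := by abel
      rw [this]; exact C.neg_mem huw
    have := close_words hC w u h1 hne (by omega) (by omega)
    omega
  · set Fs := (Finset.univ.filter (fun u : Fin 24 → ZMod 2 => hammingNorm u = 4)).filter
      (fun u => u - w ∈ C) with hFs
    have hmemF : ∀ u, u ∈ Fs ↔ hammingNorm u = 4 ∧ u - w ∈ C := by
      intro u; simp [hFs]
    have hpd : (↑Fs : Set (Fin 24 → ZMod 2)).PairwiseDisjoint supp := by
      intro u hu v hv hne
      have hu1 := (hmemF u).mp hu
      have hv1 := (hmemF v).mp hv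
      have hsub : u - v ∈ C := by
        have : u - v = (u - w) - (v - w) := by abel
        rw [this]; exact C.sub_mem hu1.2 hv1.2
      exact (close_words hC u v hsub hne (by omega) (by omega)).2.2
    have h1 := Finset.card_biUnion hpd
    have h2 : ∀ u ∈ Fs, (supp u).card = 4 := by
      intro u hu
      rw [← hammingNorm_eq]; exact ((hmemF u).mp hu).1
    rw [Finset.sum_congr rfl h2, Finset.sum_const, smul_eq_mul, hcard] at h1
    have huniv : Fs.biUnion supp = Finset.univ := by
      apply Finset.eq_univ_of_card
      rw [h1, Fintype.card_fin]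
    have hx : x ∈ Fs.biUnion supp := by rw [huniv]; exact Finset.mem_univ x
    obtain ⟨u', hu'F, hxu'⟩ := Finset.mem_biUnion.mp hx
    have hu'1 := (hmemF u').mp hu'F
    have hne : u' ≠ w := by
      intro h
      rw [h, hw, supp_indic] at hxu'
      exact hxT hxu'
    have hdisj := (close_words hC u' w hu'1.2 hne (by omega) (by omega)).2.2
    refine ⟨u' - w, hu'1.2, ?_, ?_⟩
    · rw [sub_eq_add', hammingNorm_eq]
      have := card_supp_add u' w
      have hi : (supp u' ∩ supp w).card = 0 := by
        rw [Finset.card_eq_zero, ← Finset.disjoint_iff_inter_eq_empty]; exact hdisj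
      rw [hammingNorm_eq] at hw4
      have h4 := hu'1.1
      rw [hammingNorm_eq] at h4
      omega
    · rw [sub_eq_add', supp_add]
      intro y hy
      rw [Finset.mem_symmDiff]
      by_cases hyT : y ∈ T
      · right
        refine ⟨by rw [hw, supp_indic]; exact hyT, ?_⟩
        intro hyu
        have : y ∈ supp w := by rw [hw, supp_indic]; exact hyT
        exact (Finset.disjoint_left.mp hdisj) hyu this
      · -- y = x as S = T ∪ {x}
        have hyx : y = x := by
          by_contra hyx
          have hsub : insert y (insert x T) ⊆ S := by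
            intro z hz
            rw [Finset.mem_insert, Finset.mem_insert] at hz
            rcases hz with rfl | rfl | hz
            · exact hy
            · exact hxS
            · exact hTS hz
          have hc1 : (insert y (insert x T)).card = 6 := by
            rw [Finset.card_insert_of_notMem, Finset.card_insert_of_notMem hxT, hTcard]
            rw [Finset.mem_insert, not_or]
            exact ⟨hyx, hyT⟩
          have := Finset.card_le_card hsub
          omega
        left
        rw [hyx]
        refine ⟨hxu', ?_⟩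
        rw [hw, supp_indic]; exact hxT

end Cfsg.Agent.Helper9G
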