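-- helper9: counting totally isotropic 2-subspaces of the standard Hermitian space.
import Mathlib
import Cfsg.Prelude.Def_LieClassical
import Cfsg.Agent.Lib.Helper9_GUOrder

set_option autoImplicit false

namespace Cfsg.Agent.Helper9HermLines

open Finset Cfsg Cfsg.Agent.Helper9HermCount Cfsg.Agent.Helper9GUOrder

variable {F : Type*} [Field F] [Fintype F] [DecidableEq F] {q : ℕ} {n : ℕ}

/-- The fibre of the trace map `t ↦ t + t^q`. -/
noncomputable def fiberT (q : ℕ) (c : F) : Finset F :=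
  @Finset.filter F (fun t => t + t ^ q = c) (Classical.decPred _) univ

lemma mem_fiberT {c t : F} : t ∈ fiberT q c ↔ t + t ^ q = c := by simp [fiberT]

lemma fiberT_card_le (hq : 2 ≤ q) (c : F) : (fiberT q c).card ≤ q := by
  classical
  let p : Polynomial F := Polynomial.X ^ q + Polynomial.X - Polynomial.C c
  have hdeg : p.natDegree = q := by
    show (Polynomial.X ^ q + Polynomial.X - Polynomial.C c).natDegree = q
    rw [Polynomial.natDegree_sub_C, Polynomial.natDegree_add_eq_left_of_natDegree_lt]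
    · exact Polynomial.natDegree_X_pow q
    · rw [Polynomial.natDegree_X_pow, Polynomial.natDegree_X]; omega
  have hp0 : p ≠ 0 := by
    intro h
    rw [h, Polynomial.natDegree_zero] at hdeg
    omega
  have hsub : fiberT q c ⊆ p.roots.toFinset := by
    intro t ht
    rw [Multiset.mem_toFinset, Polynomial.mem_roots hp0, Polynomial.IsRoot]
    show Polynomial.eval t (Polynomial.X ^ q + Polynomial.X - Polynomial.C c) = 0
    have := mem_fiberT.1 ht
    simp only [Polynomial.eval_sub, Polynomial.eval_add, Polynomial.eval_pow, Polynomial.eval_X,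
      Polynomial.eval_C]
    rw [← this]; ring
  calc _ ≤ p.roots.toFinset.card := card_le_card hsub
    _ ≤ Multiset.card p.roots := Multiset.toFinset_card_le _
    _ ≤ p.natDegree := Polynomial.card_roots' p
    _ = q := hdeg

lemma trace_mem_S (hF : Fintype.card F = q ^ 2) (t : F) : t + t ^ q ∈ S F q := by
  rw [mem_S, add_pow_q hF, Cfsg.Agent.Lib.Helper1_Herm.pow_q_q hF, add_comm]

lemma trace_surj (hF : Fintype.card F = q ^ 2) {c : F} (hc : c ∈ S F q) : ∃ t : F, t + t ^ q = c := by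
  classical
  have hq := q_ge_two hF
  have h1 := card_eq_sum_card_fiberwise (s := (univ : Finset F)) (t := S F q)
    (f := fun t => t + t ^ q) (fun t _ => trace_mem_S hF t)
  have h2 : ∀ d ∈ S F q, ((univ : Finset F).filter (fun t => t + t ^ q = d)) = fiberT q d := by
    intro d _
    ext t
    simp [mem_fiberT]
  rw [sum_congr rfl (fun d hd => by rw [h2 d hd]), card_univ, hF] at h1
  have h3 : ∑ d ∈ S F q, (fiberT q d).card = ∑ d ∈ S F q, q := by
    rw [sum_const, smul_eq_mul, S_card hF, ← h1]; ring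
  have h4 := (sum_eq_sum_iff_of_le (fun d _ => fiberT_card_le hq d)).1 h3 c hc
  have h5 : (fiberT q c).Nonempty := by
    rw [← Finset.card_pos, h4]; omega
  obtain ⟨t, ht⟩ := h5
  exact ⟨t, mem_fiberT.1 ht⟩

lemma neg_one_mem_S (hF : Fintype.card F = q ^ 2) : (-1 : F) ∈ S F q := by
  have h1 : (0 : F) - 1 ∈ S F q := sub_mem_S hF (zero_mem_S hF) one_mem_S
  rwa [zero_sub] at h1

lemma exists_norm_neg_one (hF : Fintype.card F = q ^ 2) : ∃ c : F, c ^ (q + 1) = -1 := by
  have hq := q_ge_two hF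
  have h1 : (-1 : F) ∈ (S F q).erase 0 := by
    rw [mem_erase]; exact ⟨neg_ne_zero.2 one_ne_zero, neg_one_mem_S hF⟩
  have h2 := (counts hF).1 _ h1
  obtain ⟨c, hc⟩ : (fiber q (-1 : F)).Nonempty := by
    rw [← Finset.card_pos, h2]; omega
  exact ⟨c, mem_fiber.1 hc⟩

/-- An isotropic non-zero vector lies in the span of an orthonormal pair. -/
lemma exists_ON_pair (hF : Fintype.card F = q ^ 2) (u : Fin n → F) (hu0 : u ≠ 0)
    (huu : hermForm n F q u u = 0) :
    ∃ (e₁ e₂ : Fin n → F) (b : F), hermForm n F q e₁ e₁ = 1 ∧ hermForm n F q e₂ e₂ = 1 ∧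
      hermForm n F q e₁ e₂ = 0 ∧ hermForm n F q e₂ e₁ = 0 ∧ u = e₁ + b • e₂ ∧ b ^ (q + 1) = -1 := by
  have hq := q_ge_two hF
  have hq0 : q ≠ 0 := by omega
  have hconj := Cfsg.Agent.Lib.Helper1_Herm.hermForm_conj hF (n := n)
  have hal := Cfsg.Agent.Lib.Helper1_Herm.hermForm_add_left (F := F) (q := q) (n := n)
  have har := Cfsg.Agent.Lib.Helper1_Herm.hermForm_add_right hF (n := n)
  have hsl := Cfsg.Agent.Lib.Helper1_Herm.hermForm_smul_left (F := F) (q := q) (n := n)
  have hsr := Cfsg.Agent.Lib.Helper1_Herm.hermForm_smul_right (F := F) (q := q) (n := n)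
  -- a vector pairing non-trivially with u
  obtain ⟨x₀, hx₀⟩ : ∃ x₀, hermForm n F q u x₀ ≠ 0 := by
    by_contra hcon
    push Not at hcon
    exact hu0 (herm_nondeg hq0 u hcon)
  set d := hermForm n F q u x₀ with hd
  obtain ⟨x, hx⟩ : ∃ x, x = ((d⁻¹) ^ q) • x₀ := ⟨_, rfl⟩
  have hux : hermForm n F q u x = 1 := by
    rw [hx, hsr, Cfsg.Agent.Lib.Helper1_Herm.pow_q_q hF, ← hd, inv_mul_cancel₀ hx₀]
  have hxu : hermForm n F q x u = 1 := by
    rw [← hconj, hux, one_pow]
  have hxxS : 1 - hermForm n F q x x ∈ S F q := sub_mem_S hF one_mem_S (herm_mem_S hF n x)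
  obtain ⟨t, ht⟩ := trace_surj hF hxxS
  obtain ⟨e₁, he₁⟩ : ∃ e₁, e₁ = t • u + x := ⟨_, rfl⟩
  have h11 : hermForm n F q e₁ e₁ = 1 := by
    rw [he₁]
    simp only [hal, har, hsl, hsr, huu, hux, hxu]
    linear_combination ht
  have hu1 : hermForm n F q u e₁ = 1 := by
    rw [he₁, har, hsr, huu, hux]; ring
  have h1u : hermForm n F q e₁ u = 1 := by
    rw [← hconj, hu1, one_pow]
  obtain ⟨c, hc⟩ := exists_norm_neg_one hF
  have hc0 : c ≠ 0 := by
    rintro rfl
    rw [zero_pow (Nat.succ_ne_zero q)] at hc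
    exact (neg_ne_zero.2 one_ne_zero) hc.symm
  obtain ⟨e₂, he₂⟩ : ∃ e₂, e₂ = c • (u - e₁) := ⟨_, rfl⟩
  have h21 : hermForm n F q e₂ e₁ = 0 := by
    rw [he₂, hsl, herm_sub_left, hu1, h11]; ring
  have h12 : hermForm n F q e₁ e₂ = 0 := herm_perp_symm hF _ _ h21
  have h22 : hermForm n F q e₂ e₂ = 1 := by
    have h3 : hermForm n F q (u - e₁) (u - e₁) = -1 := by
      have h4 : u - e₁ = u + (-1 : F) • e₁ := by rw [neg_one_smul, sub_eq_add_neg]
      rw [h4]
      simp only [hal, har, hsl, hsr, huu, hu1, h1u, h11]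
      have h5 : (-1 : F) ^ q = -1 := mem_S.1 (neg_one_mem_S hF)
      rw [h5]; ring
    rw [he₂, hsl, hsr, h3, ← mul_assoc, ← pow_succ', hc]; ring
  refine ⟨e₁, e₂, c⁻¹, h11, h22, h12, h21, ?_, ?_⟩
  · rw [he₂, smul_smul, inv_mul_cancel₀ hc0, one_smul]; abel
  · rw [inv_pow, hc]; norm_num

/-- The norm of `l • u + Σ c_i p_i` for isotropic `u` orthogonal to the orthonormal family `p`. -/
lemma herm_iso_comb (hF : Fintype.card F = q ^ 2) {m : ℕ} (u : Fin n → F)
    (huu : hermForm n F q u u = 0) (p : Fin m → Fin n → F) (hp : IsON n q p)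
    (hpu : ∀ i, hermForm n F q (p i) u = 0) (l : F) (c : Fin m → F) :
    hermForm n F q (l • u + ∑ i, c i • p i) (l • u + ∑ i, c i • p i) = hermForm m F q c c ∧
    hermForm n F q (l • u + ∑ i, c i • p i) u = 0 := by
  have hal := Cfsg.Agent.Lib.Helper1_Herm.hermForm_add_left (F := F) (q := q) (n := n)
  have har := Cfsg.Agent.Lib.Helper1_Herm.hermForm_add_right hF (n := n)
  have hsl := Cfsg.Agent.Lib.Helper1_Herm.hermForm_smul_left (F := F) (q := q) (n := n)
  have hsr := Cfsg.Agent.Lib.Helper1_Herm.hermForm_smul_right (F := F) (q := q) (n := n)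
  have hup : ∀ i, hermForm n F q u (p i) = 0 := fun i => herm_perp_symm hF _ _ (hpu i)
  have h1 : hermForm n F q u (∑ i, c i • p i) = 0 := by
    rw [herm_sum_right hF]
    apply Finset.sum_eq_zero
    intro i _
    rw [hup i, mul_zero]
  have h2 : hermForm n F q (∑ i, c i • p i) u = 0 := by
    rw [herm_sum_left]
    apply Finset.sum_eq_zero
    intro i _
    rw [hpu i, mul_zero]
  have h3 : hermForm n F q (∑ i, c i • p i) (∑ i, c i • p i) = hermForm m F q c c := by
    rw [herm_comb hF p hp]; rfl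
  constructor
  · simp only [hal, har, hsl, hsr, huu, h1, h2, h3]; ring
  · simp only [hal, hsl, huu, h2]; ring

lemma count_perp (hF : Fintype.card F = q ^ 2) (hn : 2 ≤ n) (u : Fin n → F) (hu0 : u ≠ 0)
    (huu : hermForm n F q u u = 0) :
    Nat.card {v : Fin n → F // hermForm n F q v v = 0 ∧ hermForm n F q v u = 0}
      = q ^ 2 * A F q (n - 2) 0 := by
  have har := Cfsg.Agent.Lib.Helper1_Herm.hermForm_add_right hF (n := n)
  have hsr := Cfsg.Agent.Lib.Helper1_Herm.hermForm_smul_right (F := F) (q := q) (n := n)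
  obtain ⟨e₁, e₂, b, h11, h22, h12, h21, hu, hb⟩ := exists_ON_pair hF u hu0 huu
  let v₀ : Fin 2 → Fin n → F := ![e₁, e₂]
  have hv₀ : IsON n q v₀ := by
    intro i j
    fin_cases i <;> fin_cases j <;> simp [v₀, h11, h22, h12, h21]
  obtain ⟨p, hp, hpv⟩ := complete_frame hF v₀ hv₀ (n - 2) (by omega)
  have hp' : ∀ i j, hermForm n F q (p i) (p j) = if i = j then 1 else 0 := hp
  have hp1 : ∀ i, hermForm n F q (p i) e₁ = 0 := fun i => hpv i 0
  have hp2 : ∀ i, hermForm n F q (p i) e₂ = 0 := fun i => hpv i 1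
  have hpu : ∀ i, hermForm n F q (p i) u = 0 := by
    intro i
    rw [hu, har, hsr, hp1, hp2]; ring
  have hup : ∀ i, hermForm n F q u (p i) = 0 := fun i => herm_perp_symm hF _ _ (hpu i)
  have hcomb : IsON n q (Sum.elim v₀ p) := by
    rintro (i | i) (j | j)
    · simpa using hv₀ i j
    · simpa using herm_perp_symm hF _ _ (hpv j i)
    · simpa using hpv i j
    · simpa using hp i j
  have hexp := expand_full hF (Sum.elim v₀ p) hcomb (by
    rw [Fintype.card_sum, Fintype.card_fin, Fintype.card_fin]; omega)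
  let φ : F × {c : Fin (n - 2) → F // hermForm (n - 2) F q c c = 0} →
      {v : Fin n → F // hermForm n F q v v = 0 ∧ hermForm n F q v u = 0} :=
    fun x => ⟨x.1 • u + ∑ i, x.2.1 i • p i, by
      have := herm_iso_comb hF u huu p hp hpu x.1 x.2.1
      exact ⟨this.1.trans x.2.2, this.2⟩⟩
  have hinj : Function.Injective φ := by
    rintro ⟨l, c⟩ ⟨l', c'⟩ hcd
    have h1 : l • u + ∑ i, c.1 i • p i = l' • u + ∑ i, c'.1 i • p i := congrArg Subtype.val hcd
    have hc : c = c' := by
      apply Subtype.ext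
      funext j
      have := congrArg (fun x => hermForm n F q x (p j)) h1
      simp only [Cfsg.Agent.Lib.Helper1_Herm.hermForm_add_left,
        Cfsg.Agent.Lib.Helper1_Herm.hermForm_smul_left, hup, herm_sum_left, hp', mul_ite, mul_one,
        mul_zero, Finset.sum_ite_eq', Finset.mem_univ, if_true, zero_add] at this
      exact this
    subst hc
    have h2 : (l - l') • u = 0 := by
      rw [sub_smul, sub_eq_zero]
      exact add_right_cancel h1
    rcases smul_eq_zero.1 h2 with h3 | h3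
    · rw [sub_eq_zero.1 h3]
    · exact absurd h3 hu0
  have hsurj : Function.Surjective φ := by
    rintro ⟨v, hv1, hv2⟩
    have h1 := hexp v
    rw [Fintype.sum_sum_type, Fin.sum_univ_two] at h1
    simp only [Sum.elim_inl, Sum.elim_inr] at h1
    have hv01 : v₀ 0 = e₁ := rfl
    have hv02 : v₀ 1 = e₂ := rfl
    rw [hv01, hv02] at h1
    set a := hermForm n F q v e₁ with ha
    set b' := hermForm n F q v e₂ with hb'
    have h3 : a + b ^ q * b' = 0 := by
      have := hv2
      rw [hu, har, hsr] at this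
      exact this
    have h4 : b' = a * b := by
      have : a * b = -(b ^ (q + 1)) * b' := by
        rw [pow_succ]; linear_combination b * h3
      rw [this, hb]; ring
    have h5 : v = a • u + ∑ i, hermForm n F q v (p i) • p i := by
      rw [hu, smul_add, smul_smul, ← h4]
      exact h1
    have h6 := herm_iso_comb hF u huu p hp hpu a (fun i => hermForm n F q v (p i))
    rw [← h5, hv1] at h6
    refine ⟨⟨a, ⟨fun i => hermForm n F q v (p i), h6.1.symm⟩⟩, ?_⟩
    apply Subtype.ext
    exact h5.symm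
  rw [← Nat.card_congr (Equiv.ofBijective φ ⟨hinj, hsurj⟩), Nat.card_prod,
    Nat.card_eq_fintype_card, hF]
  rfl

lemma count_dep (hF : Fintype.card F = q ^ 2) (u : Fin n → F) (hu0 : u ≠ 0)
    (huu : hermForm n F q u u = 0) :
    Nat.card {v : Fin n → F // (hermForm n F q v v = 0 ∧ hermForm n F q v u = 0) ∧
      ¬ LinearIndependent F ![u, v]} = q ^ 2 := by
  have hsl := Cfsg.Agent.Lib.Helper1_Herm.hermForm_smul_left (F := F) (q := q) (n := n)
  have hsr := Cfsg.Agent.Lib.Helper1_Herm.hermForm_smul_right (F := F) (q := q) (n := n)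
  let φ : F → {v : Fin n → F // (hermForm n F q v v = 0 ∧ hermForm n F q v u = 0) ∧
      ¬ LinearIndependent F ![u, v]} := fun l => ⟨l • u, by
    refine ⟨⟨?_, ?_⟩, ?_⟩
    · rw [hsl, hsr, huu]; ring
    · rw [hsl, huu]; ring
    · rw [LinearIndependent.pair_iff' hu0]
      push Not
      exact ⟨l, rfl⟩⟩
  have hinj : Function.Injective φ := by
    intro l l' h
    have h1 : l • u = l' • u := congrArg Subtype.val h
    have h2 : (l - l') • u = 0 := by rw [sub_smul, h1, sub_self]
    rcases smul_eq_zero.1 h2 with h3 | h3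
    · exact sub_eq_zero.1 h3
    · exact absurd h3 hu0
  have hsurj : Function.Surjective φ := by
    rintro ⟨v, hv1, hv2⟩
    rw [LinearIndependent.pair_iff' hu0] at hv2
    push Not at hv2
    obtain ⟨l, hl⟩ := hv2
    exact ⟨l, Subtype.ext hl⟩
  rw [← Nat.card_congr (Equiv.ofBijective φ ⟨hinj, hsurj⟩), Nat.card_eq_fintype_card, hF]

lemma count_perp_li (hF : Fintype.card F = q ^ 2) (hn : 2 ≤ n) (u : Fin n → F) (hu0 : u ≠ 0)
    (huu : hermForm n F q u u = 0) :
    Nat.card {v : Fin n → F // (hermForm n F q v v = 0 ∧ hermForm n F q v u = 0) ∧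
      LinearIndependent F ![u, v]} + q ^ 2 = q ^ 2 * A F q (n - 2) 0 := by
  classical
  rw [← count_perp hF hn u hu0 huu, ← count_dep hF u hu0 huu, ← Nat.card_sum]
  apply Nat.card_congr
  exact ((Equiv.subtypeSubtypeEquivSubtypeInter _ _).symm.sumCongr
    (Equiv.subtypeSubtypeEquivSubtypeInter _ _).symm).trans (Equiv.sumCompl _)

/-- Ordered bases of totally isotropic planes. -/
def Pairs (F : Type*) [Field F] (n q : ℕ) : Type _ :=
  {x : (Fin n → F) × (Fin n → F) // (hermForm n F q x.1 x.1 = 0 ∧ x.1 ≠ 0) ∧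
    (hermForm n F q x.2 x.2 = 0 ∧ hermForm n F q x.2 x.1 = 0) ∧ LinearIndependent F ![x.1, x.2]}

instance : Finite (Pairs F n q) := by unfold Pairs; infer_instance

/-- Splitting a pair into its first vector and the second. -/
def pairsEquiv (F : Type*) [Field F] (n q : ℕ) :
    Pairs F n q ≃ Σ u : {u : Fin n → F // hermForm n F q u u = 0 ∧ u ≠ 0},
      {v : Fin n → F // (hermForm n F q v v = 0 ∧ hermForm n F q v u.1 = 0) ∧
        LinearIndependent F ![u.1, v]} where
  toFun x := ⟨⟨x.1.1, x.2.1⟩, ⟨x.1.2, x.2.2⟩⟩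
  invFun y := ⟨(y.1.1, y.2.1), ⟨y.1.2, y.2.2⟩⟩
  left_inv := fun ⟨⟨_, _⟩, _⟩ => rfl
  right_inv := fun ⟨⟨_, _⟩, ⟨_, _⟩⟩ => rfl

lemma card_iso (F : Type*) [Field F] [Fintype F] (n q : ℕ) :
    Nat.card {u : Fin n → F // hermForm n F q u u = 0 ∧ u ≠ 0} + 1 = A F q n 0 := by
  classical
  have h1 : Nat.card {u : Fin n → F // hermForm n F q u u = 0 ∧ ¬ (u ≠ 0)} = 1 := by
    have : Unique {u : Fin n → F // hermForm n F q u u = 0 ∧ ¬ (u ≠ 0)} :=
      { default := ⟨0, by simp [hermForm], by simp⟩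
        uniq := fun v => Subtype.ext (not_not.1 v.2.2) }
    exact Nat.card_unique
  unfold A
  rw [← h1, ← Nat.card_sum]
  apply Nat.card_congr
  exact ((Equiv.subtypeSubtypeEquivSubtypeInter _ _).symm.sumCongr
    (Equiv.subtypeSubtypeEquivSubtypeInter _ _).symm).trans (Equiv.sumCompl _)

lemma card_pairs (hF : Fintype.card F = q ^ 2) (hn : 2 ≤ n) :
    (Nat.card (Pairs F n q) + q ^ 2 * (A F q n 0 - 1)) =
      (A F q n 0 - 1) * (q ^ 2 * A F q (n - 2) 0) := by
  classical
  haveI : Fintype {u : Fin n → F // hermForm n F q u u = 0 ∧ u ≠ 0} := Fintype.ofFinite _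
  rw [Nat.card_congr (pairsEquiv F n q), Nat.card_sigma]
  have h1 := card_iso F n q
  have h2 : A F q n 0 - 1 = Nat.card {u : Fin n → F // hermForm n F q u u = 0 ∧ u ≠ 0} := by
    omega
  rw [h2, Nat.card_eq_fintype_card, ← Finset.card_univ, ← smul_eq_mul (a := (Finset.univ : Finset
    {u : Fin n → F // hermForm n F q u u = 0 ∧ u ≠ 0}).card), ← Finset.sum_const, mul_comm,
    ← smul_eq_mul, ← Finset.sum_const, ← Finset.sum_add_distrib]
  apply Finset.sum_congr rfl
  intro u _
  exact count_perp_li hF hn u.1 u.2.2 u.2.1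

/-- Totally isotropic planes. -/
def TI2 (F : Type*) [Field F] (n q : ℕ) : Type _ :=
  {W : Submodule F (Fin n → F) // Module.finrank F W = 2 ∧
    ∀ u ∈ W, ∀ v ∈ W, hermForm n F q u v = 0}

instance : Finite (TI2 F n q) := by unfold TI2; infer_instance

lemma span_ti (hF : Fintype.card F = q ^ 2) (u v : Fin n → F) (huu : hermForm n F q u u = 0)
    (hvv : hermForm n F q v v = 0) (hvu : hermForm n F q v u = 0) :
    ∀ a ∈ Submodule.span F (Set.range ![u, v]), ∀ b ∈ Submodule.span F (Set.range ![u, v]),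
      hermForm n F q a b = 0 := by
  intro a ha b hb
  obtain ⟨c, rfl⟩ := (Submodule.mem_span_range_iff_exists_fun F).1 ha
  obtain ⟨d, rfl⟩ := (Submodule.mem_span_range_iff_exists_fun F).1 hb
  have huv : hermForm n F q u v = 0 := herm_perp_symm hF _ _ hvu
  have hall : ∀ i j : Fin 2, hermForm n F q (![u, v] i) (![u, v] j) = 0 := by
    intro i j
    fin_cases i <;> fin_cases j <;> simp [huu, hvv, hvu, huv]
  rw [herm_sum_left]
  apply Finset.sum_eq_zero
  intro i _
  rw [herm_sum_right hF]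
  simp only [hall, mul_zero, Finset.sum_const_zero]

/-- The plane spanned by a pair. -/
def spanOf (hF : Fintype.card F = q ^ 2) (x : Pairs F n q) : TI2 F n q :=
  ⟨Submodule.span F (Set.range ![x.1.1, x.1.2]), by
    rw [finrank_span_eq_card x.2.2.2, Fintype.card_fin],
    span_ti hF _ _ x.2.1.1 x.2.2.1.1 x.2.2.1.2⟩

lemma mem_of_span (hF : Fintype.card F = q ^ 2) (W : TI2 F n q)
    (x : {x : Pairs F n q // spanOf hF x = W}) : x.1.1.1 ∈ W.1 ∧ x.1.1.2 ∈ W.1 := by
  have h := congrArg Subtype.val x.2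
  rw [← h]
  exact ⟨Submodule.subset_span ⟨0, rfl⟩, Submodule.subset_span ⟨1, rfl⟩⟩

lemma li_sub {V : Type*} [AddCommGroup V] [Module F V] (W : Submodule F V) (a b : V) (ha : a ∈ W)
    (hb : b ∈ W) (h : LinearIndependent F ![a, b]) :
    LinearIndependent F ![(⟨a, ha⟩ : W), ⟨b, hb⟩] := by
  apply LinearIndependent.of_comp W.subtype
  have : (W.subtype ∘ ![(⟨a, ha⟩ : W), ⟨b, hb⟩]) = ![a, b] := by
    funext i
    fin_cases i <;> rfl
  rw [this]
  exact h

/-- The fibre of `spanOf` over a plane is the set of its ordered bases. -/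
def fiberEquiv (hF : Fintype.card F = q ^ 2) (W : TI2 F n q) :
    {x : Pairs F n q // spanOf hF x = W} ≃ {s : Fin 2 → W.1 // LinearIndependent F s} where
  toFun x :=
    ⟨![⟨x.1.1.1, (mem_of_span hF W x).1⟩, ⟨x.1.1.2, (mem_of_span hF W x).2⟩],
      li_sub W.1 _ _ _ _ x.1.2.2.2⟩
  invFun s :=
    ⟨⟨((s.1 0 : Fin n → F), (s.1 1 : Fin n → F)),
      ⟨⟨W.2.2 _ (s.1 0).2 _ (s.1 0).2, by
          intro h0
          exact s.2.ne_zero 0 (Subtype.ext h0)⟩,
        ⟨W.2.2 _ (s.1 1).2 _ (s.1 1).2, W.2.2 _ (s.1 1).2 _ (s.1 0).2⟩, by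
          have h1 := s.2.map' W.1.subtype (Submodule.ker_subtype _)
          have : (W.1.subtype ∘ s.1) = ![(s.1 0 : Fin n → F), (s.1 1 : Fin n → F)] := by
            funext i
            fin_cases i <;> rfl
          rw [this] at h1
          exact h1⟩⟩, by
      apply Subtype.ext
      show Submodule.span F (Set.range ![(s.1 0 : Fin n → F), (s.1 1 : Fin n → F)]) = W.1
      have hli : LinearIndependent F ![(s.1 0 : Fin n → F), (s.1 1 : Fin n → F)] := by
        have h1 := s.2.map' W.1.subtype (Submodule.ker_subtype _)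
        have : (W.1.subtype ∘ s.1) = ![(s.1 0 : Fin n → F), (s.1 1 : Fin n → F)] := by
          funext i
          fin_cases i <;> rfl
        rw [this] at h1
        exact h1
      apply Submodule.eq_of_le_of_finrank_eq
      · rw [Submodule.span_le]
        rintro _ ⟨i, rfl⟩
        fin_cases i
        · exact (s.1 0).2
        · exact (s.1 1).2
      · rw [finrank_span_eq_card hli, Fintype.card_fin, W.2.1]⟩
  left_inv x := by
    apply Subtype.ext
    apply Subtype.ext
    rfl
  right_inv s := by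
    apply Subtype.ext
    funext i
    fin_cases i <;> rfl

lemma card_pairs' (hF : Fintype.card F = q ^ 2) :
    Nat.card (Pairs F n q) = Nat.card (TI2 F n q) * (((q ^ 2) ^ 2 - 1) * ((q ^ 2) ^ 2 - q ^ 2)) := by
  classical
  haveI : Fintype (TI2 F n q) := Fintype.ofFinite _
  rw [← Nat.card_congr (Equiv.sigmaFiberEquiv (spanOf hF (n := n) (F := F))), Nat.card_sigma]
  have h1 : ∀ W : TI2 F n q, Nat.card {x : Pairs F n q // spanOf hF x = W} =
      ((q ^ 2) ^ 2 - 1) * ((q ^ 2) ^ 2 - q ^ 2) := by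
    intro W
    rw [Nat.card_congr (fiberEquiv hF W), card_linearIndependent (by rw [W.2.1]), W.2.1, hF,
      Fin.prod_univ_two]
    simp
  rw [Finset.sum_congr rfl (fun W _ => h1 W), Finset.sum_const, smul_eq_mul, Finset.card_univ,
    Nat.card_eq_fintype_card]

theorem card_TI2 (hF : Fintype.card F = q ^ 2) (hn : 2 ≤ n) :
    Nat.card (TI2 F n q) * (((q ^ 2) ^ 2 - 1) * ((q ^ 2) ^ 2 - q ^ 2)) + q ^ 2 * (A F q n 0 - 1) =
      (A F q n 0 - 1) * (q ^ 2 * A F q (n - 2) 0) := by
  rw [← card_pairs' hF, card_pairs hF hn]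

end Cfsg.Agent.Helper9HermLines
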