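import Mathlib
import Cfsg.Prelude.Def_SporadicCombinatorics
import Cfsg.Agent.Lib.Helper9_GF4

set_option autoImplicit false

namespace Cfsg.Agent.Helper9Hex

open Cfsg Cfsg.Agent.Helper9GF4

/-- parameter space -/
abbrev P : Type := Fin 4 × Fin 4 × Fin 4

def V1 : Fin 6 → Fin 4 := ![2, 3, 3, 2, 3, 2]
def V2 : Fin 6 → Fin 4 := ![3, 2, 2, 3, 3, 2]
def V3 : Fin 6 → Fin 4 := ![3, 2, 3, 2, 2, 3]

/-- hexacode words in index form -/
def hexI (p : P) : Fin 6 → Fin 4 := fun i =>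
  addT (addT (mulT p.1 (V1 i)) (mulT p.2.1 (V2 i))) (mulT p.2.2 (V3 i))

section

variable {F : Type*} [Field F]

/-- hexacode words -/
def encH (ω : F) (p : P) : Fin 6 → F := fun i => el ω (hexI p i)

theorem v1_eq (ω : F) : (![ω, ω ^ 2, ω ^ 2, ω, ω ^ 2, ω] : Fin 6 → F) = fun i => el ω (V1 i) := by
  funext i; fin_cases i <;> rfl

theorem v2_eq (ω : F) : (![ω ^ 2, ω, ω, ω ^ 2, ω ^ 2, ω] : Fin 6 → F) = fun i => el ω (V2 i) := by
  funext i; fin_cases i <;> rfl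

theorem v3_eq (ω : F) : (![ω ^ 2, ω, ω ^ 2, ω, ω, ω ^ 2] : Fin 6 → F) = fun i => el ω (V3 i) := by
  funext i; fin_cases i <;> rfl

theorem comb_eq {ω : F} (h2 : (2 : F) = 0) (hω : ω ^ 2 + ω + 1 = 0) (p : P) :
    el ω p.1 • (![ω, ω ^ 2, ω ^ 2, ω, ω ^ 2, ω] : Fin 6 → F) +
      el ω p.2.1 • (![ω ^ 2, ω, ω, ω ^ 2, ω ^ 2, ω] : Fin 6 → F) +
      el ω p.2.2 • (![ω ^ 2, ω, ω ^ 2, ω, ω, ω ^ 2] : Fin 6 → F) = encH ω p := by
  rw [v1_eq, v2_eq, v3_eq]
  funext i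
  simp only [Pi.add_apply, Pi.smul_apply, smul_eq_mul, encH, hexI]
  rw [el_mul h2 hω, el_mul h2 hω, el_mul h2 hω, el_add h2 hω, el_add h2 hω]

theorem mem_iff [Fintype F] (hF : Fintype.card F = 4) {ω : F} (hω : ω ^ 2 + ω + 1 = 0)
    (x : Fin 6 → F) : x ∈ hexacode F ω ↔ ∃ p : P, x = encH ω p := by
  have h2 := two_eq_zero hF
  unfold hexacode
  rw [Submodule.mem_span_triple]
  constructor
  · rintro ⟨a, b, c, rfl⟩
    refine ⟨(idx hF hω a, idx hF hω b, idx hF hω c), ?_⟩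
    rw [← comb_eq h2 hω]
    simp only [el_idx]
  · rintro ⟨p, rfl⟩
    exact ⟨el ω p.1, el ω p.2.1, el ω p.2.2, comb_eq h2 hω p⟩

theorem hexI_injective : ∀ p q : P, hexI p = hexI q → p = q := by
  decide +kernel

theorem encH_injective {ω : F} (h2 : (2 : F) = 0) (hω : ω ^ 2 + ω + 1 = 0) :
    Function.Injective (encH ω) := by
  intro p q h
  apply hexI_injective
  funext i
  exact el_injective h2 hω (congrFun h i)

theorem wt_eq {ω : F} [DecidableEq F] (h2 : (2 : F) = 0) (hω : ω ^ 2 + ω + 1 = 0) (p : P) :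
    (Finset.univ.filter fun i => encH ω p i ≠ 0) = (Finset.univ.filter fun i => hexI p i ≠ 0) := by
  ext i
  simp only [Finset.mem_filter, Finset.mem_univ, true_and, encH, ne_eq, el_eq_zero_iff h2 hω]

theorem encH_eq_zero_iff {ω : F} (h2 : (2 : F) = 0) (hω : ω ^ 2 + ω + 1 = 0) (p : P) :
    encH ω p = 0 ↔ hexI p = 0 := by
  constructor
  · intro h
    funext i
    exact (el_eq_zero_iff h2 hω _).mp (congrFun h i)
  · intro h
    funext i
    show el ω (hexI p i) = 0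
    rw [h]; rfl

end

end Cfsg.Agent.Helper9Hex
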