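import Mathlib
import Cfsg.Agent.Lib.Helper9_Hexacode

set_option autoImplicit false

namespace Cfsg.Agent.Helper9HexAutI

open Cfsg Cfsg.Agent.Helper9GF4 Cfsg.Agent.Helper9Hex Equiv

def Vk : Fin 3 → Fin 6 → Fin 4 := ![V1, V2, V3]

/-- index-level test that a monomial map preserves the hexacode -/
def chk (σ : Perm (Fin 6)) (d : Fin 6 → Fin 4) : Prop :=
  ∀ k : Fin 3, ∃ p : P, hexI p = fun i => mulT (d i) (Vk k (σ.symm i))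

instance (σ : Perm (Fin 6)) (d : Fin 6 → Fin 4) : Decidable (chk σ d) := by
  unfold chk; infer_instance

def aP : Perm (Fin 6) := ⟨![1, 2, 0, 3, 4, 5], ![2, 0, 1, 3, 4, 5], by decide, by decide⟩
def bP : Perm (Fin 6) := ⟨![0, 2, 3, 4, 5, 1], ![0, 5, 1, 2, 3, 4], by decide, by decide⟩
def sP : Perm (Fin 6) := ⟨![1, 0, 2, 3, 4, 5], ![1, 0, 2, 3, 4, 5], by decide, by decide⟩

theorem chk_a : chk aP ![1, 1, 1, 1, 3, 2] := by decide +kernel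
theorem chk_b : chk bP ![1, 3, 2, 3, 1, 2] := by decide +kernel

theorem diagI : ∀ d0 d1 d2 d3 d4 d5 : Fin 4, d0 ≠ 0 → d1 ≠ 0 → d2 ≠ 0 → d3 ≠ 0 → d4 ≠ 0 →
    d5 ≠ 0 → chk 1 ![d0, d1, d2, d3, d4, d5] →
      d0 = d1 ∧ d0 = d2 ∧ d0 = d3 ∧ d0 = d4 ∧ d0 = d5 := by
  decide +kernel

theorem no_swapI : ∀ d0 d1 d2 d3 d4 d5 : Fin 4, d0 ≠ 0 → d1 ≠ 0 → d2 ≠ 0 → d3 ≠ 0 → d4 ≠ 0 →
    d5 ≠ 0 → ¬ chk sP ![d0, d1, d2, d3, d4, d5] := by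
  decide +kernel

theorem two_trans : ∀ x y : Fin 6, x ≠ y → ∃ i : Fin 3, ∃ j m : Fin 5,
    (bP ^ (j : ℕ) * aP ^ (i : ℕ) * bP ^ (m : ℕ)) x = 0 ∧
    (bP ^ (j : ℕ) * aP ^ (i : ℕ) * bP ^ (m : ℕ)) y = 1 := by
  decide +kernel

theorem aP_eq : aP = swap 0 2 * swap 0 1 := by decide +kernel
theorem sP_eq : sP = swap 0 1 := by decide +kernel


end Cfsg.Agent.Helper9HexAutI
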