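import Mathlib
import Cfsg.Agent.Lib.Helper2_Count
import Cfsg.Agent.Lib.Helper3_Sylow

/-! Groups with Klein four Sylow 2-subgroups: classes of involutions. -/

set_option autoImplicit false

namespace Cfsg.Agent.Helper9Klein

variable {G : Type*} [Group G] [Finite G]

section
variable (P : Sylow 2 G) (hP : IsKleinFour (P : Subgroup G))
include hP

lemma comm_of_mem {x y : G} (hx : x ∈ (P : Subgroup G)) (hy : y ∈ (P : Subgroup G)) :
    x * y = y * x := by
  have := (IsKleinFour.isMulCommutative (G := (P : Subgroup G))).is_comm.comm ⟨x, hx⟩ ⟨y, hy⟩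
  exact congrArg Subtype.val this

lemma sq_of_mem {x : G} (hx : x ∈ (P : Subgroup G)) : x * x = 1 := by
  have := IsKleinFour.mul_self (⟨x, hx⟩ : (P : Subgroup G))
  exact congrArg Subtype.val this

lemma order_two_of_mem {x : G} (hx : x ∈ (P : Subgroup G)) (hx1 : x ≠ 1) : orderOf x = 2 := by
  apply orderOf_eq_prime
  · rw [pow_two]; exact sq_of_mem P hP hx
  · exact hx1

lemma third {x y z : G} (hx : x ∈ (P : Subgroup G)) (hy : y ∈ (P : Subgroup G))
    (hz : z ∈ (P : Subgroup G)) (hx1 : x ≠ 1) (hy1 : y ≠ 1) (hz1 : z ≠ 1) (hxy : x ≠ y)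
    (hzx : z ≠ x) (hzy : z ≠ y) : z = x * y := by
  have := IsKleinFour.eq_mul_of_ne_all (G := (P : Subgroup G)) (x := ⟨x, hx⟩) (y := ⟨y, hy⟩)
    (z := ⟨z, hz⟩) (fun h => hx1 (congrArg Subtype.val h)) (fun h => hy1 (congrArg Subtype.val h))
    (fun h => hxy (congrArg Subtype.val h)) (fun h => hz1 (congrArg Subtype.val h))
    (fun h => hzx (congrArg Subtype.val h)) (fun h => hzy (congrArg Subtype.val h))
  exact congrArg Subtype.val this

omit hP in
/-- an odd power of a normalizing element lies in `P` -/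
lemma exists_odd_pow_mem (n : G) (hn : n ∈ Subgroup.normalizer ((P : Subgroup G) : Set G)) :
    ∃ j : ℕ, n ^ (2 * j + 1) ∈ (P : Subgroup G) := by
  have : Fact (Nat.Prime 2) := ⟨Nat.prime_two⟩
  set N := Subgroup.normalizer ((P : Subgroup G) : Set G) with hN
  set u := ((P : Subgroup G).subgroupOf N).index with hu
  have hodd : Odd u := by
    rw [← Nat.not_even_iff_odd, even_iff_two_dvd]
    intro h2
    have h3 : (P : Subgroup G).relIndex N * N.index = (P : Subgroup G).index :=
      Subgroup.relIndex_mul_index Subgroup.le_normalizer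
    have h4 : ¬ 2 ∣ (P : Subgroup G).index := Sylow.not_dvd_index P
    apply h4
    rw [← h3]
    exact Dvd.dvd.mul_right h2 _
  obtain ⟨j, hj⟩ := hodd
  refine ⟨j, ?_⟩
  have : ((P : Subgroup G).subgroupOf N).Normal := Subgroup.normal_in_normalizer
  have h5 : ((QuotientGroup.mk (⟨n, hn⟩ : N) : N ⧸ (P : Subgroup G).subgroupOf N)) ^ u = 1 := by
    rw [hu, Subgroup.index_eq_card]
    exact pow_card_eq_one'
  rw [← QuotientGroup.mk_pow, QuotientGroup.eq_one_iff, Subgroup.mem_subgroupOf, hj] at h5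
  exact h5

/-- if `n²` centralizes `x ∈ P` then so does `n` (for `n` normalizing `P`) -/
lemma commute_of_sq (n : G) (hn : n ∈ Subgroup.normalizer ((P : Subgroup G) : Set G))
    {x : G} (hx : x ∈ (P : Subgroup G)) (h : Commute (n ^ 2) x) : Commute n x := by
  obtain ⟨j, hj⟩ := exists_odd_pow_mem P n hn
  have h1 : Commute (n ^ (2 * j + 1)) x := comm_of_mem P hP hj hx
  have h2 : Commute ((n ^ 2) ^ j) x := h.pow_left j
  have h3 : n = ((n ^ 2) ^ j)⁻¹ * n ^ (2 * j + 1) := by
    rw [pow_succ n (2 * j), pow_mul, inv_mul_cancel_left]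
  rw [h3]
  exact h2.inv_left.mul_left h1

/-- two distinct conjugate involutions of `P` force all to be conjugate -/
lemma all_conj {x y : G} (hx : x ∈ (P : Subgroup G)) (hy : y ∈ (P : Subgroup G))
    (hx1 : x ≠ 1) (hxy : x ≠ y) (hconj : IsConj x y) :
    ∀ z ∈ (P : Subgroup G), z ≠ 1 → IsConj x z := by
  have : Fact (Nat.Prime 2) := ⟨Nat.prime_two⟩
  have : IsMulCommutative (P : Subgroup G) := IsKleinFour.isMulCommutative
  obtain ⟨g, hg⟩ := isConj_iff.1 hconj
  have hy' : (g⁻¹)⁻¹ * x * g⁻¹ ∈ (P : Subgroup G) := by rw [inv_inv, hg]; exact hy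
  obtain ⟨n, hn, hn2⟩ := P.conj_eq_normalizer_conj_of_mem x g⁻¹ hx hy'
  rw [inv_inv, hg] at hn2
  -- y = n⁻¹ x n
  have hy1 : y ≠ 1 := by
    intro h
    rw [h] at hn2
    apply hx1
    have : x = n * (n⁻¹ * x * n) * n⁻¹ := by group
    rw [this, ← hn2]; group
  set w := n⁻¹ * y * n with hw
  have hninv : n⁻¹ ∈ Subgroup.normalizer ((P : Subgroup G) : Set G) := Subgroup.inv_mem _ hn
  have hwP : w ∈ (P : Subgroup G) := by
    have := (Subgroup.mem_normalizer_iff.1 hninv y).1 hy
    simpa [hw] using this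
  have hwy : w ≠ y := by
    intro h
    apply hxy
    have h1 : n⁻¹ * y * n = n⁻¹ * x * n := by rw [← hw, h, hn2]
    have h2 : y = n * (n⁻¹ * y * n) * n⁻¹ := by group
    rw [h2, h1]; group
  have hwx : w ≠ x := by
    intro h
    apply hxy
    have h1 : Commute (n ^ 2) x := by
      show n ^ 2 * x = x * n ^ 2
      have h2 : w = (n ^ 2)⁻¹ * x * n ^ 2 := by
        rw [hw, hn2, pow_two, mul_inv_rev]
        simp only [mul_assoc]
      rw [h] at h2
      calc n ^ 2 * x = n ^ 2 * ((n ^ 2)⁻¹ * x * n ^ 2) := by rw [← h2]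
        _ = x * n ^ 2 := by group
    have h3 := commute_of_sq P hP n hn hx h1
    rw [hn2]
    have : n⁻¹ * x * n = n⁻¹ * (n * x) := by rw [h3.eq]; group
    rw [this]; group
  have hw1 : w ≠ 1 := by
    intro h
    apply hy1
    have h2 : y = n * (n⁻¹ * y * n) * n⁻¹ := by group
    rw [h2, ← hw, h]; group
  have hcy : IsConj x y := hconj
  have hcw : IsConj x w := by
    refine hcy.trans ?_
    rw [isConj_iff]
    exact ⟨n⁻¹, by rw [inv_inv]⟩
  intro z hz hz1
  by_cases hzx : z = x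
  · rw [hzx]
  · by_cases hzy : z = y
    · rw [hzy]; exact hcy
    · have e1 := third P hP hx hy hz hx1 hy1 hz1 hxy hzx hzy
      have e2 := third P hP hx hy hwP hx1 hy1 hw1 hxy hwx hwy
      rw [e1, ← e2]
      exact hcw

end

/-- the classes of involutions -/
abbrev InvClass (G : Type*) [Group G] :=
  {C : ConjClasses G // ∃ t : G, orderOf t = 2 ∧ ConjClasses.mk t = C}

/-- the map from the non-identity elements of `P` to the classes of involutions -/
def toClass (P : Sylow 2 G) (hP : IsKleinFour (P : Subgroup G)) :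
    {x : (P : Subgroup G) // x ≠ 1} → InvClass G :=
  fun x => ⟨ConjClasses.mk (x.1 : G), (x.1 : G),
    order_two_of_mem P hP x.1.2 (fun h => x.2 (Subtype.ext h)), rfl⟩

lemma toClass_surjective (P : Sylow 2 G) (hP : IsKleinFour (P : Subgroup G)) :
    Function.Surjective (toClass P hP) := by
  have : Fact (Nat.Prime 2) := ⟨Nat.prime_two⟩
  rintro ⟨C, t, ht, rfl⟩
  obtain ⟨c, -, hc⟩ := Cfsg.Agent.Lib.Helper3_Sylow.exists_conj_mem_sylow_of_le P ⊤ le_top t
    (Subgroup.mem_top t) ⟨1, by rw [ht, pow_one]⟩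
  have hne : c * t * c⁻¹ ≠ 1 := by
    intro h
    have : t = 1 := by
      have h2 : t = c⁻¹ * (c * t * c⁻¹) * c := by group
      rw [h2, h]; group
    rw [this, orderOf_one] at ht
    norm_num at ht
  refine ⟨⟨⟨c * t * c⁻¹, hc⟩, fun h => hne (congrArg Subtype.val h)⟩, ?_⟩
  apply Subtype.ext
  show ConjClasses.mk (c * t * c⁻¹) = ConjClasses.mk t
  rw [ConjClasses.mk_eq_mk_iff_isConj, isConj_iff]
  exact ⟨c⁻¹, by group⟩

lemma card_nonid (P : Sylow 2 G) (hP : IsKleinFour (P : Subgroup G)) :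
    Nat.card {x : (P : Subgroup G) // x ≠ 1} = 3 := by
  rw [Cfsg.Agent.Lib.Helper2_Count.card_subtype_ne_one, hP.card_four]

/-- the dichotomy: one class (all involutions of `P` conjugate) or three (none are) -/
theorem card_invClass (P : Sylow 2 G) (hP : IsKleinFour (P : Subgroup G)) :
    (Nat.card (InvClass G) = 1 ∧ ∀ x ∈ (P : Subgroup G), ∀ y ∈ (P : Subgroup G),
        x ≠ 1 → y ≠ 1 → IsConj x y) ∨
    (Nat.card (InvClass G) = 3 ∧ ∀ x ∈ (P : Subgroup G), ∀ y ∈ (P : Subgroup G),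
        x ≠ 1 → y ≠ 1 → IsConj x y → x = y) := by
  by_cases h : ∃ x ∈ (P : Subgroup G), ∃ y ∈ (P : Subgroup G), x ≠ 1 ∧ x ≠ y ∧ IsConj x y
  · left
    obtain ⟨x, hx, y, hy, hx1, hxy, hc⟩ := h
    have hall := all_conj P hP hx hy hx1 hxy hc
    have hall2 : ∀ u ∈ (P : Subgroup G), ∀ v ∈ (P : Subgroup G), u ≠ 1 → v ≠ 1 → IsConj u v :=
      fun u hu v hv hu1 hv1 => (hall u hu hu1).symm.trans (hall v hv hv1)
    refine ⟨?_, hall2⟩
    rw [Nat.card_eq_one_iff_unique]
    constructor
    · constructor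
      intro a b
      obtain ⟨u, rfl⟩ := toClass_surjective P hP a
      obtain ⟨v, rfl⟩ := toClass_surjective P hP b
      apply Subtype.ext
      show ConjClasses.mk (u.1 : G) = ConjClasses.mk (v.1 : G)
      rw [ConjClasses.mk_eq_mk_iff_isConj]
      exact hall2 _ u.1.2 _ v.1.2 (fun h => u.2 (Subtype.ext h)) (fun h => v.2 (Subtype.ext h))
    · exact ⟨toClass P hP ⟨⟨x, hx⟩, fun h => hx1 (congrArg Subtype.val h)⟩⟩
  · right
    push Not at h
    have hinj : ∀ x ∈ (P : Subgroup G), ∀ y ∈ (P : Subgroup G),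
        x ≠ 1 → y ≠ 1 → IsConj x y → x = y := by
      intro x hx y hy hx1 _ hc
      by_contra hne
      exact h x hx y hy hx1 hne hc
    refine ⟨?_, hinj⟩
    have hbij : Function.Bijective (toClass P hP) := by
      refine ⟨?_, toClass_surjective P hP⟩
      intro u v huv
      have h1 : ConjClasses.mk (u.1 : G) = ConjClasses.mk (v.1 : G) := congrArg Subtype.val huv
      rw [ConjClasses.mk_eq_mk_iff_isConj] at h1
      have := hinj _ u.1.2 _ v.1.2 (fun h => u.2 (Subtype.ext h)) (fun h => v.2 (Subtype.ext h)) h1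
      exact Subtype.ext (Subtype.ext this)
    rw [← Nat.card_congr (Equiv.ofBijective _ hbij), card_nonid P hP]

end Cfsg.Agent.Helper9Klein
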