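import Mathlib

set_option autoImplicit false

namespace Cfsg.Agent.Helper9PF

open Polynomial

section
variable (p : ℕ) [Fact p.Prime] (K : Type*) [Field K] [CharP K p]

/-- the embedding of the prime field -/
noncomputable def iota : ZMod p →+* K := ZMod.castHom (dvd_refl p) K

/-- evaluation of polynomials as functions on `ZMod p` -/
noncomputable def ev : K[X] →ₗ[K] (ZMod p → K) where
  toFun P := fun j => P.eval (iota p K j)
  map_add' := by intro P Q; funext j; simp
  map_smul' := by intro c P; funext j; simp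

/-- polynomial functions of degree `< r` -/
noncomputable def V (r : ℕ) : Submodule K (ZMod p → K) := (degreeLT K r).map (ev p K)

/-- the shift -/
def T : (ZMod p → K) →ₗ[K] (ZMod p → K) where
  toFun f := fun j => f (j - 1)
  map_add' := by intros; rfl
  map_smul' := by intros; rfl

theorem iota_injective : Function.Injective (iota p K) := (iota p K).injective

theorem iota_apply (j : ZMod p) : iota p K j = (ZMod.cast j : K) := rfl

theorem ev_apply (P : K[X]) (j : ZMod p) : ev p K P j = P.eval (iota p K j) := rfl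

theorem T_apply (f : ZMod p → K) (j : ZMod p) : T p K f j = f (j - 1) := rfl

theorem eq_zero_of_ev (P : K[X]) (hdeg : P.degree < p) (h : ev p K P = 0) : P = 0 := by
  apply Polynomial.eq_zero_of_degree_lt_of_eval_index_eq_zero (s := Finset.univ) (v := iota p K)
    ((iota_injective p K).injOn)
  · rw [Finset.card_univ, ZMod.card]; exact hdeg
  · intro j _; exact congrFun h j

theorem ev_inj (P Q : K[X]) (hP : P.degree < p) (hQ : Q.degree < p)
    (h : ev p K P = ev p K Q) : P = Q := by
  have := eq_zero_of_ev p K (P - Q) (lt_of_le_of_lt (degree_sub_le _ _) (max_lt hP hQ))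
    (by rw [map_sub, h, sub_self])
  exact sub_eq_zero.mp this

theorem exists_poly (f : ZMod p → K) : ∃ P : K[X], P.degree < p ∧ ev p K P = f := by
  refine ⟨Lagrange.interpolate Finset.univ (iota p K) f, ?_, ?_⟩
  · have := Lagrange.degree_interpolate_lt (s := Finset.univ) (v := iota p K) f
      ((iota_injective p K).injOn)
    rwa [Finset.card_univ, ZMod.card] at this
  · funext j
    exact Lagrange.eval_interpolate_at_node f ((iota_injective p K).injOn) (Finset.mem_univ j)

theorem mem_V (r : ℕ) (f : ZMod p → K) :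
    f ∈ V p K r ↔ ∃ P : K[X], P.degree < r ∧ ev p K P = f := by
  unfold V
  rw [Submodule.mem_map]
  constructor
  · rintro ⟨P, hP, rfl⟩; exact ⟨P, mem_degreeLT.mp hP, rfl⟩
  · rintro ⟨P, hP, rfl⟩; exact ⟨P, mem_degreeLT.mpr hP, rfl⟩

theorem V_mono {r s : ℕ} (h : r ≤ s) : V p K r ≤ V p K s :=
  Submodule.map_mono (degreeLT_mono h)

theorem V_zero : V p K 0 = ⊥ := by
  rw [eq_bot_iff]
  intro f hf
  obtain ⟨P, hP, rfl⟩ := (mem_V p K 0 f).mp hf
  have : P = 0 := by
    by_contra hne
    have := (natDegree_lt_iff_degree_lt hne).mpr hP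
    omega
  rw [this, map_zero]
  exact Submodule.zero_mem _

theorem V_top : V p K p = ⊤ := by
  rw [eq_top_iff]
  intro f _
  obtain ⟨P, hP, rfl⟩ := exists_poly p K f
  exact (mem_V p K p _).mpr ⟨P, hP, rfl⟩

theorem finrank_V (r : ℕ) (hr : r ≤ p) : Module.finrank K (V p K r) = r := by
  have hinj : Function.Injective ((ev p K).comp (degreeLT K r).subtype) := by
    rw [injective_iff_map_eq_zero]
    rintro ⟨P, hP⟩ h
    apply Subtype.ext
    have hP' : P.degree < p := lt_of_lt_of_le (mem_degreeLT.mp hP) (by exact_mod_cast hr)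
    exact eq_zero_of_ev p K P hP' h
  have hrange : LinearMap.range ((ev p K).comp (degreeLT K r).subtype) = V p K r := by
    unfold V
    rw [LinearMap.range_comp, Submodule.range_subtype]
  rw [← hrange, LinearMap.finrank_range_of_inj hinj, (degreeLTEquiv K r).finrank_eq,
    Module.finrank_fin_fun]

end

section Delta
variable {K : Type*} [Field K]

/-- the difference operator on polynomials -/
noncomputable def Delta (P : K[X]) : K[X] := P.comp (X - C 1) - P

theorem Delta_eq_taylor (P : K[X]) : Delta P = taylor (-1) P - P := by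
  have h : (X - C 1 : K[X]) = X + C (-1) := by rw [C_neg, sub_eq_add_neg]
  unfold Delta
  rw [taylor_apply, h]

theorem coeff_Delta_top (P : K[X]) (e : ℕ) (hd : P.natDegree = e + 1) :
    (Delta P).coeff e = -((e + 1 : ℕ) : K) * P.coeff (e + 1) := by
  rw [Delta_eq_taylor, coeff_sub, taylor_coeff]
  have hdeg : (hasseDeriv e P).natDegree < 2 := by
    have := natDegree_hasseDeriv_le P e
    omega
  rw [eval_eq_sum_range' hdeg, Finset.sum_range_succ, Finset.sum_range_one, hasseDeriv_coeff,
    hasseDeriv_coeff, zero_add, Nat.choose_self, add_comm 1 e, Nat.choose_succ_self_right]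
  push_cast
  ring

theorem natDegree_Delta_le (P : K[X]) (e : ℕ) (hd : P.natDegree = e + 1) :
    (Delta P).natDegree ≤ e := by
  rw [natDegree_le_iff_coeff_eq_zero]
  intro N hN
  rw [Delta_eq_taylor, coeff_sub]
  rcases Nat.lt_or_ge (e + 1) N with h | h
  · rw [coeff_eq_zero_of_natDegree_lt (by rw [natDegree_taylor]; omega),
      coeff_eq_zero_of_natDegree_lt (by omega), sub_zero]
  · have hN' : N = e + 1 := by omega
    subst hN'
    have h1 : (taylor (-1) P).coeff (e + 1) = (taylor (-1) P).leadingCoeff := by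
      rw [leadingCoeff, natDegree_taylor, hd]
    have h2 : P.coeff (e + 1) = P.leadingCoeff := by rw [leadingCoeff, hd]
    rw [h1, h2, leadingCoeff_taylor, sub_self]

end Delta

section main
variable (p : ℕ) [Fact p.Prime] (K : Type*) [Field K] [CharP K p]

theorem ev_Delta (P : K[X]) : ev p K (Delta P) = T p K (ev p K P) - ev p K P := by
  funext j
  show (P.comp (X - C 1) - P).eval (iota p K j) =
    P.eval (iota p K (j - 1)) - P.eval (iota p K j)
  rw [eval_sub, eval_comp, eval_sub, eval_X, eval_C, map_sub, map_one]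

theorem Delta_spec (P : K[X]) (e : ℕ) (hd : P.natDegree = e + 1) (hep : e + 1 < p) :
    (Delta P).coeff e ≠ 0 ∧ (Delta P).natDegree = e := by
  have hc : (Delta P).coeff e ≠ 0 := by
    rw [coeff_Delta_top P e hd]
    have hP : P.coeff (e + 1) ≠ 0 := by
      rw [← hd]
      exact leadingCoeff_ne_zero.mpr (by rintro rfl; simp at hd)
    have hc : ((e + 1 : ℕ) : K) ≠ 0 := by
      intro h
      have := (CharP.cast_eq_zero_iff K p (e + 1)).mp h
      exact absurd (Nat.le_of_dvd (by omega) this) (by omega)
    exact mul_ne_zero (neg_ne_zero.mpr hc) hP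
  exact ⟨hc, natDegree_eq_of_le_of_coeff_ne_zero (natDegree_Delta_le P e hd) hc⟩

theorem invariant_eq_V (W : Submodule K (ZMod p → K)) (hW : ∀ f ∈ W, T p K f ∈ W) :
    ∃ r : ℕ, r ≤ p ∧ W = V p K r := by
  classical
  by_cases hbot : W = ⊥
  · exact ⟨0, Nat.zero_le _, by rw [hbot, V_zero]⟩
  let D : Finset ℕ := (Finset.range p).filter
    (fun k => ∃ P : K[X], P ≠ 0 ∧ P.natDegree = k ∧ ev p K P ∈ W)
  have hDne : D.Nonempty := by
    obtain ⟨f, hfW, hf0⟩ := Submodule.exists_mem_ne_zero_of_ne_bot hbot
    obtain ⟨P, hP, rfl⟩ := exists_poly p K f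
    have hP0 : P ≠ 0 := by rintro rfl; exact hf0 (map_zero _)
    refine ⟨P.natDegree, ?_⟩
    rw [Finset.mem_filter, Finset.mem_range]
    exact ⟨(natDegree_lt_iff_degree_lt hP0).mpr hP, P, hP0, rfl, hfW⟩
  set d := D.max' hDne with hd
  have hdD : d ∈ D := Finset.max'_mem D hDne
  have hdp : d < p := Finset.mem_range.mp (Finset.mem_filter.mp hdD).1
  refine ⟨d + 1, hdp, ?_⟩
  have claimA : ∀ m, ∃ P : K[X], P ≠ 0 ∧ P.natDegree = d - m ∧ ev p K P ∈ W := by
    intro m
    induction m with
    | zero => exact (Finset.mem_filter.mp hdD).2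
    | succ m ih =>
      by_cases hm : m < d
      · obtain ⟨P, hP0, hPd, hPW⟩ := ih
        have hPd' : P.natDegree = (d - (m + 1)) + 1 := by omega
        obtain ⟨h1, h2⟩ := Delta_spec p K P _ hPd' (by omega)
        refine ⟨Delta P, ?_, h2, ?_⟩
        · intro h0
          rw [h0, coeff_zero] at h1
          exact h1 rfl
        · rw [ev_Delta]; exact W.sub_mem (hW _ hPW) hPW
      · have : d - (m + 1) = d - m := by omega
        rw [this]; exact ih
  have claimA' : ∀ k, k ≤ d → ∃ P : K[X], P ≠ 0 ∧ P.natDegree = k ∧ ev p K P ∈ W := by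
    intro k hk
    have := claimA (d - k)
    rwa [Nat.sub_sub_self hk] at this
  have claimB : ∀ k, k ≤ d + 1 → V p K k ≤ W := by
    intro k
    induction k with
    | zero => intro _; rw [V_zero]; exact bot_le
    | succ k ih =>
      intro hk
      have ih' := ih (by omega)
      obtain ⟨Pk, hPk0, hPkd, hPkW⟩ := claimA' k (by omega)
      intro f hf
      obtain ⟨Q, hQ, rfl⟩ := (mem_V p K (k + 1) f).mp hf
      by_cases hQk : Q.degree < k
      · exact ih' ((mem_V p K k _).mpr ⟨Q, hQk, rfl⟩)
      · have hQ0 : Q ≠ 0 := by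
          rintro rfl
          apply hQk
          rw [degree_zero]
          exact WithBot.bot_lt_coe _
        have hQd : Q.natDegree = k := by
          have h1 : Q.natDegree < k + 1 := (natDegree_lt_iff_degree_lt hQ0).mpr hQ
          have h2 : ¬ Q.natDegree < k := fun h => hQk ((natDegree_lt_iff_degree_lt hQ0).mp h)
          omega
        set c := Q.leadingCoeff / Pk.leadingCoeff with hc
        have hlc : Pk.leadingCoeff ≠ 0 := leadingCoeff_ne_zero.mpr hPk0
        have hc0 : c ≠ 0 := div_ne_zero (leadingCoeff_ne_zero.mpr hQ0) hlc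
        have hdeg : (Q - C c * Pk).degree < Q.degree := by
          apply degree_sub_lt_left
          · rw [degree_C_mul hc0, degree_eq_natDegree hQ0, degree_eq_natDegree hPk0, hQd, hPkd]
          · exact hQ0
          · rw [leadingCoeff_mul, leadingCoeff_C, hc, div_mul_cancel₀ _ hlc]
        have hdeg' : (Q - C c * Pk).degree < k := by
          rw [degree_eq_natDegree hQ0, hQd] at hdeg; exact hdeg
        have h1 : ev p K (Q - C c * Pk) ∈ W := ih' ((mem_V p K k _).mpr ⟨_, hdeg', rfl⟩)
        have h2 : ev p K Q = ev p K (Q - C c * Pk) + c • ev p K Pk := by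
          rw [← map_smul, ← map_add, smul_eq_C_mul, sub_add_cancel]
        rw [h2]; exact W.add_mem h1 (W.smul_mem c hPkW)
  apply le_antisymm
  · intro f hf
    obtain ⟨P, hP, rfl⟩ := exists_poly p K f
    rw [mem_V]
    by_cases hP0 : P = 0
    · exact ⟨0, by rw [degree_zero]; exact WithBot.bot_lt_coe _, by rw [hP0]⟩
    · refine ⟨P, ?_, rfl⟩
      have hmem : P.natDegree ∈ D := by
        rw [Finset.mem_filter, Finset.mem_range]
        exact ⟨(natDegree_lt_iff_degree_lt hP0).mpr hP, P, hP0, rfl, hf⟩
      have := Finset.le_max' D _ hmem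
      rw [← natDegree_lt_iff_degree_lt hP0]
      omega
  · exact claimB (d + 1) le_rfl

end main

end Cfsg.Agent.Helper9PF
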