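import Mathlib
import Cfsg.Agent.Lib.Helper9_PolyFun
import Cfsg.Agent.S0671

set_option autoImplicit false

namespace Cfsg.Agent.Helper9PD

open Polynomial Cfsg.Agent.Helper9PF

/-! ### A cyclic parametrization of a transitive set of prime size -/

theorem exists_cycle_param {α : Type*} [Fintype α] [DecidableEq α] {p : ℕ} [Fact p.Prime]
    (hα : Fintype.card α = p) (G : Subgroup (Equiv.Perm α)) [MulAction.IsPretransitive G α] :
    ∃ σ : G, ∃ ψ : ZMod p ≃ α, ∀ j, ψ (j + 1) = (σ : Equiv.Perm α) (ψ j) := by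
  have hp := (Fact.out : p.Prime)
  have hne : Nonempty α := by
    rw [← Fintype.card_pos_iff, hα]; exact hp.pos
  obtain ⟨x0⟩ := hne
  have hdvd : p ∣ Nat.card G := by
    have h1 : (MulAction.stabilizer G x0).index = Nat.card α :=
      MulAction.index_stabilizer_of_transitive G x0
    rw [Nat.card_eq_fintype_card, hα] at h1
    rw [← h1]
    exact Subgroup.index_dvd_card _
  obtain ⟨σ, hσ⟩ := exists_prime_orderOf_dvd_card' p hdvd
  obtain ⟨τ, hτ⟩ : ∃ τ : Equiv.Perm α, τ = (σ : Equiv.Perm α) := ⟨_, rfl⟩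
  have hτord : orderOf τ = p := by rw [hτ, Subgroup.orderOf_coe, hσ]
  have hτp : τ ^ p = 1 := by rw [← hτord]; exact pow_orderOf_eq_one τ
  have hτne : τ ≠ 1 := by
    intro h
    rw [h, orderOf_one] at hτord
    exact hp.one_lt.ne hτord
  obtain ⟨x1, hx1⟩ : ∃ x, τ x ≠ x := by
    by_contra hall
    push Not at hall
    exact hτne (Equiv.Perm.ext hall)
  have hfix : ∀ n : ℕ, (τ ^ n) x1 = x1 → p ∣ n := by
    intro n hn
    by_contra hndvd
    have hcop : Nat.Coprime n p := ((Nat.Prime.coprime_iff_not_dvd hp).mpr hndvd).symm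
    obtain ⟨m, -, hm⟩ := Nat.exists_mul_mod_eq_one_of_coprime hcop hp.one_lt
    have h1 : (τ ^ (n * m)) x1 = x1 := by
      rw [pow_mul]; exact Equiv.Perm.pow_apply_eq_self_of_apply_eq_self hn m
    rw [pow_eq_pow_mod (n * m) hτp, hm, pow_one] at h1
    exact hx1 h1
  have hsucc : ∀ j : ZMod p, (τ ^ (j + 1).val) x1 = τ ((τ ^ j.val) x1) := by
    intro j
    rw [ZMod.val_add, ZMod.val_one, ← pow_eq_pow_mod _ hτp, pow_succ', Equiv.Perm.mul_apply]
  have key : ∀ a b : ZMod p, a.val ≤ b.val → (τ ^ a.val) x1 = (τ ^ b.val) x1 → a = b := by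
    intro a b hab h
    have h2 : (τ ^ (b.val - a.val)) x1 = x1 := by
      apply (τ ^ a.val).injective
      rw [← Equiv.Perm.mul_apply, ← pow_add, Nat.add_sub_cancel' hab]
      exact h.symm
    have h3 := hfix _ h2
    have hb : b.val < p := ZMod.val_lt b
    have h4 : b.val - a.val = 0 := Nat.eq_zero_of_dvd_of_lt h3 (by omega)
    exact ZMod.val_injective p (by omega)
  have hinj : Function.Injective (fun j : ZMod p => (τ ^ j.val) x1) := by
    intro a b h
    rcases le_total a.val b.val with hab | hab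
    · exact key a b hab h
    · exact (key b a hab h.symm).symm
  have hbij : Function.Bijective (fun j : ZMod p => (τ ^ j.val) x1) :=
    (Fintype.bijective_iff_injective_and_card _).mpr ⟨hinj, by rw [ZMod.card, hα]⟩
  refine ⟨σ, Equiv.ofBijective _ hbij, fun j => ?_⟩
  rw [← hτ]
  exact hsucc j

/-! ### Transport of functions -/

/-- transport of functions along a parametrization -/
def Lmap {α : Type*} {p : ℕ} (K : Type*) [Field K] (ψ : ZMod p ≃ α) :
    (α → K) ≃ₗ[K] (ZMod p → K) where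
  toFun f := fun j => f (ψ j)
  invFun g := fun x => g (ψ.symm x)
  map_add' _ _ := rfl
  map_smul' _ _ := rfl
  left_inv f := by funext x; simp
  right_inv g := by funext j; simp

theorem Lmap_apply {α : Type*} {p : ℕ} (K : Type*) [Field K] (ψ : ZMod p ≃ α) (f : α → K)
    (j : ZMod p) : Lmap K ψ f j = f (ψ j) := rfl

theorem inv_smul_psi {α : Type*} {p : ℕ} (G : Subgroup (Equiv.Perm α)) (σ : G) (ψ : ZMod p ≃ α)
    (hψ : ∀ j, ψ (j + 1) = (σ : Equiv.Perm α) (ψ j)) (j : ZMod p) :
    (σ⁻¹ : G) • ψ j = ψ (j - 1) := by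
  have h := hψ (j - 1)
  rw [sub_add_cancel] at h
  rw [h]
  show ((σ⁻¹ : G) : Equiv.Perm α) ((σ : Equiv.Perm α) (ψ (j - 1))) = ψ (j - 1)
  rw [InvMemClass.coe_inv, Equiv.Perm.inv_def, Equiv.symm_apply_apply]

section transport
variable {α : Type*} {p : ℕ} [Fact p.Prime] (G : Subgroup (Equiv.Perm α))
  {K : Type*} [Field K] [CharP K p]

theorem map_eq_V (σ : G) (ψ : ZMod p ≃ α) (hψ : ∀ j, ψ (j + 1) = (σ : Equiv.Perm α) (ψ j))
    (W : Subrepresentation (Cfsg.permRep K G α)) :
    ∃ r : ℕ, r ≤ p ∧ W.toSubmodule.map (Lmap K ψ).toLinearMap = V p K r := by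
  apply invariant_eq_V
  intro f' hf'
  obtain ⟨f, hf, rfl⟩ := Submodule.mem_map.mp hf'
  refine Submodule.mem_map.mpr ⟨Cfsg.permRep K G α σ f, W.apply_mem_toSubmodule σ hf, ?_⟩
  funext j
  show f ((σ⁻¹ : G) • ψ j) = f (ψ (j - 1))
  rw [inv_smul_psi G σ ψ hψ j]

theorem closed_of_map_eq (ψ : ZMod p ≃ α) (W : Subrepresentation (Cfsg.permRep K G α)) (t : ℕ)
    (hW : W.toSubmodule.map (Lmap K ψ).toLinearMap = V p K t) (g : G) :
    ∀ f ∈ V p K t, (fun j => f (ψ.symm ((g : Equiv.Perm α) (ψ j)))) ∈ V p K t := by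
  intro f' hf'
  rw [← hW] at hf' ⊢
  obtain ⟨f, hf, rfl⟩ := Submodule.mem_map.mp hf'
  refine Submodule.mem_map.mpr ⟨Cfsg.permRep K G α g⁻¹ f, W.apply_mem_toSubmodule g⁻¹ hf, ?_⟩
  funext j
  show f (((g⁻¹ : G)⁻¹) • ψ j) = f (ψ (ψ.symm ((g : Equiv.Perm α) (ψ j))))
  rw [inv_inv, Equiv.apply_symm_apply]
  rfl

end transport

/-! ### Power sums and duality -/

section sums
variable (p : ℕ) [Fact p.Prime] (K : Type*) [Field K] [CharP K p]

theorem sum_pow_top : ∑ j : ZMod p, j ^ (p - 1) = -1 := by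
  have hp := (Fact.out : p.Prime)
  have h1 : ∀ j : ZMod p, j ^ (p - 1) = 1 - (if j = 0 then 1 else 0) := by
    intro j
    split_ifs with h
    · rw [h, zero_pow (by have := hp.two_le; omega), sub_self]
    · rw [ZMod.pow_card_sub_one_eq_one h, sub_zero]
  rw [Finset.sum_congr rfl (fun j _ => h1 j), Finset.sum_sub_distrib, Finset.sum_ite_eq',
    if_pos (Finset.mem_univ _), Finset.sum_const, Finset.card_univ, ZMod.card, nsmul_eq_mul,
    mul_one, CharP.cast_eq_zero, zero_sub]

theorem sum_iota_pow (k : ℕ) (hk : k < p) :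
    ∑ j : ZMod p, (iota p K j) ^ k = if k = p - 1 then -1 else 0 := by
  have h : ∑ j : ZMod p, (iota p K j) ^ k = iota p K (∑ j : ZMod p, j ^ k) := by
    rw [map_sum]
    exact Finset.sum_congr rfl (fun j _ => (map_pow _ _ _).symm)
  rw [h]
  split_ifs with h1
  · rw [h1, sum_pow_top, map_neg, map_one]
  · rw [FiniteField.sum_pow_lt_card_sub_one (K := ZMod p) k (by rw [ZMod.card]; omega), map_zero]

theorem sum_eval (R : K[X]) (hnd : R.natDegree < p) :
    ∑ j : ZMod p, R.eval (iota p K j) = - R.coeff (p - 1) := by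
  have hp := (Fact.out : p.Prime)
  calc ∑ j : ZMod p, R.eval (iota p K j)
      = ∑ j : ZMod p, ∑ k ∈ Finset.range p, R.coeff k * (iota p K j) ^ k :=
        Finset.sum_congr rfl (fun j _ => eval_eq_sum_range' hnd _)
    _ = ∑ k ∈ Finset.range p, ∑ j : ZMod p, R.coeff k * (iota p K j) ^ k := Finset.sum_comm
    _ = ∑ k ∈ Finset.range p, R.coeff k * (if k = p - 1 then -1 else 0) := by
        refine Finset.sum_congr rfl (fun k hk => ?_)
        rw [← Finset.mul_sum, sum_iota_pow p K k (Finset.mem_range.mp hk)]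
    _ = R.coeff (p - 1) * (-1) := by
        rw [Finset.sum_eq_single (p - 1)]
        · rw [if_pos rfl]
        · intro k _ hk; rw [if_neg hk, mul_zero]
        · intro h; exact absurd (Finset.mem_range.mpr (Nat.sub_lt hp.pos one_pos)) h
    _ = - R.coeff (p - 1) := by ring

theorem sum_mul_eq_zero (P Q : K[X]) (t : ℕ) (ht : t ≤ p) (hP : P.degree < ((p - t : ℕ) : WithBot ℕ))
    (hQ : Q.degree < (t : WithBot ℕ)) :
    ∑ j : ZMod p, P.eval (iota p K j) * Q.eval (iota p K j) = 0 := by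
  by_cases hP0 : P = 0
  · simp [hP0]
  by_cases hQ0 : Q = 0
  · simp [hQ0]
  have h1 : P.natDegree < p - t := (natDegree_lt_iff_degree_lt hP0).mpr hP
  have h2 : Q.natDegree < t := (natDegree_lt_iff_degree_lt hQ0).mpr hQ
  have h3 : (P * Q).natDegree = P.natDegree + Q.natDegree := natDegree_mul hP0 hQ0
  have h4 : (P * Q).natDegree < p := by omega
  have h5 := sum_eval p K (P * Q) h4
  simp only [eval_mul] at h5
  rw [h5, coeff_eq_zero_of_natDegree_lt (by omega), neg_zero]

theorem mem_V_compl (t : ℕ) (ht : t ≤ p) (f : ZMod p → K) :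
    f ∈ V p K (p - t) ↔ ∀ h ∈ V p K t, ∑ j, f j * h j = 0 := by
  constructor
  · intro hf h hh
    obtain ⟨P, hP, rfl⟩ := (mem_V p K _ f).mp hf
    obtain ⟨Q, hQ, rfl⟩ := (mem_V p K _ h).mp hh
    exact sum_mul_eq_zero p K P Q t ht hP hQ
  · intro hf
    obtain ⟨P, hP, rfl⟩ := exists_poly p K f
    by_cases hP0 : P = 0
    · rw [hP0, map_zero]; exact Submodule.zero_mem _
    have hnd : P.natDegree < p := (natDegree_lt_iff_degree_lt hP0).mpr hP
    by_cases hlt : P.natDegree < p - t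
    · exact (mem_V p K _ _).mpr ⟨P, (natDegree_lt_iff_degree_lt hP0).mp hlt, rfl⟩
    · exfalso
      obtain ⟨n, hn⟩ : ∃ n, P.natDegree + n = p - 1 := ⟨p - 1 - P.natDegree, by omega⟩
      have hnt : n < t := by omega
      have hXmem : ev p K (X ^ n) ∈ V p K t :=
        (mem_V p K _ _).mpr ⟨X ^ n, by rw [degree_X_pow]; exact_mod_cast hnt, rfl⟩
      have h1 := hf _ hXmem
      have h2 : (P * X ^ n).natDegree < p := by
        have h3 := natDegree_mul_le (p := P) (q := X ^ n)
        have h4 : (X ^ n : K[X]).natDegree ≤ n := natDegree_X_pow_le _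
        omega
      have h4 := sum_eval p K (P * X ^ n) h2
      simp only [eval_mul] at h4
      have h5 : (P * X ^ n).coeff (p - 1) = P.leadingCoeff := by
        rw [← hn, coeff_mul_X_pow]; rfl
      rw [h5] at h4
      have h6 : ∑ j : ZMod p, ev p K P j * ev p K (X ^ n) j = - P.leadingCoeff := h4
      rw [h1] at h6
      exact hP0 (leadingCoeff_eq_zero.mp (neg_eq_zero.mp h6.symm))

theorem mem_V_one (f : ZMod p → K) : f ∈ V p K 1 ↔ ∃ c : K, f = fun _ => c := by
  rw [mem_V]
  constructor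
  · rintro ⟨P, hP, rfl⟩
    have h0 : P.natDegree = 0 := by
      by_cases hP0 : P = 0
      · rw [hP0, natDegree_zero]
      · have := (natDegree_lt_iff_degree_lt hP0).mpr hP; omega
    refine ⟨P.coeff 0, ?_⟩
    funext j
    have hPC := eq_C_of_natDegree_eq_zero h0
    calc ev p K P j = P.eval (iota p K j) := rfl
      _ = (C (P.coeff 0)).eval (iota p K j) := by rw [← hPC]
      _ = P.coeff 0 := eval_C
  · rintro ⟨c, rfl⟩
    refine ⟨C c, lt_of_le_of_lt degree_C_le (by norm_num), ?_⟩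
    funext j
    rw [ev_apply, eval_C]

theorem mem_V_pred (f : ZMod p → K) : f ∈ V p K (p - 1) ↔ ∑ j, f j = 0 := by
  have hp := (Fact.out : p.Prime)
  rw [mem_V_compl p K 1 hp.one_lt.le]
  constructor
  · intro h
    have h1 := h (fun _ => 1) ((mem_V_one p K _).mpr ⟨1, rfl⟩)
    simpa using h1
  · intro h g hg
    obtain ⟨c, rfl⟩ := (mem_V_one p K g).mp hg
    rw [← Finset.sum_mul, h, zero_mul]

theorem V_le_imp {r s : ℕ} (hr : r ≤ p) (hs : s ≤ p) (h : V p K r ≤ V p K s) : r ≤ s := by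
  have h1 := Submodule.finrank_mono h
  rwa [finrank_V p K r hr, finrank_V p K s hs] at h1

/-! ### The degree lemma -/

theorem deg_lemma (π : ZMod p → ZMod p) (hπ : Function.Injective π) (r : ℕ) (hr2 : 2 ≤ r)
    (hrp : 2 * r ≤ p + 1)
    (hV : ∀ f ∈ V p K r, (fun j => f (π j)) ∈ V p K r) :
    ∃ a b : ZMod p, ∀ j, π j = a * j + b := by
  have hp := (Fact.out : p.Prime)
  have hX : ev p K X ∈ V p K r :=
    (mem_V p K r _).mpr ⟨X, by rw [degree_X]; exact_mod_cast (by omega : 1 < r), rfl⟩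
  obtain ⟨Q, hQdeg, hQ⟩ := (mem_V p K r _).mp (hV _ hX)
  have hQev : ∀ j, Q.eval (iota p K j) = iota p K (π j) := by
    intro j
    have h1 := congrFun hQ j
    rw [ev_apply] at h1
    rw [h1]
    show ev p K X (π j) = _
    rw [ev_apply, eval_X]
  have hQ0 : Q ≠ 0 := by
    rintro rfl
    have h0 := hQev 0
    have h1 := hQev 1
    rw [eval_zero] at h0 h1
    have h2 : π 0 = π 1 := iota_injective p K (h0.symm.trans h1)
    exact zero_ne_one (hπ h2)
  have hdr : Q.natDegree < r := (natDegree_lt_iff_degree_lt hQ0).mpr hQdeg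
  have hd1 : Q.natDegree ≤ 1 := by
    by_contra hd
    push Not at hd
    have hdpos : 0 < Q.natDegree := by omega
    obtain ⟨i, h1, h2⟩ : ∃ i, i * Q.natDegree ≤ r + Q.natDegree - 1 ∧
        r + Q.natDegree - 1 < i * Q.natDegree + Q.natDegree :=
      ⟨(r + Q.natDegree - 1) / Q.natDegree, Nat.div_mul_le_self _ _, Nat.lt_div_mul_add hdpos⟩
    have hir : i < r := by
      by_contra hge
      push Not at hge
      have h3 : r * Q.natDegree ≤ i * Q.natDegree := Nat.mul_le_mul_right _ hge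
      have h4 : r * 2 ≤ r * Q.natDegree := Nat.mul_le_mul_left r hd
      omega
    have hXi : ev p K (X ^ i) ∈ V p K r :=
      (mem_V p K r _).mpr ⟨X ^ i, by rw [degree_X_pow]; exact_mod_cast hir, rfl⟩
    obtain ⟨R, hRdeg, hR⟩ := (mem_V p K r _).mp (hV _ hXi)
    have hRQ : ev p K R = ev p K (Q ^ i) := by
      rw [hR]
      funext j
      show ev p K (X ^ i) (π j) = ev p K (Q ^ i) j
      rw [ev_apply, ev_apply, eval_pow, eval_pow, eval_X, hQev]
    have hQi : (Q ^ i).natDegree = i * Q.natDegree := natDegree_pow Q i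
    have hRp : R.degree < (p : WithBot ℕ) :=
      lt_of_lt_of_le hRdeg (by exact_mod_cast (by omega : r ≤ p))
    have hQip : (Q ^ i).degree < (p : WithBot ℕ) := by
      rw [degree_eq_natDegree (pow_ne_zero i hQ0), hQi]
      exact_mod_cast (by omega : i * Q.natDegree < p)
    have hEq : R = Q ^ i := ev_inj p K R (Q ^ i) hRp hQip hRQ
    have h5 : (Q ^ i).natDegree < r := by
      rw [← hEq]
      exact (natDegree_lt_iff_degree_lt (by rw [hEq]; exact pow_ne_zero i hQ0)).mpr hRdeg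
    omega
  have hQform := eq_X_add_C_of_natDegree_le_one hd1
  have hlin : ∀ j, iota p K (π j) = Q.coeff 1 * iota p K j + Q.coeff 0 := by
    intro j
    calc iota p K (π j) = Q.eval (iota p K j) := (hQev j).symm
      _ = (C (Q.coeff 1) * X + C (Q.coeff 0)).eval (iota p K j) := by rw [← hQform]
      _ = _ := by rw [eval_add, eval_mul, eval_C, eval_C, eval_X]
  refine ⟨π 1 - π 0, π 0, fun j => iota_injective p K ?_⟩
  have h0 := hlin 0
  have h1 := hlin 1
  rw [map_zero, mul_zero, zero_add] at h0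
  rw [map_one, mul_one] at h1
  rw [hlin j, map_add, map_mul, map_sub, h1, h0]
  ring

end sums

/-! ### Affine groups are solvable -/

section affine
variable {α : Type*} {p : ℕ} [Fact p.Prime] (G : Subgroup (Equiv.Perm α)) (ψ : ZMod p ≃ α)

/-- the permutation of `ZMod p` induced by `g` -/
def theta (g : G) (j : ZMod p) : ZMod p := ψ.symm ((g : Equiv.Perm α) (ψ j))

theorem theta_mul (g h : G) (j : ZMod p) : theta G ψ (g * h) j = theta G ψ g (theta G ψ h j) := by
  show ψ.symm (((g * h : G) : Equiv.Perm α) (ψ j)) =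
    ψ.symm ((g : Equiv.Perm α) (ψ (ψ.symm ((h : Equiv.Perm α) (ψ j)))))
  rw [Equiv.apply_symm_apply, Subgroup.coe_mul, Equiv.Perm.mul_apply]

theorem theta_inj (g h : G) (hgh : ∀ j, theta G ψ g j = theta G ψ h j) : g = h := by
  apply Subtype.ext
  apply Equiv.ext
  intro x
  have h1 : ψ.symm ((g : Equiv.Perm α) (ψ (ψ.symm x))) = ψ.symm ((h : Equiv.Perm α) (ψ (ψ.symm x))) :=
    hgh (ψ.symm x)
  have h2 := ψ.symm.injective h1
  rwa [Equiv.apply_symm_apply] at h2

theorem theta_ne (g : G) : theta G ψ g 1 - theta G ψ g 0 ≠ 0 := by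
  intro hg
  have h1 : ψ.symm ((g : Equiv.Perm α) (ψ 1)) = ψ.symm ((g : Equiv.Perm α) (ψ 0)) :=
    sub_eq_zero.mp hg
  have h2 : (g : Equiv.Perm α) (ψ 1) = (g : Equiv.Perm α) (ψ 0) := ψ.symm.injective h1
  have h3 : (1 : ZMod p) = 0 := ψ.injective ((g : Equiv.Perm α).injective h2)
  exact one_ne_zero h3

theorem solvable_of_affine
    (h : ∀ g : G, ∃ a b : ZMod p, ∀ j, ψ.symm ((g : Equiv.Perm α) (ψ j)) = a * j + b) :
    Group.IsSolvable G := by
  classical
  have θ_form : ∀ g : G, ∀ j, theta G ψ g j =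
      (theta G ψ g 1 - theta G ψ g 0) * j + theta G ψ g 0 := by
    intro g j
    obtain ⟨a, b, hab⟩ := h g
    have h0 : theta G ψ g 0 = a * 0 + b := hab 0
    have h1 : theta G ψ g 1 = a * 1 + b := hab 1
    have hj : theta G ψ g j = a * j + b := hab j
    rw [hj, h0, h1]; ring
  have slope_mul : ∀ g k : G, theta G ψ (g * k) 1 - theta G ψ (g * k) 0 =
      (theta G ψ g 1 - theta G ψ g 0) * (theta G ψ k 1 - theta G ψ k 0) := by
    intro g k
    rw [theta_mul G ψ g k 1, theta_mul G ψ g k 0, θ_form g (theta G ψ k 1),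
      θ_form g (theta G ψ k 0)]
    ring
  let φ : G →* (ZMod p)ˣ := MonoidHom.mk'
    (fun g => Units.mk0 (theta G ψ g 1 - theta G ψ g 0) (theta_ne G ψ g))
    (by
      intro g k
      apply Units.ext
      rw [Units.val_mul, Units.val_mk0, Units.val_mk0, Units.val_mk0]
      exact slope_mul g k)
  have hker : ∀ g : G, g ∈ φ.ker → theta G ψ g 1 - theta G ψ g 0 = 1 := by
    intro g hg
    have h1 : φ g = 1 := MonoidHom.mem_ker.mp hg
    have h2 := congrArg Units.val h1
    exact h2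
  have : Group.IsSolvable φ.ker := by
    apply Group.isSolvable_of_comm
    rintro ⟨g, hg⟩ ⟨k, hk⟩
    apply Subtype.ext
    show g * k = k * g
    apply theta_inj G ψ
    intro j
    have tg : ∀ j, theta G ψ g j = j + theta G ψ g 0 := fun j => by
      rw [θ_form g j, hker g hg, one_mul]
    have tk : ∀ j, theta G ψ k j = j + theta G ψ k 0 := fun j => by
      rw [θ_form k j, hker k hk, one_mul]
    rw [theta_mul G ψ g k j, theta_mul G ψ k g j, tg (theta G ψ k j), tk j,
      tk (theta G ψ g j), tg j]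
    ring
  exact Group.isSolvable_of_ker_le_range φ.ker.subtype φ
    (le_of_eq (Subgroup.range_subtype _).symm)

end affine

/-! ### Main consequences -/

section main
variable {α : Type*} [Fintype α] [DecidableEq α] {p : ℕ} [Fact p.Prime]
  (G : Subgroup (Equiv.Perm α)) {K : Type*} [Field K] [CharP K p]

theorem solvable_of_closed (ψ : ZMod p ≃ α) (r : ℕ) (hr2 : 2 ≤ r) (hrp : 2 * r ≤ p + 1)
    (hcl : ∀ g : G, ∀ f ∈ V p K r, (fun j => f (ψ.symm ((g : Equiv.Perm α) (ψ j)))) ∈ V p K r) :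
    Group.IsSolvable G := by
  apply solvable_of_affine G ψ
  intro g
  have hinj : Function.Injective (fun j => ψ.symm ((g : Equiv.Perm α) (ψ j))) :=
    ψ.symm.injective.comp ((g : Equiv.Perm α).injective.comp ψ.injective)
  exact deg_lemma p K _ hinj r hr2 hrp (hcl g)

theorem solvable_of_middle (ψ : ZMod p ≃ α) (W : Subrepresentation (Cfsg.permRep K G α)) (t : ℕ)
    (ht2 : 2 ≤ t) (htp : t + 2 ≤ p)
    (hW : W.toSubmodule.map (Lmap K ψ).toLinearMap = V p K t) : Group.IsSolvable G := by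
  by_cases hcase : 2 * t ≤ p + 1
  · exact solvable_of_closed (K := K) G ψ t ht2 hcase (fun g => closed_of_map_eq G ψ W t hW g)
  · refine solvable_of_closed (K := K) G ψ (p - t) (by omega) (by omega) ?_
    intro g f hf
    rw [mem_V_compl p K t (by omega)] at hf ⊢
    intro h hh
    have hh' := closed_of_map_eq G ψ W t hW g⁻¹ h hh
    have h1 := hf _ hh'
    rw [← h1]
    refine Fintype.sum_equiv (ψ.trans ((g : Equiv.Perm α).trans ψ.symm)) _ _ (fun j => ?_)
    show f (ψ.symm ((g : Equiv.Perm α) (ψ j))) * h j =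
      f (ψ.symm ((g : Equiv.Perm α) (ψ j))) *
        h (ψ.symm (((g⁻¹ : G) : Equiv.Perm α) (ψ (ψ.symm ((g : Equiv.Perm α) (ψ j))))))
    rw [Equiv.apply_symm_apply, InvMemClass.coe_inv, Equiv.Perm.inv_def, Equiv.symm_apply_apply,
      Equiv.symm_apply_apply]

theorem map_constants (ψ : ZMod p ≃ α) :
    (Cfsg.permConstants K G α).toSubmodule.map (Lmap K ψ).toLinearMap = V p K 1 := by
  ext f'
  rw [mem_V_one, Submodule.mem_map]
  constructor
  · rintro ⟨f, hf, rfl⟩
    have hf' : f ∈ Submodule.span K {fun _ : α => (1 : K)} := hf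
    obtain ⟨c, rfl⟩ := Submodule.mem_span_singleton.mp hf'
    refine ⟨c, ?_⟩
    funext j
    show c * 1 = c
    rw [mul_one]
  · rintro ⟨c, rfl⟩
    refine ⟨fun _ => c, ?_, rfl⟩
    show (fun _ : α => c) ∈ Submodule.span K {fun _ : α => (1 : K)}
    refine Submodule.mem_span_singleton.mpr ⟨c, ?_⟩
    funext x
    show c * 1 = c
    rw [mul_one]

theorem map_sumZero (ψ : ZMod p ≃ α) :
    (Cfsg.permSumZero K G α).toSubmodule.map (Lmap K ψ).toLinearMap = V p K (p - 1) := by
  ext f'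
  rw [mem_V_pred, Submodule.mem_map]
  constructor
  · rintro ⟨f, hf, rfl⟩
    have hf' : ∑ x, f x = 0 := hf
    rw [← hf']
    exact Fintype.sum_equiv ψ _ _ (fun j => rfl)
  · intro h
    refine ⟨(Lmap K ψ).symm f', ?_, (Lmap K ψ).apply_symm_apply f'⟩
    show ∑ x, f' (ψ.symm x) = 0
    rw [← h]
    exact Fintype.sum_equiv ψ.symm _ _ (fun x => rfl)

theorem heart_irreducible (hα : Fintype.card α = p) [MulAction.IsPretransitive G α]
    (hG : ¬ Group.IsSolvable G) (W : Subrepresentation (Cfsg.permRep K G α))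
    (h₁ : (Cfsg.permConstants K G α).toSubmodule ≤ W.toSubmodule)
    (h₂ : W.toSubmodule ≤ (Cfsg.permSumZero K G α).toSubmodule) :
    W = Cfsg.permConstants K G α ∨ W = Cfsg.permSumZero K G α := by
  classical
  have hp := (Fact.out : p.Prime)
  obtain ⟨σ, ψ, hψ⟩ := exists_cycle_param hα G
  obtain ⟨r, hrp, hWr⟩ := map_eq_V G σ ψ hψ W
  have hC := map_constants (K := K) G ψ
  have hS := map_sumZero (K := K) G ψ
  have h1r : 1 ≤ r := V_le_imp p K hp.one_lt.le hrp
    (by rw [← hC, ← hWr]; exact Submodule.map_mono h₁)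
  have hrp1 : r ≤ p - 1 := V_le_imp p K hrp (Nat.sub_le _ _)
    (by rw [← hS, ← hWr]; exact Submodule.map_mono h₂)
  have hinj : Function.Injective (Submodule.map (Lmap K ψ).toLinearMap) :=
    Submodule.map_injective_of_injective (f := (Lmap K ψ).toLinearMap) (Lmap K ψ).injective
  rcases Nat.lt_or_ge 1 r with h2 | h2
  · rcases Nat.lt_or_ge r (p - 1) with h3 | h3
    · exfalso
      exact hG (solvable_of_middle G ψ W r h2 (by omega) hWr)
    · right
      apply Subrepresentation.toSubmodule_injective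
      apply hinj
      rw [hWr, hS]
      congr 1
      omega
  · left
    apply Subrepresentation.toSubmodule_injective
    apply hinj
    rw [hWr, hC]
    congr 1
    omega

theorem zmod2_cases : ∀ j : ZMod 2, j = 0 ∨ j = 1 := by decide

theorem solvable_of_le_three (hα : Fintype.card α = p) [MulAction.IsPretransitive G α]
    (hp3 : p ≤ 3) : Group.IsSolvable G := by
  classical
  have hp := (Fact.out : p.Prime)
  obtain ⟨σ, ψ, hψ⟩ := exists_cycle_param hα G
  rcases Nat.lt_or_ge p 3 with h | h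
  · -- p = 2
    have hp2 : p = 2 := by have := hp.two_le; omega
    apply solvable_of_affine G ψ
    intro g
    refine ⟨theta G ψ g 1 - theta G ψ g 0, theta G ψ g 0, ?_⟩
    have hall : ∀ j : ZMod p, j = 0 ∨ j = 1 := by
      subst hp2
      exact zmod2_cases
    intro j
    rcases hall j with rfl | rfl
    · show theta G ψ g 0 = _
      ring
    · show theta G ψ g 1 = _
      ring
  · -- p = 3
    have hp3' : p = 3 := by omega
    refine solvable_of_closed (K := ZMod p) G ψ 2 le_rfl (by omega) ?_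
    intro g
    have hS := map_sumZero (K := ZMod p) G ψ
    have h2 : p - 1 = 2 := by omega
    rw [h2] at hS
    exact closed_of_map_eq G ψ (Cfsg.permSumZero (ZMod p) G α) 2 hS g

theorem burnside (hα : Fintype.card α = p) [MulAction.IsPretransitive G α] :
    Group.IsSolvable G ∨ MulAction.IsMultiplyPretransitive G α 2 := by
  classical
  have hp := (Fact.out : p.Prime)
  by_cases hsol : Group.IsSolvable G
  · exact Or.inl hsol
  right
  have hp5 : 5 ≤ p := by
    by_contra hlt
    push Not at hlt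
    have hp4 : p ≠ 4 := by
      intro h4
      rw [h4] at hp
      exact absurd hp (by norm_num)
    exact hsol (solvable_of_le_three G hα (by omega))
  obtain ⟨σ, ψ, hψ⟩ := exists_cycle_param hα G
  have h2ne : (2 : ZMod p) ≠ 0 := by
    intro h
    have h' : ((2 : ℕ) : ZMod p) = 0 := by exact_mod_cast h
    have hdvd := (CharP.cast_eq_zero_iff (ZMod p) p 2).mp h'
    have := Nat.le_of_dvd (by norm_num) hdvd
    omega
  refine Cfsg.Agent.S0671.result (G := G) (K := ZMod p) (p := p) (f := 1) le_rfl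
    (by rw [hα, pow_one]) ?_
  intro W W' hCW hWW' hW'S
  have hW := heart_irreducible (K := ZMod p) G hα hsol W hCW (hWW'.le.trans hW'S)
  have hW' := heart_irreducible (K := ZMod p) G hα hsol W' (hCW.trans hWW'.le) hW'S
  have hWC : W = Cfsg.permConstants (ZMod p) G α := by
    rcases hW with h | h
    · exact h
    · exfalso
      rw [h] at hWW'
      exact lt_irrefl _ (lt_of_lt_of_le hWW' hW'S)
  have hW'S' : W' = Cfsg.permSumZero (ZMod p) G α := by
    rcases hW' with h | h
    · exfalso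
      rw [h] at hWW'
      exact lt_irrefl _ (lt_of_le_of_lt hCW hWW')
    · exact h
  refine ⟨σ, fun x => (ψ.symm x) ^ 2, ?_, ?_⟩
  · rw [hW'S']
    show ∑ x, (ψ.symm x) ^ 2 = 0
    have h1 : ∑ x, (ψ.symm x) ^ 2 = ∑ j : ZMod p, j ^ 2 :=
      Fintype.sum_equiv ψ.symm _ _ (fun x => rfl)
    rw [h1]
    exact FiniteField.sum_pow_lt_card_sub_one (K := ZMod p) 2 (by rw [ZMod.card]; omega)
  · rw [hWC]
    intro hmem
    have hmem' : (Cfsg.permRep (ZMod p) G α σ (fun x => (ψ.symm x) ^ 2) - fun x => (ψ.symm x) ^ 2) ∈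
        Submodule.span (ZMod p) {fun _ : α => (1 : ZMod p)} := hmem
    obtain ⟨c, hc⟩ := Submodule.mem_span_singleton.mp hmem'
    have e0 := congrFun hc (ψ 0)
    have e1 := congrFun hc (ψ 1)
    have f0 : c * 1 = (ψ.symm ((σ⁻¹ : G) • ψ 0)) ^ 2 - (ψ.symm (ψ 0)) ^ 2 := e0
    have f1 : c * 1 = (ψ.symm ((σ⁻¹ : G) • ψ 1)) ^ 2 - (ψ.symm (ψ 1)) ^ 2 := e1
    rw [inv_smul_psi G σ ψ hψ, Equiv.symm_apply_apply, Equiv.symm_apply_apply] at f0 f1
    have h3 : (2 : ZMod p) = 0 := by
      have h4 : ((0 : ZMod p) - 1) ^ 2 - 0 ^ 2 = ((1 : ZMod p) - 1) ^ 2 - 1 ^ 2 := by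
        rw [← f0, ← f1]
      have h5 : (2 : ZMod p) = ((0 : ZMod p) - 1) ^ 2 - 0 ^ 2 - (((1 : ZMod p) - 1) ^ 2 - 1 ^ 2) := by
        ring
      rw [h5, h4, sub_self]
    exact h2ne h3

end main

end Cfsg.Agent.Helper9PD
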