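import Mathlib
import Cfsg.Agent.Lib.Helper9_PrimeDeg
import Cfsg.Agent.S0672

set_option autoImplicit false

namespace Cfsg.Agent.Helper9PD3

open Polynomial Cfsg.Agent.Helper9PF Cfsg.Agent.Helper9PD

/-! ### Parametrization from a given element of order `p` -/

theorem cycle_param_of_order {α : Type*} [Fintype α] [DecidableEq α] {p : ℕ} [Fact p.Prime]
    (hα : Fintype.card α = p) (G : Subgroup (Equiv.Perm α)) (σ : G) (hσ : orderOf σ = p) :
    ∃ ψ : ZMod p ≃ α, ∀ j, ψ (j + 1) = (σ : Equiv.Perm α) (ψ j) := by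
  have hp := (Fact.out : p.Prime)
  obtain ⟨τ, hτ⟩ : ∃ τ : Equiv.Perm α, τ = (σ : Equiv.Perm α) := ⟨_, rfl⟩
  have hτord : orderOf τ = p := by rw [hτ, Subgroup.orderOf_coe, hσ]
  have hτp : τ ^ p = 1 := by rw [← hτord]; exact pow_orderOf_eq_one τ
  have hτne : τ ≠ 1 := by
    intro h
    rw [h, orderOf_one] at hτord
    exact hp.one_lt.ne hτord
  obtain ⟨x1, hx1⟩ : ∃ x, τ x ≠ x := by
    by_contra hall
    push Not at hall
    exact hτne (Equiv.Perm.ext hall)
  have hfix : ∀ n : ℕ, (τ ^ n) x1 = x1 → p ∣ n := by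
    intro n hn
    by_contra hndvd
    have hcop : Nat.Coprime n p := ((Nat.Prime.coprime_iff_not_dvd hp).mpr hndvd).symm
    obtain ⟨m, -, hm⟩ := Nat.exists_mul_mod_eq_one_of_coprime hcop hp.one_lt
    have h1 : (τ ^ (n * m)) x1 = x1 := by
      rw [pow_mul]; exact Equiv.Perm.pow_apply_eq_self_of_apply_eq_self hn m
    rw [pow_eq_pow_mod (n * m) hτp, hm, pow_one] at h1
    exact hx1 h1
  have hsucc : ∀ j : ZMod p, (τ ^ (j + 1).val) x1 = τ ((τ ^ j.val) x1) := by
    intro j
    rw [ZMod.val_add, ZMod.val_one, ← pow_eq_pow_mod _ hτp, pow_succ', Equiv.Perm.mul_apply]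
  have key : ∀ a b : ZMod p, a.val ≤ b.val → (τ ^ a.val) x1 = (τ ^ b.val) x1 → a = b := by
    intro a b hab h
    have h2 : (τ ^ (b.val - a.val)) x1 = x1 := by
      apply (τ ^ a.val).injective
      rw [← Equiv.Perm.mul_apply, ← pow_add, Nat.add_sub_cancel' hab]
      exact h.symm
    have h3 := hfix _ h2
    have hb : b.val < p := ZMod.val_lt b
    have h4 : b.val - a.val = 0 := Nat.eq_zero_of_dvd_of_lt h3 (by omega)
    exact ZMod.val_injective p (by omega)
  have hinj : Function.Injective (fun j : ZMod p => (τ ^ j.val) x1) := by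
    intro a b h
    rcases le_total a.val b.val with hab | hab
    · exact key a b hab h
    · exact (key b a hab h.symm).symm
  have hbij : Function.Bijective (fun j : ZMod p => (τ ^ j.val) x1) :=
    (Fintype.bijective_iff_injective_and_card _).mpr ⟨hinj, by rw [ZMod.card, hα]⟩
  refine ⟨Equiv.ofBijective _ hbij, fun j => ?_⟩
  rw [← hτ]
  exact hsucc j

theorem psi_add_nat {α : Type*} {p : ℕ} (G : Subgroup (Equiv.Perm α)) (σ : G) (ψ : ZMod p ≃ α)
    (hψ : ∀ j, ψ (j + 1) = (σ : Equiv.Perm α) (ψ j)) (n : ℕ) (j : ZMod p) :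
    ψ (j + n) = ((σ ^ n : G) : Equiv.Perm α) (ψ j) := by
  induction n with
  | zero => simp
  | succ n ih =>
    rw [Nat.cast_succ, ← add_assoc, hψ, ih, pow_succ', Subgroup.coe_mul, Equiv.Perm.mul_apply]

/-! ### The inverting involution -/

theorem exists_neg_involution {α : Type*} [Fintype α] [DecidableEq α] {p : ℕ} [Fact p.Prime]
    (hα : Fintype.card α = p) (G : Subgroup (Equiv.Perm α)) [MulAction.IsPretransitive G α]
    (hp2 : p ≠ 2) (P : Sylow p G)
    (heven : Even (Nat.card (Subgroup.normalizer ((P : Subgroup G) : Set G)))) :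
    ∃ (σ t : G) (ψ : ZMod p ≃ α), (∀ j, ψ (j + 1) = (σ : Equiv.Perm α) (ψ j)) ∧ t * t = 1 ∧
      ∀ j, ψ.symm ((t : Equiv.Perm α) (ψ j)) = -j := by
  classical
  have hp := (Fact.out : p.Prime)
  have hne : Nonempty α := by
    rw [← Fintype.card_pos_iff, hα]; exact hp.pos
  obtain ⟨x0⟩ := hne
  have hdvd : p ∣ Nat.card G := by
    have h1 : (MulAction.stabilizer G x0).index = Nat.card α :=
      MulAction.index_stabilizer_of_transitive G x0
    rw [Nat.card_eq_fintype_card, hα] at h1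
    rw [← h1]
    exact Subgroup.index_dvd_card _
  have hPne : (P : Subgroup G) ≠ ⊥ := P.ne_bot_of_dvd_card hdvd
  have hPcard : Nat.card (P : Subgroup G) = p := by
    obtain ⟨k, hk⟩ := IsPGroup.iff_card.mp P.isPGroup'
    have hk0 : k ≠ 0 := by
      rintro rfl
      rw [pow_zero] at hk
      exact hPne ((P : Subgroup G).eq_bot_of_card_eq hk)
    have hk2 : k < 2 := by
      by_contra hge
      push Not at hge
      have h0 : p ^ k ∣ Nat.card G := by
        rw [← hk]; exact Subgroup.card_subgroup_dvd_card (P : Subgroup G)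
      have h1 : p ^ 2 ∣ Nat.card G := (pow_dvd_pow p hge).trans h0
      have h2 : Nat.card G ∣ p.factorial := by
        have h3 := Subgroup.card_subgroup_dvd_card G
        rwa [Nat.card_eq_fintype_card (α := Equiv.Perm α), Fintype.card_perm, hα] at h3
      have h3 : p ^ 2 ∣ p.factorial := h1.trans h2
      rw [← Nat.mul_factorial_pred hp.ne_zero, pow_two] at h3
      have h4 : p ∣ (p - 1).factorial := Nat.dvd_of_mul_dvd_mul_left hp.pos h3
      have h5 := (Nat.Prime.dvd_factorial hp).mp h4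
      have := hp.pos
      omega
    have hk1 : k = 1 := by omega
    rw [hk, hk1, pow_one]
  obtain ⟨σP, hσP⟩ := Subgroup.ne_bot_iff_exists_ne_one.mp hPne
  have hσord : orderOf σP = p := by
    have h1 : orderOf σP ∣ p := by
      have h0 := orderOf_dvd_natCard σP
      rwa [hPcard] at h0
    rcases (Nat.dvd_prime hp).mp h1 with h | h
    · exact absurd (orderOf_eq_one_iff.mp h) hσP
    · exact h
  obtain ⟨σ, hσdef⟩ : ∃ σ : G, σ = (σP : G) := ⟨_, rfl⟩
  have hσG : orderOf σ = p := by rw [hσdef, Subgroup.orderOf_coe, hσord]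
  have hσp : σ ^ p = 1 := by rw [← hσG]; exact pow_orderOf_eq_one σ
  obtain ⟨ψ₀, hψ₀⟩ := cycle_param_of_order hα G σ hσG
  obtain ⟨tN, htN⟩ := exists_prime_orderOf_dvd_card' 2 heven.two_dvd
  obtain ⟨t, htdef⟩ : ∃ t : G, t = (tN : G) := ⟨_, rfl⟩
  have htord : orderOf t = 2 := by rw [htdef, Subgroup.orderOf_coe, htN]
  have htt : t * t = 1 := by rw [← pow_two, ← htord]; exact pow_orderOf_eq_one t
  have hconj : t * σ * t⁻¹ ∈ (P : Subgroup G) := by
    rw [htdef, hσdef]
    exact (Subgroup.mem_set_normalizer_iff.mp tN.2 (σP : G)).mp σP.2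
  obtain ⟨k, hk⟩ : ∃ k : ℕ, σ ^ k = t * σ * t⁻¹ := by
    have hz : (⟨t * σ * t⁻¹, hconj⟩ : (P : Subgroup G)) ∈ Submonoid.powers σP :=
      mem_powers_of_prime_card hPcard hσP
    obtain ⟨k, hk⟩ := (Submonoid.mem_powers_iff _ _).mp hz
    refine ⟨k, ?_⟩
    have h1 := congrArg Subtype.val hk
    have h2 : (σP : G) ^ k = t * σ * t⁻¹ := by simpa using h1
    rw [← hσdef] at h2
    exact h2
  have hθσk : ∀ (n : ℕ) (x : α), ψ₀.symm (((σ ^ n : G) : Equiv.Perm α) x) = ψ₀.symm x + n := by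
    intro n x
    have h1 := psi_add_nat G σ ψ₀ hψ₀ n (ψ₀.symm x)
    rw [Equiv.apply_symm_apply] at h1
    rw [← h1, Equiv.symm_apply_apply]
  have hstep : ∀ j, theta G ψ₀ t (j + 1) = theta G ψ₀ t j + k := by
    intro j
    show ψ₀.symm ((t : Equiv.Perm α) (ψ₀ (j + 1))) = ψ₀.symm ((t : Equiv.Perm α) (ψ₀ j)) + k
    rw [hψ₀ j, ← hθσk k]
    congr 1
    have h1 : t * σ = σ ^ k * t := by rw [hk]; group
    have h2 := congrArg (fun g : G => (g : Equiv.Perm α) (ψ₀ j)) h1
    simpa [Subgroup.coe_mul, Equiv.Perm.mul_apply] using h2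
  have hform : ∀ n : ℕ, theta G ψ₀ t (n : ZMod p) = (k : ZMod p) * n + theta G ψ₀ t 0 := by
    intro n
    induction n with
    | zero => simp
    | succ n ih => rw [Nat.cast_succ, hstep, ih]; ring
  have hform' : ∀ j : ZMod p, theta G ψ₀ t j = (k : ZMod p) * j + theta G ψ₀ t 0 := by
    intro j
    have h1 := hform j.val
    rwa [ZMod.natCast_zmod_val] at h1
  have hinv : ∀ j, theta G ψ₀ t (theta G ψ₀ t j) = j := by
    intro j
    rw [← theta_mul, htt]
    show ψ₀.symm (((1 : G) : Equiv.Perm α) (ψ₀ j)) = j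
    simp
  obtain ⟨b, hb⟩ : ∃ b : ZMod p, b = theta G ψ₀ t 0 := ⟨_, rfl⟩
  rw [← hb] at hform'
  have hk2 : (k : ZMod p) * (k : ZMod p) = 1 := by
    have h0 := hinv 0
    have h1 := hinv 1
    rw [hform' (theta G ψ₀ t 0), hform' 0] at h0
    rw [hform' (theta G ψ₀ t 1), hform' 1] at h1
    linear_combination h1 - h0
  have h2ne : (2 : ZMod p) ≠ 0 := by
    intro h
    have h' : ((2 : ℕ) : ZMod p) = 0 := by exact_mod_cast h
    have hd := (CharP.cast_eq_zero_iff (ZMod p) p 2).mp h'
    have h3 := (Nat.prime_dvd_prime_iff_eq hp Nat.prime_two).mp hd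
    exact hp2 h3
  rcases mul_self_eq_one_iff.mp hk2 with hk1 | hk1
  · -- translation: impossible
    exfalso
    have h1 : t = σ ^ b.val := by
      apply theta_inj G ψ₀
      intro j
      rw [hform' j, hk1, one_mul]
      show j + b = ψ₀.symm (((σ ^ b.val : G) : Equiv.Perm α) (ψ₀ j))
      rw [hθσk, Equiv.symm_apply_apply, ZMod.natCast_zmod_val]
    have h2 : t ^ p = 1 := by rw [h1, ← pow_mul, mul_comm, pow_mul, hσp, one_pow]
    have h3 : 2 ∣ p := htord ▸ orderOf_dvd_of_pow_eq_one h2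
    exact hp2 ((Nat.prime_dvd_prime_iff_eq Nat.prime_two hp).mp h3).symm
  · -- reflection: recentre
    obtain ⟨c, hc⟩ : ∃ c : ZMod p, c + c = b := by
      refine ⟨b * 2⁻¹, ?_⟩
      rw [← mul_two, mul_assoc, inv_mul_cancel₀ h2ne, mul_one]
    let ψ : ZMod p ≃ α :=
      { toFun := fun j => ψ₀ (j + c)
        invFun := fun x => ψ₀.symm x - c
        left_inv := fun j => by simp
        right_inv := fun x => by simp }
    refine ⟨σ, t, ψ, ?_, htt, ?_⟩
    · intro j
      show ψ₀ (j + 1 + c) = (σ : Equiv.Perm α) (ψ₀ (j + c))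
      rw [add_right_comm, hψ₀]
    · intro j
      show ψ₀.symm ((t : Equiv.Perm α) (ψ₀ (j + c))) - c = -j
      have h1 : ψ₀.symm ((t : Equiv.Perm α) (ψ₀ (j + c))) = (k : ZMod p) * (j + c) + b :=
        hform' (j + c)
      rw [h1, hk1, ← hc]
      ring

/-! ### The filtration step -/

section filtration
variable (p : ℕ) [Fact p.Prime] (K : Type*) [Field K] [CharP K p]

theorem mem_V_succ_iff (r : ℕ) (hr : r + 1 ≤ p) (f : ZMod p → K) :
    f ∈ V p K (r + 1) ↔ T p K f - f ∈ V p K r := by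
  constructor
  · intro hf
    obtain ⟨P, hP, rfl⟩ := (mem_V p K _ f).mp hf
    rw [← ev_Delta, mem_V]
    refine ⟨Delta P, ?_, rfl⟩
    by_cases hD0 : Delta P = 0
    · rw [hD0, degree_zero]; exact WithBot.bot_lt_coe _
    have hP0 : P ≠ 0 := by
      rintro rfl
      apply hD0
      unfold Delta
      simp
    have h1 : P.natDegree < r + 1 := (natDegree_lt_iff_degree_lt hP0).mpr hP
    by_cases h0 : P.natDegree = 0
    · exfalso
      apply hD0
      rw [eq_C_of_natDegree_eq_zero h0]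
      unfold Delta
      simp
    · obtain ⟨e, he⟩ := Nat.exists_eq_succ_of_ne_zero h0
      have h2 := natDegree_Delta_le P e he
      rw [← natDegree_lt_iff_degree_lt hD0]
      omega
  · intro hf
    obtain ⟨P, hP, rfl⟩ := exists_poly p K f
    rw [← ev_Delta] at hf
    obtain ⟨Q, hQ, hQev⟩ := (mem_V p K _ _).mp hf
    by_cases hP0 : P = 0
    · rw [hP0, map_zero]; exact Submodule.zero_mem _
    have hnd : P.natDegree < p := (natDegree_lt_iff_degree_lt hP0).mpr hP
    by_cases h0 : P.natDegree = 0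
    · refine (mem_V p K _ _).mpr ⟨P, ?_, rfl⟩
      rw [degree_eq_natDegree hP0, h0]
      exact_mod_cast Nat.succ_pos r
    · obtain ⟨e, he⟩ := Nat.exists_eq_succ_of_ne_zero h0
      obtain ⟨hc, hde⟩ := Delta_spec p K P e he (by omega)
      have hD0 : Delta P ≠ 0 := by
        intro h
        rw [h, coeff_zero] at hc
        exact hc rfl
      have hDp : (Delta P).degree < (p : WithBot ℕ) := by
        rw [degree_eq_natDegree hD0, hde]
        exact_mod_cast (by omega : e < p)
      have hQp : Q.degree < (p : WithBot ℕ) :=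
        lt_of_lt_of_le hQ (by exact_mod_cast (by omega : r ≤ p))
      have hQD : Q = Delta P := ev_inj p K Q (Delta P) hQp hDp hQev
      have h3 : (Delta P).natDegree < r := by
        rw [← hQD]
        exact (natDegree_lt_iff_degree_lt (by rw [hQD]; exact hD0)).mpr hQ
      refine (mem_V p K _ _).mpr ⟨P, ?_, rfl⟩
      rw [degree_eq_natDegree hP0, he]
      exact_mod_cast (by omega : e + 1 < r + 1)

theorem two_ne_zero_of_ne (hp2 : p ≠ 2) : (2 : K) ≠ 0 := by
  have hp := (Fact.out : p.Prime)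
  intro h
  have h' : ((2 : ℕ) : K) = 0 := by exact_mod_cast h
  have hd := (CharP.cast_eq_zero_iff K p 2).mp h'
  exact hp2 ((Nat.prime_dvd_prime_iff_eq hp Nat.prime_two).mp hd)

theorem parity_lemma (hp2 : p ≠ 2) (e : ℕ) (he : Even e) (hep : e + 1 ≤ p) (d : ZMod p)
    (h : ZMod p → K) (hh : h ∈ V p K (e + 1)) (hanti : ∀ i, h (-i - d) = - h i) :
    h ∈ V p K e := by
  obtain ⟨P, hP, rfl⟩ := (mem_V p K _ h).mp hh
  by_cases hP0 : P = 0
  · rw [hP0, map_zero]; exact Submodule.zero_mem _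
  have hnd : P.natDegree < e + 1 := (natDegree_lt_iff_degree_lt hP0).mpr hP
  by_cases hlt : P.natDegree < e
  · exact (mem_V p K _ _).mpr ⟨P, (natDegree_lt_iff_degree_lt hP0).mp hlt, rfl⟩
  exfalso
  have hde : P.natDegree = e := by omega
  obtain ⟨q, hq⟩ : ∃ q : K[X], q = C (-1) * X + C (-(iota p K d)) := ⟨_, rfl⟩
  have hm1 : (-1 : K) ≠ 0 := neg_ne_zero.mpr one_ne_zero
  have hq1 : q.natDegree = 1 := by rw [hq]; exact natDegree_linear hm1
  have hqlc : q.leadingCoeff = -1 := by rw [hq]; exact leadingCoeff_linear hm1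
  have hcomp_nd : (P.comp q).natDegree = e := by rw [natDegree_comp, hq1, mul_one, hde]
  have hcomp_lc : (P.comp q).leadingCoeff = P.leadingCoeff := by
    rw [leadingCoeff_comp (by rw [hq1]; exact one_ne_zero), hqlc, hde, he.neg_one_pow, mul_one]
  have hQ0 : P.comp q + P = 0 := by
    apply eq_zero_of_ev p K
    · refine lt_of_le_of_lt (degree_add_le _ _) (max_lt ?_ ?_)
      · refine lt_of_le_of_lt degree_le_natDegree ?_
        rw [hcomp_nd]
        exact_mod_cast (by omega : e < p)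
      · refine lt_of_le_of_lt degree_le_natDegree ?_
        rw [hde]
        exact_mod_cast (by omega : e < p)
    · funext i
      show (P.comp q + P).eval (iota p K i) = 0
      have h1 : q.eval (iota p K i) = iota p K (-i - d) := by
        rw [hq, eval_add, eval_mul, eval_C, eval_C, eval_X, map_sub, map_neg]
        ring
      have h2 : P.eval (iota p K (-i - d)) = - P.eval (iota p K i) := hanti i
      rw [eval_add, eval_comp, h1, h2, neg_add_cancel]
  have h1 : (P.comp q).coeff e = P.leadingCoeff := by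
    rw [← hcomp_lc, leadingCoeff, hcomp_nd]
  have h2 : P.coeff e = P.leadingCoeff := by rw [leadingCoeff, hde]
  have h3 : (P.comp q + P).coeff e = 0 := by rw [hQ0, coeff_zero]
  rw [coeff_add, h1, h2, ← two_mul] at h3
  have h4 : P.leadingCoeff = 0 := (mul_eq_zero.mp h3).resolve_left (two_ne_zero_of_ne p K hp2)
  exact hP0 (leadingCoeff_eq_zero.mp h4)

theorem X_pow_not_mem (n : ℕ) (hn : n < p) : ev p K (X ^ n) ∉ V p K n := by
  intro hmem
  obtain ⟨R, hR, hRev⟩ := (mem_V p K _ _).mp hmem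
  have hRp : R.degree < (p : WithBot ℕ) := lt_of_lt_of_le hR (by exact_mod_cast hn.le)
  have hXp : (X ^ n : K[X]).degree < (p : WithBot ℕ) := by
    rw [degree_X_pow]; exact_mod_cast hn
  have hEq : R = X ^ n := ev_inj p K R (X ^ n) hRp hXp hRev
  rw [hEq, degree_X_pow] at hR
  exact lt_irrefl _ hR

end filtration

/-! ### Pairs -/

section pairs
variable {α : Type*} [DecidableEq α] {p : ℕ}

open Cfsg.Agent.S0672 (mkPair mem_mkPair)
open scoped Pointwise

theorem mkPair_congr {b c b' c' : α} (h : b ≠ c) (h' : b' ≠ c') (hb : b = b') (hc : c = c') :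
    mkPair b c h = mkPair b' c' h' := by
  subst hb; subst hc; rfl

theorem mkPair_comm {b c : α} (h : b ≠ c) : mkPair b c h = mkPair c b h.symm := by
  apply Subtype.ext
  show ({b, c} : Finset α) = {c, b}
  exact Finset.pair_comm b c

theorem smul_mkPair {G' : Type*} [Group G'] [MulAction G' α] (g : G') {b c : α} (h : b ≠ c) :
    g • mkPair b c h = mkPair (g • b) (g • c) (fun h' => h (MulAction.injective g h')) := by
  apply Subtype.ext
  rw [Set.powersetCard.coe_smul]
  show g • ({b, c} : Finset α) = {g • b, g • c}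
  rw [Finset.smul_finset_insert, Finset.smul_finset_singleton]

/-- the pair `{ψ i, ψ (i + d)}` -/
def pr (ψ : ZMod p ≃ α) (d : ZMod p) (hd : d ≠ 0) (i : ZMod p) : Set.powersetCard α 2 :=
  mkPair (ψ i) (ψ (i + d)) (fun h => hd (by have h1 := ψ.injective h; simpa using h1))

theorem exists_pr (ψ : ZMod p ≃ α) (s : Set.powersetCard α 2) :
    ∃ (d : ZMod p) (hd : d ≠ 0) (i : ZMod p), s = pr ψ d hd i := by
  obtain ⟨x, y, hxy, hs⟩ := Finset.card_eq_two.mp (Set.powersetCard.card_eq s)
  have hd : ψ.symm y - ψ.symm x ≠ 0 := by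
    intro h
    apply hxy
    have h1 := sub_eq_zero.mp h
    exact (ψ.symm.injective h1).symm
  refine ⟨ψ.symm y - ψ.symm x, hd, ψ.symm x, ?_⟩
  apply Subtype.ext
  show (s : Finset α) = {ψ (ψ.symm x), ψ (ψ.symm x + (ψ.symm y - ψ.symm x))}
  rw [hs, Equiv.apply_symm_apply, add_sub_cancel, Equiv.apply_symm_apply]

end pairs

/-! ### The intertwiner argument -/

section main

/-- the action on pairs induced from the action on points -/
@[reducible] def pairAction {α : Type*} [DecidableEq α] (G : Subgroup (Equiv.Perm α)) :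
    MulAction G (Set.powersetCard α 2) :=
  @Set.powersetCard.instMulActionElemFinset (↥G) _ α _ 2 _

attribute [local instance 10000] pairAction

variable {α : Type*} [Fintype α] [DecidableEq α] {p : ℕ} [Fact p.Prime]
  (G : Subgroup (Equiv.Perm α)) {K : Type*} [Field K] [CharP K p]
  (σ t : G) (ψ : ZMod p ≃ α)

theorem sigma_inv_pr (hψ : ∀ j, ψ (j + 1) = (σ : Equiv.Perm α) (ψ j)) (d : ZMod p) (hd : d ≠ 0)
    (i : ZMod p) : (σ⁻¹ : G) • pr ψ d hd i = pr ψ d hd (i - 1) := by
  unfold pr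
  rw [smul_mkPair]
  apply mkPair_congr
  · exact inv_smul_psi G σ ψ hψ i
  · rw [inv_smul_psi G σ ψ hψ (i + d)]; congr 1; ring

theorem t_smul_psi (htt : t * t = 1) (hθ : ∀ j, ψ.symm ((t : Equiv.Perm α) (ψ j)) = -j)
    (j : ZMod p) : (t⁻¹ : G) • ψ j = ψ (-j) := by
  have hti : t⁻¹ = t := inv_eq_of_mul_eq_one_right htt
  rw [hti]
  show (t : Equiv.Perm α) (ψ j) = ψ (-j)
  rw [← hθ j, Equiv.apply_symm_apply]

theorem t_inv_pr (htt : t * t = 1) (hθ : ∀ j, ψ.symm ((t : Equiv.Perm α) (ψ j)) = -j)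
    (d : ZMod p) (hd : d ≠ 0) (i : ZMod p) :
    (t⁻¹ : G) • pr ψ d hd i = pr ψ d hd (-i - d) := by
  unfold pr
  rw [smul_mkPair, mkPair_comm]
  apply mkPair_congr
  · rw [t_smul_psi G t ψ htt hθ]; congr 1; ring
  · rw [t_smul_psi G t ψ htt hθ]; congr 1; ring

/-- the `d`-th component of the image -/
noncomputable def Hd (f : Representation.IntertwiningMap (Cfsg.permSumZero K G α).toRepresentation
      (Cfsg.permRep K G (Set.powersetCard α 2)))
    (d : ZMod p) (hd : d ≠ 0) (v : (Cfsg.permSumZero K G α).toSubmodule) : ZMod p → K :=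
  fun i => f v (pr ψ d hd i)

theorem Hd_sigma (hψ : ∀ j, ψ (j + 1) = (σ : Equiv.Perm α) (ψ j))
    (f : Representation.IntertwiningMap (Cfsg.permSumZero K G α).toRepresentation
      (Cfsg.permRep K G (Set.powersetCard α 2)))
    (d : ZMod p) (hd : d ≠ 0) (v : (Cfsg.permSumZero K G α).toSubmodule) :
    Hd G ψ f d hd ((Cfsg.permSumZero K G α).toRepresentation σ v - v) =
      T p K (Hd G ψ f d hd v) - Hd G ψ f d hd v := by
  funext i
  show f ((Cfsg.permSumZero K G α).toRepresentation σ v - v) (pr ψ d hd i) =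
    f v (pr ψ d hd (i - 1)) - f v (pr ψ d hd i)
  rw [map_sub, f.isIntertwining, Pi.sub_apply, ← sigma_inv_pr G σ ψ hψ d hd i]
  rfl

theorem Hd_t (htt : t * t = 1) (hθ : ∀ j, ψ.symm ((t : Equiv.Perm α) (ψ j)) = -j)
    (f : Representation.IntertwiningMap (Cfsg.permSumZero K G α).toRepresentation
      (Cfsg.permRep K G (Set.powersetCard α 2)))
    (d : ZMod p) (hd : d ≠ 0) (v : (Cfsg.permSumZero K G α).toSubmodule) (i : ZMod p) :
    Hd G ψ f d hd ((Cfsg.permSumZero K G α).toRepresentation t v) i =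
      Hd G ψ f d hd v (-i - d) := by
  show f ((Cfsg.permSumZero K G α).toRepresentation t v) (pr ψ d hd i) =
    f v (pr ψ d hd (-i - d))
  rw [f.isIntertwining, ← t_inv_pr G t ψ htt hθ d hd i]
  rfl

theorem L_sigma (hψ : ∀ j, ψ (j + 1) = (σ : Equiv.Perm α) (ψ j))
    (v : (Cfsg.permSumZero K G α).toSubmodule) :
    Lmap K ψ (((Cfsg.permSumZero K G α).toRepresentation σ v :
      (Cfsg.permSumZero K G α).toSubmodule) : α → K) = T p K (Lmap K ψ (v : α → K)) := by
  funext j
  show (v : α → K) ((σ⁻¹ : G) • ψ j) = (v : α → K) (ψ (j - 1))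
  rw [inv_smul_psi G σ ψ hψ j]

theorem L_sigma_sub (hψ : ∀ j, ψ (j + 1) = (σ : Equiv.Perm α) (ψ j))
    (v : (Cfsg.permSumZero K G α).toSubmodule) :
    Lmap K ψ ((((Cfsg.permSumZero K G α).toRepresentation σ v - v :
      (Cfsg.permSumZero K G α).toSubmodule)) : α → K) =
      T p K (Lmap K ψ (v : α → K)) - Lmap K ψ (v : α → K) := by
  rw [← L_sigma G σ ψ hψ v, ← map_sub]
  rfl

theorem claimA (hψ : ∀ j, ψ (j + 1) = (σ : Equiv.Perm α) (ψ j))
    (f : Representation.IntertwiningMap (Cfsg.permSumZero K G α).toRepresentation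
      (Cfsg.permRep K G (Set.powersetCard α 2)))
    (hf : ∀ v : (Cfsg.permSumZero K G α).toSubmodule,
      (v : α → K) ∈ (Cfsg.permConstants K G α).toSubmodule → f v = 0) :
    ∀ r, r + 1 ≤ p - 1 → ∀ v : (Cfsg.permSumZero K G α).toSubmodule,
      Lmap K ψ (v : α → K) ∈ V p K (r + 1) → ∀ (d : ZMod p) (hd : d ≠ 0),
      Hd G ψ f d hd v ∈ V p K r := by
  intro r
  induction r with
  | zero =>
    intro _ v hv d hd
    have hvC : (v : α → K) ∈ (Cfsg.permConstants K G α).toSubmodule := by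
      rw [← map_constants (K := K) G ψ] at hv
      obtain ⟨w, hw, hwv⟩ := Submodule.mem_map.mp hv
      have h1 : w = (v : α → K) := (Lmap K ψ).injective hwv
      rwa [← h1]
    have h0 : f v = 0 := hf v hvC
    have h1 : Hd G ψ f d hd v = 0 := by
      funext i
      show f v (pr ψ d hd i) = 0
      rw [h0]; rfl
    rw [h1]; exact Submodule.zero_mem _
  | succ r ih =>
    intro hr v hv d hd
    have hv' : Lmap K ψ ((((Cfsg.permSumZero K G α).toRepresentation σ v - v :
        (Cfsg.permSumZero K G α).toSubmodule)) : α → K) ∈ V p K (r + 1) := by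
      rw [L_sigma_sub G σ ψ hψ v]
      exact (mem_V_succ_iff p K (r + 1) (by omega) _).mp hv
    have h2 := ih (by omega) _ hv' d hd
    rw [Hd_sigma G σ ψ hψ f d hd v] at h2
    exact (mem_V_succ_iff p K r (by omega) _).mpr h2

theorem claimB (hψ : ∀ j, ψ (j + 1) = (σ : Equiv.Perm α) (ψ j))
    (f : Representation.IntertwiningMap (Cfsg.permSumZero K G α).toRepresentation
      (Cfsg.permRep K G (Set.powersetCard α 2)))
    (hker : ∀ v : (Cfsg.permSumZero K G α).toSubmodule, f v = 0 →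
      Lmap K ψ (v : α → K) ∈ V p K 1) :
    ∀ r, r + 1 ≤ p → ∀ v : (Cfsg.permSumZero K G α).toSubmodule,
      (∀ (d : ZMod p) (hd : d ≠ 0), Hd G ψ f d hd v ∈ V p K r) →
      Lmap K ψ (v : α → K) ∈ V p K (r + 1) := by
  intro r
  induction r with
  | zero =>
    intro _ v hv
    apply hker
    funext s
    obtain ⟨d, hd, i, rfl⟩ := exists_pr ψ s
    have h1 := hv d hd
    rw [V_zero, Submodule.mem_bot] at h1
    exact congrFun h1 i
  | succ r ih =>
    intro hr v hv
    have h1 : ∀ (d : ZMod p) (hd : d ≠ 0),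
        Hd G ψ f d hd ((Cfsg.permSumZero K G α).toRepresentation σ v - v) ∈ V p K r := by
      intro d hd
      rw [Hd_sigma G σ ψ hψ f d hd v]
      exact (mem_V_succ_iff p K r (by omega) _).mp (hv d hd)
    have h2 := ih (by omega) _ h1
    rw [L_sigma_sub G σ ψ hψ v] at h2
    exact (mem_V_succ_iff p K (r + 1) hr _).mpr h2

theorem intertwiner_zero (hα : Fintype.card α = p) [MulAction.IsPretransitive G α]
    (hG : ¬ Group.IsSolvable G)
    (hψ : ∀ j, ψ (j + 1) = (σ : Equiv.Perm α) (ψ j))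
    (htt : t * t = 1) (hθ : ∀ j, ψ.symm ((t : Equiv.Perm α) (ψ j)) = -j)
    (f : Representation.IntertwiningMap (Cfsg.permSumZero K G α).toRepresentation
      (Cfsg.permRep K G (Set.powersetCard α 2)))
    (hf : ∀ v : (Cfsg.permSumZero K G α).toSubmodule,
      (v : α → K) ∈ (Cfsg.permConstants K G α).toSubmodule → f v = 0) : f = 0 := by
  classical
  have hp := (Fact.out : p.Prime)
  have hp5 : 5 ≤ p := by
    by_contra hlt
    push Not at hlt
    have hp4 : p ≠ 4 := by
      intro h4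
      rw [h4] at hp
      exact absurd hp (by norm_num)
    exact hG (solvable_of_le_three G hα (by omega))
  have hp2 : p ≠ 2 := by omega
  have hodd : Odd p := hp.eq_two_or_odd'.resolve_left hp2
  obtain ⟨k, hk⟩ := hodd
  have hodd2 : Odd (p - 2) := ⟨k - 1, by omega⟩
  have heven3 : Even (p - 3) := ⟨k - 1, by omega⟩
  have hCS : (Cfsg.permConstants K G α).toSubmodule ≤ (Cfsg.permSumZero K G α).toSubmodule := by
    intro u hu
    have hu' : u ∈ Submodule.span K {fun _ : α => (1 : K)} := hu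
    obtain ⟨c, rfl⟩ := Submodule.mem_span_singleton.mp hu'
    show ∑ x, (c • fun _ : α => (1 : K)) x = 0
    simp only [Pi.smul_apply, smul_eq_mul, mul_one, Finset.sum_const, Finset.card_univ, hα,
      nsmul_eq_mul, CharP.cast_eq_zero, zero_mul]
  have hnotker : ¬ ∀ v : (Cfsg.permSumZero K G α).toSubmodule, f v = 0 →
      Lmap K ψ (v : α → K) ∈ V p K 1 := by
    intro hker
    have hg0 : ev p K (X ^ (p - 2)) ∈ V p K (p - 1) :=
      (mem_V p K _ _).mpr ⟨X ^ (p - 2), by
        rw [degree_X_pow]; exact_mod_cast (by omega : p - 2 < p - 1), rfl⟩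
    have hg0' := hg0
    rw [← map_sumZero (K := K) G ψ] at hg0'
    obtain ⟨w, hwS, hLw⟩ := Submodule.mem_map.mp hg0'
    have hLw' : Lmap K ψ w = ev p K (X ^ (p - 2)) := hLw
    have hwval : ∀ j, w (ψ j) = (iota p K j) ^ (p - 2) := by
      intro j
      have h1 := congrFun hLw' j
      rw [ev_apply, eval_pow, eval_X] at h1
      exact h1
    have hA : ∀ (d : ZMod p) (hd : d ≠ 0),
        Hd G ψ f d hd (⟨w, hwS⟩ : (Cfsg.permSumZero K G α).toSubmodule) ∈ V p K (p - 2) := by
      intro d hd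
      refine claimA G σ ψ hψ f hf (p - 2) (by omega) ⟨w, hwS⟩ ?_ d hd
      show Lmap K ψ w ∈ V p K (p - 2 + 1)
      rw [hLw', show p - 2 + 1 = p - 1 from by omega]
      exact hg0
    have hneg : (Cfsg.permSumZero K G α).toRepresentation t
        (⟨w, hwS⟩ : (Cfsg.permSumZero K G α).toSubmodule) = -⟨w, hwS⟩ := by
      apply Subtype.ext
      funext x
      show w ((t⁻¹ : G) • x) = - w x
      obtain ⟨j, rfl⟩ := ψ.surjective x
      rw [t_smul_psi G t ψ htt hθ, hwval, hwval, map_neg, Odd.neg_pow hodd2]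
    have hB3 : ∀ (d : ZMod p) (hd : d ≠ 0),
        Hd G ψ f d hd (⟨w, hwS⟩ : (Cfsg.permSumZero K G α).toSubmodule) ∈ V p K (p - 3) := by
      intro d hd
      apply parity_lemma p K hp2 (p - 3) heven3 (by omega) d
      · have h1 := hA d hd
        rwa [show p - 2 = p - 3 + 1 from by omega] at h1
      · intro i
        rw [← Hd_t G t ψ htt hθ f d hd ⟨w, hwS⟩ i, hneg]
        show f (-⟨w, hwS⟩) (pr ψ d hd i) = - f ⟨w, hwS⟩ (pr ψ d hd i)
        rw [map_neg]; rfl
    have hB := claimB G σ ψ hψ f hker (p - 3) (by omega) ⟨w, hwS⟩ hB3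
    have h5 : Lmap K ψ w ∈ V p K (p - 3 + 1) := hB
    rw [hLw', show p - 3 + 1 = p - 2 from by omega] at h5
    exact X_pow_not_mem p K (p - 2) (by omega) h5
  push Not at hnotker
  obtain ⟨v₁, hv₁0, hv₁⟩ := hnotker
  let W : Subrepresentation (Cfsg.permRep K G α) :=
    { toSubmodule := (LinearMap.ker f.toLinearMap).map
        (Cfsg.permSumZero K G α).toSubmodule.subtype
      apply_mem_toSubmodule := by
        intro g u hu
        obtain ⟨v, hv, rfl⟩ := Submodule.mem_map.mp hu
        refine Submodule.mem_map.mpr ⟨(Cfsg.permSumZero K G α).toRepresentation g v, ?_, rfl⟩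
        have hv' : f v = 0 := hv
        show f ((Cfsg.permSumZero K G α).toRepresentation g v) = 0
        rw [f.isIntertwining, hv', map_zero] }
  have hWmem : ∀ u : α → K, u ∈ W.toSubmodule ↔
      ∃ v : (Cfsg.permSumZero K G α).toSubmodule, f v = 0 ∧ (v : α → K) = u := by
    intro u
    constructor
    · intro hu
      obtain ⟨v, hv, rfl⟩ := Submodule.mem_map.mp hu
      exact ⟨v, hv, rfl⟩
    · rintro ⟨v, hv, rfl⟩
      exact Submodule.mem_map.mpr ⟨v, hv, rfl⟩
  have hCW : (Cfsg.permConstants K G α).toSubmodule ≤ W.toSubmodule := by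
    intro u hu
    exact (hWmem u).mpr ⟨⟨u, hCS hu⟩, hf ⟨u, hCS hu⟩ hu, rfl⟩
  have hWS : W.toSubmodule ≤ (Cfsg.permSumZero K G α).toSubmodule := by
    intro u hu
    obtain ⟨v, -, rfl⟩ := (hWmem u).mp hu
    exact v.2
  rcases heart_irreducible G hα hG W hCW hWS with hW | hW
  · exfalso
    apply hv₁
    have h1 : (v₁ : α → K) ∈ W.toSubmodule := (hWmem _).mpr ⟨v₁, hv₁0, rfl⟩
    rw [hW] at h1
    rw [← map_constants (K := K) G ψ]
    exact Submodule.mem_map.mpr ⟨_, h1, rfl⟩
  · apply DFunLike.ext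
    intro v
    have h1 : (v : α → K) ∈ W.toSubmodule := by rw [hW]; exact v.2
    obtain ⟨v', hv', hvv'⟩ := (hWmem _).mp h1
    have h2 : v' = v := Subtype.ext hvv'
    rw [← h2]
    exact hv'

end main

end Cfsg.Agent.Helper9PD3
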