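import Mathlib
import Cfsg.Agent.Lib.Helper9_PrimeDeg3

set_option autoImplicit false

namespace Cfsg.Agent.Helper9PD4

open Polynomial Cfsg.Agent.Helper9PF Cfsg.Agent.Helper9PD Cfsg.Agent.Helper9PD3

/-! ### Affine or doubly transitive -/

section dichotomy
variable {α : Type*} [Fintype α] [DecidableEq α] {p : ℕ} [Fact p.Prime]
  (G : Subgroup (Equiv.Perm α))

/-- all elements act affinely in the coordinates `ψ` -/
def IsAffine (ψ : ZMod p ≃ α) : Prop :=
  ∀ g : G, ∃ a b : ZMod p, ∀ j, ψ.symm ((g : Equiv.Perm α) (ψ j)) = a * j + b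

theorem affine_of_closed {K : Type*} [Field K] [CharP K p] (ψ : ZMod p ≃ α) (r : ℕ) (hr2 : 2 ≤ r)
    (hrp : 2 * r ≤ p + 1)
    (hcl : ∀ g : G, ∀ f ∈ V p K r, (fun j => f (ψ.symm ((g : Equiv.Perm α) (ψ j)))) ∈ V p K r) :
    IsAffine G ψ := by
  intro g
  have hinj : Function.Injective (fun j => ψ.symm ((g : Equiv.Perm α) (ψ j))) :=
    ψ.symm.injective.comp ((g : Equiv.Perm α).injective.comp ψ.injective)
  exact deg_lemma p K _ hinj r hr2 hrp (hcl g)

theorem affine_of_middle {K : Type*} [Field K] [CharP K p] (ψ : ZMod p ≃ α)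
    (W : Subrepresentation (Cfsg.permRep K G α)) (t : ℕ)
    (ht2 : 2 ≤ t) (htp : t + 2 ≤ p)
    (hW : W.toSubmodule.map (Lmap K ψ).toLinearMap = V p K t) : IsAffine G ψ := by
  by_cases hcase : 2 * t ≤ p + 1
  · exact affine_of_closed (K := K) G ψ t ht2 hcase (fun g => closed_of_map_eq G ψ W t hW g)
  · refine affine_of_closed (K := K) G ψ (p - t) (by omega) (by omega) ?_
    intro g f hf
    rw [mem_V_compl p K t (by omega)] at hf ⊢
    intro h hh
    have hh' := closed_of_map_eq G ψ W t hW g⁻¹ h hh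
    have h1 := hf _ hh'
    rw [← h1]
    refine Fintype.sum_equiv (ψ.trans ((g : Equiv.Perm α).trans ψ.symm)) _ _ (fun j => ?_)
    show f (ψ.symm ((g : Equiv.Perm α) (ψ j))) * h j =
      f (ψ.symm ((g : Equiv.Perm α) (ψ j))) *
        h (ψ.symm (((g⁻¹ : G) : Equiv.Perm α) (ψ (ψ.symm ((g : Equiv.Perm α) (ψ j))))))
    rw [Equiv.apply_symm_apply, InvMemClass.coe_inv, Equiv.Perm.inv_def, Equiv.symm_apply_apply,
      Equiv.symm_apply_apply]

theorem affine_of_le_three (hp3 : p ≤ 3) (ψ : ZMod p ≃ α) : IsAffine G ψ := by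
  classical
  have hp := (Fact.out : p.Prime)
  rcases Nat.lt_or_ge p 3 with h | h
  · have hp2 : p = 2 := by have := hp.two_le; omega
    intro g
    refine ⟨theta G ψ g 1 - theta G ψ g 0, theta G ψ g 0, ?_⟩
    have hall : ∀ j : ZMod p, j = 0 ∨ j = 1 := by
      subst hp2
      exact zmod2_cases
    intro j
    rcases hall j with rfl | rfl
    · show theta G ψ g 0 = _
      ring
    · show theta G ψ g 1 = _
      ring
  · have hp3' : p = 3 := by omega
    refine affine_of_closed (K := ZMod p) G ψ 2 le_rfl (by omega) ?_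
    intro g
    have hS := map_sumZero (K := ZMod p) G ψ
    have h2 : p - 1 = 2 := by omega
    rw [h2] at hS
    exact closed_of_map_eq G ψ (Cfsg.permSumZero (ZMod p) G α) 2 hS g

theorem affine_or_irreducible {K : Type*} [Field K] [CharP K p] (σ : G) (ψ : ZMod p ≃ α)
    (hψ : ∀ j, ψ (j + 1) = (σ : Equiv.Perm α) (ψ j)) :
    IsAffine G ψ ∨ ∀ W : Subrepresentation (Cfsg.permRep K G α),
      (Cfsg.permConstants K G α).toSubmodule ≤ W.toSubmodule →
      W.toSubmodule ≤ (Cfsg.permSumZero K G α).toSubmodule →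
      W = Cfsg.permConstants K G α ∨ W = Cfsg.permSumZero K G α := by
  classical
  by_cases haff : IsAffine G ψ
  · exact Or.inl haff
  right
  intro W h₁ h₂
  have hp := (Fact.out : p.Prime)
  obtain ⟨r, hrp, hWr⟩ := map_eq_V G σ ψ hψ W
  have hC := map_constants (K := K) G ψ
  have hS := map_sumZero (K := K) G ψ
  have h1r : 1 ≤ r := V_le_imp p K hp.one_lt.le hrp
    (by rw [← hC, ← hWr]; exact Submodule.map_mono h₁)
  have hrp1 : r ≤ p - 1 := V_le_imp p K hrp (Nat.sub_le _ _)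
    (by rw [← hS, ← hWr]; exact Submodule.map_mono h₂)
  have hinj : Function.Injective (Submodule.map (Lmap K ψ).toLinearMap) :=
    Submodule.map_injective_of_injective (f := (Lmap K ψ).toLinearMap) (Lmap K ψ).injective
  rcases Nat.lt_or_ge 1 r with h2 | h2
  · rcases Nat.lt_or_ge r (p - 1) with h3 | h3
    · exfalso
      exact haff (affine_of_middle G ψ W r h2 (by omega) hWr)
    · right
      apply Subrepresentation.toSubmodule_injective
      apply hinj
      rw [hWr, hS]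
      congr 1
      omega
  · left
    apply Subrepresentation.toSubmodule_injective
    apply hinj
    rw [hWr, hC]
    congr 1
    omega

theorem two_trans_of_irreducible (hα : Fintype.card α = p) [MulAction.IsPretransitive G α]
    (hp5 : 5 ≤ p) (σ : G) (ψ : ZMod p ≃ α)
    (hψ : ∀ j, ψ (j + 1) = (σ : Equiv.Perm α) (ψ j))
    (hirr : ∀ W : Subrepresentation (Cfsg.permRep (ZMod p) G α),
      (Cfsg.permConstants (ZMod p) G α).toSubmodule ≤ W.toSubmodule →
      W.toSubmodule ≤ (Cfsg.permSumZero (ZMod p) G α).toSubmodule →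
      W = Cfsg.permConstants (ZMod p) G α ∨ W = Cfsg.permSumZero (ZMod p) G α) :
    MulAction.IsMultiplyPretransitive G α 2 := by
  classical
  have hp := (Fact.out : p.Prime)
  have h2ne : (2 : ZMod p) ≠ 0 := by
    intro h
    have h' : ((2 : ℕ) : ZMod p) = 0 := by exact_mod_cast h
    have hdvd := (CharP.cast_eq_zero_iff (ZMod p) p 2).mp h'
    have := Nat.le_of_dvd (by norm_num) hdvd
    omega
  refine Cfsg.Agent.S0671.result (G := G) (K := ZMod p) (p := p) (f := 1) le_rfl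
    (by rw [hα, pow_one]) ?_
  intro W W' hCW hWW' hW'S
  have hW := hirr W hCW (hWW'.le.trans hW'S)
  have hW' := hirr W' (hCW.trans hWW'.le) hW'S
  have hWC : W = Cfsg.permConstants (ZMod p) G α := by
    rcases hW with h | h
    · exact h
    · exfalso
      rw [h] at hWW'
      exact lt_irrefl _ (lt_of_lt_of_le hWW' hW'S)
  have hW'S' : W' = Cfsg.permSumZero (ZMod p) G α := by
    rcases hW' with h | h
    · exfalso
      rw [h] at hWW'
      exact lt_irrefl _ (lt_of_le_of_lt hCW hWW')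
    · exact h
  refine ⟨σ, fun x => (ψ.symm x) ^ 2, ?_, ?_⟩
  · rw [hW'S']
    show ∑ x, (ψ.symm x) ^ 2 = 0
    have h1 : ∑ x, (ψ.symm x) ^ 2 = ∑ j : ZMod p, j ^ 2 :=
      Fintype.sum_equiv ψ.symm _ _ (fun x => rfl)
    rw [h1]
    exact FiniteField.sum_pow_lt_card_sub_one (K := ZMod p) 2 (by rw [ZMod.card]; omega)
  · rw [hWC]
    intro hmem
    have hmem' : (Cfsg.permRep (ZMod p) G α σ (fun x => (ψ.symm x) ^ 2) - fun x => (ψ.symm x) ^ 2) ∈
        Submodule.span (ZMod p) {fun _ : α => (1 : ZMod p)} := hmem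
    obtain ⟨c, hc⟩ := Submodule.mem_span_singleton.mp hmem'
    have e0 := congrFun hc (ψ 0)
    have e1 := congrFun hc (ψ 1)
    have f0 : c * 1 = (ψ.symm ((σ⁻¹ : G) • ψ 0)) ^ 2 - (ψ.symm (ψ 0)) ^ 2 := e0
    have f1 : c * 1 = (ψ.symm ((σ⁻¹ : G) • ψ 1)) ^ 2 - (ψ.symm (ψ 1)) ^ 2 := e1
    rw [inv_smul_psi G σ ψ hψ, Equiv.symm_apply_apply, Equiv.symm_apply_apply] at f0 f1
    have h3 : (2 : ZMod p) = 0 := by
      have h4 : ((0 : ZMod p) - 1) ^ 2 - 0 ^ 2 = ((1 : ZMod p) - 1) ^ 2 - 1 ^ 2 := by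
        rw [← f0, ← f1]
      have h5 : (2 : ZMod p) = ((0 : ZMod p) - 1) ^ 2 - 0 ^ 2 - (((1 : ZMod p) - 1) ^ 2 - 1 ^ 2) := by
        ring
      rw [h5, h4, sub_self]
    exact h2ne h3

theorem affine_or_two_trans (hα : Fintype.card α = p) [MulAction.IsPretransitive G α]
    (σ : G) (ψ : ZMod p ≃ α) (hψ : ∀ j, ψ (j + 1) = (σ : Equiv.Perm α) (ψ j)) :
    IsAffine G ψ ∨ (5 ≤ p ∧ MulAction.IsMultiplyPretransitive G α 2) := by
  have hp := (Fact.out : p.Prime)
  by_cases hp5 : 5 ≤ p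
  · rcases affine_or_irreducible (K := ZMod p) G σ ψ hψ with h | h
    · exact Or.inl h
    · exact Or.inr ⟨hp5, two_trans_of_irreducible G hα hp5 σ ψ hψ h⟩
  · left
    have hp4 : p ≠ 4 := by
      intro h4
      rw [h4] at hp
      exact absurd hp (by norm_num)
    exact affine_of_le_three G (by omega) ψ

end dichotomy

/-! ### Basic facts on `theta` -/

section thetafacts
variable {α : Type*} {p : ℕ} [Fact p.Prime] (G : Subgroup (Equiv.Perm α)) (ψ : ZMod p ≃ α)

theorem theta_one (j : ZMod p) : theta G ψ (1 : G) j = j := by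
  show ψ.symm (((1 : G) : Equiv.Perm α) (ψ j)) = j
  rw [Subgroup.coe_one, Equiv.Perm.one_apply, Equiv.symm_apply_apply]

theorem theta_inv (g : G) (j : ZMod p) : theta G ψ g⁻¹ (theta G ψ g j) = j := by
  rw [← theta_mul, inv_mul_cancel, theta_one]

theorem theta_inv' (g : G) (j : ZMod p) : theta G ψ g (theta G ψ g⁻¹ j) = j := by
  rw [← theta_mul, mul_inv_cancel, theta_one]

theorem theta_sigma_pow (σ : G) (hψ : ∀ j, ψ (j + 1) = (σ : Equiv.Perm α) (ψ j)) (n : ℕ)
    (j : ZMod p) : theta G ψ (σ ^ n) j = j + n := by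
  show ψ.symm (((σ ^ n : G) : Equiv.Perm α) (ψ j)) = j + n
  rw [← psi_add_nat G σ ψ hψ n j, Equiv.symm_apply_apply]

theorem theta_sigma_pow_inv (σ : G) (hψ : ∀ j, ψ (j + 1) = (σ : Equiv.Perm α) (ψ j)) (n : ℕ)
    (j : ZMod p) : theta G ψ (σ ^ n)⁻¹ j = j - n := by
  have h1 := theta_inv G ψ (σ ^ n) (j - n)
  rw [theta_sigma_pow G ψ σ hψ, sub_add_cancel] at h1
  exact h1

theorem theta_pow_translation (k : G) (e : ZMod p) (hk : ∀ j, theta G ψ k j = j + e) (n : ℕ)
    (j : ZMod p) : theta G ψ (k ^ n) j = j + n * e := by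
  induction n generalizing j with
  | zero => rw [pow_zero, theta_one]; simp
  | succ n ih =>
    rw [pow_succ, theta_mul, hk, ih, Nat.cast_succ]
    ring

theorem translation_trivial [Finite G] (H : Subgroup G) (hcop : (Nat.card H).Coprime p) (k : G)
    (hkH : k ∈ H) (e : ZMod p) (hk : ∀ j, theta G ψ k j = j + e) : e = 0 := by
  have hp := (Fact.out : p.Prime)
  by_contra he
  have hkp : k ^ p = 1 := by
    apply theta_inj G ψ
    intro j
    rw [theta_pow_translation G ψ k e hk, theta_one, CharP.cast_eq_zero, zero_mul, add_zero]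
  have hk1 : k ≠ 1 := by
    intro h
    have h0 := hk 0
    rw [h, theta_one, zero_add] at h0
    exact he h0.symm
  have hord : orderOf k = p := orderOf_eq_prime hkp hk1
  have hdvd : p ∣ Nat.card H := by
    have h1 : orderOf (⟨k, hkH⟩ : H) = p := by
      rw [← hord]; exact (Subgroup.orderOf_coe (⟨k, hkH⟩ : H)).symm
    rw [← h1]
    exact orderOf_dvd_natCard _
  have h1 := Nat.Coprime.eq_one_of_dvd hcop.symm hdvd
  exact hp.one_lt.ne' h1

/-- slope of an affine element -/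
def slope (g : G) : ZMod p := theta G ψ g 1 - theta G ψ g 0

theorem theta_form (haff : ∀ g : G, ∃ a b : ZMod p, ∀ j, ψ.symm ((g : Equiv.Perm α) (ψ j)) = a * j + b)
    (g : G) (j : ZMod p) : theta G ψ g j = slope G ψ g * j + theta G ψ g 0 := by
  obtain ⟨a, b, hab⟩ := haff g
  have h0 : theta G ψ g 0 = a * 0 + b := hab 0
  have h1 : theta G ψ g 1 = a * 1 + b := hab 1
  have hj : theta G ψ g j = a * j + b := hab j
  unfold slope
  rw [hj, h0, h1]; ring

theorem slope_mul (haff : ∀ g : G, ∃ a b : ZMod p, ∀ j, ψ.symm ((g : Equiv.Perm α) (ψ j)) = a * j + b)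
    (g k : G) : slope G ψ (g * k) = slope G ψ g * slope G ψ k := by
  unfold slope
  rw [theta_mul G ψ g k 1, theta_mul G ψ g k 0, theta_form G ψ haff g (theta G ψ k 1),
    theta_form G ψ haff g (theta G ψ k 0)]
  unfold slope
  ring

theorem slope_one : slope G ψ (1 : G) = 1 := by
  unfold slope
  rw [theta_one, theta_one, sub_zero]

theorem fixed_point_of_affine [Finite G]
    (haff : ∀ g : G, ∃ a b : ZMod p, ∀ j, ψ.symm ((g : Equiv.Perm α) (ψ j)) = a * j + b)
    (H : Subgroup G) (hcop : (Nat.card H).Coprime p) :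
    ∃ j : ZMod p, ∀ h ∈ H, theta G ψ h j = j := by
  classical
  by_cases htriv : ∀ h ∈ H, ∀ j, theta G ψ h j = j
  · exact ⟨0, fun h hh => htriv h hh 0⟩
  push Not at htriv
  obtain ⟨h₁, hh₁, j₁, hj₁⟩ := htriv
  have hs1 : slope G ψ h₁ ≠ 1 := by
    intro hs
    have htr : ∀ j, theta G ψ h₁ j = j + theta G ψ h₁ 0 := by
      intro j
      rw [theta_form G ψ haff h₁ j, hs, one_mul]
    have he := translation_trivial G ψ H hcop h₁ hh₁ _ htr
    apply hj₁
    rw [htr j₁, he, add_zero]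
  have hden : 1 - slope G ψ h₁ ≠ 0 := sub_ne_zero.mpr (Ne.symm hs1)
  refine ⟨theta G ψ h₁ 0 / (1 - slope G ψ h₁), ?_⟩
  have hfix1 : theta G ψ h₁ (theta G ψ h₁ 0 / (1 - slope G ψ h₁)) =
      theta G ψ h₁ 0 / (1 - slope G ψ h₁) := by
    rw [theta_form G ψ haff h₁ (theta G ψ h₁ 0 / (1 - slope G ψ h₁))]
    field_simp
    ring
  have huniq : ∀ x, theta G ψ h₁ x = x → x = theta G ψ h₁ 0 / (1 - slope G ψ h₁) := by
    intro x hx
    rw [theta_form G ψ haff h₁ x] at hx
    rw [eq_div_iff hden]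
    linear_combination -hx
  intro h hh
  apply huniq
  -- commutation
  have hcomm : h * h₁ = h₁ * h := by
    have hc : h * h₁ * (h₁ * h)⁻¹ = 1 := by
      apply theta_inj G ψ
      intro j
      have hsl : slope G ψ (h * h₁ * (h₁ * h)⁻¹) = 1 := by
        have h1 : slope G ψ ((h₁ * h)⁻¹) * slope G ψ (h₁ * h) = 1 := by
          rw [← slope_mul G ψ haff, inv_mul_cancel, slope_one]
        rw [slope_mul G ψ haff, slope_mul G ψ haff h h₁]
        rw [slope_mul G ψ haff h₁ h] at h1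
        linear_combination h1
      have htr : ∀ j, theta G ψ (h * h₁ * (h₁ * h)⁻¹) j =
          j + theta G ψ (h * h₁ * (h₁ * h)⁻¹) 0 := by
        intro j
        rw [theta_form G ψ haff _ j, hsl, one_mul]
      have hmem : h * h₁ * (h₁ * h)⁻¹ ∈ H :=
        mul_mem (mul_mem hh hh₁) (inv_mem (mul_mem hh₁ hh))
      have he := translation_trivial G ψ H hcop _ hmem _ htr
      rw [htr j, he, add_zero, theta_one]
    exact mul_inv_eq_one.mp hc
  rw [← theta_mul, ← hcomm, theta_mul, hfix1]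

end thetafacts

/-! ### The doubly transitive case -/

section twotrans
variable {α : Type*} [Fintype α] [DecidableEq α] {p : ℕ} [Fact p.Prime]
  (G : Subgroup (Equiv.Perm α))

theorem card_coprime_of_index (hα : Fintype.card α = p) (H : Subgroup G) (hH : H.index = p) :
    (Nat.card H).Coprime p := by
  have hp := (Fact.out : p.Prime)
  rw [Nat.coprime_comm, Nat.Prime.coprime_iff_not_dvd hp]
  intro hdvd
  have h1 : Nat.card H * p = Nat.card G := by rw [← hH]; exact Subgroup.card_mul_index H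
  have h2 : p ^ 2 ∣ Nat.card G := by
    rw [← h1, pow_two]; exact Nat.mul_dvd_mul_right hdvd p
  have h3 : Nat.card G ∣ p.factorial := by
    have h3 := Subgroup.card_subgroup_dvd_card G
    rwa [Nat.card_eq_fintype_card (α := Equiv.Perm α), Fintype.card_perm, hα] at h3
  have h4 : p ^ 2 ∣ p.factorial := h2.trans h3
  rw [← Nat.mul_factorial_pred hp.ne_zero, pow_two] at h4
  have h5 : p ∣ (p - 1).factorial := Nat.dvd_of_mul_dvd_mul_left hp.pos h4
  have h6 := (Nat.Prime.dvd_factorial hp).mp h5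
  have := hp.pos
  omega

theorem prod_bijective (hα : Fintype.card α = p) (σ : G) (ψ : ZMod p ≃ α)
    (hψ : ∀ j, ψ (j + 1) = (σ : Equiv.Perm α) (ψ j)) (H : Subgroup G) (hH : H.index = p) :
    Function.Bijective (fun q : ZMod p × H => σ ^ (q.1.val) * (q.2 : G)) := by
  have hcop := card_coprime_of_index G hα H hH
  rw [Nat.bijective_iff_injective_and_card]
  constructor
  · rintro ⟨a, h⟩ ⟨b, h'⟩ heq
    have heq' : σ ^ a.val * (h : G) = σ ^ b.val * (h' : G) := heq
    have hk : (σ ^ b.val)⁻¹ * σ ^ a.val = (h' : G) * (h : G)⁻¹ := by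
      calc (σ ^ b.val)⁻¹ * σ ^ a.val
          = (σ ^ b.val)⁻¹ * (σ ^ a.val * (h : G)) * (h : G)⁻¹ := by group
        _ = (σ ^ b.val)⁻¹ * (σ ^ b.val * (h' : G)) * (h : G)⁻¹ := by rw [heq']
        _ = (h' : G) * (h : G)⁻¹ := by group
    have hkH : (σ ^ b.val)⁻¹ * σ ^ a.val ∈ H := by
      rw [hk]; exact mul_mem h'.2 (inv_mem h.2)
    have htr : ∀ j, theta G ψ ((σ ^ b.val)⁻¹ * σ ^ a.val) j = j + (a - b) := by
      intro j
      rw [theta_mul, theta_sigma_pow G ψ σ hψ, theta_sigma_pow_inv G ψ σ hψ,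
        ZMod.natCast_zmod_val, ZMod.natCast_zmod_val]
      ring
    have he := translation_trivial G ψ H hcop _ hkH _ htr
    have hab : a = b := sub_eq_zero.mp he
    subst hab
    have h3 : (h : G) = (h' : G) := mul_left_cancel heq'
    exact Prod.ext rfl (Subtype.ext h3)
  · have h1 := Subgroup.card_mul_index H
    rw [hH] at h1
    rw [Nat.card_prod, Nat.card_zmod, mul_comm]
    exact h1

theorem fixed_point_of_two_trans (hα : Fintype.card α = p) [MulAction.IsPretransitive G α]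
    (h2 : MulAction.IsMultiplyPretransitive G α 2) (hp2 : p ≠ 2)
    (σ t : G) (ψ : ZMod p ≃ α) (hψ : ∀ j, ψ (j + 1) = (σ : Equiv.Perm α) (ψ j))
    (hθ : ∀ j, ψ.symm ((t : Equiv.Perm α) (ψ j)) = -j)
    (H : Subgroup G) (hH : H.index = p) (htH : t ∈ H) : ∀ h ∈ H, theta G ψ h 0 = 0 := by
  classical
  have hp := (Fact.out : p.Prime)
  have hcop := card_coprime_of_index G hα H hH
  have hbij := prod_bijective G hα σ ψ hψ H hH
  have h2ne : (2 : ZMod p) ≠ 0 := by
    intro h
    have h' : ((2 : ℕ) : ZMod p) = 0 := by exact_mod_cast h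
    have hd := (CharP.cast_eq_zero_iff (ZMod p) p 2).mp h'
    exact hp2 ((Nat.prime_dvd_prime_iff_eq hp Nat.prime_two).mp hd)
  obtain ⟨D, hDdef⟩ : ∃ D : Set (ZMod p), D = {j | ∃ h ∈ H, theta G ψ h 0 = j} := ⟨_, rfl⟩
  have hmemD : ∀ j, j ∈ D ↔ ∃ h ∈ H, theta G ψ h 0 = j := by
    intro j; rw [hDdef]; rfl
  have hD0 : (0 : ZMod p) ∈ D := (hmemD 0).mpr ⟨1, one_mem H, theta_one G ψ 0⟩
  have hDinv : ∀ h ∈ H, ∀ j, theta G ψ h j ∈ D ↔ j ∈ D := by
    intro h hh j
    rw [hmemD, hmemD]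
    constructor
    · rintro ⟨h', hh', e⟩
      refine ⟨h⁻¹ * h', mul_mem (inv_mem hh) hh', ?_⟩
      rw [theta_mul, e, theta_inv]
    · rintro ⟨h', hh', e⟩
      exact ⟨h * h', mul_mem hh hh', by rw [theta_mul, e]⟩
  have hDneg : ∀ j, -j ∈ D ↔ j ∈ D := by
    intro j
    have h1 := hDinv t htH j
    rwa [show theta G ψ t j = -j from hθ j] at h1
  obtain ⟨M, hMdef⟩ : ∃ M : ZMod p → ZMod p → ℕ,
      M = fun x y => Nat.card {j : ZMod p // x - j ∈ D ∧ y - j ∈ D} := ⟨_, rfl⟩
  have hF : ∀ x y : ZMod p,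
      Nat.card {g : G // theta G ψ g⁻¹ x ∈ D ∧ theta G ψ g⁻¹ y ∈ D} = M x y * Nat.card H := by
    intro x y
    have h1 : Nat.card {g : G // theta G ψ g⁻¹ x ∈ D ∧ theta G ψ g⁻¹ y ∈ D} =
        Nat.card {q : ZMod p × H // x - q.1 ∈ D ∧ y - q.1 ∈ D} := by
      refine (Nat.card_congr (Equiv.subtypeEquiv (Equiv.ofBijective _ hbij) ?_)).symm
      rintro ⟨j, h⟩
      show (x - j ∈ D ∧ y - j ∈ D) ↔ (theta G ψ (σ ^ j.val * (h : G))⁻¹ x ∈ D ∧
        theta G ψ (σ ^ j.val * (h : G))⁻¹ y ∈ D)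
      have key : ∀ z, theta G ψ (σ ^ j.val * (h : G))⁻¹ z ∈ D ↔ z - j ∈ D := by
        intro z
        rw [mul_inv_rev, theta_mul, theta_sigma_pow_inv G ψ σ hψ, ZMod.natCast_zmod_val]
        exact hDinv _ (inv_mem h.2) _
      rw [key, key]
    rw [h1, Nat.card_congr (Equiv.prodSubtypeFstEquivSubtypeProd
      (p := fun j : ZMod p => x - j ∈ D ∧ y - j ∈ D)), Nat.card_prod, hMdef]
  have hMinv : ∀ (k : G) (x y : ZMod p), M (theta G ψ k x) (theta G ψ k y) = M x y := by
    intro k x y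
    have h3 : Nat.card {g : G // theta G ψ g⁻¹ (theta G ψ k x) ∈ D ∧
          theta G ψ g⁻¹ (theta G ψ k y) ∈ D} =
        Nat.card {g : G // theta G ψ g⁻¹ x ∈ D ∧ theta G ψ g⁻¹ y ∈ D} := by
      refine Nat.card_congr (Equiv.subtypeEquiv (Equiv.mulLeft k⁻¹) ?_)
      intro g
      show _ ↔ (theta G ψ (k⁻¹ * g)⁻¹ x ∈ D ∧ theta G ψ (k⁻¹ * g)⁻¹ y ∈ D)
      rw [mul_inv_rev, inv_inv, theta_mul, theta_mul]
    have h4 := hF (theta G ψ k x) (theta G ψ k y)
    rw [h3, hF x y] at h4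
    exact (Nat.eq_of_mul_eq_mul_right Nat.card_pos h4).symm
  have hconst : ∀ d d' : ZMod p, d ≠ 0 → d' ≠ 0 → M d 0 = M d' 0 := by
    intro d d' hd hd'
    have h2' : ∀ a b c e : α, a ≠ b → c ≠ e → ∃ g : G, g • a = c ∧ g • b = e :=
      fun a b c e h h' => MulAction.is_two_pretransitive_iff.mp h2 h h'
    obtain ⟨k, hk1, hk2⟩ := h2' (ψ d) (ψ 0) (ψ d') (ψ 0)
      (fun h => hd (ψ.injective h)) (fun h => hd' (ψ.injective h))
    have e1 : theta G ψ k d = d' := by
      show ψ.symm ((k : Equiv.Perm α) (ψ d)) = d'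
      rw [show (k : Equiv.Perm α) (ψ d) = ψ d' from hk1, Equiv.symm_apply_apply]
    have e2 : theta G ψ k 0 = 0 := by
      show ψ.symm ((k : Equiv.Perm α) (ψ 0)) = 0
      rw [show (k : Equiv.Perm α) (ψ 0) = ψ 0 from hk2, Equiv.symm_apply_apply]
    have h3 := hMinv k d 0
    rw [e1, e2] at h3
    exact h3.symm
  have hpar : ∀ d : ZMod p, d ≠ 0 → (Even (M d 0) ↔ d * 2⁻¹ ∉ D) := by
    intro d hd
    obtain ⟨c, hc⟩ : ∃ c : ZMod p, c = d * 2⁻¹ := ⟨_, rfl⟩
    rw [← hc]
    have hcc : c + c = d := by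
      rw [hc, ← mul_two, mul_assoc, inv_mul_cancel₀ h2ne, mul_one]
    obtain ⟨S, hSdef⟩ : ∃ S : Finset (ZMod p),
        S = Finset.univ.filter (fun j => d - j ∈ D ∧ 0 - j ∈ D) := ⟨_, rfl⟩
    have hMS : M d 0 = S.card := by
      rw [hMdef, hSdef]
      show Nat.card {j : ZMod p // d - j ∈ D ∧ 0 - j ∈ D} = _
      rw [Nat.card_eq_fintype_card, Fintype.card_subtype]
    have hmemS : ∀ j, j ∈ S ↔ (d - j ∈ D ∧ -j ∈ D) := by
      intro j
      rw [hSdef, Finset.mem_filter, zero_sub]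
      simp only [Finset.mem_univ, true_and]
    have hdc : d - c = c := by rw [← hcc]; ring
    have hcS : c ∈ S ↔ c ∈ D := by
      rw [hmemS, hdc, hDneg]
      exact and_self_iff
    have hEven : Even (S.erase c).card := by
      have hsum : ∑ j ∈ S.erase c, (1 : ZMod 2) = 0 := by
        refine Finset.sum_involution (fun j _ => d - j) ?_ ?_ ?_ ?_
        · intro j _
          exact (by decide : (1 : ZMod 2) + 1 = 0)
        · intro j hj _ hfix
          have hj' := (Finset.mem_erase.mp hj).1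
          apply hj'
          have h3 : (2 : ZMod p) * (j - c) = 0 := by linear_combination -hfix - hcc
          exact sub_eq_zero.mp ((mul_eq_zero.mp h3).resolve_left h2ne)
        · intro j hj
          obtain ⟨hjc, hjS⟩ := Finset.mem_erase.mp hj
          rw [hmemS] at hjS
          refine Finset.mem_erase.mpr ⟨?_, (hmemS _).mpr ⟨?_, ?_⟩⟩
          · intro h
            apply hjc
            linear_combination hdc - h
          · have h3 : d - (d - j) = j := by ring
            rw [h3]; exact (hDneg j).mp hjS.2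
          · exact (hDneg _).mpr hjS.1
        · intro j _
          ring
      have h3 : ((S.erase c).card : ZMod 2) = 0 := by
        rw [← hsum]; simp
      exact ZMod.natCast_eq_zero_iff_even.mp h3
    by_cases hcD : c ∈ D
    · have hcS' := hcS.mpr hcD
      have h3 : S.card = (S.erase c).card + 1 := (Finset.card_erase_add_one hcS').symm
      rw [hMS, h3]
      constructor
      · intro hev
        exact absurd hEven (Nat.even_add_one.mp hev)
      · intro h
        exact absurd hcD h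
    · have h3 : S.erase c = S := Finset.erase_eq_of_notMem (fun h => hcD (hcS.mp h))
      rw [hMS, ← h3]
      exact ⟨fun _ => hcD, fun _ => hEven⟩
  have hsame : ∀ c c' : ZMod p, c ≠ 0 → c' ≠ 0 → (c ∈ D ↔ c' ∈ D) := by
    intro c c' hc hc'
    have hd : c * 2 ≠ 0 := mul_ne_zero hc h2ne
    have hd' : c' * 2 ≠ 0 := mul_ne_zero hc' h2ne
    have e := hconst _ _ hd hd'
    have p1 := hpar _ hd
    have p2 := hpar _ hd'
    rw [mul_assoc, mul_inv_cancel₀ h2ne, mul_one] at p1 p2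
    rw [e] at p1
    exact not_iff_not.mp (p1.symm.trans p2)
  intro h hh
  by_contra hne
  have hmem : theta G ψ h 0 ∈ D := (hmemD _).mpr ⟨h, hh, rfl⟩
  have hall : ∀ j : ZMod p, j ∈ D := by
    intro j
    by_cases hj : j = 0
    · rw [hj]; exact hD0
    · exact (hsame _ _ hne hj).mp hmem
  have horb : MulAction.orbit H (ψ 0) = Set.univ := by
    ext x
    simp only [Set.mem_univ, iff_true]
    obtain ⟨h', hh', e⟩ := (hmemD _).mp (hall (ψ.symm x))
    refine ⟨⟨h', hh'⟩, ?_⟩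
    show (h' : Equiv.Perm α) (ψ 0) = x
    have h3 : ψ.symm ((h' : Equiv.Perm α) (ψ 0)) = ψ.symm x := e
    exact ψ.symm.injective h3
  have hdvd : p ∣ Nat.card H := by
    have h1 := MulAction.index_stabilizer H (ψ 0)
    rw [horb, Set.ncard_univ, Nat.card_eq_fintype_card, hα] at h1
    rw [← h1]
    exact Subgroup.index_dvd_card _
  exact hp.one_lt.ne' (Nat.Coprime.eq_one_of_dvd hcop.symm hdvd)

theorem index_p_eq_stabilizer (hα : Fintype.card α = p) [MulAction.IsPretransitive G α]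
    (P : Sylow p G)
    (heven : Even (Nat.card (Subgroup.normalizer ((P : Subgroup G) : Set G))))
    (H : Subgroup G) (hH : H.index = p) : ∃ a : α, H = MulAction.stabilizer G a := by
  classical
  have hp := (Fact.out : p.Prime)
  have hcop := card_coprime_of_index G hα H hH
  have hfin : ∀ a : α, (∀ h ∈ H, (h : G) • a = a) → H = MulAction.stabilizer G a := by
    intro a ha
    have hle : H ≤ MulAction.stabilizer G a :=
      fun h hh => MulAction.mem_stabilizer_iff.mpr (ha h hh)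
    have hidx : (MulAction.stabilizer G a).index = p := by
      rw [MulAction.index_stabilizer_of_transitive G a, Nat.card_eq_fintype_card, hα]
    have h1 := Subgroup.relIndex_mul_index hle
    rw [hidx, hH] at h1
    have h2 : H.relIndex (MulAction.stabilizer G a) = 1 :=
      Nat.eq_of_mul_eq_mul_right hp.pos (by rw [h1, one_mul])
    exact le_antisymm hle (Subgroup.relIndex_eq_one.mp h2)
  obtain ⟨σ₀, ψ₀, hψ₀⟩ := exists_cycle_param hα G
  rcases affine_or_two_trans G hα σ₀ ψ₀ hψ₀ with haff | ⟨hp5, h2⟩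
  · obtain ⟨j, hj⟩ := fixed_point_of_affine G ψ₀ haff H hcop
    refine ⟨ψ₀ j, hfin _ (fun h hh => ?_)⟩
    have h1 : ψ₀.symm ((h : Equiv.Perm α) (ψ₀ j)) = j := hj h hh
    have h3 := congrArg ψ₀ h1
    rw [Equiv.apply_symm_apply] at h3
    exact h3
  · have hp2 : p ≠ 2 := by omega
    have h2ne : (2 : ZMod p) ≠ 0 := by
      intro h
      have h' : ((2 : ℕ) : ZMod p) = 0 := by exact_mod_cast h
      have hd := (CharP.cast_eq_zero_iff (ZMod p) p 2).mp h'
      exact hp2 ((Nat.prime_dvd_prime_iff_eq hp Nat.prime_two).mp hd)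
    obtain ⟨σ, t₀, ψ₁, hψ₁, htt₀, hθ₀⟩ := exists_neg_involution hα G hp2 P heven
    obtain ⟨⟨n, y⟩, hny⟩ := (prod_bijective G hα σ ψ₁ hψ₁ H hH).2 t₀
    have hny' : σ ^ n.val * (y : G) = t₀ := hny
    have hy : (y : G) = (σ ^ n.val)⁻¹ * t₀ := by rw [← hny']; group
    have hθy : ∀ j, ψ₁.symm (((y : G) : Equiv.Perm α) (ψ₁ j)) = -j - n := by
      intro j
      have h1 : theta G ψ₁ (y : G) j = -j - n := by
        rw [hy, theta_mul, theta_sigma_pow_inv G ψ₁ σ hψ₁, ZMod.natCast_zmod_val]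
        show ψ₁.symm ((t₀ : Equiv.Perm α) (ψ₁ j)) - n = -j - n
        rw [hθ₀]
      exact h1
    obtain ⟨c, hc⟩ : ∃ c : ZMod p, c + c = -n :=
      ⟨-n * 2⁻¹, by rw [← mul_two, mul_assoc, inv_mul_cancel₀ h2ne, mul_one]⟩
    let ψ : ZMod p ≃ α :=
      { toFun := fun j => ψ₁ (j + c)
        invFun := fun x => ψ₁.symm x - c
        left_inv := fun j => by simp
        right_inv := fun x => by simp }
    have hψ : ∀ j, ψ (j + 1) = (σ : Equiv.Perm α) (ψ j) := by
      intro j
      show ψ₁ (j + 1 + c) = (σ : Equiv.Perm α) (ψ₁ (j + c))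
      rw [add_right_comm, hψ₁]
    have hθ : ∀ j, ψ.symm (((y : G) : Equiv.Perm α) (ψ j)) = -j := by
      intro j
      show ψ₁.symm (((y : G) : Equiv.Perm α) (ψ₁ (j + c))) - c = -j
      rw [hθy (j + c)]
      linear_combination -hc
    have h0 := fixed_point_of_two_trans G hα h2 hp2 σ (y : G) ψ hψ hθ H hH y.2
    refine ⟨ψ 0, hfin _ (fun h hh => ?_)⟩
    have h1 : ψ.symm ((h : Equiv.Perm α) (ψ 0)) = 0 := h0 h hh
    have h3 := congrArg ψ h1
    rw [Equiv.apply_symm_apply] at h3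
    exact h3

end twotrans

end Cfsg.Agent.Helper9PD4
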