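import Mathlib
import Cfsg.Agent.Lib.Helper9_PrimeDeg4
import Cfsg.Agent.Lib.Helper5_Jordan

set_option autoImplicit false

namespace Cfsg.Agent.Lib.Helper9_M11
namespace Helper9M

open Cfsg.Agent.Helper9PD Cfsg.Agent.Helper9PD3 Cfsg.Agent.Helper9PD4
open Cfsg.Agent.Lib.Helper5_Jordan

section norm
variable {α : Type*} [Fintype α] [DecidableEq α]

theorem normalizer_card_le {p : ℕ} [Fact p.Prime] (hα : Fintype.card α = p)
    (G : Subgroup (Equiv.Perm α)) (σ : G) (hσ : orderOf σ = p) :
    Nat.card (Subgroup.normalizer ((Subgroup.zpowers σ : Subgroup G) : Set G)) ≤ p * p := by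
  haveI : NeZero p := ⟨(Fact.out : p.Prime).ne_zero⟩
  obtain ⟨ψ, hψ⟩ := cycle_param_of_order hα G σ hσ
  have hσ1 : ∀ j, theta G ψ σ j = j + 1 := by
    intro j
    have := theta_sigma_pow G ψ σ hψ 1 j
    simpa using this
  have haff : ∀ g : Subgroup.normalizer ((Subgroup.zpowers σ : Subgroup G) : Set G),
      ∀ j : ZMod p, theta G ψ (g : G) j =
        theta G ψ (g : G) 0 + (theta G ψ (g : G) 1 - theta G ψ (g : G) 0) * j := by
    intro g
    have hmem : (g : G) * σ * (g : G)⁻¹ ∈ Subgroup.zpowers σ :=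
      (Subgroup.mem_set_normalizer_iff.1 g.2 σ).1 (Subgroup.mem_zpowers σ)
    obtain ⟨n, hn⟩ := (Submonoid.mem_powers_iff _ _).1 (mem_powers_iff_mem_zpowers.2 hmem)
    have hstep : ∀ j, theta G ψ (g : G) (j + 1) = theta G ψ (g : G) j + n := by
      intro j
      have e : (g : G) * σ = σ ^ n * (g : G) := by rw [hn]; group
      calc theta G ψ (g : G) (j + 1) = theta G ψ (g : G) (theta G ψ σ j) := by rw [hσ1]
        _ = theta G ψ ((g : G) * σ) j := (theta_mul G ψ _ _ j).symm
        _ = theta G ψ (σ ^ n * (g : G)) j := by rw [e]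
        _ = theta G ψ (σ ^ n) (theta G ψ (g : G) j) := theta_mul G ψ _ _ j
        _ = theta G ψ (g : G) j + n := theta_sigma_pow G ψ σ hψ n _
    have hnat : ∀ m : ℕ, theta G ψ (g : G) (m : ZMod p) = theta G ψ (g : G) 0 + n * m := by
      intro m
      induction m with
      | zero => simp
      | succ m ih => rw [Nat.cast_succ, hstep, ih]; ring
    have h1 : theta G ψ (g : G) 1 - theta G ψ (g : G) 0 = n := by
      have := hnat 1
      rw [Nat.cast_one, mul_one] at this
      rw [this]; ring
    intro j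
    have := hnat j.val
    rw [ZMod.natCast_zmod_val] at this
    rw [this, h1]
  have hinj : Function.Injective
      (fun g : Subgroup.normalizer ((Subgroup.zpowers σ : Subgroup G) : Set G) =>
        ((theta G ψ (g : G) 0, theta G ψ (g : G) 1) : ZMod p × ZMod p)) := by
    intro g h hgh
    simp only [Prod.mk.injEq] at hgh
    apply Subtype.ext
    apply theta_inj G ψ
    intro j
    rw [haff g j, haff h j, hgh.1, hgh.2]
  have := Nat.card_le_card_of_injective _ hinj
  rwa [Nat.card_prod, Nat.card_zmod] at this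

theorem fact11 : (7920 : ℕ).factorization 11 = 1 := by
  rw [show (7920 : ℕ) = 11 * 720 by norm_num, Nat.factorization_mul (by norm_num) (by norm_num),
    Finsupp.add_apply, Nat.Prime.factorization_self (by norm_num),
    Nat.factorization_eq_zero_of_not_dvd (by norm_num)]

theorem normalizer_card_55 (hα : Fintype.card α = 11) (G : Subgroup (Equiv.Perm α))
    (hG : Nat.card G = 7920) (τ : G) (hτ : orderOf τ = 11) :
    Nat.card (Subgroup.normalizer ((Subgroup.zpowers τ : Subgroup G) : Set G)) = 55 := by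
  haveI : Fact (Nat.Prime 11) := ⟨by norm_num⟩
  have hle := normalizer_card_le (p := 11) hα G τ hτ
  have hf : (Nat.card G).factorization 11 = 1 := by rw [hG]; exact fact11
  have hcardZ : Nat.card (Subgroup.zpowers τ) = 11 := by rw [Nat.card_zpowers, hτ]
  obtain ⟨P, hP⟩ : ∃ P : Sylow 11 G, (P : Subgroup G) = Subgroup.zpowers τ :=
    ⟨Sylow.ofCard (Subgroup.zpowers τ) (by rw [hcardZ, hf, pow_one]), Sylow.coe_ofCard _ _⟩
  have hmod := card_sylow_modEq_one 11 G
  have hidx := Sylow.card_eq_index_normalizer P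
  have hset : (P : Set G) = ((Subgroup.zpowers τ : Subgroup G) : Set G) := by
    rw [← hP]; rfl
  rw [hset] at hidx
  have hmul := (Subgroup.normalizer ((Subgroup.zpowers τ : Subgroup G) : Set G)).index_mul_card
  have h11 : 11 ∣ Nat.card (Subgroup.normalizer ((Subgroup.zpowers τ : Subgroup G) : Set G)) := by
    have := Subgroup.card_dvd_of_le (Subgroup.le_normalizer (H := Subgroup.zpowers τ))
    rwa [hcardZ] at this
  rw [← hidx, hG] at hmul
  unfold Nat.ModEq at hmod
  obtain ⟨m, hm⟩ := h11
  rw [hm] at hmul hle ⊢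
  have hm11 : m ≤ 11 := by omega
  interval_cases m <;> omega

end norm

section gen
variable {H : Type*} {β : Type*} [Group H] [MulAction H β]

theorem card_dvd_of_trans (k : ℕ) [MulAction.IsMultiplyPretransitive H β k]
    (y : Fin k ↪ β) : Nat.card (Fin k ↪ β) ∣ Nat.card H := by
  have h1 : (MulAction.stabilizer H y).index = Nat.card (Fin k ↪ β) :=
    MulAction.index_stabilizer_of_transitive H y
  rw [← h1]
  exact Subgroup.index_dvd_card _

theorem card_sharp_gen (k : ℕ) [MulAction.IsMultiplyPretransitive H β k]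
    (hsharp : ∀ x : Fin k ↪ β, MulAction.stabilizer H x = ⊥) (x : Fin k ↪ β) :
    Nat.card H = Nat.card (Fin k ↪ β) := by
  have h1 : (MulAction.stabilizer H x).index = Nat.card (Fin k ↪ β) :=
    MulAction.index_stabilizer_of_transitive H x
  rw [hsharp x, Subgroup.index_bot] at h1
  exact h1

end gen

section simple
variable {α : Type*} [Fintype α] [DecidableEq α]

theorem card_sharp (G : Subgroup (Equiv.Perm α)) [MulAction.IsMultiplyPretransitive G α 4]
    (hsharp : ∀ x : Fin 4 ↪ α, MulAction.stabilizer G x = ⊥) (hα : Fintype.card α = 11) :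
    Nat.card G = 7920 := by
  obtain ⟨x⟩ : Nonempty (Fin 4 ↪ α) :=
    Function.Embedding.nonempty_of_card_le (by rw [Fintype.card_fin, hα]; norm_num)
  have h1 := card_sharp_gen (H := G) (β := α) 4 hsharp x
  rw [Nat.card_eq_fintype_card (α := Fin 4 ↪ α), Fintype.card_embedding_eq,
    Fintype.card_fin, hα] at h1
  rw [h1]
  rfl

theorem simple11 (G : Subgroup (Equiv.Perm α)) [h4 : MulAction.IsMultiplyPretransitive G α 4]
    (hsharp : ∀ x : Fin 4 ↪ α, MulAction.stabilizer G x = ⊥) (hα : Fintype.card α = 11) :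
    IsSimpleGroup G := by
  classical
  haveI : Fact (Nat.Prime 11) := ⟨by norm_num⟩
  have hG := card_sharp G hsharp hα
  haveI : FaithfulSMul G α := by
    constructor
    intro g g' h
    apply Subtype.ext
    apply Equiv.ext
    intro x
    exact h x
  have hnt : Nontrivial G := by
    rw [← Finite.one_lt_card_iff_nontrivial, hG]; norm_num
  refine { toNontrivial := hnt, eq_bot_or_eq_top_of_normal := ?_ }
  intro N hNn
  by_cases hN : N = ⊥
  · exact Or.inl hN
  right
  haveI := hNn
  have hcardα : Nat.card α = 11 := by rw [Nat.card_eq_fintype_card, hα]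
  -- Jordan: N is 3-transitive
  have h3 : MulAction.IsMultiplyPretransitive N α 3 := by
    rcases jordan_aux 4 G α (by norm_num) (by rw [hcardα]; norm_num) h4 N hN with h | ⟨h, -⟩
    · exact h
    · omega
  -- 990 ∣ card N
  have h990 : 990 ∣ Nat.card N := by
    obtain ⟨y⟩ : Nonempty (Fin 3 ↪ α) :=
      Function.Embedding.nonempty_of_card_le (by rw [Fintype.card_fin, hα]; norm_num)
    have h1 := card_dvd_of_trans (H := N) (β := α) 3 y
    rw [Nat.card_eq_fintype_card (α := Fin 3 ↪ α), Fintype.card_embedding_eq, Fintype.card_fin,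
      hα] at h1
    have h2 : (Nat.descFactorial 11 3) = 990 := rfl
    rw [h2] at h1
    exact h1
  have hNmul := N.index_mul_card
  rw [hG] at hNmul
  -- a Sylow 11-subgroup of N
  obtain ⟨P⟩ : Nonempty (Sylow 11 N) := inferInstance
  have hcardN_dvd : Nat.card N ∣ 7920 := by rw [← hG]; exact Subgroup.card_subgroup_dvd_card N
  have hNpos : Nat.card N ≠ 0 := Nat.card_pos.ne'
  have h11N : 11 ∣ Nat.card N := dvd_trans (by norm_num) h990
  have hfN : (Nat.card N).factorization 11 = 1 := by
    have hpos : 0 < (Nat.card N).factorization 11 :=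
      Nat.Prime.factorization_pos_of_dvd (by norm_num) hNpos h11N
    have hle : (Nat.card N).factorization 11 ≤ 1 := by
      by_contra hlt
      push Not at hlt
      have h1 : 11 ^ 2 ∣ 11 ^ (Nat.card N).factorization 11 := pow_dvd_pow 11 hlt
      have h2 : 11 ^ (Nat.card N).factorization 11 ∣ Nat.card N := Nat.ordProj_dvd _ _
      have h3 : 11 ^ 2 ∣ 7920 := dvd_trans (dvd_trans h1 h2) hcardN_dvd
      norm_num at h3
    omega
  have hcardP : Nat.card (P : Subgroup N) = 11 := by
    rw [Sylow.card_eq_multiplicity, hfN, pow_one]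
  -- its image in G
  obtain ⟨Q, hQ⟩ : ∃ Q : Subgroup G, Q = (P : Subgroup N).map N.subtype := ⟨_, rfl⟩
  have hcardQ : Nat.card Q = 11 := by
    rw [hQ, Subgroup.card_map_of_injective N.subtype_injective, hcardP]
  haveI : Fact (Nat.Prime (Nat.card Q)) := ⟨by rw [hcardQ]; norm_num⟩
  obtain ⟨τ, hτQ, hτ1⟩ : ∃ τ : G, τ ∈ Q ∧ τ ≠ 1 := by
    have hQne : Q ≠ ⊥ := by
      intro h
      rw [h, Subgroup.card_bot] at hcardQ
      omega
    obtain ⟨τ, hτ⟩ := (Subgroup.ne_bot_iff_exists_ne_one.1 hQne)
    exact ⟨τ, τ.2, fun h => hτ (Subtype.ext h)⟩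
  have hτord : orderOf τ = 11 := by
    have h1 : orderOf τ ∣ 11 := by
      have := Subgroup.orderOf_dvd_natCard Q hτQ
      rwa [hcardQ] at this
    rcases (Nat.dvd_prime (by norm_num : Nat.Prime 11)).1 h1 with h | h
    · exact absurd (orderOf_eq_one_iff.1 h) hτ1
    · exact h
  have hQz : Q = Subgroup.zpowers τ := by
    symm
    apply Subgroup.eq_of_le_of_card_ge ((Subgroup.zpowers_le).2 hτQ)
    rw [hcardQ, Nat.card_zpowers, hτord]
  have h55 := normalizer_card_55 hα G hG τ hτord
  -- Frattini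
  have hfr := Sylow.normalizer_sup_eq_top P
  rw [← hQ, hQz] at hfr
  have hidx55 : N.index ∣ 55 := by
    have h1 : N.relIndex (Subgroup.normalizer ((Subgroup.zpowers τ : Subgroup G) : Set G) ⊔ N) =
        N.relIndex (Subgroup.normalizer ((Subgroup.zpowers τ : Subgroup G) : Set G)) :=
      Subgroup.relIndex_sup_right _ _
    rw [hfr, Subgroup.relIndex_top_right] at h1
    rw [h1, ← h55]
    exact Subgroup.relIndex_dvd_card _ _
  -- N.index divides 8
  have hidx8 : N.index ∣ 8 := by
    obtain ⟨m, hm⟩ := h990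
    rw [hm] at hNmul
    have : N.index * m = 8 := by
      have : N.index * (990 * m) = 990 * 8 := by rw [hNmul]
      nlinarith
    exact Dvd.intro _ this
  have hone : N.index ∣ 1 := by
    have := Nat.dvd_gcd hidx55 hidx8
    rwa [show Nat.gcd 55 8 = 1 by norm_num] at this
  exact Subgroup.index_eq_one.1 (Nat.dvd_one.1 hone)

theorem simple11_gen {H : Type*} {β : Type*} [Group H] [MulAction H β] [Fintype β]
    [DecidableEq β] [MulAction.IsMultiplyPretransitive H β 4]
    (hsharp : ∀ x : Fin 4 ↪ β, MulAction.stabilizer H x = ⊥) (hβ : Fintype.card β = 11) :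
    IsSimpleGroup H := by
  classical
  obtain ⟨φ, hφ⟩ : ∃ φ : H →* Equiv.Perm β, ∀ h b, φ h b = h • b :=
    ⟨MulAction.toPermHom H β, fun h b => rfl⟩
  obtain ⟨x0⟩ : Nonempty (Fin 4 ↪ β) :=
    Function.Embedding.nonempty_of_card_le (by rw [Fintype.card_fin, hβ]; norm_num)
  have hinj : Function.Injective φ := by
    intro g g' hgg
    have hmem : g'⁻¹ * g ∈ MulAction.stabilizer H x0 := by
      rw [MulAction.mem_stabilizer_iff]
      ext i
      rw [Function.Embedding.smul_apply, mul_smul]
      have := DFunLike.congr_fun hgg (x0 i)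
      rw [hφ, hφ] at this
      rw [this, inv_smul_smul]
    rw [hsharp x0, Subgroup.mem_bot] at hmem
    exact (inv_mul_eq_one.1 hmem).symm
  obtain ⟨G', hG'⟩ : ∃ G' : Subgroup (Equiv.Perm β), G' = φ.range := ⟨_, rfl⟩
  obtain ⟨e, he⟩ : ∃ e : H ≃* G', ∀ h : H, ((e h : G') : Equiv.Perm β) = φ h := by
    subst hG'
    exact ⟨MonoidHom.ofInjective hinj, fun h => rfl⟩
  have h4' : MulAction.IsMultiplyPretransitive G' β 4 := by
    refine ⟨fun x y => ?_⟩
    obtain ⟨h, hh⟩ := MulAction.exists_smul_eq H x y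
    refine ⟨e h, ?_⟩
    ext i
    have := DFunLike.congr_fun hh i
    rw [Function.Embedding.smul_apply] at this ⊢
    show ((e h : G') : Equiv.Perm β) (x i) = y i
    rw [he, hφ]
    exact this
  have hsharp' : ∀ x : Fin 4 ↪ β, MulAction.stabilizer G' x = ⊥ := by
    intro x
    rw [eq_bot_iff]
    intro g' hg'
    rw [Subgroup.mem_bot]
    obtain ⟨h, rfl⟩ := e.surjective g'
    have hmem : h ∈ MulAction.stabilizer H x := by
      rw [MulAction.mem_stabilizer_iff] at hg' ⊢
      ext i
      have := DFunLike.congr_fun hg' i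
      rw [Function.Embedding.smul_apply]
      have h2 : ((e h : G') : Equiv.Perm β) (x i) = x i := this
      rw [he, hφ] at h2
      exact h2
    rw [hsharp x, Subgroup.mem_bot] at hmem
    rw [hmem, map_one]
  have hs := simple11 G' hsharp' hβ
  exact (MulEquiv.isSimpleGroup_congr e).2 hs

end simple

end Helper9M
end Cfsg.Agent.Lib.Helper9_M11
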