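import Mathlib
import Cfsg.Agent.Lib.Helper9_M11

set_option autoImplicit false

namespace Cfsg.Agent.Lib.Helper9_M12gen
namespace Helper9G

open Equiv

/-! ### generic group lemmas: one-point extension via double cosets -/
section generic
variable {G : Type*} [Group G]

theorem closure_sub [Finite G] (S T : Set G) (h1 : (1 : G) ∈ T)
    (hS : ∀ g ∈ S, ∀ l ∈ T, g * l ∈ T) : ∀ g ∈ Subgroup.closure S, g ∈ T := by
  have key : ∀ g ∈ Subgroup.closure S, ∀ l ∈ T, g * l ∈ T := by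
    intro g hg
    refine Subgroup.closure_induction (p := fun g _ => ∀ l ∈ T, g * l ∈ T) ?_ ?_ ?_ ?_ hg
    · intro x hx; exact hS x hx
    · intro l hl; rw [one_mul]; exact hl
    · intro x y _ _ hx hy l hl; rw [mul_assoc]; exact hx _ (hy _ hl)
    · intro x _ hx
      have hpow : ∀ n : ℕ, ∀ l ∈ T, x ^ n * l ∈ T := by
        intro n
        induction n with
        | zero => intro l hl; rw [pow_zero, one_mul]; exact hl
        | succ n ih => intro l hl; rw [pow_succ, mul_assoc]; exact ih _ (hx _ hl)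
      have hinv : x⁻¹ = x ^ (orderOf x - 1) := by
        apply inv_eq_of_mul_eq_one_left
        rw [← pow_succ, Nat.sub_add_cancel (orderOf_pos x), pow_orderOf_eq_one]
      intro l hl
      rw [hinv]; exact hpow _ _ hl
  intro g hg
  have := key g hg 1 h1
  rwa [mul_one] at this

/-- `H = A ∪ A y A`. -/
def Ext (A H : Subgroup G) (y : G) : Prop :=
  A ≤ H ∧ y ∈ H ∧ ∀ h ∈ H, h ∈ A ∨ ∃ a₁ ∈ A, ∃ a₂ ∈ A, h = a₁ * y * a₂

theorem ext_step [Finite G] {A H : Subgroup G} {y x : G} (hE : Ext A H y)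
    (hxx : x * x = 1) (hnorm : ∀ a ∈ A, x * a * x ∈ A)
    (hxyx : ∃ h₁ ∈ H, ∃ h₂ ∈ H, x * y * x = h₁ * x * h₂) :
    Ext H (H ⊔ Subgroup.zpowers x) x := by
  obtain ⟨hAH, hy, hdc⟩ := hE
  refine ⟨le_sup_left, Subgroup.mem_sup_right (Subgroup.mem_zpowers x), ?_⟩
  have hcl : H ⊔ Subgroup.zpowers x = Subgroup.closure ((H : Set G) ∪ {x}) := by
    rw [Subgroup.closure_union, Subgroup.closure_eq, Subgroup.zpowers_eq_closure]
  rw [hcl]
  have hx' : ∀ z : G, x * (x * z) = z := fun z => by rw [← mul_assoc, hxx, one_mul]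
  obtain ⟨k₁, hk₁, k₂, hk₂, hk⟩ := hxyx
  intro h0 hh0
  refine closure_sub ((H : Set G) ∪ {x}) {k | k ∈ H ∨ ∃ h₁ ∈ H, ∃ h₂ ∈ H, k = h₁ * x * h₂}
    (Or.inl (one_mem H)) ?_ h0 hh0
  rintro g (hg | hg) l hl
  · rcases hl with hl | ⟨h₁, hh₁, h₂, hh₂, rfl⟩
    · exact Or.inl (mul_mem hg hl)
    · exact Or.inr ⟨g * h₁, mul_mem hg hh₁, h₂, hh₂, by simp only [mul_assoc]⟩
  · rw [Set.mem_singleton_iff] at hg
    rw [hg]
    rcases hl with hl | ⟨h₁, hh₁, h₂, hh₂, rfl⟩
    · exact Or.inr ⟨1, one_mem H, l, hl, by rw [one_mul]⟩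
    · rcases hdc h₁ hh₁ with ha | ⟨a₁, ha₁, a₂, ha₂, rfl⟩
      · refine Or.inl ?_
        have e0 : x * (h₁ * x * h₂) = (x * h₁ * x) * h₂ := by simp only [mul_assoc]
        rw [e0]
        exact mul_mem (hAH (hnorm _ ha)) hh₂
      · refine Or.inr ⟨(x * a₁ * x) * k₁, mul_mem (hAH (hnorm _ ha₁)) hk₁,
          k₂ * (x * a₂ * x) * h₂, mul_mem (mul_mem hk₂ (hAH (hnorm _ ha₂))) hh₂, ?_⟩
        have e1 : x * (a₁ * y * a₂ * x * h₂)
            = (x * a₁ * x) * (x * y * x) * (x * a₂ * x) * h₂ := by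
          simp only [mul_assoc, hx']
        rw [e1, hk]
        simp only [mul_assoc]

theorem norm_of_gens {x : G} (hxx : x * x = 1) (S : Set G) (B : Subgroup G)
    (h : ∀ g ∈ S, x * g * x ∈ B) : ∀ a ∈ Subgroup.closure S, x * a * x ∈ B := by
  intro a ha
  have hx' : ∀ z : G, x * (x * z) = z := fun z => by rw [← mul_assoc, hxx, one_mul]
  refine Subgroup.closure_induction (p := fun a _ => x * a * x ∈ B) ?_ ?_ ?_ ?_ ha
  · exact h
  · rw [mul_one, hxx]; exact one_mem B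
  · intro a b _ _ ha hb
    have e : x * (a * b) * x = (x * a * x) * (x * b * x) := by simp only [mul_assoc, hx']
    rw [e]; exact mul_mem ha hb
  · intro a _ ha
    have hxi : x⁻¹ = x := inv_eq_of_mul_eq_one_left hxx
    have e : x * a⁻¹ * x = (x * a * x)⁻¹ := by
      rw [mul_inv_rev, mul_inv_rev, hxi, mul_assoc]
    rw [e]; exact inv_mem ha

end generic

/-! ### permutation-level lemmas -/
section perm
variable {n : ℕ}

local notation "P" => Equiv.Perm (Fin n)

theorem inv_app (f : Equiv.Perm (Fin n)) (x : Fin n) : f⁻¹ (f x) = x := by simp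
theorem app_inv (f : Equiv.Perm (Fin n)) (x : Fin n) : f (f⁻¹ x) = x := by simp

theorem closure_snoc (L : List (Equiv.Perm (Fin n))) (x : Equiv.Perm (Fin n)) :
    Subgroup.closure {z | z ∈ L ++ [x]} = Subgroup.closure {z | z ∈ L} ⊔ Subgroup.zpowers x := by
  have e : {z | z ∈ L ++ [x]} = {z | z ∈ L} ∪ {x} := by
    ext z
    simp only [Set.mem_ofPred_eq, List.mem_append, List.mem_singleton, Set.mem_union,
      Set.mem_singleton_iff]
  rw [e, Subgroup.closure_union, Subgroup.zpowers_eq_closure]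

theorem fix_of_gens (L : List (Equiv.Perm (Fin n))) (l : List (Fin n))
    (h : ∀ g ∈ L, ∀ p ∈ l, g p = p) :
    ∀ g ∈ Subgroup.closure {x | x ∈ L}, ∀ p ∈ l, g p = p := by
  intro g hg p hp
  have hle : Subgroup.closure {x | x ∈ L} ≤ MulAction.stabilizer (Equiv.Perm (Fin n)) p := by
    rw [Subgroup.closure_le]
    intro g hg
    exact MulAction.mem_stabilizer_iff.mpr (h g hg p hp)
  exact MulAction.mem_stabilizer_iff.mp (hle hg)

theorem stab_of_ext {H K : Subgroup (Equiv.Perm (Fin n))} {x : Equiv.Perm (Fin n)} {i a : Fin n}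
    (hE : Ext H K x) (hH : ∀ h ∈ H, h i = i) (hx : x i = a) (ha : a ≠ i) :
    ∀ k ∈ K, k i = i → k ∈ H := by
  intro k hk hki
  rcases hE.2.2 k hk with h | ⟨h₁, hh₁, h₂, hh₂, rfl⟩
  · exact h
  · exfalso
    apply ha
    have e : h₁ a = h₁ i := by
      rw [hH h₁ hh₁]
      rw [Equiv.Perm.mul_apply, Equiv.Perm.mul_apply, hH h₂ hh₂, hx] at hki
      exact hki
    exact h₁.injective e

/-- `H` maps `b` to every point outside `l`. -/
def Trans (H : Subgroup (Equiv.Perm (Fin n))) (b : Fin n) (l : List (Fin n)) : Prop :=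
  ∀ p, p ∉ l → ∃ g ∈ H, g b = p

theorem trans_step {H K : Subgroup (Equiv.Perm (Fin n))} (hHK : H ≤ K) {x : Equiv.Perm (Fin n)}
    (hx : x ∈ K) {i a : Fin n} (hxa : x i = a) {l : List (Fin n)} (hT : Trans H a (i :: l)) :
    Trans K i l := by
  intro p hp
  by_cases hpi : p = i
  · exact ⟨1, one_mem K, by rw [hpi]; rfl⟩
  · obtain ⟨g, hg, hga⟩ := hT p (by
      intro h
      rcases List.mem_cons.mp h with h | h
      · exact hpi h
      · exact hp h)
    exact ⟨g * x, mul_mem (hHK hg) hx, by rw [Equiv.Perm.mul_apply, hxa, hga]⟩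

/-- `K` maps the base list `bs` onto every duplicate-free list of the same length
avoiding `l`. -/
def Reach (K : Subgroup (Equiv.Perm (Fin n))) (l : List (Fin n)) (bs : List (Fin n)) : Prop :=
  ∀ zs : List (Fin n), zs.Nodup → (∀ z ∈ zs, z ∉ l) → zs.length = bs.length →
    ∃ g ∈ K, bs.map g = zs

theorem reach_nil (K : Subgroup (Equiv.Perm (Fin n))) (l : List (Fin n)) : Reach K l [] := by
  intro zs _ _ hlen
  refine ⟨1, one_mem K, ?_⟩
  rw [List.length_nil, List.length_eq_zero_iff] at hlen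
  rw [hlen]; rfl

theorem reach_step {H K : Subgroup (Equiv.Perm (Fin n))} (hHK : H ≤ K) {b : Fin n}
    {l bs : List (Fin n)} (hT : Trans K b l) (hKF : ∀ k ∈ K, ∀ p ∈ l, k p = p)
    (hHb : ∀ h ∈ H, h b = b) (hR : Reach H (b :: l) bs) : Reach K l (b :: bs) := by
  intro zs hnd hF hlen
  cases zs with
  | nil => simp at hlen
  | cons z zs' =>
    rw [List.nodup_cons] at hnd
    obtain ⟨hz, hnd'⟩ := hnd
    obtain ⟨g₁, hg₁, e₁⟩ := hT z (hF z (by simp))
    have hlen' : (zs'.map (g₁⁻¹ : Equiv.Perm (Fin n))).length = bs.length := by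
      rw [List.length_map]; simpa using hlen
    have havoid : ∀ w ∈ zs'.map (g₁⁻¹ : Equiv.Perm (Fin n)), w ∉ b :: l := by
      intro w hw
      rw [List.mem_map] at hw
      obtain ⟨w', hw', rfl⟩ := hw
      intro hmem
      rcases List.mem_cons.mp hmem with hwb | hFw
      · have e : w' = z := by
          rw [← e₁, ← hwb, app_inv]
        exact hz (e ▸ hw')
      · have h1 := hKF g₁ hg₁ _ hFw
        rw [app_inv] at h1
        rw [← h1] at hFw
        exact hF w' (List.mem_cons.mpr (Or.inr hw')) hFw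
    obtain ⟨g₂, hg₂, e₂⟩ := hR (zs'.map (g₁⁻¹ : Equiv.Perm (Fin n)))
      (List.Nodup.map (g₁⁻¹ : Equiv.Perm (Fin n)).injective hnd') havoid hlen'
    refine ⟨g₁ * g₂, mul_mem hg₁ (hHK hg₂), ?_⟩
    rw [List.map_cons, Equiv.Perm.mul_apply, hHb g₂ hg₂, e₁]
    congr 1
    have e3 : bs.map (g₁ * g₂) = (bs.map g₂).map g₁ := by
      rw [List.map_map]; rfl
    have e4 : ((g₁ : Fin n → Fin n) ∘ ((g₁⁻¹ : Equiv.Perm (Fin n)) : Fin n → Fin n)) = id := by
      funext w; simp
    rw [e3, e₂, List.map_map, e4, List.map_id]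

end perm

end Helper9G
end Cfsg.Agent.Lib.Helper9_M12gen
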