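-- helper9: counting isometric embeddings of standard quadratic spaces over finite fields
-- by peeling off hyperbolic pairs.
import Mathlib

set_option autoImplicit false

namespace Cfsg.Agent.Helper9OrthCount

open Finset QuadraticMap

universe u v w

variable {F : Type v} [Field F] [Fintype F]

/-- Number of vectors with `Q v = c`. -/
noncomputable def Nc {W : Type*} (Q : W → F) (c : F) : ℕ := Nat.card {x // Q x = c}

lemma Nc_congr {W W' : Type*} (σ : W ≃ W') (Q : W → F) (Q' : W' → F)
    (h : ∀ x, Q' (σ x) = Q x) (c : F) : Nc Q c = Nc Q' c := by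
  unfold Nc
  apply Nat.card_congr
  exact σ.subtypeEquiv (fun x => by rw [h])

lemma sum_Nc {W : Type*} [Finite W] (Q : W → F) : ∑ c, Nc Q c = Nat.card W := by
  classical
  have : Fintype W := Fintype.ofFinite W
  unfold Nc
  simp only [Nat.card_eq_fintype_card, Fintype.card_subtype]
  rw [← Finset.card_univ (α := W)]
  exact (Finset.card_eq_sum_card_fiberwise (f := Q) (s := univ) (t := univ)
    (fun x _ => Finset.mem_univ _)).symm

/-- Splitting off a hyperbolic plane: the effect on the value distribution. -/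
lemma count_split {W W' : Type*} [Finite W'] (φ : W ≃ F × F × W') (Q : W → F) (Q' : W' → F)
    (h : ∀ x, Q x = (φ x).1 * (φ x).2.1 + Q' (φ x).2.2) (c : F) :
    Nc Q c = Fintype.card F * Nc Q' c + (Fintype.card F - 1) * Nat.card W' := by
  classical
  have : Fintype W' := Fintype.ofFinite W'
  have h1 : Nc Q c = Nat.card {t : F × F × W' // t.1 * t.2.1 + Q' t.2.2 = c} := by
    unfold Nc
    apply Nat.card_congr
    exact φ.subtypeEquiv (fun x => by rw [h])
  rw [h1, Nat.card_eq_fintype_card, Fintype.card_subtype, Finset.card_filter,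
    Fintype.sum_prod_type]
  simp only [Fintype.sum_prod_type]
  rw [Fintype.sum_eq_add_sum_compl (0 : F)]
  congr 1
  · simp only [zero_mul, zero_add]
    rw [Finset.sum_const, Finset.card_univ, smul_eq_mul]
    congr 1
    unfold Nc
    rw [Nat.card_eq_fintype_card, Fintype.card_subtype, Finset.card_filter]
  · have hx : ∀ α ∈ ({0}ᶜ : Finset F), (∑ β : F, ∑ x : W', if α * β + Q' x = c then 1 else 0) =
        Nat.card W' := by
      intro α hα
      have hα0 : α ≠ 0 := by simpa using hα
      rw [Finset.sum_comm]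
      have : ∀ x : W', (∑ β : F, if α * β + Q' x = c then 1 else 0) = 1 := by
        intro x
        rw [Finset.sum_eq_single ((c - Q' x) / α)]
        · rw [if_pos]
          field_simp
          ring
        · intro β _ hβ
          rw [if_neg]
          intro hh
          apply hβ
          field_simp
          linear_combination hh
        · intro hh; exact absurd (Finset.mem_univ _) hh
      simp only [this]
      rw [Finset.sum_const, Finset.card_univ, smul_eq_mul, mul_one, Nat.card_eq_fintype_card]
    rw [Finset.sum_congr rfl hx, Finset.sum_const, Finset.card_compl, Finset.card_singleton,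
      smul_eq_mul]

lemma card_split {W W' : Type*} [Finite W'] (φ : W ≃ F × F × W') :
    Nat.card W = Fintype.card F ^ 2 * Nat.card W' := by
  rw [Nat.card_congr φ, Nat.card_prod, Nat.card_prod, Nat.card_eq_fintype_card]
  ring

section quad

variable {V : Type u} [AddCommGroup V] [Module F V] (Q : QuadraticForm F V)

/-- Hyperbolic pairs. -/
def IsHP (e f : V) : Prop := Q e = 0 ∧ Q f = 0 ∧ polar Q e f = 1

/-- Non-degeneracy of the polar form. -/
def Nondeg : Prop := ∀ x, (∀ y, polar Q x y = 0) → x = 0

/-- The orthogonal complement of a pair of vectors. -/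
def perp2 (e f : V) : Submodule F V where
  carrier := {x | polar Q x e = 0 ∧ polar Q x f = 0}
  add_mem' := by
    rintro a b ⟨ha1, ha2⟩ ⟨hb1, hb2⟩
    exact ⟨by rw [polar_add_left, ha1, hb1, add_zero], by rw [polar_add_left, ha2, hb2, add_zero]⟩
  zero_mem' := by
    constructor <;> simp
  smul_mem' := by
    rintro c a ⟨ha1, ha2⟩
    exact ⟨by rw [polar_smul_left, ha1, smul_zero], by rw [polar_smul_left, ha2, smul_zero]⟩

omit [Fintype F] in
lemma mem_perp2 (e f x : V) : x ∈ perp2 Q e f ↔ polar Q x e = 0 ∧ polar Q x f = 0 := Iff.rfl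

/-- The form restricted to the complement of a pair. -/
def restr (e f : V) : QuadraticForm F (perp2 Q e f) := Q.comp (perp2 Q e f).subtype

omit [Fintype F] in
lemma restr_apply (e f : V) (x : perp2 Q e f) : restr Q e f x = Q (x : V) := rfl

omit [Fintype F] in
lemma polar_restr (e f : V) (x y : perp2 Q e f) :
    polar (restr Q e f) x y = polar Q (x : V) (y : V) := by
  simp [polar, restr_apply]

variable {Q}

omit [Fintype F] in
lemma Q_comb {e f : V} (h : IsHP Q e f) (a b : F) (x : V) (hx : x ∈ perp2 Q e f) :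
    Q (a • e + b • f + x) = a * b + Q x := by
  obtain ⟨h1, h2, h3⟩ := h
  obtain ⟨hx1, hx2⟩ := hx
  have e1 : polar Q (a • e + b • f) x = 0 := by
    rw [polar_comm, polar_add_right, polar_smul_right, polar_smul_right, hx1, hx2]
    simp
  rw [QuadraticMap.map_add (⇑Q), QuadraticMap.map_add (⇑Q), QuadraticMap.map_smul, QuadraticMap.map_smul, h1,
    h2, e1, polar_smul_left, polar_smul_right, h3]
  simp only [smul_eq_mul, mul_zero, mul_one, zero_add, add_zero]

omit [Fintype F] in
lemma polar_comb {e f : V} (h : IsHP Q e f) (a b : F) (x : V) (hx : x ∈ perp2 Q e f) :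
    polar Q (a • e + b • f + x) f = a ∧ polar Q (a • e + b • f + x) e = b := by
  obtain ⟨h1, h2, h3⟩ := h
  obtain ⟨hx1, hx2⟩ := hx
  have hee : polar Q e e = 0 := by rw [polar_self, h1]; simp
  have hff : polar Q f f = 0 := by rw [polar_self, h2]; simp
  have hfe : polar Q f e = 1 := by rw [polar_comm, h3]
  constructor
  · rw [polar_add_left, polar_add_left, polar_smul_left, polar_smul_left, h3, hff, hx2]
    simp
  · rw [polar_add_left, polar_add_left, polar_smul_left, polar_smul_left, hee, hfe, hx1]
    simp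

omit [Fintype F] in
lemma proj_mem {e f : V} (h : IsHP Q e f) (x : V) :
    x - polar Q x f • e - polar Q x e • f ∈ perp2 Q e f := by
  obtain ⟨h1, h2, h3⟩ := h
  have hee : polar Q e e = 0 := by rw [polar_self, h1]; simp
  have hff : polar Q f f = 0 := by rw [polar_self, h2]; simp
  have hfe : polar Q f e = 1 := by rw [polar_comm, h3]
  constructor
  · rw [polar_sub_left, polar_sub_left, polar_smul_left, polar_smul_left, hee, hfe]
    simp
  · rw [polar_sub_left, polar_sub_left, polar_smul_left, polar_smul_left, hff, h3]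
    simp

/-- Splitting off a hyperbolic pair. -/
def splitEquiv {e f : V} (h : IsHP Q e f) : V ≃ F × F × perp2 Q e f where
  toFun x := (polar Q x f, polar Q x e, ⟨x - polar Q x f • e - polar Q x e • f, proj_mem h x⟩)
  invFun t := t.1 • e + t.2.1 • f + (t.2.2 : V)
  left_inv x := by
    simp only
    abel
  right_inv t := by
    obtain ⟨a, b, ⟨x, hx⟩⟩ := t
    have h1 := polar_comb h a b x hx
    simp only
    refine Prod.ext h1.1 (Prod.ext h1.2 (Subtype.ext ?_))
    simp only [h1.1, h1.2]
    abel

omit [Fintype F] in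
lemma Q_split {e f : V} (h : IsHP Q e f) (x : V) :
    Q x = (splitEquiv h x).1 * (splitEquiv h x).2.1 + restr Q e f (splitEquiv h x).2.2 := by
  have h1 := Q_comb h (polar Q x f) (polar Q x e) _ (proj_mem h x)
  have h2 : polar Q x f • e + polar Q x e • f + (x - polar Q x f • e - polar Q x e • f) = x := by
    abel
  rw [h2] at h1
  exact h1

omit [Fintype F] in
lemma nondeg_restr (hnd : Nondeg Q) {e f : V} (h : IsHP Q e f) : Nondeg (restr Q e f) := by
  intro x hx
  apply Subtype.ext
  apply hnd
  intro y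
  have hy : y = polar Q y f • e + polar Q y e • f + (y - polar Q y f • e - polar Q y e • f) := by
    abel
  rw [hy, polar_add_right, polar_add_right, polar_smul_right, polar_smul_right, x.2.1, x.2.2]
  have := hx ⟨_, proj_mem h y⟩
  rw [polar_restr] at this
  rw [this]
  simp

lemma Nc_split [Finite V] {e f : V} (h : IsHP Q e f) (c : F) :
    Nc Q c = Fintype.card F * Nc (restr Q e f) c + (Fintype.card F - 1) * Nat.card (perp2 Q e f) :=
  count_split (splitEquiv h) Q (restr Q e f) (Q_split h) c

lemma card_perp2 [Finite V] {e f : V} (h : IsHP Q e f) :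
    Nat.card V = Fintype.card F ^ 2 * Nat.card (perp2 Q e f) :=
  card_split (splitEquiv h)

omit [Fintype F] in
/-- A nonzero singular vector lies in a hyperbolic pair. -/
lemma exists_HP (hnd : Nondeg Q) (e : V) (he : e ≠ 0) (hQe : Q e = 0) : ∃ f, IsHP Q e f := by
  obtain ⟨y, hy⟩ : ∃ y, polar Q e y ≠ 0 := by
    by_contra hcon
    push Not at hcon
    exact he (hnd e hcon)
  obtain ⟨f₀, hf₀⟩ : ∃ f₀, polar Q e f₀ = 1 :=
    ⟨(polar Q e y)⁻¹ • y, by rw [polar_smul_right, smul_eq_mul, inv_mul_cancel₀ hy]⟩
  refine ⟨f₀ - Q f₀ • e, hQe, ?_, ?_⟩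
  · have h1 : f₀ - Q f₀ • e = f₀ + (-Q f₀) • e := by rw [neg_smul, sub_eq_add_neg]
    rw [h1, QuadraticMap.map_add (⇑Q), QuadraticMap.map_smul, hQe, polar_smul_right, polar_comm, hf₀]
    simp
  · have hee : polar Q e e = 0 := by rw [polar_self, hQe]; simp
    rw [polar_sub_right, polar_smul_right, hf₀, hee]
    simp

/-- Number of hyperbolic pairs. -/
lemma card_HP [Finite V] (hnd : Nondeg Q) (r : ℕ) (hV : Nat.card V = Fintype.card F ^ 2 * r) :
    Nat.card {p : V × V // IsHP Q p.1 p.2} = (Nc Q 0 - 1) * r := by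
  classical
  have : Fintype V := Fintype.ofFinite V
  have hq : 0 < Fintype.card F ^ 2 := by positivity
  -- fibre over a fixed first vector
  have hfib : ∀ e : {e : V // e ≠ 0 ∧ Q e = 0}, Nat.card {f : V // IsHP Q e.1 f} = r := by
    rintro ⟨e, he, hQe⟩
    obtain ⟨f₀, hf₀⟩ := exists_HP hnd e he hQe
    have hr : Nat.card (perp2 Q e f₀) = r := by
      have := card_perp2 hf₀
      rw [hV] at this
      exact (Nat.eq_of_mul_eq_mul_left hq this).symm
    rw [← hr]
    apply Nat.card_congr
    refine ⟨fun f => (splitEquiv hf₀ f.1).2.2, fun x => ⟨(-Q (x : V)) • e + (1 : F) • f₀ + (x : V), ?_⟩,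
      ?_, ?_⟩
    · refine ⟨hQe, ?_, ?_⟩
      · rw [Q_comb hf₀ _ _ _ x.2]; ring
      · rw [polar_comm, (polar_comb hf₀ _ _ _ x.2).2]
    · rintro ⟨f, hf1, hf2, hf3⟩
      apply Subtype.ext
      show (-Q ((splitEquiv hf₀ f).2.2 : V)) • e + (1 : F) • f₀ + ((splitEquiv hf₀ f).2.2 : V) = f
      have h1 := Q_split hf₀ f
      have h2 : (splitEquiv hf₀ f).2.1 = 1 := by
        show polar Q f e = 1
        rw [polar_comm, hf3]
      rw [h2, hf2, mul_one, restr_apply] at h1
      have h3 : -Q ((splitEquiv hf₀ f).2.2 : V) = (splitEquiv hf₀ f).1 := by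
        linear_combination h1
      rw [h3, ← h2]
      exact (splitEquiv hf₀).left_inv f
    · intro x
      have := (splitEquiv hf₀).right_inv (-Q (x : V), 1, x)
      exact congrArg (fun t => t.2.2) this
  have hcard : Nat.card {e : V // e ≠ 0 ∧ Q e = 0} = Nc Q 0 - 1 := by
    unfold Nc
    have : Nat.card {x : V // Q x = 0} = Nat.card {e : V // e ≠ 0 ∧ Q e = 0} + 1 := by
      simp only [Nat.card_eq_fintype_card, Fintype.card_subtype]
      have hmem : (0 : V) ∈ Finset.univ.filter (fun x : V => Q x = 0) := by simp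
      rw [← Finset.card_erase_add_one hmem]
      congr 2
      ext x
      simp
    omega
  have hsig : {p : V × V // IsHP Q p.1 p.2} ≃ Σ e : {e : V // e ≠ 0 ∧ Q e = 0}, {f : V // IsHP Q e.1 f} :=
    { toFun := fun p => ⟨⟨p.1.1, by
          rintro h0
          have := p.2.2.2
          rw [h0] at this
          simp at this, p.2.1⟩, ⟨p.1.2, p.2⟩⟩
      invFun := fun s => ⟨(s.1.1, s.2.1), s.2.2⟩
      left_inv := fun p => rfl
      right_inv := fun s => rfl }
  rw [Nat.card_congr hsig, Nat.card_sigma]
  simp only [hfib]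
  rw [Finset.sum_const, Finset.card_univ, smul_eq_mul, ← Nat.card_eq_fintype_card, hcard]

end quad

section std

variable {C : Type w} [AddCommGroup C] [Module F C] (QC : QuadraticForm F C)

/-- The standard space: `m` hyperbolic pairs plus a core. -/
abbrev Std (F : Type v) (C : Type w) (m : ℕ) : Type (max v w) := (Fin m → F) × (C × (Fin m → F))

/-- The standard form `Σ x_i y_i + QC c`. -/
def stdQ (m : ℕ) (p : Std F C m) : F := ∑ i, p.1 i * p.2.2 i + QC p.2.1

/-- Isometric linear maps. -/
def IsoMaps {X : Type*} [AddCommGroup X] [Module F X] (QX : X → F)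
    {V : Type u} [AddCommGroup V] [Module F V] (Q : QuadraticForm F V) : Type _ :=
  {T : X →ₗ[F] V // ∀ z, Q (T z) = QX z}

/-- Prepending a zero coordinate. -/
def cons0 (m : ℕ) : (Fin m → F) →ₗ[F] (Fin (m + 1) → F) where
  toFun x := Fin.cons 0 x
  map_add' x y := by
    funext i
    refine Fin.cases ?_ (fun j => ?_) i <;> simp
  map_smul' a x := by
    funext i
    refine Fin.cases ?_ (fun j => ?_) i <;> simp

/-- Dropping the first coordinate. -/
def tail0 (m : ℕ) : (Fin (m + 1) → F) →ₗ[F] (Fin m → F) where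
  toFun x := Fin.tail x
  map_add' x y := rfl
  map_smul' a x := rfl

omit [Fintype F] in
@[simp] lemma cons0_zero (m : ℕ) (x : Fin m → F) : cons0 m x 0 = 0 := rfl

omit [Fintype F] in
@[simp] lemma cons0_succ (m : ℕ) (x : Fin m → F) (i : Fin m) : cons0 m x i.succ = x i := rfl

omit [Fintype F] in
@[simp] lemma tail0_apply (m : ℕ) (x : Fin (m + 1) → F) (i : Fin m) : tail0 m x i = x i.succ := rfl

omit [Fintype F] in
@[simp] lemma tail0_cons0 (m : ℕ) (x : Fin m → F) : tail0 m (cons0 m x) = x := rfl

/-- The embedding `Std m → Std (m+1)`. -/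
def emb (C : Type w) [AddCommGroup C] [Module F C] (m : ℕ) : Std F C m →ₗ[F] Std F C (m + 1) :=
  LinearMap.prodMap (cons0 m) (LinearMap.prodMap LinearMap.id (cons0 m))

/-- The projection `Std (m+1) → Std m`. -/
def tailL (C : Type w) [AddCommGroup C] [Module F C] (m : ℕ) : Std F C (m + 1) →ₗ[F] Std F C m :=
  LinearMap.prodMap (tail0 m) (LinearMap.prodMap LinearMap.id (tail0 m))

omit [Fintype F] in
@[simp] lemma tailL_emb (m : ℕ) (z : Std F C m) : tailL C m (emb C m z) = z := rfl

/-- The first standard hyperbolic pair. -/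
def eps0 (C : Type w) [AddCommGroup C] [Module F C] (m : ℕ) : Std F C (m + 1) :=
  (Pi.single 0 1, (0, 0))

def phi0 (C : Type w) [AddCommGroup C] [Module F C] (m : ℕ) : Std F C (m + 1) :=
  (0, (0, Pi.single 0 1))

omit [Fintype F] in
lemma std_decomp (m : ℕ) (z : Std F C (m + 1)) :
    z = z.1 0 • eps0 C m + z.2.2 0 • phi0 C m + emb C m (tailL C m z) := by
  obtain ⟨x, c, y⟩ := z
  refine Prod.ext ?_ (Prod.ext ?_ ?_)
  · funext i
    refine Fin.cases ?_ (fun j => ?_) i
    · simp [eps0, phi0, emb, tailL]
    · simp [eps0, phi0, emb, tailL]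
  · simp [eps0, phi0, emb, tailL]
  · funext i
    refine Fin.cases ?_ (fun j => ?_) i
    · simp [eps0, phi0, emb, tailL]
    · simp [eps0, phi0, emb, tailL]

omit [Fintype F] in
lemma stdQ_succ (m : ℕ) (z : Std F C (m + 1)) :
    stdQ QC (m + 1) z = z.1 0 * z.2.2 0 + stdQ QC m (tailL C m z) := by
  unfold stdQ
  rw [Fin.sum_univ_succ]
  simp [tailL, add_assoc]

omit [Fintype F] in
lemma stdQ_comb (m : ℕ) (a b : F) (z : Std F C m) :
    stdQ QC (m + 1) (a • eps0 C m + b • phi0 C m + emb C m z) = a * b + stdQ QC m z := by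
  rw [stdQ_succ]
  have h1 : tailL C m (a • eps0 C m + b • phi0 C m + emb C m z) = z := by
    rw [map_add, map_add, map_smul, map_smul, tailL_emb]
    have e1 : tailL C m (eps0 (F := F) C m) = 0 := by
      refine Prod.ext ?_ (Prod.ext ?_ ?_)
      · funext i; simp [tailL, eps0]
      · simp [tailL, eps0]
      · funext i; simp [tailL, eps0]
    have e2 : tailL C m (phi0 (F := F) C m) = 0 := by
      refine Prod.ext ?_ (Prod.ext ?_ ?_)
      · funext i; simp [tailL, phi0]
      · simp [tailL, phi0]
      · funext i; simp [tailL, phi0]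
    rw [e1, e2]; simp
  rw [h1]
  simp [eps0, phi0, emb]

variable {V : Type u} [AddCommGroup V] [Module F V] {Q : QuadraticForm F V}

omit [Fintype F] in
lemma polar_iso {X : Type*} [AddCommGroup X] [Module F X] {QX : X → F} (T : X →ₗ[F] V)
    (hT : ∀ z, Q (T z) = QX z) (a b : X) :
    polar Q (T a) (T b) = QX (a + b) - QX a - QX b := by
  unfold polar
  rw [← map_add, hT, hT, hT]

omit [Fintype F] in
lemma iso_HP {m : ℕ} (T : Std F C (m + 1) →ₗ[F] V) (hT : ∀ z, Q (T z) = stdQ QC (m + 1) z) :
    IsHP Q (T (eps0 C m)) (T (phi0 C m)) := by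
  have h1 := stdQ_comb QC m 1 0 0
  have h2 := stdQ_comb QC m 0 1 0
  have h3 := stdQ_comb QC m 1 1 0
  have h0 : stdQ QC m (0 : Std F C m) = 0 := by simp [stdQ]
  simp only [map_zero, add_zero, one_smul, zero_smul, zero_add, mul_zero, mul_one, zero_mul, h0]
    at h1 h2 h3
  refine ⟨by rw [hT, h1], by rw [hT, h2], ?_⟩
  rw [polar_iso T hT, h1, h2, h3]
  ring

omit [Fintype F] in
lemma iso_emb_mem {m : ℕ} (T : Std F C (m + 1) →ₗ[F] V) (hT : ∀ z, Q (T z) = stdQ QC (m + 1) z)
    (z : Std F C m) : T (emb C m z) ∈ perp2 Q (T (eps0 C m)) (T (phi0 C m)) := by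
  have h1 := stdQ_comb QC m 1 0 z
  have h2 := stdQ_comb QC m 0 1 z
  have h3 := stdQ_comb QC m 0 0 z
  have h4 := stdQ_comb QC m 1 0 0
  have h5 := stdQ_comb QC m 0 1 0
  have h0 : stdQ QC m (0 : Std F C m) = 0 := by simp [stdQ]
  simp only [map_zero, add_zero, one_smul, zero_smul, zero_add, mul_zero, mul_one, zero_mul, h0]
    at h1 h2 h3 h4 h5
  constructor
  · rw [polar_iso T hT, add_comm (emb C m z), h1, h3, h4]; ring
  · rw [polar_iso T hT, add_comm (emb C m z), h2, h3, h5]; ring

end std

section recursion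

variable {C : Type w} [AddCommGroup C] [Module F C] (QC : QuadraticForm F C)
variable {V : Type u} [AddCommGroup V] [Module F V] {Q : QuadraticForm F V}

/-- Build a linear map from a pair of vectors and a map into the complement. -/
def build {m : ℕ} (e f : V) (T' : Std F C m →ₗ[F] perp2 Q e f) : Std F C (m + 1) →ₗ[F] V :=
  (LinearMap.proj 0 ∘ₗ LinearMap.fst F _ _).smulRight e +
    (LinearMap.proj 0 ∘ₗ LinearMap.snd F _ _ ∘ₗ LinearMap.snd F _ _).smulRight f +
    (perp2 Q e f).subtype ∘ₗ T' ∘ₗ tailL C m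

omit [Fintype F] in
lemma build_apply {m : ℕ} (e f : V) (T' : Std F C m →ₗ[F] perp2 Q e f) (z : Std F C (m + 1)) :
    build e f T' z = z.1 0 • e + z.2.2 0 • f + (T' (tailL C m z) : V) := rfl

omit [Fintype F] in
lemma stdQ_emb (m : ℕ) (z : Std F C m) : stdQ QC (m + 1) (emb C m z) = stdQ QC m z := by
  have := stdQ_comb QC m 0 0 z
  simpa using this

/-- Isometric maps with prescribed first hyperbolic pair. -/
def fiberEquiv {m : ℕ} {e f : V} (h : IsHP Q e f) :
    {T : IsoMaps (stdQ QC (m + 1)) Q // T.1 (eps0 C m) = e ∧ T.1 (phi0 C m) = f} ≃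
      IsoMaps (stdQ QC m) (restr Q e f) where
  toFun T := ⟨LinearMap.codRestrict (perp2 Q e f) (T.1.1 ∘ₗ emb C m) (fun z => by
      have := iso_emb_mem QC T.1.1 T.1.2 z
      rw [T.2.1, T.2.2] at this
      exact this), fun z => by
      rw [restr_apply]
      show Q (T.1.1 (emb C m z)) = _
      rw [T.1.2, stdQ_emb]⟩
  invFun T' := ⟨⟨build e f T'.1, fun z => by
      rw [build_apply, Q_comb h _ _ _ (T'.1 _).2, ← restr_apply, T'.2, ← stdQ_succ]⟩, by
      constructor
      · rw [build_apply]
        have : tailL C m (eps0 (F := F) C m) = 0 := by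
          refine Prod.ext ?_ (Prod.ext ?_ ?_)
          · funext i; simp [tailL, eps0]
          · simp [tailL, eps0]
          · funext i; simp [tailL, eps0]
        rw [this]
        simp [eps0]
      · rw [build_apply]
        have : tailL C m (phi0 (F := F) C m) = 0 := by
          refine Prod.ext ?_ (Prod.ext ?_ ?_)
          · funext i; simp [tailL, phi0]
          · simp [tailL, phi0]
          · funext i; simp [tailL, phi0]
        rw [this]
        simp [phi0]⟩
  left_inv T := by
    apply Subtype.ext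
    apply Subtype.ext
    apply LinearMap.ext
    intro z
    show build e f _ z = T.1.1 z
    rw [build_apply]
    conv_rhs => rw [std_decomp m z, map_add, map_add, map_smul, map_smul, T.2.1, T.2.2]
    rfl
  right_inv T' := by
    apply Subtype.ext
    apply LinearMap.ext
    intro z
    apply Subtype.ext
    show build e f T'.1 (emb C m z) = (T'.1 z : V)
    rw [build_apply, tailL_emb]
    simp [emb]

lemma finite_isoMaps [Finite C] [Finite V] (m : ℕ) : Finite (IsoMaps (stdQ QC m) Q) := by
  haveI : Finite (Std F C m →ₗ[F] V) := DFunLike.finite _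
  unfold IsoMaps
  infer_instance

/-- The recursion for the number of isometric embeddings. -/
lemma card_iso_succ [Finite C] [Finite V] (m : ℕ) (K : ℕ)
    (hK : ∀ e f : V, IsHP Q e f → Nat.card (IsoMaps (stdQ QC m) (restr Q e f)) = K) :
    Nat.card (IsoMaps (stdQ QC (m + 1)) Q) = Nat.card {p : V × V // IsHP Q p.1 p.2} * K := by
  classical
  haveI := finite_isoMaps QC (Q := Q) (m + 1)
  haveI : Fintype {p : V × V // IsHP Q p.1 p.2} := Fintype.ofFinite _
  let g : IsoMaps (stdQ QC (m + 1)) Q → {p : V × V // IsHP Q p.1 p.2} := fun T =>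
    ⟨(T.1 (eps0 C m), T.1 (phi0 C m)), iso_HP QC T.1 T.2⟩
  rw [← Nat.card_congr (Equiv.sigmaFiberEquiv g), Nat.card_sigma]
  have hfib : ∀ p : {p : V × V // IsHP Q p.1 p.2},
      Nat.card {T : IsoMaps (stdQ QC (m + 1)) Q // g T = p} = K := by
    rintro ⟨⟨e, f⟩, h⟩
    rw [← hK e f h]
    apply Nat.card_congr
    refine Equiv.trans (Equiv.subtypeEquivRight ?_) (fiberEquiv QC h)
    intro T
    constructor
    · intro hh
      have := congrArg Subtype.val hh
      exact ⟨congrArg Prod.fst this, congrArg Prod.snd this⟩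
    · rintro ⟨h1, h2⟩
      apply Subtype.ext
      exact Prod.ext h1 h2
  simp only [hfib]
  rw [Finset.sum_const, Finset.card_univ, smul_eq_mul, Nat.card_eq_fintype_card]

end recursion

section main

variable {C : Type w} [AddCommGroup C] [Module F C] (QC : QuadraticForm F C)

/-- Splitting the first hyperbolic pair off the standard space. -/
def stdSplit (C : Type w) [AddCommGroup C] [Module F C] (m : ℕ) :
    Std F C (m + 1) ≃ F × F × Std F C m where
  toFun z := (z.1 0, z.2.2 0, tailL C m z)
  invFun t := t.1 • eps0 C m + t.2.1 • phi0 C m + emb C m t.2.2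
  left_inv z := (std_decomp m z).symm
  right_inv t := by
    obtain ⟨a, b, z⟩ := t
    have e1 : tailL C m (eps0 (F := F) C m) = 0 := by
      refine Prod.ext ?_ (Prod.ext ?_ ?_)
      · funext i; simp [tailL, eps0]
      · simp [tailL, eps0]
      · funext i; simp [tailL, eps0]
    have e2 : tailL C m (phi0 (F := F) C m) = 0 := by
      refine Prod.ext ?_ (Prod.ext ?_ ?_)
      · funext i; simp [tailL, phi0]
      · simp [tailL, phi0]
      · funext i; simp [tailL, phi0]
    refine Prod.ext ?_ (Prod.ext ?_ ?_)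
    · simp [eps0, phi0, emb]
    · simp [eps0, phi0, emb]
    · simp only [map_add, map_smul, e1, e2, tailL_emb]
      simp

lemma Nc_std_succ [Finite C] (m : ℕ) (c : F) :
    Nc (stdQ QC (m + 1)) c =
      Fintype.card F * Nc (stdQ QC m) c + (Fintype.card F - 1) * Nat.card (Std F C m) :=
  count_split (stdSplit C m) (stdQ QC (m + 1)) (stdQ QC m) (fun z => stdQ_succ QC m z) c

lemma card_std_succ [Finite C] (m : ℕ) :
    Nat.card (Std F C (m + 1)) = Fintype.card F ^ 2 * Nat.card (Std F C m) :=
  card_split (stdSplit C m)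

/-- The number of isometric embeddings of the standard space into a space with the same
value distribution. -/
theorem card_iso_std [Finite C] (base : ℕ)
    (hbase : ∀ (U : Type u) [AddCommGroup U] [Module F U] [Finite U] (QU : QuadraticForm F U),
      Nondeg QU → (∀ c, Nc QU c = Nc (stdQ QC 0) c) → Nat.card (IsoMaps (stdQ QC 0) QU) = base) :
    ∀ (m : ℕ) (V : Type u) [AddCommGroup V] [Module F V] [Finite V] (Q : QuadraticForm F V),
      Nondeg Q → (∀ c, Nc Q c = Nc (stdQ QC m) c) →
      Nat.card (IsoMaps (stdQ QC m) Q) =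
        base * ∏ k ∈ range m, ((Nc (stdQ QC (k + 1)) 0 - 1) * Nat.card (Std F C k)) := by
  intro m
  induction m with
  | zero =>
    intro V _ _ _ Q hnd hsame
    rw [Finset.prod_range_zero, mul_one]
    exact hbase V Q hnd hsame
  | succ m ih =>
    intro V _ _ _ Q hnd hsame
    have hq : 0 < Fintype.card F := Fintype.card_pos
    have hq2 : 0 < Fintype.card F ^ 2 := by positivity
    have hcardV : Nat.card V = Nat.card (Std F C (m + 1)) := by
      rw [← sum_Nc (⇑Q), ← sum_Nc (stdQ QC (m + 1))]
      exact Finset.sum_congr rfl (fun c _ => hsame c)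
    have hV : Nat.card V = Fintype.card F ^ 2 * Nat.card (Std F C m) := by
      rw [hcardV, card_std_succ]
    have hK : ∀ e f : V, IsHP Q e f → Nat.card (IsoMaps (stdQ QC m) (restr Q e f)) =
        base * ∏ k ∈ range m, ((Nc (stdQ QC (k + 1)) 0 - 1) * Nat.card (Std F C k)) := by
      intro e f h
      apply ih (perp2 Q e f) (restr Q e f) (nondeg_restr hnd h)
      have hU : Nat.card (perp2 Q e f) = Nat.card (Std F C m) := by
        have := card_perp2 h
        rw [hV] at this
        exact (Nat.eq_of_mul_eq_mul_left hq2 this).symm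
      intro c
      have h1 := Nc_split h c
      rw [hsame c, Nc_std_succ, hU] at h1
      have h2 := Nat.add_right_cancel h1
      exact (Nat.eq_of_mul_eq_mul_left hq h2).symm
    rw [card_iso_succ QC m _ hK, card_HP hnd _ hV, hsame 0, Finset.prod_range_succ]
    ring

end main

section formulas

variable {C : Type w} [AddCommGroup C] [Module F C] (QC : QuadraticForm F C)

lemma card_std [Finite C] (k : ℕ) :
    Nat.card (Std F C k) = Fintype.card F ^ (2 * k) * Nat.card C := by
  induction k with
  | zero =>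
    rw [Nat.card_prod, Nat.card_prod]
    simp
  | succ k ih =>
    rw [card_std_succ, ih]
    ring

/-- Singular vectors of the standard space over an anisotropic core. -/
lemma N0_std [Finite C] (h0 : Nc (stdQ QC 0) 0 = 1) (k : ℕ) :
    Nc (stdQ QC (k + 1)) 0 =
      1 + (Fintype.card F ^ (k + 1) - 1) * (1 + Fintype.card F ^ k * Nat.card C) := by
  have hq : 1 ≤ Fintype.card F := Fintype.card_pos
  induction k with
  | zero =>
    rw [Nc_std_succ, h0, card_std]
    have h1 : 1 ≤ Fintype.card F ^ (0 + 1) := Nat.one_le_pow _ _ hq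
    zify [hq, h1]
    ring
  | succ k ih =>
    rw [Nc_std_succ, ih, card_std]
    have h1 : 1 ≤ Fintype.card F ^ (k + 1) := Nat.one_le_pow _ _ hq
    have h2 : 1 ≤ Fintype.card F ^ (k + 1 + 1) := Nat.one_le_pow _ _ hq
    zify [hq, h1, h2]
    ring

omit [Fintype F] in
lemma polar_std (m : ℕ) (z z' : Std F C m) :
    stdQ QC m (z + z') - stdQ QC m z - stdQ QC m z' =
      ∑ i, (z.1 i * z'.2.2 i + z'.1 i * z.2.2 i) + polar QC z.2.1 z'.2.1 := by
  unfold stdQ polar
  simp only [Prod.fst_add, Prod.snd_add, Pi.add_apply]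
  rw [Finset.sum_add_distrib]
  have : ∑ i, (z.1 i + z'.1 i) * (z.2.2 i + z'.2.2 i) =
      ∑ i, z.1 i * z.2.2 i + ∑ i, z'.1 i * z'.2.2 i + ∑ i, z.1 i * z'.2.2 i +
        ∑ i, z'.1 i * z.2.2 i := by
    rw [← Finset.sum_add_distrib, ← Finset.sum_add_distrib, ← Finset.sum_add_distrib]
    apply Finset.sum_congr rfl
    intro i _
    ring
  rw [this]
  ring

omit [Fintype F] in
/-- The standard space over a non-degenerate core is non-degenerate. -/
lemma nondeg_std (hC : Nondeg QC) (m : ℕ) (z : Std F C m)
    (hz : ∀ z', stdQ QC m (z + z') - stdQ QC m z - stdQ QC m z' = 0) : z = 0 := by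
  classical
  obtain ⟨x, c, y⟩ := z
  have hy : y = 0 := by
    funext i
    have := hz (Pi.single i 1, (0, 0))
    rw [polar_std] at this
    simp only [Prod.fst_zero, Prod.snd_zero, Pi.zero_apply, mul_zero, zero_add] at this
    rw [Finset.sum_eq_single i] at this
    · simpa using this
    · intro j _ hj
      simp [hj]
    · intro h; exact absurd (Finset.mem_univ _) h
  have hx : x = 0 := by
    funext i
    have := hz (0, (0, Pi.single i 1))
    rw [polar_std] at this
    simp only [Prod.fst_zero, Prod.snd_zero, Pi.zero_apply, zero_mul, add_zero] at this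
    rw [Finset.sum_eq_single i] at this
    · simpa using this
    · intro j _ hj
      simp [hj]
    · intro h; exact absurd (Finset.mem_univ _) h
  have hc : c = 0 := by
    apply hC
    intro c'
    have := hz (0, (c', 0))
    rw [polar_std] at this
    simpa using this
  rw [hx, hy, hc]
  rfl

end formulas

section bridge

variable {C : Type w} [AddCommGroup C] [Module F C] (QC : QuadraticForm F C)
variable {ι : Type} [Fintype ι] [DecidableEq ι] (Qf : QuadraticForm F (ι → F))

omit [Fintype F] in
lemma iso_injective {X : Type*} [AddCommGroup X] [Module F X] (QX : X → F)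
    (hX : ∀ z, (∀ z', QX (z + z') - QX z - QX z' = 0) → z = 0)
    {V : Type u} [AddCommGroup V] [Module F V] (Q : QuadraticForm F V)
    (T : X →ₗ[F] V) (hT : ∀ z, Q (T z) = QX z) : Function.Injective T := by
  rw [injective_iff_map_eq_zero]
  intro z hz
  apply hX
  intro z'
  rw [← polar_iso T hT, hz]
  simp

omit [Fintype F] in
/-- The isometry group as isometric endomorphisms. -/
lemma card_isoGroup (hnd : Nondeg Qf) :
    Nat.card {g : Matrix.GeneralLinearGroup ι F // ∀ x, Qf ((g : Matrix ι ι F).mulVec x) = Qf x} =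
      Nat.card (IsoMaps (⇑Qf) Qf) := by
  apply Nat.card_congr
  refine Equiv.ofBijective (fun g => ⟨Matrix.mulVecLin (g.1 : Matrix ι ι F), fun z => by
    rw [Matrix.mulVecLin_apply]; exact g.2 z⟩) ⟨?_, ?_⟩
  · intro g g' h
    have h1 := congrArg Subtype.val h
    simp only at h1
    apply Subtype.ext
    apply Units.ext
    have h2 : ∀ x, (g.1 : Matrix ι ι F).mulVec x = (g'.1 : Matrix ι ι F).mulVec x := by
      intro x
      have := congrArg (fun L : (ι → F) →ₗ[F] (ι → F) => L x) h1
      simpa [Matrix.mulVecLin_apply] using this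
    ext i j
    have := congrFun (h2 (Pi.single j 1)) i
    simpa [Matrix.mulVec_single_one] using this
  · rintro ⟨T, hT⟩
    have hinj : Function.Injective T := iso_injective (⇑Qf) (fun z hz => hnd z (fun z' => hz z')) Qf T hT
    have hM : ∀ x, (LinearMap.toMatrix' T).mulVec x = T x := fun x => LinearMap.toMatrix'_mulVec T x
    have hunit : IsUnit (LinearMap.toMatrix' T) := by
      apply Matrix.mulVec_injective_iff_isUnit.1
      intro x y hxy
      rw [hM, hM] at hxy
      exact hinj hxy
    refine ⟨⟨hunit.unit, fun x => ?_⟩, ?_⟩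
    · rw [IsUnit.unit_spec, hM, hT]
    · apply Subtype.ext
      apply LinearMap.ext
      intro x
      show Matrix.mulVecLin ((hunit.unit : Matrix.GeneralLinearGroup ι F) : Matrix ι ι F) x = T x
      rw [IsUnit.unit_spec, Matrix.mulVecLin_apply, hM]

omit [Fintype F] in
/-- Changing the source of isometric maps along an isometric linear equivalence. -/
def isoMapsCongr {X X' : Type*} [AddCommGroup X] [Module F X] [AddCommGroup X'] [Module F X']
    (QX : X → F) (QX' : X' → F) (σ : X ≃ₗ[F] X') (hσ : ∀ z, QX' (σ z) = QX z)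
    {V : Type u} [AddCommGroup V] [Module F V] (Q : QuadraticForm F V) :
    IsoMaps QX' Q ≃ IsoMaps QX Q where
  toFun T := ⟨T.1 ∘ₗ σ.toLinearMap, fun z => by
    show Q (T.1 (σ z)) = QX z
    rw [T.2, hσ]⟩
  invFun T := ⟨T.1 ∘ₗ σ.symm.toLinearMap, fun z => by
    show Q (T.1 (σ.symm z)) = QX' z
    rw [T.2, ← hσ, LinearEquiv.apply_symm_apply]⟩
  left_inv T := by
    apply Subtype.ext
    apply LinearMap.ext
    intro z
    show T.1 (σ (σ.symm z)) = T.1 z
    rw [LinearEquiv.apply_symm_apply]
  right_inv T := by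
    apply Subtype.ext
    apply LinearMap.ext
    intro z
    show T.1 (σ.symm (σ z)) = T.1 z
    rw [LinearEquiv.symm_apply_apply]

/-- The order of the isometry group of a form equivalent to a standard one. -/
theorem card_isometry [Finite C] (hC : Nondeg QC) (m : ℕ) (σ : Std F C m ≃ₗ[F] (ι → F))
    (hσ : ∀ z, Qf (σ z) = stdQ QC m z) (base : ℕ)
    (hbase : ∀ (U : Type v) [AddCommGroup U] [Module F U] [Finite U] (QU : QuadraticForm F U),
      Nondeg QU → (∀ c, Nc QU c = Nc (stdQ QC 0) c) → Nat.card (IsoMaps (stdQ QC 0) QU) = base) :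
    Nat.card {g : Matrix.GeneralLinearGroup ι F // ∀ x, Qf ((g : Matrix ι ι F).mulVec x) = Qf x} =
      base * ∏ k ∈ range m, ((Nc (stdQ QC (k + 1)) 0 - 1) * Nat.card (Std F C k)) := by
  have hnd : Nondeg Qf := by
    intro x hx
    have h1 : σ.symm x = 0 := by
      apply nondeg_std QC hC m
      intro z'
      rw [← hσ, ← hσ, ← hσ, map_add, LinearEquiv.apply_symm_apply]
      exact hx (σ z')
    have := congrArg σ h1
    rwa [LinearEquiv.apply_symm_apply, map_zero] at this
  rw [card_isoGroup Qf hnd, Nat.card_congr (isoMapsCongr (stdQ QC m) (⇑Qf) σ hσ Qf)]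
  apply card_iso_std QC base hbase m (ι → F) Qf hnd
  intro c
  exact (Nc_congr σ.toEquiv (stdQ QC m) (⇑Qf) hσ c).symm

end bridge

end Cfsg.Agent.Helper9OrthCount
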