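-- helper9: isometric embeddings of an anisotropic plane into a plane with the same value
-- distribution.
import Mathlib
import Cfsg.Agent.Lib.Helper9_OrthCount
import Cfsg.Agent.Lib.Helper9_AnisoPlane

set_option autoImplicit false

namespace Cfsg.Agent.Helper9MinusBase

open Finset QuadraticMap Cfsg.Agent.Helper9OrthCount Cfsg.Agent.Helper9AnisoPlane

universe u v

variable {F : Type v} [Field F] {a b : F}
variable {U : Type u} [AddCommGroup U] [Module F U] (QU : QuadraticForm F U)

lemma Q_pair (u₁ u₂ : U) (x y : F) :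
    QU (x • u₁ + y • u₂) = x ^ 2 * QU u₁ + x * y * polar QU u₁ u₂ + y ^ 2 * QU u₂ := by
  rw [QuadraticMap.map_add (⇑QU), QuadraticMap.map_smul, QuadraticMap.map_smul, polar_smul_left,
    polar_smul_right]
  simp only [smul_eq_mul]
  ring

/-- The linear map determined by a pair of vectors. -/
def pairMap (u₁ u₂ : U) : F × F →ₗ[F] U :=
  (LinearMap.fst F F F).smulRight u₁ + (LinearMap.snd F F F).smulRight u₂

lemma pairMap_apply (u₁ u₂ : U) (p : F × F) : pairMap u₁ u₂ p = p.1 • u₁ + p.2 • u₂ := rfl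

lemma pairMap_iso (u₁ u₂ : U) (h1 : QU u₁ = 1) (h2 : QU u₂ = b) (h3 : polar QU u₁ u₂ = a)
    (p : F × F) : QU (pairMap u₁ u₂ p) = nrm a b p := by
  rw [pairMap_apply, Q_pair, h1, h2, h3]
  simp only [nrm]
  ring

/-- Standard pairs correspond to isometric maps. -/
def pairsEquiv (a b : F) :
    {p : U × U // QU p.1 = 1 ∧ QU p.2 = b ∧ polar QU p.1 p.2 = a} ≃ IsoMaps (nrm a b) QU where
  toFun p := ⟨pairMap p.1.1 p.1.2, pairMap_iso QU _ _ p.2.1 p.2.2.1 p.2.2.2⟩
  invFun T := ⟨(T.1 (1, 0), T.1 (0, 1)), by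
    refine ⟨?_, ?_, ?_⟩
    · show QU (T.1 (1, 0)) = 1
      rw [T.2]; simp [nrm]
    · show QU (T.1 (0, 1)) = b
      rw [T.2]; simp [nrm]
    · show polar QU (T.1 (1, 0)) (T.1 (0, 1)) = a
      rw [polar_iso T.1 T.2]
      simp [nrm]
      ring⟩
  left_inv p := by
    apply Subtype.ext
    refine Prod.ext ?_ ?_
    · show pairMap p.1.1 p.1.2 (1, 0) = p.1.1
      simp [pairMap_apply]
    · show pairMap p.1.1 p.1.2 (0, 1) = p.1.2
      simp [pairMap_apply]
  right_inv T := by
    apply Subtype.ext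
    apply LinearMap.ext
    intro p
    show pairMap (T.1 (1, 0)) (T.1 (0, 1)) p = T.1 p
    rw [pairMap_apply, ← map_smul, ← map_smul, ← map_add]
    congr 1
    simp

variable [Fintype F]

/-- Existence of a completion of a norm-one vector. -/
lemma exists_completion [Finite U] (h : Aniso a b) (h0 : Nc QU 0 = 1)
    (hU : Nat.card U = Fintype.card F ^ 2) (u₁ : U) (hu₁ : QU u₁ = 1) :
    ∃ u₂, QU u₂ = b ∧ polar QU u₁ u₂ = a := by
  classical
  have hq : 2 ≤ Fintype.card F := Fintype.one_lt_card
  have hsing : ∀ x : U, QU x = 0 → x = 0 := by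
    intro x hx
    unfold Nc at h0
    rw [Nat.card_eq_one_iff_unique] at h0
    obtain ⟨hs, _⟩ := h0
    have := hs.elim (⟨x, hx⟩ : {x // QU x = 0}) ⟨0, by simp⟩
    exact congrArg Subtype.val this
  have hu₁0 : u₁ ≠ 0 := by
    intro h00
    rw [h00] at hu₁
    simp at hu₁
  obtain ⟨p, hp⟩ : ∃ p : U, ∀ s : F, s • u₁ ≠ p := by
    by_contra hcon
    push Not at hcon
    have hsurj : Function.Surjective (fun s : F => s • u₁) := hcon
    have := Nat.card_le_card_of_surjective _ hsurj
    rw [hU, Nat.card_eq_fintype_card] at this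
    nlinarith
  have hani : Aniso (polar QU u₁ p) (QU p) := by
    intro z₁ z₂ hz
    have h1 : QU (z₁ • u₁ + z₂ • p) = 0 := by
      rw [Q_pair, hu₁]
      linear_combination hz
    have h2 := hsing _ h1
    by_cases hz2 : z₂ = 0
    · rw [hz2, zero_smul, add_zero] at h2
      rcases smul_eq_zero.1 h2 with h3 | h3
      · exact ⟨h3, hz2⟩
      · exact absurd h3 hu₁0
    · exfalso
      apply hp (-z₁ / z₂)
      have h3 : z₂ • p = -(z₁ • u₁) := by
        rw [eq_neg_iff_add_eq_zero, add_comm]; exact h2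
      have h4 : p = z₂⁻¹ • (z₂ • p) := by rw [smul_smul, inv_mul_cancel₀ hz2, one_smul]
      rw [h4, h3, smul_neg, smul_smul, ← neg_smul]
      congr 1
      field_simp
  obtain ⟨s, t, hst1, hst2⟩ := exists_rep h hani
  refine ⟨s • u₁ + t • p, ?_, ?_⟩
  · rw [Q_pair, hu₁]
    linear_combination hst2
  · rw [polar_add_right, polar_smul_right, polar_smul_right, polar_self, hu₁]
    simp only [smul_eq_mul, nsmul_eq_mul, Nat.cast_ofNat, mul_one]
    linear_combination hst1

/-- The number of isometric embeddings of an anisotropic plane. -/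
theorem card_iso_aniso [Finite U] (h : Aniso a b) (h0 : Nc QU 0 = 1)
    (h1 : Nc QU 1 = Fintype.card F + 1) (hU : Nat.card U = Fintype.card F ^ 2) :
    Nat.card (IsoMaps (nrm a b) QU) = 2 * (Fintype.card F + 1) := by
  classical
  have : Fintype U := Fintype.ofFinite U
  rw [← Nat.card_congr (pairsEquiv QU a b)]
  -- fibre over a fixed first vector
  have hfib : ∀ u₁ : {u : U // QU u = 1},
      Nat.card {u₂ : U // QU u₂ = b ∧ polar QU u₁.1 u₂ = a} = 2 := by
    rintro ⟨u₁, hu₁⟩
    obtain ⟨u₂, hu₂, hu₁₂⟩ := exists_completion QU h h0 hU u₁ hu₁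
    have hiso := pairMap_iso QU u₁ u₂ hu₁ hu₂ hu₁₂
    have hinj : Function.Injective (pairMap (F := F) u₁ u₂) := by
      apply iso_injective (nrm a b) _ QU (pairMap u₁ u₂) hiso
      intro z hz
      apply polar_nondeg h
      · have := hz (1, 0)
        simp only [nrm, Prod.fst_add, Prod.snd_add, add_zero, mul_zero, mul_one] at this
        linear_combination this
      · have := hz (0, 1)
        simp only [nrm, Prod.fst_add, Prod.snd_add, add_zero, mul_zero, mul_one] at this
        linear_combination this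
    have hbij : Function.Bijective (pairMap (F := F) u₁ u₂) := by
      apply hinj.bijective_of_nat_card_le
      rw [hU, Nat.card_prod, Nat.card_eq_fintype_card]
      exact le_of_eq (by ring)
    have h10 : pairMap (F := F) u₁ u₂ (1, 0) = u₁ := by simp [pairMap_apply]
    have hcongr : Nat.card {u₂' : U // QU u₂' = b ∧ polar QU u₁ u₂' = a} =
        Nat.card {p : F × F // nrm a b p = b ∧ 2 * p.1 + a * p.2 = a} := by
      apply Nat.card_congr
      symm
      apply (Equiv.ofBijective _ hbij).subtypeEquiv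
      intro p
      show _ ↔ QU (pairMap u₁ u₂ p) = b ∧ polar QU u₁ (pairMap u₁ u₂ p) = a
      have hpol : polar QU u₁ (pairMap (F := F) u₁ u₂ p) = 2 * p.1 + a * p.2 := by
        have := polar_iso (pairMap (F := F) u₁ u₂) hiso (1, 0) p
        rw [h10] at this
        rw [this]
        simp only [nrm, Prod.fst_add, Prod.snd_add]
        ring
      rw [hiso, hpol]
    rw [hcongr, Nat.card_eq_fintype_card, Fintype.card_subtype]
    have : (Finset.univ.filter fun p : F × F => nrm a b p = b ∧ 2 * p.1 + a * p.2 = a) =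
        {(0, 1), (a, -1)} := by
      ext p
      simp only [Finset.mem_filter, Finset.mem_univ, true_and, Finset.mem_insert,
        Finset.mem_singleton]
      exact completions h p
    rw [this, Finset.card_pair (completions_ne h)]
  have hsig : {p : U × U // QU p.1 = 1 ∧ QU p.2 = b ∧ polar QU p.1 p.2 = a} ≃
      Σ u₁ : {u : U // QU u = 1}, {u₂ : U // QU u₂ = b ∧ polar QU u₁.1 u₂ = a} :=
    { toFun := fun p => ⟨⟨p.1.1, p.2.1⟩, ⟨p.1.2, p.2.2⟩⟩
      invFun := fun s => ⟨(s.1.1, s.2.1), ⟨s.1.2, s.2.2⟩⟩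
      left_inv := fun p => rfl
      right_inv := fun s => rfl }
  rw [Nat.card_congr hsig, Nat.card_sigma]
  simp only [hfib]
  rw [Finset.sum_const, Finset.card_univ, smul_eq_mul, ← Nat.card_eq_fintype_card]
  have : Nat.card {u : U // QU u = 1} = Fintype.card F + 1 := h1
  rw [this]
  ring

end Cfsg.Agent.Helper9MinusBase
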