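-- helper9: the type (plus/minus) of an even-dimensional quadratic space over a finite field of odd
-- order is read off from its discriminant.
import Mathlib
import Cfsg.Agent.Lib.Helper4_QF10
import Cfsg.Agent.S0760

set_option autoImplicit false

namespace Cfsg.Agent.Helper9QType

open QuadraticMap Module Matrix Cfsg.Agent.Lib.Helper4_QF7 Cfsg.Agent.Lib.Helper4_Gram1
  Cfsg.Agent.Lib.Helper4_Gram2 Cfsg.Agent.Lib.Helper4_QF8 Cfsg.Agent.Lib.Helper4_QF9

variable {F V : Type*} [Field F] [AddCommGroup V] [Module F V]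

/-- `Q` vanishes on the span of pairwise orthogonal singular vectors. -/
theorem span_singular {ι : Type*} (Q : QuadraticForm F V) (e : ι → V) (hQ : ∀ i, Q (e i) = 0)
    (hp : ∀ i j, polar Q (e i) (e j) = 0) :
    ∀ x ∈ Submodule.span F (Set.range e), Q x = 0 := by
  have h1 : ∀ x ∈ Submodule.span F (Set.range e), ∀ j, polar Q x (e j) = 0 := by
    intro x hx j
    induction hx using Submodule.span_induction with
    | mem x hx => obtain ⟨i, rfl⟩ := hx; exact hp i j
    | zero => simp
    | add x y _ _ hx hy => rw [polar_add_left, hx, hy, add_zero]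
    | smul a x _ hx => rw [polar_smul_left, hx, smul_zero]
  have h2 : ∀ x ∈ Submodule.span F (Set.range e), ∀ y ∈ Submodule.span F (Set.range e),
      polar Q x y = 0 := by
    intro x hx y hy
    induction hy using Submodule.span_induction with
    | mem y hy => obtain ⟨j, rfl⟩ := hy; exact h1 x hx j
    | zero => simp
    | add y z _ _ hy hz => rw [polar_add_right, hy, hz, add_zero]
    | smul a y _ hy => rw [polar_smul_right, hy, smul_zero]
  intro x hx
  induction hx using Submodule.span_induction with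
  | mem x hx => obtain ⟨i, rfl⟩ := hx; exact hQ i
  | zero => simp
  | add x y hx' hy' hx hy =>
    rw [QuadraticMap.map_add (⇑Q) x y, hx, hy, h2 x hx' y hy']; simp
  | smul a x _ hx => rw [QuadraticMap.map_smul, hx, smul_zero]

/-- polar vanishes on a totally singular subspace -/
theorem polar_zero_of_ts (Q : QuadraticForm F V) (W : Submodule F V) (h : ∀ w ∈ W, Q w = 0)
    (x y : V) (hx : x ∈ W) (hy : y ∈ W) : polar Q x y = 0 := by
  unfold polar
  rw [h _ (W.add_mem hx hy), h x hx, h y hy]; simp

/-- In the elliptic normal form, the span of the `e_i` is a maximal totally singular subspace. -/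
theorem ell_maximal (Q : QuadraticForm F V) {k : ℕ}
    (b : Module.Basis ((Fin k ⊕ Fin k) ⊕ Fin 2) F V) (ζ : F)
    (hirr : ∀ t : F, t ^ 2 + t + ζ ≠ 0)
    (hQb : ∀ i, Q (b (Sum.inl (Sum.inl i))) = 0 ∧ Q (b (Sum.inl (Sum.inr i))) = 0)
    (hef : ∀ i j, polar Q (b (Sum.inl (Sum.inl i))) (b (Sum.inl (Sum.inr j))) =
        if i = j then 1 else 0)
    (hee : ∀ i j, polar Q (b (Sum.inl (Sum.inl i))) (b (Sum.inl (Sum.inl j))) = 0 ∧
        polar Q (b (Sum.inl (Sum.inr i))) (b (Sum.inl (Sum.inr j))) = 0)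
    (hP : ∀ i (l : Fin 2), polar Q (b (Sum.inl (Sum.inl i))) (b (Sum.inr l)) = 0 ∧
        polar Q (b (Sum.inl (Sum.inr i))) (b (Sum.inr l)) = 0)
    (hX : Q (b (Sum.inr 0)) = 1) (hXY : polar Q (b (Sum.inr 0)) (b (Sum.inr 1)) = 1)
    (hY : Q (b (Sum.inr 1)) = ζ)
    (W : Submodule F V)
    (hEW : Submodule.span F (Set.range fun i : Fin k => b (Sum.inl (Sum.inl i))) ≤ W)
    (hW : ∀ w ∈ W, Q w = 0) :
    W = Submodule.span F (Set.range fun i : Fin k => b (Sum.inl (Sum.inl i))) := by
  classical
  apply le_antisymm _ hEW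
  intro w hw
  have hsum := b.sum_repr w
  rw [Fintype.sum_sum_type, Fintype.sum_sum_type, Fin.sum_univ_two] at hsum
  -- the f-coefficients vanish
  have hβ : ∀ i, b.repr w (Sum.inl (Sum.inr i)) = 0 := by
    intro i
    have hmem : b (Sum.inl (Sum.inl i)) ∈ W := hEW (Submodule.subset_span ⟨i, rfl⟩)
    have h0 := polar_zero_of_ts Q W hW _ _ hmem hw
    rw [← polarBilin_apply_apply] at h0
    conv at h0 => lhs; rw [← hsum]
    simp only [map_add, map_sum, map_smul, polarBilin_apply_apply, smul_eq_mul, (hee _ _).1,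
      hef, (hP _ _).1, mul_zero, Finset.sum_const_zero, mul_ite, mul_one, Finset.sum_ite_eq,
      Finset.mem_univ, if_true, zero_add, add_zero] at h0
    exact h0
  obtain ⟨u, hu⟩ : ∃ u, u = ∑ i, b.repr w (Sum.inl (Sum.inl i)) • b (Sum.inl (Sum.inl i)) :=
    ⟨_, rfl⟩
  have huE : u ∈ Submodule.span F (Set.range fun i : Fin k => b (Sum.inl (Sum.inl i))) := by
    rw [hu]
    apply Submodule.sum_mem
    intro i _
    exact Submodule.smul_mem _ _ (Submodule.subset_span ⟨i, rfl⟩)
  obtain ⟨s, hs⟩ : ∃ s, s = b.repr w (Sum.inr 0) := ⟨_, rfl⟩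
  obtain ⟨t, ht⟩ : ∃ t, t = b.repr w (Sum.inr 1) := ⟨_, rfl⟩
  have hw' : w = u + (s • b (Sum.inr 0) + t • b (Sum.inr 1)) := by
    rw [← hsum, hu, hs, ht]
    simp only [hβ, zero_smul, Finset.sum_const_zero, add_zero]
  have hQu : Q u = 0 :=
    span_singular Q (fun i : Fin k => b (Sum.inl (Sum.inl i))) (fun i => (hQb i).1)
      (fun i j => (hee i j).1) u huE
  have hpu : ∀ l : Fin 2, polar Q u (b (Sum.inr l)) = 0 := by
    intro l
    rw [hu, ← polarBilin_apply_apply]
    simp only [map_sum, map_smul, LinearMap.sum_apply, LinearMap.smul_apply,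
      polarBilin_apply_apply, (hP _ _).1, smul_zero, Finset.sum_const_zero]
  have hQw := hW w hw
  have e1 : Q (s • b (Sum.inr 0) + t • b (Sum.inr 1)) = s ^ 2 + s * t + ζ * t ^ 2 := by
    rw [QuadraticMap.map_add (⇑Q) (s • b (Sum.inr 0)) (t • b (Sum.inr 1)), QuadraticMap.map_smul,
      QuadraticMap.map_smul, hX, hY, polar_smul_left, polar_smul_right, hXY]
    simp only [smul_eq_mul, mul_one]
    ring
  have e2 : polar Q u (s • b (Sum.inr 0) + t • b (Sum.inr 1)) = 0 := by
    rw [polar_add_right, polar_smul_right, polar_smul_right, hpu 0, hpu 1]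
    simp
  rw [hw', QuadraticMap.map_add (⇑Q) u _, hQu, e1, e2] at hQw
  have hst : s ^ 2 + s * t + ζ * t ^ 2 = 0 := by linear_combination hQw
  have ht0 : t = 0 := by
    by_contra htne
    apply hirr (s / t)
    field_simp
    linear_combination hst
  have hs0 : s = 0 := by
    rw [ht0] at hst
    have : s ^ 2 = 0 := by linear_combination hst
    exact pow_eq_zero_iff (two_ne_zero) |>.mp this
  rw [hw', hs0, ht0, zero_smul, zero_smul, add_zero, add_zero]
  exact huE

/-- **Type criterion.** A non-degenerate quadratic space of dimension `2m` over a finite field of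
odd order has a totally singular `m`-subspace iff `(-1)^m` times its discriminant is a square. -/
theorem type_iff [Fintype F] (h2 : (2 : F) ≠ 0) [FiniteDimensional F V] (m : ℕ) (hm : 1 ≤ m)
    (hV : finrank F V = 2 * m) (Q : QuadraticForm F V) (hQ : (polarBilin Q).Nondegenerate)
    {ι : Type*} [Fintype ι] [DecidableEq ι] (c : Module.Basis ι F V) :
    (∃ W : Submodule F V, finrank F W = m ∧ ∀ w ∈ W, Q w = 0) ↔
      IsSquare ((-1) ^ m * (Matrix.of fun i j => polar Q (c i) (c j)).det) := by
  classical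
  obtain ⟨m', rfl⟩ : ∃ m', m = m' + 1 := ⟨m - 1, by omega⟩
  rcases Cfsg.Agent.Lib.Helper4_QF4.even_main m' hV Q hQ with
    ⟨b, hb1, hb2, hb3⟩ | ⟨b, ζ, hirr, a1, a2, a3, a4, a5, a6, a7⟩
  · -- hyperbolic
    have hr := realizes_hyp Q b hb1 hb2 hb3
    obtain ⟨s, hs, hdet⟩ := disc_of_realizes Q b (Tm F (m' + 1)) hr c
    rw [Tm_add, det_hyp] at hdet
    constructor
    · intro _
      rw [hdet]
      exact ⟨s * (-1) ^ (m' + 1), by ring⟩
    · intro _
      refine ⟨Submodule.span F (Set.range fun i : Fin (m' + 1) => b (Sum.inl i)), ?_, ?_⟩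
      · have hli : LinearIndependent F (fun i : Fin (m' + 1) => b (Sum.inl i)) :=
          b.linearIndependent.comp Sum.inl Sum.inl_injective
        rw [finrank_span_eq_card hli, Fintype.card_fin]
      · exact span_singular Q _ (fun i => (hb1 i).1) (fun i j => (hb3 i j).1)
  · -- elliptic
    have hr := realizes_ell Q b ζ a1 a2 a3 a4 a5 a6 a7
    obtain ⟨s, hs, hdet⟩ := disc_of_realizes Q b (Te F m' 1 ζ) hr c
    rw [det_ell] at hdet
    have hns := irr_nonsquare h2 ζ hirr
    constructor
    · rintro ⟨W, hWdim, hW⟩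
      exfalso
      set E := Submodule.span F (Set.range fun i : Fin m' => b (Sum.inl (Sum.inl i))) with hE
      have hEs : ∀ x ∈ E, Q x = 0 :=
        span_singular Q _ (fun i => (a1 i).1) (fun i j => (a3 i j).1)
      have hEdim : finrank F E = m' := by
        have hli : LinearIndependent F (fun i : Fin m' => b (Sum.inl (Sum.inl i))) :=
          b.linearIndependent.comp (fun i => Sum.inl (Sum.inl i))
            (fun i j h => Sum.inl_injective (Sum.inl_injective h))
        rw [hE, finrank_span_eq_card hli, Fintype.card_fin]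
      have hmax : ∀ W' : Submodule F V, E ≤ W' → (∀ w ∈ W', Q w = 0) → W' = E :=
        fun W' hEW' hW' => ell_maximal Q b ζ hirr a1 a2 a3 a4 a5 a6 a7 W' hEW' hW'
      have := Cfsg.Agent.S0760.le_of_max Q hQ E W hEs hW hmax
      omega
    · intro hsq
      exfalso
      rw [hdet] at hsq
      have e : (-1 : F) ^ (m' + 1) * (s ^ 2 * ((-1) ^ (m' + 1) * (1 ^ 2 - 4 * ζ))) =
          (s * (-1) ^ (m' + 1)) ^ 2 * (1 - 4 * ζ) := by ring
      rw [e, isSquare_mul_sq _ _ (mul_ne_zero hs (pow_ne_zero _ (neg_ne_zero.2 one_ne_zero)))]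
        at hsq
      exact hns hsq

/-- Bilinear version of the type criterion. -/
theorem bilin_type_iff [Fintype F] (h2 : (2 : F) ≠ 0) [FiniteDimensional F V] (m : ℕ)
    (hm : 1 ≤ m) (hV : finrank F V = 2 * m) (B : LinearMap.BilinForm F V)
    (hB : B.Nondegenerate) (hS : B.IsSymm)
    {ι : Type*} [Fintype ι] [DecidableEq ι] (c : Module.Basis ι F V) :
    (∃ X : Submodule F V, finrank F X = m ∧ ∀ x ∈ X, ∀ y ∈ X, B x y = 0) ↔
      IsSquare ((-1) ^ m * (LinearMap.BilinForm.toMatrix c B).det) := by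
  classical
  have hsymm : ∀ x y, B y x = B x y := fun x y => (hS.eq x y).symm
  set Q : QuadraticForm F V := LinearMap.BilinMap.toQuadraticMap B with hQdef
  have hQa : ∀ x, Q x = B x x := fun x => LinearMap.BilinMap.toQuadraticMap_apply B x
  have hpol : ∀ x y, polar Q x y = 2 * B x y := by
    intro x y
    rw [hQdef, LinearMap.BilinMap.polar_toQuadraticMap, hsymm x y]; ring
  have hQ : (polarBilin Q).Nondegenerate := by
    constructor
    · intro x hx
      apply hB.1 x
      intro y
      have := hx y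
      rw [polarBilin_apply_apply, hpol] at this
      exact (mul_eq_zero.1 this).resolve_left h2
    · intro y hy
      apply hB.2 y
      intro x
      have := hy x
      rw [polarBilin_apply_apply, hpol] at this
      exact (mul_eq_zero.1 this).resolve_left h2
  have key := type_iff h2 m hm hV Q hQ c
  have hgram : (Matrix.of fun i j => polar Q (c i) (c j)) =
      (2 : F) • LinearMap.BilinForm.toMatrix c B := by
    ext i j
    simp only [Matrix.of_apply, Matrix.smul_apply, LinearMap.BilinForm.toMatrix_apply,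
      smul_eq_mul, hpol]
  have hcard : Fintype.card ι = 2 * m := by
    rw [← Module.finrank_eq_card_basis c, hV]
  rw [hgram, Matrix.det_smul, hcard] at key
  have e : (-1 : F) ^ m * ((2 : F) ^ (2 * m) * (LinearMap.BilinForm.toMatrix c B).det) =
      ((2 : F) ^ m) ^ 2 * ((-1) ^ m * (LinearMap.BilinForm.toMatrix c B).det) := by ring
  rw [e, isSquare_mul_sq _ _ (pow_ne_zero _ h2)] at key
  rw [← key]
  constructor
  · rintro ⟨X, hX, h⟩
    exact ⟨X, hX, fun w hw => by rw [hQa]; exact h w hw w hw⟩
  · rintro ⟨X, hX, h⟩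
    refine ⟨X, hX, fun x hx y hy => ?_⟩
    have := polar_zero_of_ts Q X h x y hx hy
    rw [hpol] at this
    exact (mul_eq_zero.1 this).resolve_left h2

end Cfsg.Agent.Helper9QType
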