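import Mathlib

/-! Counting zeros of `x ⬝ y + Q₀ w` over a finite field. -/

set_option autoImplicit false

namespace Cfsg.Agent.Helper9QuadCount

open Finset

variable {F : Type*} [Field F] [Fintype F] [DecidableEq F]

/-- number of solutions of `x ⬝ y = c` for fixed `x ≠ 0` -/
lemma card_hyperplane {ι : Type*} [Fintype ι] [DecidableEq ι] (x : ι → F) (hx : x ≠ 0) (c : F) :
    #{y : ι → F | ∑ i, x i * y i = c} = Fintype.card F ^ (Fintype.card ι - 1) := by
  let φ : (ι → F) →+ F :=
    { toFun := fun y => ∑ i, x i * y i
      map_zero' := by simp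
      map_add' := by intro a b; simp [mul_add, Finset.sum_add_distrib] }
  obtain ⟨i0, hi0⟩ : ∃ i, x i ≠ 0 := by
    by_contra h
    push Not at h
    exact hx (funext h)
  have hsurj : Function.Surjective φ := by
    intro c
    refine ⟨Pi.single i0 (c / x i0), ?_⟩
    show ∑ i, x i * (Pi.single i0 (c / x i0) : ι → F) i = c
    rw [Finset.sum_eq_single i0]
    · simp only [Pi.single_eq_same]
      field_simp
    · intro j _ hj
      simp [Pi.single_apply, hj]
    · simp
  have hfib : ∀ c', #{y : ι → F | φ y = c'} = #{y : ι → F | φ y = c} := fun c' =>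
    AddMonoidHom.card_fiber_eq_of_mem_range φ (by rw [hsurj.range_eq]; trivial)
      (by rw [hsurj.range_eq]; trivial)
  have h1 := Finset.card_eq_sum_card_fiberwise (f := φ) (s := (univ : Finset (ι → F)))
    (t := (univ : Finset F)) (by intro a _; simp)
  simp only [hfib] at h1
  rw [Finset.sum_const, Finset.card_univ, Finset.card_univ, Fintype.card_fun, smul_eq_mul] at h1
  have hpos : 0 < Fintype.card ι := Fintype.card_pos_iff.2 ⟨i0⟩
  have hq : 0 < Fintype.card F := Fintype.card_pos
  have h2 : Fintype.card F ^ Fintype.card ι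
      = Fintype.card F * Fintype.card F ^ (Fintype.card ι - 1) := by
    rw [← pow_succ', Nat.sub_add_cancel hpos]
  rw [h2] at h1
  have h3 := Nat.eq_of_mul_eq_mul_left hq h1
  exact h3.symm

/-- the main count -/
theorem card_zeros {W : Type*} [Fintype W] (m : ℕ) (Q0 : W → F) :
    Fintype.card {p : (Fin m → F) × (W × (Fin m → F)) //
        ∑ i, p.1 i * p.2.2 i + Q0 p.2.1 = 0}
      = Fintype.card F ^ m * Fintype.card {w // Q0 w = 0}
        + (Fintype.card F ^ m - 1) * (Fintype.card F ^ (m - 1) * Fintype.card W) := by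
  classical
  rw [Fintype.card_subtype, Finset.card_filter, Fintype.sum_prod_type]
  simp only [Fintype.sum_prod_type]
  have hx0 : ∀ w : W, (∑ y : Fin m → F,
      if ∑ i, (0 : Fin m → F) i * y i + Q0 w = 0 then 1 else 0)
      = if Q0 w = 0 then Fintype.card F ^ m else 0 := by
    intro w
    simp only [Pi.zero_apply, zero_mul, Finset.sum_const_zero, zero_add]
    split_ifs with h
    · simp [Finset.card_univ, Fintype.card_fun]
    · simp
  have hxne : ∀ x : Fin m → F, x ≠ 0 → ∀ w : W, (∑ y : Fin m → F,
      if ∑ i, x i * y i + Q0 w = 0 then 1 else 0) = Fintype.card F ^ (m - 1) := by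
    intro x hx w
    rw [← Finset.card_filter]
    have := card_hyperplane x hx (- Q0 w)
    rw [Fintype.card_fin] at this
    rw [← this]
    congr 1
    ext y
    simp only [Finset.mem_filter, Finset.mem_univ, true_and]
    constructor
    · intro h; exact eq_neg_of_add_eq_zero_left h
    · intro h; rw [h]; exact neg_add_cancel _
  rw [Fintype.sum_eq_add_sum_compl (0 : Fin m → F)]
  congr 1
  · simp only [hx0]
    rw [← Finset.sum_filter, Finset.sum_const, smul_eq_mul, mul_comm, Fintype.card_subtype]
  · rw [Finset.sum_congr rfl (fun x hx => Finset.sum_congr rfl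
      (fun w _ => hxne x (by simpa using hx) w))]
    simp only [Finset.sum_const, smul_eq_mul, Finset.card_univ]
    rw [Finset.card_compl, Finset.card_singleton, Fintype.card_fun, Fintype.card_fin]
    ring

omit [DecidableEq F] in
/-- instance-free version of `card_zeros` -/
theorem card_zeros' {W : Type*} [Finite W] (m : ℕ) (Q0 : W → F) :
    Nat.card {p : (Fin m → F) × (W × (Fin m → F)) //
        ∑ i, p.1 i * p.2.2 i + Q0 p.2.1 = 0}
      = Nat.card F ^ m * Nat.card {w // Q0 w = 0}
        + (Nat.card F ^ m - 1) * (Nat.card F ^ (m - 1) * Nat.card W) := by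
  classical
  have : Fintype W := Fintype.ofFinite W
  simp only [Nat.card_eq_fintype_card]
  exact card_zeros m Q0

end Cfsg.Agent.Helper9QuadCount
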