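import Mathlib
import Cfsg.Prelude.Def_LieRecognition

set_option autoImplicit false

namespace Cfsg.Agent.Helper9RO

variable {G Ω : Type*} [Group G] [MulAction G Ω] {a : Ω} {t : G} {Q : Subgroup G}

theorem t_inv (hS : Cfsg.IsRankOneSetup G Ω a t Q) : t⁻¹ = t :=
  inv_eq_of_mul_eq_one_right hS.mul_self

theorem tt_mul (hS : Cfsg.IsRankOneSetup G Ω a t Q) (z : G) : t * (t * z) = z := by
  rw [← mul_assoc, hS.mul_self, one_mul]

theorem conj_D (hS : Cfsg.IsRankOneSetup G Ω a t Q) {d : G}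
    (hd : d ∈ MulAction.stabilizer G a ⊓ MulAction.stabilizer G (t • a)) :
    t * d * t ∈ MulAction.stabilizer G a ⊓ MulAction.stabilizer G (t • a) := by
  rw [Subgroup.mem_inf, MulAction.mem_stabilizer_iff, MulAction.mem_stabilizer_iff] at hd ⊢
  obtain ⟨h1, h2⟩ := hd
  constructor
  · rw [mul_smul, mul_smul, h2, ← mul_smul, hS.mul_self, one_smul]
  · rw [mul_smul, mul_smul, ← mul_smul t t, hS.mul_self, one_smul, h1]

theorem Q_inf_D (hS : Cfsg.IsRankOneSetup G Ω a t Q) {q : G} (hq : q ∈ Q)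
    (hd : q ∈ MulAction.stabilizer G a ⊓ MulAction.stabilizer G (t • a)) : q = 1 := by
  have h1 : q ∈ Q ⊓ MulAction.stabilizer G (t • a) := ⟨hq, hd.2⟩
  rw [hS.inf_eq_bot] at h1
  exact Subgroup.mem_bot.mp h1

theorem Q_conj (hS : Cfsg.IsRankOneSetup G Ω a t Q) {d q : G}
    (hd : d ∈ MulAction.stabilizer G a ⊓ MulAction.stabilizer G (t • a)) (hq : q ∈ Q) :
    d * q * d⁻¹ ∈ Q := hS.conj_mem d hd.1 q hq

theorem Q_conj' (hS : Cfsg.IsRankOneSetup G Ω a t Q) {d q : G}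
    (hd : d ∈ MulAction.stabilizer G a ⊓ MulAction.stabilizer G (t • a)) (hq : q ∈ Q) :
    d⁻¹ * q * d ∈ Q := by
  have h1 := hS.conj_mem d⁻¹ (inv_mem hd.1) q hq
  rwa [inv_inv] at h1

theorem unique_form (hS : Cfsg.IsRankOneSetup G Ω a t Q) {g h f g' h' f' : G}
    (hg : g ∈ Q) (hh : h ∈ MulAction.stabilizer G a ⊓ MulAction.stabilizer G (t • a)) (hf : f ∈ Q)
    (hg' : g' ∈ Q) (hh' : h' ∈ MulAction.stabilizer G a ⊓ MulAction.stabilizer G (t • a))
    (hf' : f' ∈ Q) (heq : g * h * t * f = g' * h' * t * f') : g = g' ∧ h = h' ∧ f = f' := by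
  have ht := hS.mul_self
  have key : t * (f' * f⁻¹) * t = (g' * h')⁻¹ * (g * h) := by
    have h1 : (g' * h')⁻¹ * (g * h) = t * f' * f⁻¹ * t⁻¹ := by
      calc (g' * h')⁻¹ * (g * h) = (g' * h')⁻¹ * (g * h * t * f) * (t * f)⁻¹ := by group
        _ = (g' * h')⁻¹ * (g' * h' * t * f') * (t * f)⁻¹ := by rw [heq]
        _ = t * f' * f⁻¹ * t⁻¹ := by group
    rw [h1, t_inv hS]; group
  have hq : f' * f⁻¹ ∈ Q := mul_mem hf' (inv_mem hf)
  have hqa : f' * f⁻¹ ∈ MulAction.stabilizer G a := hS.le hq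
  have he : t * (f' * f⁻¹) * t ∈
      MulAction.stabilizer G a ⊓ MulAction.stabilizer G (t • a) := by
    refine Subgroup.mem_inf.mpr ⟨?_, ?_⟩
    · rw [key]
      exact mul_mem (inv_mem (mul_mem (hS.le hg') hh'.1)) (mul_mem (hS.le hg) hh.1)
    · rw [MulAction.mem_stabilizer_iff] at hqa ⊢
      rw [mul_smul, mul_smul, ← mul_smul t t, ht, one_smul, hqa]
  have hqD := conj_D hS he
  have hqq : t * (t * (f' * f⁻¹) * t) * t = f' * f⁻¹ := by
    simp only [mul_assoc, tt_mul hS, ht, mul_one]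
  rw [hqq] at hqD
  have hq1 := Q_inf_D hS hq hqD
  have hff : f = f' := (mul_inv_eq_one.mp hq1).symm
  subst hff
  have h2 : g * h = g' * h' := by
    have h3 := mul_right_cancel heq
    exact mul_right_cancel h3
  have h4 : g'⁻¹ * g = h' * h⁻¹ := by
    calc g'⁻¹ * g = g'⁻¹ * (g * h) * h⁻¹ := by group
      _ = g'⁻¹ * (g' * h') * h⁻¹ := by rw [h2]
      _ = h' * h⁻¹ := by group
  have h5 : g'⁻¹ * g = 1 :=
    Q_inf_D hS (mul_mem (inv_mem hg') hg) (by rw [h4]; exact mul_mem hh' (inv_mem hh))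
  have hgg : g = g' := (inv_mul_eq_one.mp h5).symm
  subst hgg
  exact ⟨rfl, mul_left_cancel h2, rfl⟩

end Cfsg.Agent.Helper9RO
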