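-- helper9: the order of the special unitary group, via the determinant on GU.
import Mathlib
import Cfsg.Prelude.Def_LieClassical
import Cfsg.Agent.Lib.Helper9_GUOrder

set_option autoImplicit false

namespace Cfsg.Agent.Helper9SUOrder

open Finset Cfsg Cfsg.Agent.Helper9HermCount Cfsg.Agent.Helper9GUOrder

variable {F : Type*} [Field F] [Fintype F] [DecidableEq F] {q : ℕ} {n : ℕ}

/-- Entrywise relation satisfied by a unitary matrix. -/
lemma gu_entry (hq : q ≠ 0) (M : Matrix (Fin n) (Fin n) F)
    (hM : ∀ u v, hermForm n F q (M.mulVec u) (M.mulVec v) = hermForm n F q u v) (i j : Fin n) :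
    ∑ r, M r i * (M r j) ^ q = if i = j then 1 else 0 := by
  have := hM (Pi.single i 1) (Pi.single j 1)
  rw [herm_single hq, Pi.single_apply] at this
  simp only [Matrix.mulVec_single_one] at this
  have h2 : (if j = i then (1 : F) else 0) = if i = j then 1 else 0 := by simp only [eq_comm]
  rw [← h2, ← this]
  rfl

lemma det_pow_eq_one (hF : Fintype.card F = q ^ 2) (M : Matrix (Fin n) (Fin n) F)
    (hM : ∀ u v, hermForm n F q (M.mulVec u) (M.mulVec v) = hermForm n F q u v) :
    M.det ^ (q + 1) = 1 := by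
  have hq := q_ge_two hF
  obtain ⟨p, j, hpp, hp, rfl⟩ := exists_char_pow hF
  have : Fact p.Prime := ⟨hpp⟩
  let σ : F →+* F := iterateFrobenius F p j
  have hσ : ∀ x, σ x = x ^ p ^ j := fun x => rfl
  have h1 : M.transpose * (σ.mapMatrix M) = 1 := by
    ext a b
    rw [Matrix.mul_apply, Matrix.one_apply]
    simp only [Matrix.transpose_apply, RingHom.mapMatrix_apply, Matrix.map_apply, hσ]
    exact gu_entry (by omega) M hM a b
  have h2 := congrArg Matrix.det h1
  rw [Matrix.det_mul, Matrix.det_transpose, ← RingHom.map_det, Matrix.det_one, hσ] at h2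
  rw [pow_succ', h2]

/-- The determinant on `GU`. -/
noncomputable def detGU (n : ℕ) (F : Type*) [Field F] (q : ℕ) : GU n F q →* Fˣ :=
  Matrix.GeneralLinearGroup.det.comp (GU n F q).subtype

lemma detGU_val (g : GU n F q) :
    ((detGU n F q g : Fˣ) : F) = ((g.1 : Matrix.GeneralLinearGroup (Fin n) F) :
      Matrix (Fin n) (Fin n) F).det := rfl

lemma diag_mem (hn : 1 ≤ n) (lam : F) (hlam : lam ^ (q + 1) = 1) (u v : Fin n → F) :
    hermForm n F q ((Matrix.diagonal (Function.update (1 : Fin n → F) ⟨0, hn⟩ lam)).mulVec u)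
      ((Matrix.diagonal (Function.update (1 : Fin n → F) ⟨0, hn⟩ lam)).mulVec v)
      = hermForm n F q u v := by
  unfold hermForm
  apply Finset.sum_congr rfl
  intro i _
  rw [Matrix.mulVec_diagonal, Matrix.mulVec_diagonal, mul_pow]
  have : (Function.update (1 : Fin n → F) ⟨0, hn⟩ lam i) ^ (q + 1) = 1 := by
    by_cases hi : i = ⟨0, hn⟩
    · rw [hi, Function.update_self, hlam]
    · rw [Function.update_of_ne hi]; simp
  rw [pow_succ'] at this
  calc _ = (Function.update (1 : Fin n → F) ⟨0, hn⟩ lam i *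
        (Function.update (1 : Fin n → F) ⟨0, hn⟩ lam i) ^ q) * (u i * v i ^ q) := by ring
    _ = _ := by rw [this, one_mul]

lemma det_diag (hn : 1 ≤ n) (lam : F) :
    (Matrix.diagonal (Function.update (1 : Fin n → F) ⟨0, hn⟩ lam)).det = lam := by
  rw [Matrix.det_diagonal, Finset.prod_update_of_mem (Finset.mem_univ _)]
  simp

lemma detGU_range (hF : Fintype.card F = q ^ 2) (hn : 1 ≤ n) (lam : Fˣ) :
    lam ∈ (detGU n F q).range ↔ (lam : F) ^ (q + 1) = 1 := by
  constructor
  · rintro ⟨g, rfl⟩
    rw [detGU_val]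
    exact det_pow_eq_one hF _ ((mem_GU_iff g.1).1 g.2)
  · intro h
    set D : Matrix (Fin n) (Fin n) F := Matrix.diagonal (Function.update (1 : Fin n → F) ⟨0, hn⟩ lam)
      with hD
    have hdet : D.det = lam := det_diag hn _
    have hU : IsUnit D := by
      rw [Matrix.isUnit_iff_isUnit_det, hdet]; exact lam.isUnit
    refine ⟨⟨hU.unit, ?_⟩, ?_⟩
    · rw [mem_GU_iff]
      intro u v
      rw [hU.unit_spec]
      exact diag_mem hn _ h u v
    · apply Units.ext
      rw [detGU_val]
      show ((hU.unit : Matrix.GeneralLinearGroup (Fin n) F) : Matrix (Fin n) (Fin n) F).det = _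
      rw [hU.unit_spec, hdet]

lemma card_range (hF : Fintype.card F = q ^ 2) (hn : 1 ≤ n) :
    Nat.card (detGU n F q).range = q + 1 := by
  have h1 : (1 : F) ∈ (S F q).erase 0 := by
    rw [mem_erase]; exact ⟨one_ne_zero, one_mem_S⟩
  have h2 := (counts hF).1 1 h1
  rw [← h2]
  rw [← Nat.card_eq_finsetCard]
  apply Nat.card_congr
  refine
    { toFun := fun x => ⟨(x.1 : F), mem_fiber.2 ((detGU_range hF hn x.1).1 x.2)⟩
      invFun := fun x => ⟨Units.mk0 x.1 (by
        intro h0
        have := mem_fiber.1 x.2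
        rw [h0, zero_pow (Nat.succ_ne_zero q)] at this
        exact zero_ne_one this), (detGU_range hF hn _).2 (mem_fiber.1 x.2)⟩
      left_inv := fun x => by apply Subtype.ext; apply Units.ext; rfl
      right_inv := fun x => by apply Subtype.ext; rfl }

/-- `SU` embeds in `GU`. -/
def suToGU (n : ℕ) (F : Type*) [Field F] (q : ℕ) (A : SU n F q) : GU n F q :=
  ⟨Matrix.SpecialLinearGroup.toGL A.1, A.2⟩

lemma suToGU_injective : Function.Injective (suToGU n F q) := by
  intro A B h
  apply Subtype.ext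
  apply Matrix.SpecialLinearGroup.toGL_injective
  exact congrArg Subtype.val h

lemma suToGU_range : Set.range (suToGU n F q) = ((detGU n F q).ker : Set (GU n F q)) := by
  ext g
  constructor
  · rintro ⟨A, rfl⟩
    rw [SetLike.mem_coe, MonoidHom.mem_ker]
    apply Units.ext
    rw [detGU_val]
    exact A.1.2
  · intro hg
    rw [SetLike.mem_coe, MonoidHom.mem_ker] at hg
    have hdet : ((g.1 : Matrix.GeneralLinearGroup (Fin n) F) : Matrix (Fin n) (Fin n) F).det = 1 := by
      rw [← detGU_val, hg]; rfl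
    refine ⟨⟨⟨_, hdet⟩, ?_⟩, ?_⟩
    · exact g.2
    · apply Subtype.ext
      apply Units.ext
      rfl

theorem card_SU (hF : Fintype.card F = q ^ 2) (hn : 1 ≤ n) :
    (q + 1) * Nat.card (SU n F q) = Nat.card (GU n F q) := by
  have h1 := Subgroup.card_mul_index (detGU n F q).ker
  rw [Subgroup.index_ker, card_range hF hn] at h1
  rw [← h1, mul_comm]
  congr 1
  rw [← Nat.card_range_of_injective (suToGU_injective (n := n) (F := F) (q := q)), suToGU_range]
  rfl

end Cfsg.Agent.Helper9SUOrder
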