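-- helper9: the centre of the special unitary group consists of the scalars.
import Mathlib
import Cfsg.Prelude.Def_LieClassical
import Cfsg.Agent.Lib.Helper9_SUOrder

set_option autoImplicit false

namespace Cfsg.Agent.Helper9SUCenter

open Finset Cfsg Cfsg.Agent.Helper9HermCount Cfsg.Agent.Helper9GUOrder Cfsg.Agent.Helper9SUOrder

variable {F : Type*} [Field F] [Fintype F] [DecidableEq F] {q : ℕ} {n : ℕ}

/-- Matrices giving elements of `SU`. -/
def IsSUMat (n q : ℕ) (M : Matrix (Fin n) (Fin n) F) : Prop :=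
  M.det = 1 ∧ ∀ u v, hermForm n F q (M.mulVec u) (M.mulVec v) = hermForm n F q u v

/-- Build an element of `SU` from a matrix. -/
def mkSU (M : Matrix (Fin n) (Fin n) F) (h : IsSUMat n q M) : SU n F q := ⟨⟨M, h.1⟩, h.2⟩

lemma su_isSUMat (g : SU n F q) : IsSUMat n q (g.1.1 : Matrix (Fin n) (Fin n) F) := ⟨g.1.2, g.2⟩

lemma diag_pres (d : Fin n → F) (hd : ∀ i, d i ^ (q + 1) = 1) (u v : Fin n → F) :
    hermForm n F q ((Matrix.diagonal d).mulVec u) ((Matrix.diagonal d).mulVec v)
      = hermForm n F q u v := by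
  unfold hermForm
  apply Finset.sum_congr rfl
  intro i _
  rw [Matrix.mulVec_diagonal, Matrix.mulVec_diagonal, mul_pow]
  have := hd i
  rw [pow_succ'] at this
  calc _ = (d i * d i ^ q) * (u i * v i ^ q) := by ring
    _ = _ := by rw [this, one_mul]

lemma prod_update_one (a : Fin n) (lam : F) : ∏ i, Function.update (1 : Fin n → F) a lam i = lam := by
  rw [Finset.prod_update_of_mem (Finset.mem_univ _)]
  simp

lemma neg_one_pow_q (hF : Fintype.card F = q ^ 2) : (-1 : F) ^ (q + 1) = 1 := by
  have h1 : (0 : F) - 1 ∈ S F q := sub_mem_S hF (zero_mem_S hF) one_mem_S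
  rw [zero_sub, mem_S] at h1
  rw [pow_succ, h1]; ring

/-- The diagonal element with `lam` at `a` and `lam⁻¹` at `b`. -/
lemma diag_isSUMat {a b : Fin n} (hab : a ≠ b) (lam : F) (hlam : lam ^ (q + 1) = 1) :
    IsSUMat n q (Matrix.diagonal
      (Function.update (1 : Fin n → F) a lam * Function.update (1 : Fin n → F) b lam⁻¹)) := by
  have hl0 : lam ≠ 0 := by
    rintro rfl
    rw [zero_pow (Nat.succ_ne_zero q)] at hlam
    exact zero_ne_one hlam
  constructor
  · rw [Matrix.det_diagonal]
    simp only [Pi.mul_apply]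
    rw [Finset.prod_mul_distrib, prod_update_one, prod_update_one, mul_inv_cancel₀ hl0]
  · apply diag_pres
    intro i
    rw [Pi.mul_apply, mul_pow]
    have h1 : Function.update (1 : Fin n → F) a lam i ^ (q + 1) = 1 := by
      by_cases hi : i = a
      · rw [hi, Function.update_self, hlam]
      · rw [Function.update_of_ne hi]; simp
    have h2 : Function.update (1 : Fin n → F) b lam⁻¹ i ^ (q + 1) = 1 := by
      by_cases hi : i = b
      · rw [hi, Function.update_self, inv_pow, hlam, inv_one]
      · rw [Function.update_of_ne hi]; simp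
    rw [h1, h2, one_mul]

/-- The rotation in the `(a,b)`-plane. -/
noncomputable def rot (a b : Fin n) : Matrix (Fin n) (Fin n) F :=
  Matrix.diagonal (Function.update (1 : Fin n → F) a (-1)) * (Equiv.swap a b).permMatrix F

lemma rot_isSUMat (hF : Fintype.card F = q ^ 2) {a b : Fin n} (hab : a ≠ b) :
    IsSUMat n q (rot a b : Matrix (Fin n) (Fin n) F) := by
  constructor
  · unfold rot
    rw [Matrix.det_mul, Matrix.det_diagonal, prod_update_one, Matrix.det_permutation,
      Equiv.Perm.sign_swap hab]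
    simp
  · intro u v
    unfold rot
    rw [← Matrix.mulVec_mulVec, ← Matrix.mulVec_mulVec, diag_pres]
    · rw [Matrix.permMatrix_mulVec, Matrix.permMatrix_mulVec]
      unfold hermForm
      exact Equiv.sum_comp (Equiv.swap a b) (fun c => u c * v c ^ q)
    · intro i
      by_cases hi : i = a
      · rw [hi, Function.update_self, neg_one_pow_q hF]
      · rw [Function.update_of_ne hi]; simp

lemma rot_apply {a b : Fin n} (hab : a ≠ b) : (rot a b : Matrix (Fin n) (Fin n) F) a b = -1 := by
  unfold rot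
  rw [Matrix.diagonal_mul, Function.update_self]
  simp [Equiv.Perm.permMatrix, PEquiv.toMatrix_apply, Equiv.toPEquiv_apply]

lemma exists_lam (hF : Fintype.card F = q ^ 2) : ∃ lam : F, lam ^ (q + 1) = 1 ∧ lam ^ 2 ≠ 1 := by
  have hq := q_ge_two hF
  have h1 : (1 : F) ∈ (S F q).erase 0 := by
    rw [mem_erase]; exact ⟨one_ne_zero, one_mem_S⟩
  have h2 := (counts hF).1 1 h1
  have h3 : (Polynomial.nthRootsFinset 2 (1 : F)).card ≤ 2 := by
    rw [Polynomial.nthRootsFinset_def]
    exact (Multiset.toFinset_card_le _).trans (Polynomial.card_nthRoots _ _)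
  obtain ⟨lam, hl1, hl2⟩ := Finset.exists_mem_notMem_of_card_lt_card
    (s := Polynomial.nthRootsFinset 2 (1 : F)) (t := fiber q (1 : F)) (by omega)
  refine ⟨lam, mem_fiber.1 hl1, ?_⟩
  intro h
  exact hl2 ((Polynomial.mem_nthRootsFinset (by norm_num) _).2 h)

/-- A matrix commuting with all of `SU` is scalar. -/
lemma center_scalar (hF : Fintype.card F = q ^ 2) (hn : 1 ≤ n) (Z : Matrix (Fin n) (Fin n) F)
    (hcomm : ∀ M, IsSUMat n q M → M * Z = Z * M) :
    Z = (Z ⟨0, hn⟩ ⟨0, hn⟩) • (1 : Matrix (Fin n) (Fin n) F) := by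
  obtain ⟨lam, hl1, hl2⟩ := exists_lam hF
  have hl0 : lam ≠ 0 := by
    rintro rfl
    rw [zero_pow (Nat.succ_ne_zero q)] at hl1
    exact zero_ne_one hl1
  have hoff : ∀ a b, a ≠ b → Z a b = 0 := by
    intro a b hab
    have h := hcomm _ (diag_isSUMat hab lam hl1)
    have h' := congrFun (congrFun h a) b
    rw [Matrix.diagonal_mul, Matrix.mul_diagonal] at h'
    simp only [Pi.mul_apply, Function.update_self, Function.update_of_ne hab,
      Function.update_of_ne hab.symm, Pi.one_apply, mul_one, one_mul] at h'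
    have h2 : (lam - lam⁻¹) * Z a b = 0 := by linear_combination h'
    rcases mul_eq_zero.1 h2 with h3 | h3
    · exfalso
      apply hl2
      have : lam = lam⁻¹ := sub_eq_zero.1 h3
      rw [pow_two]
      nth_rewrite 2 [this]
      exact mul_inv_cancel₀ hl0
    · exact h3
  have hdiag : ∀ a b, a ≠ b → Z a a = Z b b := by
    intro a b hab
    have h := hcomm _ (rot_isSUMat hF hab)
    have h' := congrFun (congrFun h a) b
    rw [Matrix.mul_apply, Matrix.mul_apply, Finset.sum_eq_single b, Finset.sum_eq_single a,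
      rot_apply hab] at h'
    · linear_combination h'
    · intro c _ hc
      rw [hoff a c hc.symm, zero_mul]
    · intro h; exact absurd (Finset.mem_univ _) h
    · intro c _ hc
      rw [hoff c b hc, mul_zero]
    · intro h; exact absurd (Finset.mem_univ _) h
  ext a b
  rw [Matrix.smul_apply, Matrix.one_apply, smul_eq_mul]
  by_cases hab : a = b
  · subst hab
    rw [if_pos rfl, mul_one]
    by_cases h0 : a = ⟨0, hn⟩
    · rw [h0]
    · exact hdiag _ _ h0
  · rw [if_neg hab, mul_zero, hoff a b hab]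

lemma scalar_isSUMat (mu : F) (h1 : mu ^ n = 1) (h2 : mu ^ (q + 1) = 1) :
    IsSUMat n q (mu • (1 : Matrix (Fin n) (Fin n) F)) := by
  constructor
  · rw [Matrix.det_smul, Matrix.det_one, Fintype.card_fin, h1, mul_one]
  · intro u v
    rw [Matrix.smul_mulVec, Matrix.smul_mulVec, Matrix.one_mulVec, Matrix.one_mulVec,
      Cfsg.Agent.Lib.Helper1_Herm.hermForm_smul_left,
      Cfsg.Agent.Lib.Helper1_Herm.hermForm_smul_right, ← mul_assoc, ← pow_succ', h2, one_mul]

lemma scalar_of_isSUMat (hq : q ≠ 0) (hn : 1 ≤ n) (mu : F)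
    (h : IsSUMat n q (mu • (1 : Matrix (Fin n) (Fin n) F))) : mu ^ n = 1 ∧ mu ^ (q + 1) = 1 := by
  constructor
  · have := h.1
    rwa [Matrix.det_smul, Matrix.det_one, Fintype.card_fin, mul_one] at this
  · have := gu_entry hq _ h.2 ⟨0, hn⟩ ⟨0, hn⟩
    rw [if_pos rfl, Finset.sum_eq_single ⟨0, hn⟩] at this
    · simpa [pow_succ'] using this
    · intro r _ hr
      simp [Matrix.one_apply, hr]
    · intro h; exact absurd (Finset.mem_univ _) h

/-- The scalars of `SU`, as a map into the centre. -/
def scalarToCenter (n q : ℕ) (F : Type*) [Field F] [Fintype F] [DecidableEq F]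
    (mu : {mu : F // mu ^ n = 1 ∧ mu ^ (q + 1) = 1}) : Subgroup.center (SU n F q) :=
  ⟨mkSU (mu.1 • 1) (scalar_isSUMat mu.1 mu.2.1 mu.2.2), by
    rw [Subgroup.mem_center_iff]
    intro g
    apply Subtype.ext
    apply Subtype.ext
    show (g.1.1 : Matrix (Fin n) (Fin n) F) * (mu.1 • 1) = (mu.1 • 1) * (g.1.1 : Matrix (Fin n) (Fin n) F)
    rw [Matrix.mul_smul, Matrix.smul_mul, mul_one, one_mul]⟩

lemma scalarToCenter_bij (hF : Fintype.card F = q ^ 2) (hn : 1 ≤ n) :
    Function.Bijective (scalarToCenter n q F) := by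
  have hq := q_ge_two hF
  constructor
  · intro mu mu' h
    have h1 : (mu.1 • (1 : Matrix (Fin n) (Fin n) F)) = mu'.1 • 1 := by
      have := congrArg (fun z : Subgroup.center (SU n F q) => (z.1.1.1 : Matrix (Fin n) (Fin n) F)) h
      exact this
    apply Subtype.ext
    have := congrFun (congrFun h1 ⟨0, hn⟩) ⟨0, hn⟩
    simpa using this
  · intro z
    have hZ := su_isSUMat z.1
    have hcomm : ∀ M, IsSUMat n q M → M * (z.1.1.1 : Matrix (Fin n) (Fin n) F) = z.1.1.1 * M := by
      intro M hM
      have := (Subgroup.mem_center_iff.1 z.2) (mkSU M hM)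
      have h2 := congrArg (fun g : SU n F q => (g.1.1 : Matrix (Fin n) (Fin n) F)) this
      exact h2
    have hsc := center_scalar hF hn _ hcomm
    rw [hsc] at hZ
    refine ⟨⟨_, scalar_of_isSUMat (by omega) hn _ hZ⟩, ?_⟩
    apply Subtype.ext
    apply Subtype.ext
    apply Subtype.ext
    exact hsc.symm

lemma card_scalars (hF : Fintype.card F = q ^ 2) :
    Nat.card {mu : F // mu ^ n = 1 ∧ mu ^ (q + 1) = 1} = Nat.gcd n (q + 1) := by
  have hq := q_ge_two hF
  let U : Subgroup Fˣ := (powMonoidHom (q + 1) : Fˣ →* Fˣ).ker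
  have hU : Nat.card U = q + 1 := by
    have := IsCyclic.card_powMonoidHom_ker Fˣ (q + 1)
    rw [this, Nat.card_units, Nat.card_eq_fintype_card, hF]
    apply Nat.gcd_eq_right
    refine ⟨q - 1, ?_⟩
    obtain ⟨k, rfl⟩ : ∃ k, q = k + 1 := ⟨q - 1, by omega⟩
    simp only [Nat.add_sub_cancel]
    have : (k + 1) ^ 2 = (k + 1 + 1) * k + 1 := by ring
    rw [this, Nat.add_sub_cancel]
  have hK := IsCyclic.card_powMonoidHom_ker U n
  rw [hU, Nat.gcd_comm] at hK
  rw [← hK]
  apply Nat.card_congr
  refine
    { toFun := fun mu => ⟨⟨Units.mk0 mu.1 (by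
          intro h0
          have := mu.2.2
          rw [h0, zero_pow (Nat.succ_ne_zero q)] at this
          exact zero_ne_one this), by
          rw [MonoidHom.mem_ker, powMonoidHom_apply]
          apply Units.ext
          simpa using mu.2.2⟩, by
          rw [MonoidHom.mem_ker, powMonoidHom_apply]
          apply Subtype.ext
          apply Units.ext
          simpa using mu.2.1⟩
      invFun := fun x => ⟨((x.1.1 : Fˣ) : F), by
          have h1 := x.2
          rw [MonoidHom.mem_ker, powMonoidHom_apply] at h1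
          have h1' := congrArg (fun y : U => ((y.1 : Fˣ) : F)) h1
          simpa using h1', by
          have h2 := x.1.2
          rw [MonoidHom.mem_ker, powMonoidHom_apply] at h2
          have h2' := congrArg (fun y : Fˣ => (y : F)) h2
          simpa using h2'⟩
      left_inv := fun mu => by apply Subtype.ext; rfl
      right_inv := fun x => by apply Subtype.ext; apply Subtype.ext; apply Units.ext; rfl }

theorem card_center (hF : Fintype.card F = q ^ 2) (hn : 1 ≤ n) :
    Nat.card (Subgroup.center (SU n F q)) = Nat.gcd n (q + 1) := by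
  rw [← card_scalars hF, Nat.card_congr (Equiv.ofBijective _ (scalarToCenter_bij hF hn))]

end Cfsg.Agent.Helper9SUCenter
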