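import Mathlib

set_option autoImplicit false

namespace Cfsg.Agent.Lib.Helper9_Sharp4
namespace Helper9S4

open MulAction

section basic
variable {H : Type*} {β : Type*} [Group H] [MulAction H β]

/-- four pairwise distinct points -/
def Inj4 (a b c d : β) : Prop := a ≠ b ∧ a ≠ c ∧ a ≠ d ∧ b ≠ c ∧ b ≠ d ∧ c ≠ d

/-- the embedding of `Fin 4` given by four distinct points -/
def emb4 (a b c d : β) (h : Inj4 a b c d) : Fin 4 ↪ β :=
  ⟨![a, b, c, d], by
    obtain ⟨hab, hac, had, hbc, hbd, hcd⟩ := h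
    intro i j hij
    fin_cases i <;> fin_cases j <;>
      first
      | rfl
      | (exfalso
         simp [hab, hac, had, hbc, hbd, hcd, hab.symm, hac.symm, had.symm, hbc.symm, hbd.symm,
           hcd.symm] at hij)⟩

theorem emb4_0 (a b c d : β) (h : Inj4 a b c d) : emb4 a b c d h 0 = a := rfl
theorem emb4_1 (a b c d : β) (h : Inj4 a b c d) : emb4 a b c d h 1 = b := rfl
theorem emb4_2 (a b c d : β) (h : Inj4 a b c d) : emb4 a b c d h 2 = c := rfl
theorem emb4_3 (a b c d : β) (h : Inj4 a b c d) : emb4 a b c d h 3 = d := rfl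

theorem inj4_of_emb (x : Fin 4 ↪ β) : Inj4 (x 0) (x 1) (x 2) (x 3) := by
  refine ⟨?_, ?_, ?_, ?_, ?_, ?_⟩ <;>
    exact fun h => absurd (x.injective h) (by decide)

theorem emb4_eq (x : Fin 4 ↪ β) (a b c d : β) (h : Inj4 a b c d)
    (h0 : a = x 0) (h1 : b = x 1) (h2 : c = x 2) (h3 : d = x 3) : emb4 a b c d h = x := by
  ext i
  fin_cases i
  · exact h0
  · exact h1
  · exact h2
  · exact h3

theorem eq_one_of_fix_emb (hsharp : ∀ x : Fin 4 ↪ β, MulAction.stabilizer H x = ⊥)
    (g : H) (x : Fin 4 ↪ β) (h : ∀ i, g • x i = x i) : g = 1 := by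
  have hm : g ∈ MulAction.stabilizer H x := by
    rw [MulAction.mem_stabilizer_iff]
    ext i
    rw [Function.Embedding.smul_apply]
    exact h i
  rw [hsharp x] at hm
  exact Subgroup.mem_bot.1 hm

theorem eq_one_of_fix4 (hsharp : ∀ x : Fin 4 ↪ β, MulAction.stabilizer H x = ⊥)
    (g : H) (a b c d : β) (hinj : Inj4 a b c d)
    (ha : g • a = a) (hb : g • b = b) (hc : g • c = c) (hd : g • d = d) : g = 1 := by
  refine eq_one_of_fix_emb hsharp g (emb4 a b c d hinj) ?_
  intro i
  fin_cases i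
  · exact ha
  · exact hb
  · exact hc
  · exact hd

theorem eq_of_agree4 (hsharp : ∀ x : Fin 4 ↪ β, MulAction.stabilizer H x = ⊥)
    (g g' : H) (a b c d : β) (hinj : Inj4 a b c d)
    (ha : g • a = g' • a) (hb : g • b = g' • b) (hc : g • c = g' • c) (hd : g • d = g' • d) :
    g = g' := by
  have h1 : g'⁻¹ * g = 1 :=
    eq_one_of_fix4 hsharp (g'⁻¹ * g) a b c d hinj
      (by rw [mul_smul, ha, inv_smul_smul]) (by rw [mul_smul, hb, inv_smul_smul])
      (by rw [mul_smul, hc, inv_smul_smul]) (by rw [mul_smul, hd, inv_smul_smul])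
  exact (inv_mul_eq_one.1 h1).symm

theorem exists_map4 [MulAction.IsMultiplyPretransitive H β 4]
    (a b c d a' b' c' d' : β) (h : Inj4 a b c d) (h' : Inj4 a' b' c' d') :
    ∃ g : H, g • a = a' ∧ g • b = b' ∧ g • c = c' ∧ g • d = d' := by
  obtain ⟨g, hg⟩ := MulAction.exists_smul_eq H (emb4 a b c d h) (emb4 a' b' c' d' h')
  refine ⟨g, ?_, ?_, ?_, ?_⟩
  · have := DFunLike.congr_fun hg 0
    rwa [Function.Embedding.smul_apply, emb4_0, emb4_0] at this
  · have := DFunLike.congr_fun hg 1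
    rwa [Function.Embedding.smul_apply, emb4_1, emb4_1] at this
  · have := DFunLike.congr_fun hg 2
    rwa [Function.Embedding.smul_apply, emb4_2, emb4_2] at this
  · have := DFunLike.congr_fun hg 3
    rwa [Function.Embedding.smul_apply, emb4_3, emb4_3] at this

theorem inj4A {g : H} {a c : β} (hgg : g * g = 1) (ha : ¬ g • a = a) (hc : ¬ g • c = c)
    (hca : c ≠ a) (hcga : c ≠ g • a) : Inj4 a (g • a) c (g • c) := by
  refine ⟨fun h => ha h.symm, fun h => hca h.symm, ?_, fun h => hcga h.symm, ?_,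
    fun h => hc h.symm⟩
  · intro h
    apply hcga
    have h2 : g • a = g • g • c := congrArg (fun z => g • z) h
    rw [h2, ← mul_smul, hgg, one_smul]
  · intro h
    exact hca (smul_left_cancel g h).symm

theorem inj4B {g : H} {a c d : β} (hgg : g * g = 1) (ha : ¬ g • a = a) (hc : g • c = c)
    (hd : g • d = d) (hcd : c ≠ d) : Inj4 a (g • a) c d := by
  have hgga : g • g • a = a := by rw [← mul_smul, hgg, one_smul]
  have hac : a ≠ c := fun h => ha (by rw [h]; exact hc)
  have had : a ≠ d := fun h => ha (by rw [h]; exact hd)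
  refine ⟨fun h => ha h.symm, hac, had, ?_, ?_, hcd⟩
  · intro h
    apply hac
    calc a = g • g • a := hgga.symm
      _ = g • c := by rw [h]
      _ = c := hc
  · intro h
    apply had
    calc a = g • g • a := hgga.symm
      _ = g • d := by rw [h]
      _ = d := hd

end basic

section counting
variable {H : Type*} {β : Type*} [Group H] [MulAction H β]
variable [Fintype H] [Fintype β] [DecidableEq β] [DecidableEq H]

/-- the involutions -/
def Inv (H : Type*) [Group H] [Fintype H] [DecidableEq H] : Finset H :=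
  Finset.univ.filter (fun g => g * g = 1 ∧ g ≠ 1)

/-- moved points -/
def Mv (g : H) : Finset β := Finset.univ.filter (fun x => ¬ g • x = x)

/-- fixed points -/
def Fx (g : H) : Finset β := Finset.univ.filter (fun x => g • x = x)

theorem mem_Inv {g : H} : g ∈ Inv H ↔ g * g = 1 ∧ g ≠ 1 := by
  simp [Inv]

theorem mem_Mv {g : H} {x : β} : x ∈ Mv g ↔ ¬ g • x = x := by
  simp [Mv]

theorem mem_Fx {g : H} {x : β} : x ∈ Fx g ↔ g • x = x := by
  simp [Fx]

theorem card_Mv_add (g : H) : (Mv (β := β) g).card + (Fx (β := β) g).card = Fintype.card β := by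
  have := Finset.card_filter_add_card_filter_not (s := (Finset.univ : Finset β))
    (fun x => g • x = x)
  rw [Finset.card_univ] at this
  rw [add_comm]
  exact this

/-- the set counted in the first count -/
def Aset (H : Type*) (β : Type*) [Group H] [MulAction H β] [Fintype H] [Fintype β]
    [DecidableEq β] [DecidableEq H] : Finset (Σ _ : H, Σ _ : β, β) :=
  (Inv H).sigma (fun g => (Mv (β := β) g).sigma (fun a => ((Mv (β := β) g).erase a).erase (g • a)))

/-- the set counted in the second count -/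
def Bset (H : Type*) (β : Type*) [Group H] [MulAction H β] [Fintype H] [Fintype β]
    [DecidableEq β] [DecidableEq H] : Finset (Σ _ : H, β × β × β) :=
  (Inv H).sigma (fun g => (Mv (β := β) g) ×ˢ (Fx (β := β) g).offDiag)

theorem memA (p : Σ _ : H, Σ _ : β, β) (h : p ∈ Aset H β) :
    p.1 * p.1 = 1 ∧ p.1 ≠ 1 ∧ ¬ p.1 • p.2.1 = p.2.1 ∧ ¬ p.1 • p.2.2 = p.2.2 ∧
      p.2.2 ≠ p.1 • p.2.1 ∧ p.2.2 ≠ p.2.1 := by
  obtain ⟨g, a, c⟩ := p
  simp only [Aset, Finset.mem_sigma, Finset.mem_erase, mem_Inv, mem_Mv] at h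
  obtain ⟨⟨h1, h2⟩, h3, h4, h5, h6⟩ := h
  exact ⟨h1, h2, h3, h6, h4, h5⟩

theorem memB (p : Σ _ : H, β × β × β) (h : p ∈ Bset H β) :
    p.1 * p.1 = 1 ∧ p.1 ≠ 1 ∧ ¬ p.1 • p.2.1 = p.2.1 ∧ p.1 • p.2.2.1 = p.2.2.1 ∧
      p.1 • p.2.2.2 = p.2.2.2 ∧ p.2.2.1 ≠ p.2.2.2 := by
  obtain ⟨g, a, c, d⟩ := p
  simp only [Bset, Finset.mem_sigma, Finset.mem_product, Finset.mem_offDiag, mem_Inv, mem_Mv,
    mem_Fx] at h
  obtain ⟨⟨h1, h2⟩, h3, h4, h5, h6⟩ := h
  exact ⟨h1, h2, h3, h4, h5, h6⟩

theorem cardA_sum :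
    ∑ g ∈ Inv H, (Mv (β := β) g).card * ((Mv (β := β) g).card - 2) = (Aset H β).card := by
  unfold Aset
  rw [Finset.card_sigma]
  refine Finset.sum_congr rfl (fun g hg => ?_)
  have hg' := mem_Inv.1 hg
  rw [Finset.card_sigma]
  have hc : ∀ a ∈ Mv (β := β) g,
      (((Mv (β := β) g).erase a).erase (g • a)).card = (Mv (β := β) g).card - 2 := by
    intro a ha
    have ha' : ¬ g • a = a := mem_Mv.1 ha
    have hga : g • a ∈ (Mv (β := β) g).erase a := by
      rw [Finset.mem_erase]
      refine ⟨ha', ?_⟩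
      rw [mem_Mv, ← mul_smul, hg'.1, one_smul]
      exact fun h => ha' h.symm
    rw [Finset.card_erase_of_mem hga, Finset.card_erase_of_mem ha]
    omega
  rw [Finset.sum_congr rfl hc, Finset.sum_const, smul_eq_mul]

theorem cardB_sum :
    ∑ g ∈ Inv H, (Mv (β := β) g).card *
        ((Fx (β := β) g).card * (Fx (β := β) g).card - (Fx (β := β) g).card) =
      (Bset H β).card := by
  unfold Bset
  rw [Finset.card_sigma]
  refine Finset.sum_congr rfl (fun g _ => ?_)
  rw [Finset.card_product, Finset.offDiag_card]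

theorem cardA (hsharp : ∀ x : Fin 4 ↪ β, MulAction.stabilizer H x = ⊥)
    [MulAction.IsMultiplyPretransitive H β 4] :
    (Aset H β).card = Fintype.card (Fin 4 ↪ β) := by
  rw [← Finset.card_univ]
  refine Finset.card_bij
    (fun p hp => emb4 p.2.1 (p.1 • p.2.1) p.2.2 (p.1 • p.2.2)
      (inj4A (memA p hp).1 (memA p hp).2.2.1 (memA p hp).2.2.2.1 (memA p hp).2.2.2.2.2
        (memA p hp).2.2.2.2.1))
    (fun _ _ => Finset.mem_univ _) ?_ ?_
  · intro p hp q hq hpq
    obtain ⟨hgg, -, hga, hgc, hcga, hca⟩ := memA p hp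
    obtain ⟨hgg', -, -, -, -, -⟩ := memA q hq
    obtain ⟨g, a, c⟩ := p
    obtain ⟨g', a', c'⟩ := q
    have e0 : a = a' := DFunLike.congr_fun hpq 0
    have e1 : g • a = g' • a' := DFunLike.congr_fun hpq 1
    have e2 : c = c' := DFunLike.congr_fun hpq 2
    have e3 : g • c = g' • c' := DFunLike.congr_fun hpq 3
    subst e0
    subst e2
    have hgg2 : ∀ z : β, g • g • z = z := fun z => by rw [← mul_smul, hgg, one_smul]
    have hgg2' : ∀ z : β, g' • g' • z = z := fun z => by rw [← mul_smul, hgg', one_smul]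
    have e : g = g' := by
      refine eq_of_agree4 hsharp g g' a (g • a) c (g • c) (inj4A hgg hga hgc hca hcga) e1 ?_ e3 ?_
      · rw [hgg2, e1, hgg2']
      · rw [hgg2, e3, hgg2']
    subst e
    rfl
  · intro x _
    have hinj := inj4_of_emb x
    have hinj' : Inj4 (x 1) (x 0) (x 3) (x 2) := by
      obtain ⟨hab, hac, had, hbc, hbd, hcd⟩ := hinj
      exact ⟨hab.symm, hbd, hbc, had, hac, hcd.symm⟩
    obtain ⟨g, h0, h1, h2, h3⟩ :=
      exists_map4 (H := H) (x 0) (x 1) (x 2) (x 3) (x 1) (x 0) (x 3) (x 2) hinj hinj'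
    have hgg : g * g = 1 := by
      refine eq_one_of_fix4 hsharp (g * g) (x 0) (x 1) (x 2) (x 3) hinj ?_ ?_ ?_ ?_
      · rw [mul_smul, h0, h1]
      · rw [mul_smul, h1, h0]
      · rw [mul_smul, h2, h3]
      · rw [mul_smul, h3, h2]
    have hg1 : g ≠ 1 := by
      intro h
      rw [h, one_smul] at h0
      exact hinj.1 h0
    refine ⟨⟨g, x 0, x 2⟩, ?_, ?_⟩
    · simp only [Aset, Finset.mem_sigma, Finset.mem_erase, mem_Inv, mem_Mv]
      refine ⟨⟨hgg, hg1⟩, ?_, ?_, ?_, ?_⟩
      · rw [h0]; exact hinj.1.symm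
      · rw [h0]; exact hinj.2.2.2.1.symm
      · exact hinj.2.1.symm
      · rw [h2]; exact hinj.2.2.2.2.2.symm
    · exact emb4_eq x _ _ _ _ _ rfl h0 rfl h2

theorem cardB (hsharp : ∀ x : Fin 4 ↪ β, MulAction.stabilizer H x = ⊥)
    [MulAction.IsMultiplyPretransitive H β 4] :
    (Bset H β).card = Fintype.card (Fin 4 ↪ β) := by
  rw [← Finset.card_univ]
  refine Finset.card_bij
    (fun p hp => emb4 p.2.1 (p.1 • p.2.1) p.2.2.1 p.2.2.2
      (inj4B (memB p hp).1 (memB p hp).2.2.1 (memB p hp).2.2.2.1 (memB p hp).2.2.2.2.1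
        (memB p hp).2.2.2.2.2))
    (fun _ _ => Finset.mem_univ _) ?_ ?_
  · intro p hp q hq hpq
    obtain ⟨hgg, -, hga, hgc, hgd, hcd⟩ := memB p hp
    obtain ⟨hgg', -, -, hgc', hgd', -⟩ := memB q hq
    obtain ⟨g, a, c, d⟩ := p
    obtain ⟨g', a', c', d'⟩ := q
    have e0 : a = a' := DFunLike.congr_fun hpq 0
    have e1 : g • a = g' • a' := DFunLike.congr_fun hpq 1
    have e2 : c = c' := DFunLike.congr_fun hpq 2
    have e3 : d = d' := DFunLike.congr_fun hpq 3
    subst e0
    subst e2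
    subst e3
    have hgg2 : ∀ z : β, g • g • z = z := fun z => by rw [← mul_smul, hgg, one_smul]
    have hgg2' : ∀ z : β, g' • g' • z = z := fun z => by rw [← mul_smul, hgg', one_smul]
    have e : g = g' := by
      refine eq_of_agree4 hsharp g g' a (g • a) c d (inj4B hgg hga hgc hgd hcd) e1 ?_ ?_ ?_
      · rw [hgg2, e1, hgg2']
      · exact hgc.trans hgc'.symm
      · exact hgd.trans hgd'.symm
    subst e
    rfl
  · intro x _
    have hinj := inj4_of_emb x
    have hinj' : Inj4 (x 1) (x 0) (x 2) (x 3) := by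
      obtain ⟨hab, hac, had, hbc, hbd, hcd⟩ := hinj
      exact ⟨hab.symm, hbc, hbd, hac, had, hcd⟩
    obtain ⟨g, h0, h1, h2, h3⟩ :=
      exists_map4 (H := H) (x 0) (x 1) (x 2) (x 3) (x 1) (x 0) (x 2) (x 3) hinj hinj'
    have hgg : g * g = 1 := by
      refine eq_one_of_fix4 hsharp (g * g) (x 0) (x 1) (x 2) (x 3) hinj ?_ ?_ ?_ ?_
      · rw [mul_smul, h0, h1]
      · rw [mul_smul, h1, h0]
      · rw [mul_smul, h2, h2]
      · rw [mul_smul, h3, h3]
    have hg1 : g ≠ 1 := by
      intro h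
      rw [h, one_smul] at h0
      exact hinj.1 h0
    refine ⟨⟨g, x 0, x 2, x 3⟩, ?_, ?_⟩
    · simp only [Bset, Finset.mem_sigma, Finset.mem_product, Finset.mem_offDiag, mem_Inv,
        mem_Mv, mem_Fx]
      refine ⟨⟨hgg, hg1⟩, ?_, h2, h3, hinj.2.2.2.2.2⟩
      rw [h0]; exact hinj.1.symm
    · exact emb4_eq x _ _ _ _ _ rfl h0 rfl rfl

theorem fix_le_three (hsharp : ∀ x : Fin 4 ↪ β, MulAction.stabilizer H x = ⊥)
    (g : H) (hg : g ≠ 1) : (Fx (β := β) g).card ≤ 3 := by
  by_contra hlt
  have h4 : Fintype.card (Fin 4) ≤ Fintype.card {x // x ∈ Fx (β := β) g} := by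
    rw [Fintype.card_fin, Fintype.card_coe]; omega
  obtain ⟨e⟩ := Function.Embedding.nonempty_of_card_le h4
  apply hg
  apply eq_one_of_fix_emb hsharp g (e.trans (Function.Embedding.subtype _))
  intro i
  have := (e i).2
  rw [mem_Fx] at this
  exact this

theorem mv_even (g : H) (hgg : g * g = 1) : (Mv (β := β) g).card % 2 = 0 := by
  have h2 : (((Mv (β := β) g).card : ℕ) : ZMod 2) = 0 := by
    rw [Finset.card_eq_sum_ones, Nat.cast_sum]
    simp only [Nat.cast_one]
    refine Finset.sum_involution (fun a _ => g • a) ?_ ?_ ?_ ?_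
    · intro a _; decide
    · intro a ha _; exact mem_Mv.1 ha
    · intro a ha
      rw [mem_Mv, ← mul_smul, hgg, one_smul]
      exact fun h => (mem_Mv.1 ha) h.symm
    · intro a _
      show g • g • a = a
      rw [← mul_smul, hgg, one_smul]
  have := (ZMod.natCast_eq_zero_iff _ _).1 h2
  omega

theorem dvd_I1 [MulAction.IsPretransitive H β] :
    Fintype.card β ∣ ((Inv H).filter (fun g => (Fx (β := β) g).card = 1)).card := by
  have hle : ∀ x y : β, ((Inv H).filter (fun g => Fx (β := β) g = {x})).card ≤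
      ((Inv H).filter (fun g => Fx (β := β) g = {y})).card := by
    intro x y
    obtain ⟨h, rfl⟩ := MulAction.exists_smul_eq H x y
    apply Finset.card_le_card_of_injOn (fun g => h * g * h⁻¹)
    · intro g hg
      rw [Finset.mem_coe, Finset.mem_filter, mem_Inv] at hg ⊢
      obtain ⟨⟨hgg, hg1⟩, hfx⟩ := hg
      refine ⟨⟨?_, ?_⟩, ?_⟩
      · calc h * g * h⁻¹ * (h * g * h⁻¹) = h * (g * g) * h⁻¹ := by group
          _ = 1 := by rw [hgg]; group
      · intro hc
        exact hg1 (conj_eq_one_iff.1 hc)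
      · ext z
        rw [mem_Fx, Finset.mem_singleton, mul_smul, mul_smul]
        have hz : ∀ w : β, g • w = w ↔ w = x := by
          intro w
          rw [← mem_Fx, hfx, Finset.mem_singleton]
        constructor
        · intro hh
          have h1 : g • h⁻¹ • z = h⁻¹ • z := eq_inv_smul_iff.2 hh
          have h2 := (hz _).1 h1
          rw [← h2, smul_inv_smul]
        · intro hh
          rw [hh, inv_smul_smul, (hz x).2 rfl]
    · intro g _ g' _ hgg
      simpa using hgg
  have heq : ∀ x y : β, ((Inv H).filter (fun g => Fx (β := β) g = {x})).card =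
      ((Inv H).filter (fun g => Fx (β := β) g = {y})).card :=
    fun x y => le_antisymm (hle x y) (hle y x)
  have hU : (Inv H).filter (fun g => (Fx (β := β) g).card = 1) =
      Finset.univ.biUnion (fun x : β => (Inv H).filter (fun g => Fx (β := β) g = {x})) := by
    ext g
    simp only [Finset.mem_filter, Finset.mem_biUnion, Finset.mem_univ, true_and,
      Finset.card_eq_one]
    constructor
    · rintro ⟨h1, x, hx⟩
      exact ⟨x, h1, hx⟩
    · rintro ⟨x, h1, hx⟩
      exact ⟨h1, x, hx⟩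
  rw [hU, Finset.card_biUnion]
  · rcases isEmpty_or_nonempty β with he | ⟨⟨x0⟩⟩
    · simp
    · rw [Finset.sum_congr rfl (fun x _ => heq x x0), Finset.sum_const, smul_eq_mul,
        Finset.card_univ]
      exact Dvd.intro _ rfl
  · intro x _ y _ hxy
    rw [Function.onFun, Finset.disjoint_left]
    intro g hgx hgy
    apply hxy
    have h1 := (Finset.mem_filter.1 hgx).2
    have h2 := (Finset.mem_filter.1 hgy).2
    have h3 : ({x} : Finset β) = {y} := h1.symm.trans h2
    exact Finset.singleton_injective h3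

theorem sum_by_fix (s : Finset H) (f : H → ℕ) (hf : ∀ g ∈ s, f g ≤ 3) (φ : ℕ → ℕ) :
    ∑ g ∈ s, φ (f g) =
      (s.filter (fun g => f g = 0)).card * φ 0 + (s.filter (fun g => f g = 1)).card * φ 1 +
        (s.filter (fun g => f g = 2)).card * φ 2 + (s.filter (fun g => f g = 3)).card * φ 3 := by
  have hmaps : ∀ g ∈ s, f g ∈ Finset.range 4 :=
    fun g hg => Finset.mem_range.2 (Nat.lt_succ_of_le (hf g hg))
  rw [← Finset.sum_fiberwise_of_maps_to' hmaps]
  simp only [Finset.sum_range_succ, Finset.sum_range_zero, zero_add, Finset.sum_const,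
    smul_eq_mul]

end counting

/-- the arithmetic endgame -/
theorem arith (n I0 I1 I2 I3 : ℕ) (h4 : 4 ≤ n)
    (EA : I0 * ((n - 0) * (n - 0 - 2)) + I1 * ((n - 1) * (n - 1 - 2)) +
      I2 * ((n - 2) * (n - 2 - 2)) + I3 * ((n - 3) * (n - 3 - 2)) = n.descFactorial 4)
    (EB : I0 * ((n - 0) * (0 * 0 - 0)) + I1 * ((n - 1) * (1 * 1 - 1)) +
      I2 * ((n - 2) * (2 * 2 - 2)) + I3 * ((n - 3) * (3 * 3 - 3)) = n.descFactorial 4)
    (hev : n % 2 = 0 → I1 = 0 ∧ I3 = 0) (hodd : n % 2 = 1 → I0 = 0 ∧ I2 = 0)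
    (hdiv : n ∣ I1) : n = 4 ∨ n = 5 ∨ n = 6 ∨ n = 11 := by
  have hpos : 0 < n.descFactorial 4 :=
    Nat.pos_of_ne_zero (fun h => absurd (Nat.descFactorial_eq_zero_iff_lt.1 h) (by omega))
  generalize hN : n.descFactorial 4 = N at EA EB hpos
  rcases Nat.mod_two_eq_zero_or_one n with hpar | hpar
  · obtain ⟨rfl, rfl⟩ := hev hpar
    simp only [zero_mul, add_zero, zero_add, Nat.sub_zero, mul_zero] at EA EB
    norm_num at EB
    -- EB : I2 * ((n - 2) * 2) = N
    have hX : 0 < I2 * (n - 2) := by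
      rcases Nat.eq_zero_or_pos (I2 * (n - 2)) with h0 | h0
      · exfalso
        rw [← mul_assoc, h0] at EB
        omega
      · exact h0
    have hle : I2 * (n - 2) * (n - 2 - 2) ≤ I2 * (n - 2) * 2 := by
      calc I2 * (n - 2) * (n - 2 - 2) = I2 * ((n - 2) * (n - 2 - 2)) := by ring
        _ ≤ N := by rw [← EA]; exact Nat.le_add_left _ _
        _ = I2 * (n - 2) * 2 := by rw [← EB]; ring
    have := Nat.le_of_mul_le_mul_left hle hX
    omega
  · obtain ⟨rfl, rfl⟩ := hodd hpar
    simp only [zero_mul, add_zero, zero_add, Nat.sub_zero, mul_zero] at EA EB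
    norm_num at EB
    -- EB : I3 * ((n - 3) * 6) = N
    have hX : 0 < I3 * (n - 3) := by
      rcases Nat.eq_zero_or_pos (I3 * (n - 3)) with h0 | h0
      · exfalso
        rw [← mul_assoc, h0] at EB
        omega
      · exact h0
    have hle : I3 * (n - 3) * (n - 3 - 2) ≤ I3 * (n - 3) * 6 := by
      calc I3 * (n - 3) * (n - 3 - 2) = I3 * ((n - 3) * (n - 3 - 2)) := by ring
        _ ≤ N := by rw [← EA]; exact Nat.le_add_left _ _
        _ = I3 * (n - 3) * 6 := by rw [← EB]; ring
    have hn11 := Nat.le_of_mul_le_mul_left hle hX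
    have hn : n ≤ 11 := by omega
    obtain ⟨d, hd⟩ := hdiv
    interval_cases n
    · omega
    · right; left; rfl
    · omega
    · exfalso
      simp [Nat.descFactorial] at EA EB hN
      omega
    · omega
    · exfalso
      simp [Nat.descFactorial] at EA EB hN
      omega
    · omega
    · right; right; right; rfl

section main
variable {H : Type*} {β : Type*} [Group H] [MulAction H β]

theorem core_fin [Fintype H] [Fintype β] [DecidableEq β] [DecidableEq H]
    [MulAction.IsMultiplyPretransitive H β 4]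
    (hsharp : ∀ x : Fin 4 ↪ β, MulAction.stabilizer H x = ⊥) (h4 : 4 ≤ Fintype.card β) :
    Fintype.card β = 4 ∨ Fintype.card β = 5 ∨ Fintype.card β = 6 ∨ Fintype.card β = 11 := by
  have hcardT : Fintype.card (Fin 4 ↪ β) = (Fintype.card β).descFactorial 4 := by
    rw [Fintype.card_embedding_eq, Fintype.card_fin]
  have hpre : MulAction.IsPretransitive H β := by
    have h1 : MulAction.IsMultiplyPretransitive H β 1 :=
      MulAction.isMultiplyPretransitive_of_le (n := 4) (by norm_num)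
        (by rw [Nat.card_eq_fintype_card]; exact h4)
    exact MulAction.is_one_pretransitive_iff.1 h1
  have hmf : ∀ g : H, (Mv (β := β) g).card + (Fx (β := β) g).card = Fintype.card β :=
    card_Mv_add
  have hf3 : ∀ g ∈ Inv H, (fun g => (Fx (β := β) g).card) g ≤ 3 :=
    fun g hg => fix_le_three hsharp g (mem_Inv.1 hg).2
  have hpar : ∀ g ∈ Inv H, (Mv (β := β) g).card % 2 = 0 :=
    fun g hg => mv_even g (mem_Inv.1 hg).1
  have EA : ∑ g ∈ Inv H, (Fintype.card β - (Fx (β := β) g).card) *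
      (Fintype.card β - (Fx (β := β) g).card - 2) = (Fintype.card β).descFactorial 4 := by
    rw [← hcardT, ← cardA hsharp, ← cardA_sum]
    refine Finset.sum_congr rfl (fun g _ => ?_)
    have := hmf g
    have e : (Mv (β := β) g).card = Fintype.card β - (Fx (β := β) g).card := by omega
    simp only [e]
  have EB : ∑ g ∈ Inv H, (Fintype.card β - (Fx (β := β) g).card) *
      ((Fx (β := β) g).card * (Fx (β := β) g).card - (Fx (β := β) g).card) =
      (Fintype.card β).descFactorial 4 := by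
    rw [← hcardT, ← cardB hsharp, ← cardB_sum]
    refine Finset.sum_congr rfl (fun g _ => ?_)
    have := hmf g
    have e : (Mv (β := β) g).card = Fintype.card β - (Fx (β := β) g).card := by omega
    simp only [e]
  have EA' := (sum_by_fix (Inv H) (fun g => (Fx (β := β) g).card) hf3
    (fun k => (Fintype.card β - k) * (Fintype.card β - k - 2))).symm.trans EA
  have EB' := (sum_by_fix (Inv H) (fun g => (Fx (β := β) g).card) hf3
    (fun k => (Fintype.card β - k) * (k * k - k))).symm.trans EB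
  have hzero : ∀ k, k % 2 ≠ Fintype.card β % 2 →
      ((Inv H).filter (fun g => (fun g => (Fx (β := β) g).card) g = k)).card = 0 := by
    intro k hk
    rw [Finset.card_eq_zero, Finset.filter_eq_empty_iff]
    intro g hg hfk
    have h1 := hmf g
    have h2 := hpar g hg
    have hfk' : (Fx (β := β) g).card = k := hfk
    omega
  exact arith (Fintype.card β) _ _ _ _ h4 EA' EB'
    (fun h => ⟨hzero 1 (by omega), hzero 3 (by omega)⟩)
    (fun h => ⟨hzero 0 (by omega), hzero 2 (by omega)⟩) dvd_I1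

/-- Degrees of sharply 4-transitive actions of finite groups on finite sets. -/
theorem core [Finite H] [Finite β] [MulAction.IsMultiplyPretransitive H β 4]
    (hsharp : ∀ x : Fin 4 ↪ β, MulAction.stabilizer H x = ⊥) (h4 : 4 ≤ Nat.card β) :
    Nat.card β = 4 ∨ Nat.card β = 5 ∨ Nat.card β = 6 ∨ Nat.card β = 11 := by
  classical
  haveI := Fintype.ofFinite H
  haveI := Fintype.ofFinite β
  rw [Nat.card_eq_fintype_card] at h4 ⊢
  exact core_fin hsharp h4

end main

end Helper9S4
end Cfsg.Agent.Lib.Helper9_Sharp4
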