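import Mathlib
import Cfsg.Agent.Lib.Helper9_Sharp4

set_option autoImplicit false

namespace Cfsg.Agent.Lib.Helper9_SharpK
namespace Helper9SK

open MulAction
open Cfsg.Agent.Lib.Helper9_Sharp4.Helper9S4

universe u v

section generic
variable {H : Type*} {β : Type*} [Group H] [MulAction H β]

theorem eq_one_of_fix_embK {k : ℕ} (hsharp : ∀ x : Fin k ↪ β, MulAction.stabilizer H x = ⊥)
    (g : H) (x : Fin k ↪ β) (h : ∀ i, g • x i = x i) : g = 1 := by
  have hm : g ∈ MulAction.stabilizer H x := by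
    rw [MulAction.mem_stabilizer_iff]
    ext i
    rw [Function.Embedding.smul_apply]
    exact h i
  rw [hsharp x] at hm
  exact Subgroup.mem_bot.1 hm

theorem eq_of_agreeK {k : ℕ} (hsharp : ∀ x : Fin k ↪ β, MulAction.stabilizer H x = ⊥)
    (g g' : H) (x : Fin k ↪ β) (h : ∀ i, g • x i = g' • x i) : g = g' := by
  have h1 : g'⁻¹ * g = 1 :=
    eq_one_of_fix_embK hsharp (g'⁻¹ * g) x (fun i => by rw [mul_smul, h i, inv_smul_smul])
  exact (inv_mul_eq_one.1 h1).symm

/-- the point stabilizer of a sharply `(k+1)`-transitive action is sharply `k`-transitive -/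
theorem stab_sharp (k : ℕ) [MulAction.IsPretransitive H β]
    [hk : MulAction.IsMultiplyPretransitive H β (k + 1)]
    (hsharp : ∀ x : Fin (k + 1) ↪ β, MulAction.stabilizer H x = ⊥) (a : β) :
    MulAction.IsMultiplyPretransitive (MulAction.stabilizer H a)
        (SubMulAction.ofStabilizer H a) k ∧
      ∀ x : Fin k ↪ SubMulAction.ofStabilizer H a,
        MulAction.stabilizer (MulAction.stabilizer H a) x = ⊥ := by
  refine ⟨(SubMulAction.ofStabilizer.isMultiplyPretransitive (n := k) (a := a)).1 hk, ?_⟩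
  intro x
  rw [eq_bot_iff]
  intro g hg
  rw [Subgroup.mem_bot]
  have hmem : (g : H) ∈ MulAction.stabilizer H (SubMulAction.ofStabilizer.snoc x) := by
    rw [MulAction.mem_stabilizer_iff]
    ext i
    change (g : H) • (SubMulAction.ofStabilizer.snoc x) i = (SubMulAction.ofStabilizer.snoc x) i
    rcases Fin.eq_castSucc_or_eq_last i with ⟨j, rfl⟩ | rfl
    · rw [SubMulAction.ofStabilizer.snoc_castSucc]
      have := DFunLike.congr_fun (MulAction.mem_stabilizer_iff.1 hg) j
      rw [Function.Embedding.smul_apply] at this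
      exact congrArg Subtype.val this
    · rw [SubMulAction.ofStabilizer.snoc_last]
      exact g.2
  rw [hsharp] at hmem
  exact Subtype.ext ((Subgroup.mem_bot.1 hmem).trans (Subgroup.coe_one _).symm)

/-- six points as an embedding -/
def emb6 (a b c d e f : β) (h : [a, b, c, d, e, f].Nodup) : Fin 6 ↪ β :=
  ⟨fun i => [a, b, c, d, e, f].get i, List.nodup_iff_injective_get.1 h⟩

theorem emb6_eq (x : Fin 6 ↪ β) (a b c d e f : β) (h : [a, b, c, d, e, f].Nodup)
    (h0 : a = x 0) (h1 : b = x 1) (h2 : c = x 2) (h3 : d = x 3) (h4 : e = x 4) (h5 : f = x 5) :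
    emb6 a b c d e f h = x := by
  ext i
  fin_cases i
  · exact h0
  · exact h1
  · exact h2
  · exact h3
  · exact h4
  · exact h5

theorem nodup6 {a b c d e f : β} (hab : a ≠ b) (hac : a ≠ c) (had : a ≠ d) (hae : a ≠ e)
    (haf : a ≠ f) (hbc : b ≠ c) (hbd : b ≠ d) (hbe : b ≠ e) (hbf : b ≠ f) (hcd : c ≠ d)
    (hce : c ≠ e) (hcf : c ≠ f) (hde : d ≠ e) (hdf : d ≠ f) (hef : e ≠ f) :
    [a, b, c, d, e, f].Nodup := by
  simp [hab, hac, had, hae, haf, hbc, hbd, hbe, hbf, hcd, hce, hcf, hde, hdf, hef]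

/-- the three involution patterns on six points -/
def s1 : Fin 6 → Fin 6 := ![1, 0, 3, 2, 5, 4]
def s2 : Fin 6 → Fin 6 := ![1, 0, 3, 2, 4, 5]
def s3 : Fin 6 → Fin 6 := ![1, 0, 2, 3, 4, 5]

end generic

section partI
variable {H : Type*} {β : Type*} [Group H] [MulAction H β]
variable [Fintype H] [Fintype β] [DecidableEq β] [DecidableEq H]

/-- embeddings on which `g` acts according to the pattern `s` -/
noncomputable def E {k : ℕ} (s : Fin k → Fin k) (g : H) : Finset (Fin k ↪ β) :=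
  Finset.univ.filter (fun x => ∀ i, g • x i = x (s i))

theorem mem_E {k : ℕ} {s : Fin k → Fin k} {g : H} {x : Fin k ↪ β} :
    x ∈ E s g ↔ ∀ i, g • x i = x (s i) := by
  simp [E]

theorem sum_card_E {k : ℕ} (s : Fin k → Fin k) (hs : Function.Injective s)
    [MulAction.IsMultiplyPretransitive H β k]
    (hsharp : ∀ x : Fin k ↪ β, MulAction.stabilizer H x = ⊥) :
    ∑ g : H, (E (β := β) s g).card = Fintype.card (Fin k ↪ β) := by
  rw [← Finset.card_sigma, ← Finset.card_univ (α := Fin k ↪ β)]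
  refine Finset.card_bij (fun p _ => p.2) (fun _ _ => Finset.mem_univ _) ?_ ?_
  · rintro ⟨g, x⟩ hp ⟨g', x'⟩ hq hxx
    have hxx' : x = x' := hxx
    subst hxx'
    have h1 : ∀ i, g • x i = x (s i) := mem_E.1 (Finset.mem_sigma.1 hp).2
    have h2 : ∀ i, g' • x i = x (s i) := mem_E.1 (Finset.mem_sigma.1 hq).2
    have : g = g' := eq_of_agreeK hsharp g g' x (fun i => (h1 i).trans (h2 i).symm)
    subst this
    rfl
  · intro x _
    obtain ⟨g, hg⟩ := MulAction.exists_smul_eq H x
      (⟨fun i => x (s i), fun i j hij => hs (x.injective hij)⟩ : Fin k ↪ β)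
    refine ⟨⟨g, x⟩, Finset.mem_sigma.2 ⟨Finset.mem_univ _, mem_E.2 (fun i => ?_)⟩, rfl⟩
    have := DFunLike.congr_fun hg i
    rw [Function.Embedding.smul_apply] at this
    exact this

theorem sum_card_E_inv {k : ℕ} (s : Fin k → Fin k) (hs2 : ∀ i, s (s i) = i)
    (i0 : Fin k) (hi0 : s i0 ≠ i0)
    [MulAction.IsMultiplyPretransitive H β k]
    (hsharp : ∀ x : Fin k ↪ β, MulAction.stabilizer H x = ⊥) :
    ∑ g ∈ Helper9_Sharp4.Helper9S4.Inv H, (E (β := β) s g).card = Fintype.card (Fin k ↪ β) := by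
  have hs : Function.Injective s := fun i j h => by rw [← hs2 i, h, hs2 j]
  rw [← sum_card_E s hs hsharp]
  refine Finset.sum_subset (Finset.subset_univ _) ?_
  intro g _ hg
  rw [Finset.card_eq_zero, Finset.eq_empty_iff_forall_notMem]
  intro x hx
  have hx' := mem_E.1 hx
  apply hg
  rw [mem_Inv]
  constructor
  · refine eq_one_of_fix_embK hsharp (g * g) x (fun i => ?_)
    rw [mul_smul, hx' i, hx' (s i), hs2 i]
  · intro h1
    have := hx' i0
    rw [h1, one_smul] at this
    exact hi0 (x.injective this).symm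

theorem fix_lt {k : ℕ} (hsharp : ∀ x : Fin k ↪ β, MulAction.stabilizer H x = ⊥)
    (g : H) (hg : g ≠ 1) : (Fx (β := β) g).card < k := by
  by_contra hlt
  have h4 : Fintype.card (Fin k) ≤ Fintype.card {x // x ∈ Fx (β := β) g} := by
    rw [Fintype.card_fin, Fintype.card_coe]; omega
  obtain ⟨e⟩ := Function.Embedding.nonempty_of_card_le h4
  apply hg
  apply eq_one_of_fix_embK hsharp g (e.trans (Function.Embedding.subtype _))
  intro i
  have := (e i).2
  rw [mem_Fx] at this
  exact this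

end partI

section partII
variable {H : Type*} {β : Type*} [Group H] [MulAction H β]
variable [Fintype H] [Fintype β] [DecidableEq β] [DecidableEq H]

theorem card_E1 (g : H) (hgg : g * g = 1) :
    (E (β := β) s1 g).card = (Mv (β := β) g).card *
      (((Mv (β := β) g).card - 2) * ((Mv (β := β) g).card - 2 - 2)) := by
  have hgg2 : ∀ z : β, g • g • z = z := fun z => by rw [← mul_smul, hgg, one_smul]
  have hsw : ∀ y z : β, y ≠ g • z → g • y ≠ z := fun y z h h' => h (by rw [← h', hgg2])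
  have hin : ∀ y z : β, y ≠ z → g • y ≠ g • z := fun y z h h' => h (smul_left_cancel g h')
  have hmv : ∀ y : β, ¬ g • y = y → ¬ g • g • y = g • y :=
    fun y h h' => h (smul_left_cancel g h')
  let S : Finset (Σ _ : β, Σ _ : β, β) :=
    (Mv (β := β) g).sigma (fun a => (((Mv (β := β) g).erase a).erase (g • a)).sigma
      (fun c => ((((Mv (β := β) g).erase a).erase (g • a)).erase c).erase (g • c)))
  have hS : ∀ a c e : β, (⟨a, c, e⟩ : Σ _ : β, Σ _ : β, β) ∈ S ↔
      ¬ g • a = a ∧ (c ≠ g • a ∧ c ≠ a ∧ ¬ g • c = c) ∧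
        (e ≠ g • c ∧ e ≠ c ∧ e ≠ g • a ∧ e ≠ a ∧ ¬ g • e = e) := by
    intro a c e
    simp only [S, Finset.mem_sigma, Finset.mem_erase, mem_Mv]
  have hcard : S.card = (Mv (β := β) g).card *
      (((Mv (β := β) g).card - 2) * ((Mv (β := β) g).card - 2 - 2)) := by
    simp only [S]
    rw [Finset.card_sigma]
    have h1 : ∀ a ∈ Mv (β := β) g, ((((Mv (β := β) g).erase a).erase (g • a)).sigma
        (fun c => ((((Mv (β := β) g).erase a).erase (g • a)).erase c).erase (g • c))).card =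
        ((Mv (β := β) g).card - 2) * ((Mv (β := β) g).card - 2 - 2) := by
      intro a ha
      have ha' : ¬ g • a = a := mem_Mv.1 ha
      have hga : g • a ∈ (Mv (β := β) g).erase a :=
        Finset.mem_erase.2 ⟨ha', mem_Mv.2 (hmv a ha')⟩
      have hM' : (((Mv (β := β) g).erase a).erase (g • a)).card = (Mv (β := β) g).card - 2 := by
        rw [Finset.card_erase_of_mem hga, Finset.card_erase_of_mem ha]; omega
      rw [Finset.card_sigma]
      have h2 : ∀ c ∈ ((Mv (β := β) g).erase a).erase (g • a),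
          (((((Mv (β := β) g).erase a).erase (g • a)).erase c).erase (g • c)).card =
            (Mv (β := β) g).card - 2 - 2 := by
        intro c hc
        have hc' := hc
        simp only [Finset.mem_erase, mem_Mv] at hc'
        obtain ⟨hc1, hc2, hc3⟩ := hc'
        have hgc : g • c ∈ (((Mv (β := β) g).erase a).erase (g • a)).erase c := by
          simp only [Finset.mem_erase, mem_Mv]
          exact ⟨hc3, hin c a hc2, hsw c a hc1, hmv c hc3⟩
        rw [Finset.card_erase_of_mem hgc, Finset.card_erase_of_mem hc, hM']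
        omega
      rw [Finset.sum_congr rfl h2, Finset.sum_const, smul_eq_mul, hM']
    rw [Finset.sum_congr rfl h1, Finset.sum_const, smul_eq_mul]
  have hnd : ∀ t ∈ S, [t.1, g • t.1, t.2.1, g • t.2.1, t.2.2, g • t.2.2].Nodup := by
    rintro ⟨a, c, e⟩ ht
    obtain ⟨ha, ⟨hc1, hc2, hc3⟩, he1, he2, he3, he4, he5⟩ := (hS a c e).1 ht
    exact nodup6 (fun h => ha h.symm) hc2.symm (hsw c a hc1).symm he4.symm (hsw e a he3).symm
      hc1.symm (hin a c hc2.symm) he3.symm (hin a e he4.symm) (fun h => hc3 h.symm) he2.symm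
      (hsw e c he1).symm he1.symm (hin c e he2.symm) (fun h => he5 h.symm)
  rw [← hcard]
  symm
  refine Finset.card_bij
    (fun t ht => emb6 t.1 (g • t.1) t.2.1 (g • t.2.1) t.2.2 (g • t.2.2) (hnd t ht)) ?_ ?_ ?_
  · rintro ⟨a, c, e⟩ ht
    rw [mem_E]
    intro i
    fin_cases i
    · rfl
    · exact hgg2 a
    · rfl
    · exact hgg2 c
    · rfl
    · exact hgg2 e
  · rintro ⟨a, c, e⟩ ht ⟨a', c', e'⟩ ht' heq
    have e0 : a = a' := DFunLike.congr_fun heq 0
    have e2 : c = c' := DFunLike.congr_fun heq 2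
    have e4 : e = e' := DFunLike.congr_fun heq 4
    subst e0; subst e2; subst e4
    rfl
  · intro x hx
    have hx' := mem_E.1 hx
    have h0 : g • x 0 = x 1 := hx' 0
    have h2 : g • x 2 = x 3 := hx' 2
    have h4 : g • x 4 = x 5 := hx' 4
    have hne : ∀ i j : Fin 6, i ≠ j → x i ≠ x j := fun i j hij h => hij (x.injective h)
    refine ⟨⟨x 0, x 2, x 4⟩, ?_, ?_⟩
    · rw [hS, h0, h2, h4]
      exact ⟨hne 1 0 (by decide), ⟨hne 2 1 (by decide), hne 2 0 (by decide),
        hne 3 2 (by decide)⟩, hne 4 3 (by decide), hne 4 2 (by decide), hne 4 1 (by decide),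
        hne 4 0 (by decide), hne 5 4 (by decide)⟩
    · exact emb6_eq x _ _ _ _ _ _ _ rfl h0 rfl h2 rfl h4

theorem card_E2 (g : H) (hgg : g * g = 1) :
    (E (β := β) s2 g).card = (Mv (β := β) g).card * ((Mv (β := β) g).card - 2) *
      ((Fx (β := β) g).card * (Fx (β := β) g).card - (Fx (β := β) g).card) := by
  have hgg2 : ∀ z : β, g • g • z = z := fun z => by rw [← mul_smul, hgg, one_smul]
  have hsw : ∀ y z : β, y ≠ g • z → g • y ≠ z := fun y z h h' => h (by rw [← h', hgg2])
  have hin : ∀ y z : β, y ≠ z → g • y ≠ g • z := fun y z h h' => h (smul_left_cancel g h')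
  have hmv : ∀ y : β, ¬ g • y = y → ¬ g • g • y = g • y :=
    fun y h h' => h (smul_left_cancel g h')
  have hmf : ∀ y d : β, ¬ g • y = y → g • d = d → y ≠ d :=
    fun y d hy hd h => hy (by rw [h]; exact hd)
  let S : Finset ((Σ _ : β, β) × (β × β)) :=
    ((Mv (β := β) g).sigma (fun a => ((Mv (β := β) g).erase a).erase (g • a))) ×ˢ
      (Fx (β := β) g).offDiag
  have hS : ∀ a c d1 d2 : β, ((⟨a, c⟩, (d1, d2)) : (Σ _ : β, β) × (β × β)) ∈ S ↔
      (¬ g • a = a ∧ c ≠ g • a ∧ c ≠ a ∧ ¬ g • c = c) ∧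
        (g • d1 = d1 ∧ g • d2 = d2 ∧ d1 ≠ d2) := by
    intro a c d1 d2
    simp only [S, Finset.mem_product, Finset.mem_sigma, Finset.mem_erase, Finset.mem_offDiag,
      mem_Mv, mem_Fx]
  have hcard : S.card = (Mv (β := β) g).card * ((Mv (β := β) g).card - 2) *
      ((Fx (β := β) g).card * (Fx (β := β) g).card - (Fx (β := β) g).card) := by
    simp only [S]
    rw [Finset.card_product, Finset.offDiag_card, Finset.card_sigma]
    have h1 : ∀ a ∈ Mv (β := β) g, (((Mv (β := β) g).erase a).erase (g • a)).card =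
        (Mv (β := β) g).card - 2 := by
      intro a ha
      have ha' : ¬ g • a = a := mem_Mv.1 ha
      have hga : g • a ∈ (Mv (β := β) g).erase a :=
        Finset.mem_erase.2 ⟨ha', mem_Mv.2 (hmv a ha')⟩
      rw [Finset.card_erase_of_mem hga, Finset.card_erase_of_mem ha]; omega
    rw [Finset.sum_congr rfl h1, Finset.sum_const, smul_eq_mul]
  have hnd : ∀ t ∈ S, [t.1.1, g • t.1.1, t.1.2, g • t.1.2, t.2.1, t.2.2].Nodup := by
    rintro ⟨⟨a, c⟩, d1, d2⟩ ht
    obtain ⟨⟨ha, hc1, hc2, hc3⟩, hd1, hd2, hd⟩ := (hS a c d1 d2).1 ht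
    exact nodup6 (fun h => ha h.symm) hc2.symm (hsw c a hc1).symm (hmf a d1 ha hd1)
      (hmf a d2 ha hd2) hc1.symm (hin a c hc2.symm) (hmf _ d1 (hmv a ha) hd1)
      (hmf _ d2 (hmv a ha) hd2) (fun h => hc3 h.symm) (hmf c d1 hc3 hd1) (hmf c d2 hc3 hd2)
      (hmf _ d1 (hmv c hc3) hd1) (hmf _ d2 (hmv c hc3) hd2) hd
  rw [← hcard]
  symm
  refine Finset.card_bij
    (fun t ht => emb6 t.1.1 (g • t.1.1) t.1.2 (g • t.1.2) t.2.1 t.2.2 (hnd t ht)) ?_ ?_ ?_
  · rintro ⟨⟨a, c⟩, d1, d2⟩ ht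
    obtain ⟨-, hd1, hd2, -⟩ := (hS a c d1 d2).1 ht
    rw [mem_E]
    intro i
    fin_cases i
    · rfl
    · exact hgg2 a
    · rfl
    · exact hgg2 c
    · exact hd1
    · exact hd2
  · rintro ⟨⟨a, c⟩, d1, d2⟩ ht ⟨⟨a', c'⟩, d1', d2'⟩ ht' heq
    have e0 : a = a' := DFunLike.congr_fun heq 0
    have e2 : c = c' := DFunLike.congr_fun heq 2
    have e4 : d1 = d1' := DFunLike.congr_fun heq 4
    have e5 : d2 = d2' := DFunLike.congr_fun heq 5
    subst e0; subst e2; subst e4; subst e5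
    rfl
  · intro x hx
    have hx' := mem_E.1 hx
    have h0 : g • x 0 = x 1 := hx' 0
    have h2 : g • x 2 = x 3 := hx' 2
    have h4 : g • x 4 = x 4 := hx' 4
    have h5 : g • x 5 = x 5 := hx' 5
    have hne : ∀ i j : Fin 6, i ≠ j → x i ≠ x j := fun i j hij h => hij (x.injective h)
    refine ⟨(⟨x 0, x 2⟩, (x 4, x 5)), ?_, ?_⟩
    · rw [hS, h0, h2]
      exact ⟨⟨hne 1 0 (by decide), hne 2 1 (by decide), hne 2 0 (by decide),
        hne 3 2 (by decide)⟩, h4, h5, hne 4 5 (by decide)⟩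
    · exact emb6_eq x _ _ _ _ _ _ _ rfl h0 rfl h2 rfl rfl

theorem card_E3 (g : H) (hgg : g * g = 1) :
    (E (β := β) s3 g).card = (Mv (β := β) g).card *
      ((Fx (β := β) g).card * (((Fx (β := β) g).card - 1) *
        (((Fx (β := β) g).card - 1 - 1) * ((Fx (β := β) g).card - 1 - 1 - 1)))) := by
  have hgg2 : ∀ z : β, g • g • z = z := fun z => by rw [← mul_smul, hgg, one_smul]
  have hmv : ∀ y : β, ¬ g • y = y → ¬ g • g • y = g • y :=
    fun y h h' => h (smul_left_cancel g h')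
  have hmf : ∀ y d : β, ¬ g • y = y → g • d = d → y ≠ d :=
    fun y d hy hd h => hy (by rw [h]; exact hd)
  let S : Finset (β × (Σ _ : β, Σ _ : β, Σ _ : β, β)) :=
    (Mv (β := β) g) ×ˢ ((Fx (β := β) g).sigma (fun d1 => ((Fx (β := β) g).erase d1).sigma
      (fun d2 => (((Fx (β := β) g).erase d1).erase d2).sigma
        (fun d3 => (((Fx (β := β) g).erase d1).erase d2).erase d3))))
  have hS : ∀ a d1 d2 d3 d4 : β,
      ((a, ⟨d1, d2, d3, d4⟩) : β × (Σ _ : β, Σ _ : β, Σ _ : β, β)) ∈ S ↔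
      ¬ g • a = a ∧ g • d1 = d1 ∧ (d2 ≠ d1 ∧ g • d2 = d2) ∧ (d3 ≠ d2 ∧ d3 ≠ d1 ∧ g • d3 = d3) ∧
        (d4 ≠ d3 ∧ d4 ≠ d2 ∧ d4 ≠ d1 ∧ g • d4 = d4) := by
    intro a d1 d2 d3 d4
    simp only [S, Finset.mem_product, Finset.mem_sigma, Finset.mem_erase, mem_Mv, mem_Fx]
  have hcard : S.card = (Mv (β := β) g).card *
      ((Fx (β := β) g).card * (((Fx (β := β) g).card - 1) *
        (((Fx (β := β) g).card - 1 - 1) * ((Fx (β := β) g).card - 1 - 1 - 1)))) := by
    simp only [S]
    rw [Finset.card_product, Finset.card_sigma]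
    have h1 : ∀ d1 ∈ Fx (β := β) g, (((Fx (β := β) g).erase d1).sigma
        (fun d2 => (((Fx (β := β) g).erase d1).erase d2).sigma
          (fun d3 => (((Fx (β := β) g).erase d1).erase d2).erase d3))).card =
        ((Fx (β := β) g).card - 1) *
          (((Fx (β := β) g).card - 1 - 1) * ((Fx (β := β) g).card - 1 - 1 - 1)) := by
      intro d1 hd1
      rw [Finset.card_sigma]
      have h2 : ∀ d2 ∈ (Fx (β := β) g).erase d1, ((((Fx (β := β) g).erase d1).erase d2).sigma
          (fun d3 => (((Fx (β := β) g).erase d1).erase d2).erase d3)).card =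
          ((Fx (β := β) g).card - 1 - 1) * ((Fx (β := β) g).card - 1 - 1 - 1) := by
        intro d2 hd2
        rw [Finset.card_sigma]
        have h3 : ∀ d3 ∈ ((Fx (β := β) g).erase d1).erase d2,
            ((((Fx (β := β) g).erase d1).erase d2).erase d3).card =
              (Fx (β := β) g).card - 1 - 1 - 1 := by
          intro d3 hd3
          rw [Finset.card_erase_of_mem hd3, Finset.card_erase_of_mem hd2,
            Finset.card_erase_of_mem hd1]
        rw [Finset.sum_congr rfl h3, Finset.sum_const, smul_eq_mul,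
          Finset.card_erase_of_mem hd2, Finset.card_erase_of_mem hd1]
      rw [Finset.sum_congr rfl h2, Finset.sum_const, smul_eq_mul, Finset.card_erase_of_mem hd1]
    rw [Finset.sum_congr rfl h1, Finset.sum_const, smul_eq_mul]
  have hnd : ∀ t ∈ S, [t.1, g • t.1, t.2.1, t.2.2.1, t.2.2.2.1, t.2.2.2.2].Nodup := by
    rintro ⟨a, d1, d2, d3, d4⟩ ht
    obtain ⟨ha, hd1, ⟨h21, hd2⟩, ⟨h32, h31, hd3⟩, h43, h42, h41, hd4⟩ :=
      (hS a d1 d2 d3 d4).1 ht
    exact nodup6 (fun h => ha h.symm) (hmf a d1 ha hd1) (hmf a d2 ha hd2) (hmf a d3 ha hd3)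
      (hmf a d4 ha hd4) (hmf _ d1 (hmv a ha) hd1) (hmf _ d2 (hmv a ha) hd2)
      (hmf _ d3 (hmv a ha) hd3) (hmf _ d4 (hmv a ha) hd4) h21.symm h31.symm h41.symm h32.symm
      h42.symm h43.symm
  rw [← hcard]
  symm
  refine Finset.card_bij
    (fun t ht => emb6 t.1 (g • t.1) t.2.1 t.2.2.1 t.2.2.2.1 t.2.2.2.2 (hnd t ht)) ?_ ?_ ?_
  · rintro ⟨a, d1, d2, d3, d4⟩ ht
    obtain ⟨-, hd1, ⟨-, hd2⟩, ⟨-, -, hd3⟩, -, -, -, hd4⟩ := (hS a d1 d2 d3 d4).1 ht
    rw [mem_E]
    intro i
    fin_cases i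
    · rfl
    · exact hgg2 a
    · exact hd1
    · exact hd2
    · exact hd3
    · exact hd4
  · rintro ⟨a, d1, d2, d3, d4⟩ ht ⟨a', d1', d2', d3', d4'⟩ ht' heq
    have e0 : a = a' := DFunLike.congr_fun heq 0
    have e2 : d1 = d1' := DFunLike.congr_fun heq 2
    have e3 : d2 = d2' := DFunLike.congr_fun heq 3
    have e4 : d3 = d3' := DFunLike.congr_fun heq 4
    have e5 : d4 = d4' := DFunLike.congr_fun heq 5
    subst e0; subst e2; subst e3; subst e4; subst e5
    rfl
  · intro x hx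
    have hx' := mem_E.1 hx
    have h0 : g • x 0 = x 1 := hx' 0
    have h2 : g • x 2 = x 2 := hx' 2
    have h3 : g • x 3 = x 3 := hx' 3
    have h4 : g • x 4 = x 4 := hx' 4
    have h5 : g • x 5 = x 5 := hx' 5
    have hne : ∀ i j : Fin 6, i ≠ j → x i ≠ x j := fun i j hij h => hij (x.injective h)
    refine ⟨(x 0, ⟨x 2, x 3, x 4, x 5⟩), ?_, ?_⟩
    · rw [hS, h0]
      exact ⟨hne 1 0 (by decide), h2, ⟨hne 3 2 (by decide), h3⟩,
        ⟨hne 4 3 (by decide), hne 4 2 (by decide), h4⟩, hne 5 4 (by decide),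
        hne 5 3 (by decide), hne 5 2 (by decide), h5⟩
    · exact emb6_eq x _ _ _ _ _ _ _ rfl h0 rfl rfl rfl rfl

theorem sum_by_fix6 (s : Finset H) (f : H → ℕ) (hf : ∀ g ∈ s, f g ≤ 5) (φ : ℕ → ℕ) :
    ∑ g ∈ s, φ (f g) =
      (s.filter (fun g => f g = 0)).card * φ 0 + (s.filter (fun g => f g = 1)).card * φ 1 +
        (s.filter (fun g => f g = 2)).card * φ 2 + (s.filter (fun g => f g = 3)).card * φ 3 +
        (s.filter (fun g => f g = 4)).card * φ 4 + (s.filter (fun g => f g = 5)).card * φ 5 := by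
  have hmaps : ∀ g ∈ s, f g ∈ Finset.range 6 :=
    fun g hg => Finset.mem_range.2 (Nat.lt_succ_of_le (hf g hg))
  rw [← Finset.sum_fiberwise_of_maps_to' hmaps]
  simp only [Finset.sum_range_succ, Finset.sum_range_zero, zero_add, Finset.sum_const,
    smul_eq_mul]

theorem no_6_13 [MulAction.IsMultiplyPretransitive H β 6]
    (hsharp : ∀ x : Fin 6 ↪ β, MulAction.stabilizer H x = ⊥) (h13 : Fintype.card β = 13) :
    False := by
  have hN : Fintype.card (Fin 6 ↪ β) = 1235520 := by
    rw [Fintype.card_embedding_eq, Fintype.card_fin, h13]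
    rfl
  have hf5 : ∀ g ∈ Helper9_Sharp4.Helper9S4.Inv H, (fun g => (Fx (β := β) g).card) g ≤ 5 := fun g hg => by
    have := fix_lt hsharp g (mem_Inv.1 hg).2
    show (Fx (β := β) g).card ≤ 5
    omega
  have hmf : ∀ g : H, (Mv (β := β) g).card + (Fx (β := β) g).card = 13 := fun g => by
    rw [← h13]; exact card_Mv_add g
  have hpar : ∀ g ∈ Helper9_Sharp4.Helper9S4.Inv H, (Mv (β := β) g).card % 2 = 0 :=
    fun g hg => mv_even g (mem_Inv.1 hg).1
  have E1 := sum_card_E_inv (H := H) (β := β) s1 (by decide) 0 (by decide) hsharp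
  have E2 := sum_card_E_inv (H := H) (β := β) s2 (by decide) 0 (by decide) hsharp
  have E3 := sum_card_E_inv (H := H) (β := β) s3 (by decide) 0 (by decide) hsharp
  rw [hN] at E1 E2 E3
  have E1' : ∑ g ∈ Helper9_Sharp4.Helper9S4.Inv H, (13 - (Fx (β := β) g).card) * ((13 - (Fx (β := β) g).card - 2) *
      (13 - (Fx (β := β) g).card - 2 - 2)) = 1235520 := by
    rw [← E1]
    refine Finset.sum_congr rfl (fun g hg => ?_)
    rw [card_E1 g (mem_Inv.1 hg).1]
    have := hmf g
    have e : (Mv (β := β) g).card = 13 - (Fx (β := β) g).card := by omega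
    rw [e]
  have E2' : ∑ g ∈ Helper9_Sharp4.Helper9S4.Inv H, (13 - (Fx (β := β) g).card) * (13 - (Fx (β := β) g).card - 2) *
      ((Fx (β := β) g).card * (Fx (β := β) g).card - (Fx (β := β) g).card) = 1235520 := by
    rw [← E2]
    refine Finset.sum_congr rfl (fun g hg => ?_)
    rw [card_E2 g (mem_Inv.1 hg).1]
    have := hmf g
    have e : (Mv (β := β) g).card = 13 - (Fx (β := β) g).card := by omega
    rw [e]
  have E3' : ∑ g ∈ Helper9_Sharp4.Helper9S4.Inv H, (13 - (Fx (β := β) g).card) *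
      ((Fx (β := β) g).card * (((Fx (β := β) g).card - 1) *
        (((Fx (β := β) g).card - 1 - 1) * ((Fx (β := β) g).card - 1 - 1 - 1)))) = 1235520 := by
    rw [← E3]
    refine Finset.sum_congr rfl (fun g hg => ?_)
    rw [card_E3 g (mem_Inv.1 hg).1]
    have := hmf g
    have e : (Mv (β := β) g).card = 13 - (Fx (β := β) g).card := by omega
    rw [e]
  have F1 := (sum_by_fix6 (Helper9_Sharp4.Helper9S4.Inv H) (fun g => (Fx (β := β) g).card) hf5
    (fun k => (13 - k) * ((13 - k - 2) * (13 - k - 2 - 2)))).symm.trans E1'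
  have F2 := (sum_by_fix6 (Helper9_Sharp4.Helper9S4.Inv H) (fun g => (Fx (β := β) g).card) hf5
    (fun k => (13 - k) * (13 - k - 2) * (k * k - k))).symm.trans E2'
  have F3 := (sum_by_fix6 (Helper9_Sharp4.Helper9S4.Inv H) (fun g => (Fx (β := β) g).card) hf5
    (fun k => (13 - k) * (k * ((k - 1) * ((k - 1 - 1) * (k - 1 - 1 - 1)))))).symm.trans E3'
  have hzero : ∀ k, k % 2 = 0 →
      ((Helper9_Sharp4.Helper9S4.Inv H).filter (fun g => (fun g => (Fx (β := β) g).card) g = k)).card = 0 := by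
    intro k hk
    rw [Finset.card_eq_zero, Finset.filter_eq_empty_iff]
    intro g hg hfk
    have h1 := hmf g
    have h2 := hpar g hg
    have hfk' : (Fx (β := β) g).card = k := hfk
    omega
  rw [hzero 0 (by norm_num), hzero 2 (by norm_num), hzero 4 (by norm_num)] at F1 F2 F3
  norm_num at F1 F2 F3
  omega

end partII

section main
variable {H : Type u} {β : Type v} [Group H] [MulAction H β]

theorem pretrans_of {k : ℕ} (hk : 1 ≤ k) [Finite β] [MulAction.IsMultiplyPretransitive H β k]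
    (hle : k ≤ Nat.card β) : MulAction.IsPretransitive H β := by
  have h1 : MulAction.IsMultiplyPretransitive H β 1 :=
    MulAction.isMultiplyPretransitive_of_le (n := k) hk hle
  exact MulAction.is_one_pretransitive_iff.1 h1

theorem core5 [Finite H] [Finite β] [MulAction.IsMultiplyPretransitive H β 5]
    (hsharp : ∀ x : Fin 5 ↪ β, MulAction.stabilizer H x = ⊥) (h5 : 5 ≤ Nat.card β) :
    Nat.card β = 5 ∨ Nat.card β = 6 ∨ Nat.card β = 7 ∨ Nat.card β = 12 := by
  have hpre : MulAction.IsPretransitive H β := pretrans_of (k := 5) (by norm_num) h5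
  obtain ⟨a⟩ : Nonempty β := (Nat.card_pos_iff.1 (by omega)).1
  obtain ⟨ht, hs⟩ := stab_sharp 4 hsharp a
  have hcard := SubMulAction.nat_card_ofStabilizer_add_one_eq H a
  have h := core (H := MulAction.stabilizer H a) (β := SubMulAction.ofStabilizer H a) hs
    (by omega)
  omega

theorem core6 [Finite H] [Finite β] [MulAction.IsMultiplyPretransitive H β 6]
    (hsharp : ∀ x : Fin 6 ↪ β, MulAction.stabilizer H x = ⊥) (h6 : 6 ≤ Nat.card β) :
    Nat.card β = 6 ∨ Nat.card β = 7 ∨ Nat.card β = 8 := by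
  have hpre : MulAction.IsPretransitive H β := pretrans_of (k := 6) (by norm_num) h6
  obtain ⟨a⟩ : Nonempty β := (Nat.card_pos_iff.1 (by omega)).1
  obtain ⟨ht, hs⟩ := stab_sharp 5 hsharp a
  have hcard := SubMulAction.nat_card_ofStabilizer_add_one_eq H a
  have h := core5 (H := MulAction.stabilizer H a) (β := SubMulAction.ofStabilizer H a) hs
    (by omega)
  have h13 : Nat.card β ≠ 13 := by
    intro h13
    classical
    haveI := Fintype.ofFinite H
    haveI := Fintype.ofFinite β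
    rw [Nat.card_eq_fintype_card] at h13
    exact no_6_13 hsharp h13
  omega

theorem coreK : ∀ k, 6 ≤ k → ∀ (H : Type u) (β : Type v) [Group H] [MulAction H β] [Finite H]
    [Finite β] [MulAction.IsMultiplyPretransitive H β k],
    (∀ x : Fin k ↪ β, MulAction.stabilizer H x = ⊥) → k ≤ Nat.card β →
    Nat.card β = k ∨ Nat.card β = k + 1 ∨ Nat.card β = k + 2 := by
  intro k hk
  induction k, hk using Nat.le_induction with
  | base =>
    intro H β _ _ _ _ _ hsharp hle
    exact core6 hsharp hle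
  | succ k hk ih =>
    intro H β _ _ _ _ _ hsharp hle
    have hpre : MulAction.IsPretransitive H β := pretrans_of (k := k + 1) (by omega) hle
    obtain ⟨a⟩ : Nonempty β := (Nat.card_pos_iff.1 (by omega)).1
    obtain ⟨ht, hs⟩ := stab_sharp k hsharp a
    have hcard := SubMulAction.nat_card_ofStabilizer_add_one_eq H a
    have h := ih (MulAction.stabilizer H a) (SubMulAction.ofStabilizer H a) hs (by omega)
    omega

end main

end Helper9SK
end Cfsg.Agent.Lib.Helper9_SharpK
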