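import Cfsg.Prelude.Def_GeometricClasses
import Cfsg.Agent.S0765
import Mathlib

set_option autoImplicit false

namespace Cfsg.Agent.Helper9Sp

open Matrix Cfsg Cfsg.Agent.Lib.Helper1_Symp

variable {m : ℕ} {F : Type*} [Field F]

/-- two elements of `GL` are equal if they act in the same way on vectors -/
theorem gl_ext_mulVec (g h : Matrix.GeneralLinearGroup (Fin m ⊕ Fin m) F)
    (H : ∀ v, (g : Matrix (Fin m ⊕ Fin m) (Fin m ⊕ Fin m) F) *ᵥ v =
      (h : Matrix (Fin m ⊕ Fin m) (Fin m ⊕ Fin m) F) *ᵥ v) : g = h := by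
  apply Units.ext
  exact Matrix.ext_iff_mulVec.2 H

theorem gl_mul_mulVec (g h : Matrix.GeneralLinearGroup (Fin m ⊕ Fin m) F) (v : Fin m ⊕ Fin m → F) :
    ((g * h : Matrix.GeneralLinearGroup (Fin m ⊕ Fin m) F) :
      Matrix (Fin m ⊕ Fin m) (Fin m ⊕ Fin m) F) *ᵥ v =
      (g : Matrix (Fin m ⊕ Fin m) (Fin m ⊕ Fin m) F) *ᵥ
        ((h : Matrix (Fin m ⊕ Fin m) (Fin m ⊕ Fin m) F) *ᵥ v) := by
  rw [Units.val_mul, Matrix.mulVec_mulVec]

theorem inv_mulVec_mulVec (g : Matrix.GeneralLinearGroup (Fin m ⊕ Fin m) F) (v : Fin m ⊕ Fin m → F) :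
    ((g⁻¹ : Matrix.GeneralLinearGroup (Fin m ⊕ Fin m) F) :
      Matrix (Fin m ⊕ Fin m) (Fin m ⊕ Fin m) F) *ᵥ
      ((g : Matrix (Fin m ⊕ Fin m) (Fin m ⊕ Fin m) F) *ᵥ v) = v := by
  rw [← gl_mul_mulVec, inv_mul_cancel]
  simp

theorem mulVec_inv_mulVec (g : Matrix.GeneralLinearGroup (Fin m ⊕ Fin m) F) (v : Fin m ⊕ Fin m → F) :
    (g : Matrix (Fin m ⊕ Fin m) (Fin m ⊕ Fin m) F) *ᵥ
      (((g⁻¹ : Matrix.GeneralLinearGroup (Fin m ⊕ Fin m) F) :
      Matrix (Fin m ⊕ Fin m) (Fin m ⊕ Fin m) F) *ᵥ v) = v := by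
  rw [← gl_mul_mulVec, mul_inv_cancel]
  simp

theorem mem_spGL_iff (g : Matrix.GeneralLinearGroup (Fin m ⊕ Fin m) F) :
    g ∈ Cfsg.spGL m F ↔ ∀ u v, sympForm m F ((g : Matrix (Fin m ⊕ Fin m) (Fin m ⊕ Fin m) F) *ᵥ u)
      ((g : Matrix (Fin m ⊕ Fin m) (Fin m ⊕ Fin m) F) *ᵥ v) = sympForm m F u v := Iff.rfl

theorem mem_stab_iff (W : Submodule F (Fin m ⊕ Fin m → F))
    (g : Matrix.GeneralLinearGroup (Fin m ⊕ Fin m) F) :
    g ∈ Cfsg.Geo.subspaceStabilizer W ↔
      ∀ v, v ∈ W ↔ (g : Matrix (Fin m ⊕ Fin m) (Fin m ⊕ Fin m) F) *ᵥ v ∈ W := Iff.rfl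

/-- symplectic transvection `x ↦ x + c f(x,v) v` as an element of `GL`. -/
noncomputable def spT (v : Fin m ⊕ Fin m → F) (c : F) : Matrix.GeneralLinearGroup (Fin m ⊕ Fin m) F :=
  ⟨sympTransvection m v c, sympTransvection m v (-c),
    by rw [sympTransvection_mul, add_neg_cancel, sympTransvection_zero],
    by rw [sympTransvection_mul, neg_add_cancel, sympTransvection_zero]⟩

theorem spT_mulVec (v : Fin m ⊕ Fin m → F) (c : F) (x : Fin m ⊕ Fin m → F) :
    ((spT v c : Matrix.GeneralLinearGroup (Fin m ⊕ Fin m) F) :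
      Matrix (Fin m ⊕ Fin m) (Fin m ⊕ Fin m) F) *ᵥ x = x + (c * sympForm m F x v) • v :=
  sympTransvection_mulVec v c x

theorem spT_mem (v : Fin m ⊕ Fin m → F) (c : F) : spT v c ∈ Cfsg.spGL m F := by
  rw [mem_spGL_iff]
  intro x y
  exact sympTransvection_preserves v c x y

theorem spT_zero_vec (c : F) : spT (0 : Fin m ⊕ Fin m → F) c = 1 := by
  apply gl_ext_mulVec
  intro x
  rw [spT_mulVec]
  simp

theorem spT_smul (a c : F) (v : Fin m ⊕ Fin m → F) : spT (a • v) c = spT v (a * a * c) := by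
  apply Units.ext
  exact sympTransvection_smul v a c

theorem spT_conj (g : Matrix.GeneralLinearGroup (Fin m ⊕ Fin m) F) (hg : g ∈ Cfsg.spGL m F)
    (v : Fin m ⊕ Fin m → F) (c : F) :
    g * spT v c * g⁻¹ = spT ((g : Matrix (Fin m ⊕ Fin m) (Fin m ⊕ Fin m) F) *ᵥ v) c := by
  apply gl_ext_mulVec
  intro x
  rw [gl_mul_mulVec, gl_mul_mulVec, spT_mulVec, spT_mulVec, Matrix.mulVec_add, Matrix.mulVec_smul,
    mulVec_inv_mulVec]
  congr 3
  have := (mem_spGL_iff g).1 hg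
    (((g⁻¹ : Matrix.GeneralLinearGroup (Fin m ⊕ Fin m) F) :
      Matrix (Fin m ⊕ Fin m) (Fin m ⊕ Fin m) F) *ᵥ x) v
  rw [mulVec_inv_mulVec] at this
  exact this.symm

/-- the set of symplectic transvections in `GL` -/
def spTSet (m : ℕ) (F : Type*) [Field F] : Set (Matrix.GeneralLinearGroup (Fin m ⊕ Fin m) F) :=
  {g | ∃ (v : Fin m ⊕ Fin m → F) (c : F), g = spT v c}

/-- `Sp` is generated by symplectic transvections (transfer of `S0765`). -/
theorem spGL_le_closure : Cfsg.spGL m F ≤ Subgroup.closure (spTSet m F) := by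
  intro g hg
  have hA : (g : Matrix (Fin m ⊕ Fin m) (Fin m ⊕ Fin m) F) ∈ Matrix.symplecticGroup (Fin m) F :=
    (mem_symplecticGroup_iff_preserves _).2 ((mem_spGL_iff g).1 hg)
  have htop := Cfsg.Agent.S0765.result (F := F) m
  have key : ∀ x ∈ Subgroup.closure {A : Matrix.symplecticGroup (Fin m) F |
      ∃ (w : Fin m ⊕ Fin m → F) (c : F),
        (A : Matrix (Fin m ⊕ Fin m) (Fin m ⊕ Fin m) F) = Cfsg.sympTransvection m w c},
      ∃ y ∈ Subgroup.closure (spTSet m F),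
        ((y : Matrix.GeneralLinearGroup (Fin m ⊕ Fin m) F) :
          Matrix (Fin m ⊕ Fin m) (Fin m ⊕ Fin m) F) =
          (x : Matrix (Fin m ⊕ Fin m) (Fin m ⊕ Fin m) F) := by
    intro x hx
    induction hx using Subgroup.closure_induction with
    | mem x hx =>
      obtain ⟨w, c, h⟩ := hx
      exact ⟨spT w c, Subgroup.subset_closure ⟨w, c, rfl⟩, h.symm⟩
    | one => exact ⟨1, Subgroup.one_mem _, rfl⟩
    | mul x y _ _ hx hy =>
      obtain ⟨a, ha, ha'⟩ := hx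
      obtain ⟨b, hb, hb'⟩ := hy
      refine ⟨a * b, Subgroup.mul_mem _ ha hb, ?_⟩
      rw [Units.val_mul, ha', hb']
      rfl
    | inv x _ hx =>
      obtain ⟨a, ha, ha'⟩ := hx
      refine ⟨a⁻¹, Subgroup.inv_mem _ ha, ?_⟩
      have h1 : ((a⁻¹ : Matrix.GeneralLinearGroup (Fin m ⊕ Fin m) F) :
          Matrix (Fin m ⊕ Fin m) (Fin m ⊕ Fin m) F) *
          (x : Matrix (Fin m ⊕ Fin m) (Fin m ⊕ Fin m) F) = 1 := by
        rw [← ha']
        exact Units.inv_mul a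
      have h2 : (x : Matrix (Fin m ⊕ Fin m) (Fin m ⊕ Fin m) F) *
          ((x⁻¹ : Matrix.symplecticGroup (Fin m) F) :
            Matrix (Fin m ⊕ Fin m) (Fin m ⊕ Fin m) F) = 1 := by
        have : x * x⁻¹ = 1 := mul_inv_cancel x
        exact congrArg Subtype.val this
      calc ((a⁻¹ : Matrix.GeneralLinearGroup (Fin m ⊕ Fin m) F) :
          Matrix (Fin m ⊕ Fin m) (Fin m ⊕ Fin m) F)
          = ((a⁻¹ : Matrix.GeneralLinearGroup (Fin m ⊕ Fin m) F) :
            Matrix (Fin m ⊕ Fin m) (Fin m ⊕ Fin m) F) *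
            ((x : Matrix (Fin m ⊕ Fin m) (Fin m ⊕ Fin m) F) *
          ((x⁻¹ : Matrix.symplecticGroup (Fin m) F) :
            Matrix (Fin m ⊕ Fin m) (Fin m ⊕ Fin m) F)) := by rw [h2, mul_one]
        _ = ((x⁻¹ : Matrix.symplecticGroup (Fin m) F) :
            Matrix (Fin m ⊕ Fin m) (Fin m ⊕ Fin m) F) := by rw [← mul_assoc, h1, one_mul]
  obtain ⟨y, hy, hyg⟩ := key ⟨_, hA⟩ (by rw [htop]; trivial)
  have : y = g := Units.ext hyg
  rw [← this]
  exact hy

/-- the form is non-degenerate -/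
theorem exists_form_ne_zero (b : Fin m ⊕ Fin m → F) (hb : b ≠ 0) :
    ∃ v, sympForm m F b v ≠ 0 := by
  classical
  obtain ⟨i, hi⟩ : ∃ i, b i ≠ 0 := by
    by_contra hcon
    push Not at hcon
    exact hb (funext hcon)
  rcases i with k | k
  · refine ⟨Pi.single (Sum.inr k) 1, ?_⟩
    rw [sympForm_eq]
    simpa [Pi.single_apply] using hi
  · refine ⟨Pi.single (Sum.inl k) 1, ?_⟩
    rw [sympForm_eq]
    simpa [Pi.single_apply] using hi

/-- the form as a Mathlib bilinear form -/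
noncomputable def symB (m : ℕ) (F : Type*) [Field F] : LinearMap.BilinForm F (Fin m ⊕ Fin m → F) :=
  LinearMap.mk₂ F (sympForm m F) sympForm_add_left (fun c u v => sympForm_smul_left c u v)
    sympForm_add_right (fun c u v => sympForm_smul_right c u v)

theorem symB_apply (u v : Fin m ⊕ Fin m → F) : symB m F u v = sympForm m F u v := rfl

theorem symB_isRefl : (symB m F).IsRefl := by
  intro x y h
  rw [symB_apply] at h ⊢
  rw [sympForm_swap, h, neg_zero]

theorem symB_nondegenerate : (symB m F).Nondegenerate := by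
  refine (LinearMap.IsRefl.nondegenerate_iff_separatingLeft
    (show LinearMap.IsRefl (symB m F) from symB_isRefl)).2 ?_
  intro x hx
  by_contra hx0
  obtain ⟨v, hv⟩ := exists_form_ne_zero x hx0
  exact hv (hx v)

/-- the orthogonal of a subspace -/
noncomputable def perp (W : Submodule F (Fin m ⊕ Fin m → F)) : Submodule F (Fin m ⊕ Fin m → F) :=
  (symB m F).orthogonal W

theorem mem_perp (W : Submodule F (Fin m ⊕ Fin m → F)) (v : Fin m ⊕ Fin m → F) :
    v ∈ perp W ↔ ∀ w ∈ W, sympForm m F w v = 0 := Iff.rfl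

theorem perp_perp (W : Submodule F (Fin m ⊕ Fin m → F)) : perp (perp W) = W :=
  LinearMap.BilinForm.orthogonal_orthogonal symB_nondegenerate symB_isRefl W

/-- the set of directions of transvections lying in `M` -/
def XS (M : Subgroup (Matrix.GeneralLinearGroup (Fin m ⊕ Fin m) F)) : Set (Fin m ⊕ Fin m → F) :=
  {v | ∀ c : F, spT v c ∈ M}

theorem XS_zero (M : Subgroup (Matrix.GeneralLinearGroup (Fin m ⊕ Fin m) F)) :
    (0 : Fin m ⊕ Fin m → F) ∈ XS M := by
  intro c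
  rw [spT_zero_vec]
  exact M.one_mem

theorem XS_smul (M : Subgroup (Matrix.GeneralLinearGroup (Fin m ⊕ Fin m) F)) (a : F)
    (v : Fin m ⊕ Fin m → F) (hv : v ∈ XS M) : a • v ∈ XS M := by
  intro c
  rw [spT_smul]
  exact hv _

theorem XS_act (M : Subgroup (Matrix.GeneralLinearGroup (Fin m ⊕ Fin m) F))
    (hM : M ≤ Cfsg.spGL m F) (g : Matrix.GeneralLinearGroup (Fin m ⊕ Fin m) F) (hg : g ∈ M)
    (v : Fin m ⊕ Fin m → F) (hv : v ∈ XS M) :
    (g : Matrix (Fin m ⊕ Fin m) (Fin m ⊕ Fin m) F) *ᵥ v ∈ XS M := by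
  intro c
  rw [← spT_conj g (hM hg)]
  exact M.mul_mem (M.mul_mem hg (hv c)) (M.inv_mem hg)

/-- hyperbolic lines: if `u, v ∈ X` are not orthogonal then `v + a u ∈ X`. -/
theorem XS_hyp (M : Subgroup (Matrix.GeneralLinearGroup (Fin m ⊕ Fin m) F))
    (hM : M ≤ Cfsg.spGL m F) (u v : Fin m ⊕ Fin m → F) (hu : u ∈ XS M) (hv : v ∈ XS M)
    (huv : sympForm m F v u ≠ 0) (a : F) : v + a • u ∈ XS M := by
  have := XS_act M hM (spT u (a / sympForm m F v u)) (hu _) v hv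
  rw [spT_mulVec, div_mul_cancel₀ _ huv] at this
  exact this

theorem spGL_le_of_XS (M : Subgroup (Matrix.GeneralLinearGroup (Fin m ⊕ Fin m) F))
    (h : ∀ v, v ∈ XS M) : Cfsg.spGL m F ≤ M := by
  refine le_trans spGL_le_closure ?_
  rw [Subgroup.closure_le]
  rintro x ⟨v, c, rfl⟩
  exact h v c

theorem spT_stab_of_mem (W : Submodule F (Fin m ⊕ Fin m → F)) (v : Fin m ⊕ Fin m → F) (hv : v ∈ W)
    (c : F) : spT v c ∈ Cfsg.Geo.subspaceStabilizer W := by
  rw [mem_stab_iff]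
  intro x
  rw [spT_mulVec]
  constructor
  · intro hx
    exact W.add_mem hx (W.smul_mem _ hv)
  · intro hx
    have : x = (x + (c * sympForm m F x v) • v) - (c * sympForm m F x v) • v := by abel
    rw [this]
    exact W.sub_mem hx (W.smul_mem _ hv)

theorem spT_stab_of_perp (W : Submodule F (Fin m ⊕ Fin m → F)) (v : Fin m ⊕ Fin m → F)
    (hv : v ∈ perp W) (c : F) : spT v c ∈ Cfsg.Geo.subspaceStabilizer W := by
  rw [mem_stab_iff]
  intro x
  rw [spT_mulVec]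
  constructor
  · intro hx
    rw [(mem_perp W v).1 hv x hx, mul_zero, zero_smul, add_zero]
    exact hx
  · intro hx
    have h1 := (mem_perp W v).1 hv _ hx
    rw [sympForm_add_left, sympForm_smul_left, sympForm_self, mul_zero, add_zero] at h1
    rw [h1, mul_zero, zero_smul, add_zero] at hx
    exact hx

/-- in finite dimension, mapping `W` into `W` is enough to stabilise it -/
theorem mem_stab_of_forall (W : Submodule F (Fin m ⊕ Fin m → F))
    (g : Matrix.GeneralLinearGroup (Fin m ⊕ Fin m) F)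
    (h : ∀ w ∈ W, (g : Matrix (Fin m ⊕ Fin m) (Fin m ⊕ Fin m) F) *ᵥ w ∈ W) :
    g ∈ Cfsg.Geo.subspaceStabilizer W := by
  rw [mem_stab_iff]
  intro v
  refine ⟨h v, fun hv => ?_⟩
  -- restriction of g to W is injective hence surjective
  let φ : W →ₗ[F] W :=
    { toFun := fun w => ⟨(g : Matrix (Fin m ⊕ Fin m) (Fin m ⊕ Fin m) F) *ᵥ w.1, h w.1 w.2⟩
      map_add' := by
        intro a b
        apply Subtype.ext
        simp [Matrix.mulVec_add]
      map_smul' := by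
        intro c a
        apply Subtype.ext
        simp [Matrix.mulVec_smul] }
  have hinj : Function.Injective φ := by
    intro a b hab
    have h1 : (g : Matrix (Fin m ⊕ Fin m) (Fin m ⊕ Fin m) F) *ᵥ a.1 =
        (g : Matrix (Fin m ⊕ Fin m) (Fin m ⊕ Fin m) F) *ᵥ b.1 := congrArg Subtype.val hab
    have h2 := congrArg (fun x => ((g⁻¹ : Matrix.GeneralLinearGroup (Fin m ⊕ Fin m) F) :
      Matrix (Fin m ⊕ Fin m) (Fin m ⊕ Fin m) F) *ᵥ x) h1
    simp only [inv_mulVec_mulVec] at h2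
    exact Subtype.ext h2
  have hsurj : Function.Surjective φ := LinearMap.injective_iff_surjective.1 hinj
  obtain ⟨w, hw⟩ := hsurj ⟨_, hv⟩
  have h1 : (g : Matrix (Fin m ⊕ Fin m) (Fin m ⊕ Fin m) F) *ᵥ w.1 =
      (g : Matrix (Fin m ⊕ Fin m) (Fin m ⊕ Fin m) F) *ᵥ v := congrArg Subtype.val hw
  have h2 := congrArg (fun x => ((g⁻¹ : Matrix.GeneralLinearGroup (Fin m ⊕ Fin m) F) :
      Matrix (Fin m ⊕ Fin m) (Fin m ⊕ Fin m) F) *ᵥ x) h1
  simp only [inv_mulVec_mulVec] at h2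
  rw [← h2]
  exact w.2

end Cfsg.Agent.Helper9Sp

namespace Cfsg.Agent.Helper9Sp

open Matrix Cfsg Cfsg.Agent.Lib.Helper1_Symp

variable {m : ℕ} {F : Type*} [Field F]

/-- an element of `GL` as a linear equivalence -/
noncomputable def glEquiv (g : Matrix.GeneralLinearGroup (Fin m ⊕ Fin m) F) :
    (Fin m ⊕ Fin m → F) ≃ₗ[F] (Fin m ⊕ Fin m → F) :=
  { Matrix.mulVecLin (g : Matrix (Fin m ⊕ Fin m) (Fin m ⊕ Fin m) F) with
    invFun := fun v => ((g⁻¹ : Matrix.GeneralLinearGroup (Fin m ⊕ Fin m) F) :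
      Matrix (Fin m ⊕ Fin m) (Fin m ⊕ Fin m) F) *ᵥ v
    left_inv := inv_mulVec_mulVec g
    right_inv := mulVec_inv_mulVec g }

theorem glEquiv_apply (g : Matrix.GeneralLinearGroup (Fin m ⊕ Fin m) F) (v : Fin m ⊕ Fin m → F) :
    glEquiv g v = (g : Matrix (Fin m ⊕ Fin m) (Fin m ⊕ Fin m) F) *ᵥ v := rfl

/-- a subspace inside the union of two subspaces is inside one of them -/
theorem le_or_le_of_subset_union (S A B : Submodule F (Fin m ⊕ Fin m → F))
    (h : ∀ x ∈ S, x ∈ A ∨ x ∈ B) : S ≤ A ∨ S ≤ B := by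
  by_contra hcon
  push Not at hcon
  obtain ⟨h1, h2⟩ := hcon
  obtain ⟨x, hxS, hxA⟩ := SetLike.not_le_iff_exists.1 h1
  obtain ⟨y, hyS, hyB⟩ := SetLike.not_le_iff_exists.1 h2
  have hxB : x ∈ B := (h x hxS).resolve_left hxA
  have hyA : y ∈ A := (h y hyS).resolve_right hyB
  rcases h (x + y) (S.add_mem hxS hyS) with h3 | h3
  · apply hxA
    have : x = (x + y) - y := by abel
    rw [this]
    exact A.sub_mem h3 hyA
  · apply hyB
    have : y = (x + y) - x := by abel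
    rw [this]
    exact B.sub_mem h3 hxB

/-- in a non-degenerate subspace two non-zero vectors have a common non-orthogonal vector -/
theorem two_nonzero (W₁ : Submodule F (Fin m ⊕ Fin m → F))
    (hnd : ∀ a ∈ W₁, a ≠ 0 → ∃ y ∈ W₁, sympForm m F a y ≠ 0)
    (a w : Fin m ⊕ Fin m → F) (ha : a ∈ W₁) (hw : w ∈ W₁) (ha0 : a ≠ 0) (hw0 : w ≠ 0) :
    ∃ y ∈ W₁, sympForm m F a y ≠ 0 ∧ sympForm m F w y ≠ 0 := by
  obtain ⟨ya, hya, hya'⟩ := hnd a ha ha0
  obtain ⟨yw, hyw, hyw'⟩ := hnd w hw hw0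
  by_cases h1 : sympForm m F w ya = 0
  · by_cases h2 : sympForm m F a yw = 0
    · refine ⟨ya + yw, W₁.add_mem hya hyw, ?_, ?_⟩
      · rw [sympForm_add_right, h2, add_zero]; exact hya'
      · rw [sympForm_add_right, h1, zero_add]; exact hyw'
    · exact ⟨yw, hyw, h2, hyw'⟩
  · exact ⟨ya, hya, hya', h1⟩

/-- sliding lemma -/
theorem slide (M : Subgroup (Matrix.GeneralLinearGroup (Fin m ⊕ Fin m) F))
    (hM : M ≤ Cfsg.spGL m F) (W₁ W₂ : Submodule F (Fin m ⊕ Fin m → F))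
    (h₁ : ∀ w ∈ W₁, w ∈ XS M) (h₂ : ∀ w ∈ W₂, w ∈ XS M)
    (horth : ∀ w₁ ∈ W₁, ∀ w₂ ∈ W₂, sympForm m F w₁ w₂ = 0)
    (hnd : ∀ a ∈ W₁, a ≠ 0 → ∃ y ∈ W₁, sympForm m F a y ≠ 0)
    (a b : Fin m ⊕ Fin m → F) (ha : a ∈ W₁) (ha0 : a ≠ 0) (hb : b ∈ W₂) (hx : a + b ∈ XS M) :
    ∀ w ∈ W₁, w + b ∈ XS M := by
  intro w hw
  have horth' : ∀ w₁ ∈ W₁, ∀ w₂ ∈ W₂, sympForm m F w₂ w₁ = 0 := by
    intro w₁ h1 w₂ h2
    rw [sympForm_swap, horth w₁ h1 w₂ h2, neg_zero]
  by_cases hw0 : w = 0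
  · rw [hw0, zero_add]; exact h₂ b hb
  have hd : w - a ∈ W₁ := W₁.sub_mem hw ha
  by_cases hcase : sympForm m F a (w - a) = 0
  · obtain ⟨y, hy, hay, hwy⟩ := two_nonzero W₁ hnd a w ha hw ha0 hw0
    have hx1 : (a + b) + (1 : F) • y ∈ XS M := by
      apply XS_hyp M hM y (a + b) (h₁ y hy) hx
      rw [sympForm_add_left, horth' y hy b hb, add_zero]
      exact hay
    have hx2 : ((a + b) + (1 : F) • y) + (1 : F) • ((w - a) - y) ∈ XS M := by
      apply XS_hyp M hM _ _ (h₁ _ (W₁.sub_mem hd hy)) hx1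
      have e1 : sympForm m F b (w - a - y) = 0 := horth' _ (W₁.sub_mem hd hy) b hb
      have e2 : sympForm m F y w = - sympForm m F w y := sympForm_swap y w
      have e3 : sympForm m F y a = - sympForm m F a y := sympForm_swap y a
      have e4 : sympForm m F a (w - a) = 0 := hcase
      have : sympForm m F (a + b + (1 : F) • y) (w - a - y) = - sympForm m F w y := by
        rw [sympForm_sub_right] at e4
        simp only [sympForm_add_left, sympForm_smul_left, sympForm_sub_right, sympForm_self, one_mul]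
        rw [sympForm_sub_right, sympForm_sub_right] at e1
        rw [sympForm_self] at e4
        linear_combination e4 + e1 + e2 - e3
      rw [this]
      exact neg_ne_zero.2 hwy
    have : ((a + b) + (1 : F) • y) + (1 : F) • ((w - a) - y) = w + b := by
      rw [one_smul, one_smul]; abel
    rw [this] at hx2
    exact hx2
  · have hx1 : (a + b) + (1 : F) • (w - a) ∈ XS M := by
      apply XS_hyp M hM _ _ (h₁ _ hd) hx
      rw [sympForm_add_left, horth' _ hd b hb, add_zero]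
      exact hcase
    have : (a + b) + (1 : F) • (w - a) = w + b := by
      rw [one_smul]; abel
    rw [this] at hx1
    exact hx1

end Cfsg.Agent.Helper9Sp
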