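import Cfsg.Agent.S5645
import Mathlib

/-! Maximality of the stabiliser of a totally singular subspace in `Sp`, for every `m`
(same proof as `S5645`, without the restriction on `m`). -/

set_option autoImplicit false
open Cfsg

namespace Cfsg.Agent.Helper9SpMax

open Cfsg.Agent.Helper9Sp Cfsg.Agent.Lib.Helper1_Symp Cfsg.Agent.S5645 Matrix

theorem maximal_stab {F : Type*} [Field F] (m : ℕ) (W : Submodule F (Fin m ⊕ Fin m → F)) (hW0 : W ≠ ⊥) (hW : Cfsg.Geo.IsTotallySingularFor (Cfsg.sympForm m F) W) : Cfsg.Geo.IsMaximalIn (Cfsg.spGL m F) (Cfsg.Geo.subspaceStabilizer W ⊓ Cfsg.spGL m F) := by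
  classical
  have hWp : W ≤ perp W := by
    intro w hw
    rw [mem_perp]
    intro w' hw'
    exact hW w' hw' w hw
  constructor
  · refine lt_of_le_of_ne inf_le_right ?_
    intro hcon
    obtain ⟨w, hw, hw0⟩ := Submodule.exists_mem_ne_zero_of_ne_bot hW0
    obtain ⟨v, hv⟩ := exists_form_ne_zero w hw0
    have hg : spT v 1 ∈ Cfsg.spGL m F := spT_mem _ _
    rw [← hcon] at hg
    have h1 := ((mem_stab_iff W _).1 hg.1 w).1 hw
    rw [spT_mulVec, one_mul] at h1
    have h2 : sympForm m F w v • v ∈ W := by
      have : sympForm m F w v • v = (w + sympForm m F w v • v) - w := by abel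
      rw [this]
      exact W.sub_mem h1 hw
    have h3 : v ∈ W := by
      have : v = (sympForm m F w v)⁻¹ • (sympForm m F w v • v) := by
        rw [smul_smul, inv_mul_cancel₀ hv, one_smul]
      rw [this]
      exact W.smul_mem _ h2
    exact hv (hW w hw v h3)
  · intro M hHM hMK
    by_cases hMH : M = Cfsg.Geo.subspaceStabilizer W ⊓ Cfsg.spGL m F
    · left; exact hMH
    right
    have hlt : Cfsg.Geo.subspaceStabilizer W ⊓ Cfsg.spGL m F < M :=
      lt_of_le_of_ne hHM (Ne.symm hMH)
    obtain ⟨g, hgM, hgH⟩ := SetLike.exists_of_lt hlt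
    have hgW : g ∉ Cfsg.Geo.subspaceStabilizer W := fun h => hgH ⟨h, hMK hgM⟩
    have hX : ∀ z ∈ perp W, z ∈ XS M := by
      intro z hz c
      exact hHM ⟨spT_stab_of_perp W z hz c, spT_mem z c⟩
    -- an element of X outside perp W
    obtain ⟨u, huX, hu⟩ : ∃ u ∈ XS M, u ∉ perp W := by
      by_contra hcon
      push Not at hcon
      apply hgW
      have hinv : g⁻¹ ∈ Cfsg.Geo.subspaceStabilizer W := by
        apply mem_stab_of_forall
        intro w hw
        rw [← perp_perp W, mem_perp]
        intro z hz
        have h1 : ((g : Matrix (Fin m ⊕ Fin m) (Fin m ⊕ Fin m) F) *ᵥ z) ∈ perp W :=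
          hcon _ (XS_act M hMK g hgM z (hX z hz))
        have h2 := (mem_spGL_iff g).1 (hMK hgM) z
          (((g⁻¹ : Matrix.GeneralLinearGroup (Fin m ⊕ Fin m) F) :
            Matrix (Fin m ⊕ Fin m) (Fin m ⊕ Fin m) F) *ᵥ w)
        rw [mulVec_inv_mulVec] at h2
        rw [← h2, sympForm_swap, (mem_perp W _).1 h1 w hw, neg_zero]
      have := (Cfsg.Geo.subspaceStabilizer W).inv_mem hinv
      rwa [inv_inv] at this
    apply le_antisymm hMK
    apply spGL_le_of_XS
    intro v'
    by_cases hv' : v' ∈ perp W
    · exact hX v' hv'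
    -- is v' in perp W + F u ?
    obtain ⟨w₁, hw₁, hφ₁⟩ : ∃ w ∈ W, sympForm m F w u ≠ 0 := by
      by_contra hcon
      push Not at hcon
      exact hu ((mem_perp W u).2 hcon)
    set lam : F := sympForm m F w₁ v' / sympForm m F w₁ u with hlam
    by_cases hcase : v' - lam • u ∈ perp W
    · have := enlarge M hMK W hW hX u huX hu _ hcase lam
      rw [sub_add_cancel] at this
      exact this
    · obtain ⟨w₂, hw₂, hψ₂⟩ : ∃ w ∈ W, sympForm m F w (v' - lam • u) ≠ 0 := by
        by_contra hcon
        push Not at hcon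
        exact hcase ((mem_perp W _).2 hcon)
      -- solve the 2 × 2 system
      set φ₁ := sympForm m F w₁ u
      set φ₂ := sympForm m F w₂ u
      set ψ₁ := sympForm m F w₁ v'
      set ψ₂ := sympForm m F w₂ v'
      have hΔ : φ₁ * ψ₂ - φ₂ * ψ₁ ≠ 0 := by
        rw [sympForm_sub_right, sympForm_smul_right] at hψ₂
        intro h0
        apply hψ₂
        rw [hlam]
        field_simp
        linear_combination h0
      set Δ := φ₁ * ψ₂ - φ₂ * ψ₁ with hΔdef
      set w : Fin m ⊕ Fin m → F := ((ψ₂ - φ₂) / Δ) • w₁ + ((φ₁ - ψ₁) / Δ) • w₂ with hwdef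
      have hwW : w ∈ W := W.add_mem (W.smul_mem _ hw₁) (W.smul_mem _ hw₂)
      have hwu : sympForm m F w u = 1 := by
        rw [hwdef, sympForm_add_left, sympForm_smul_left, sympForm_smul_left]
        field_simp
        rw [hΔdef]
        ring
      have hwv : sympForm m F w v' = 1 := by
        rw [hwdef, sympForm_add_left, sympForm_smul_left, sympForm_smul_left]
        field_simp
        rw [hΔdef]
        ring
      -- the Siegel element
      have haw : sympForm m F (u - v') w = 0 := by
        rw [sympForm_sub_left, sympForm_swap v' w, sympForm_swap u w, hwu, hwv]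
        ring
      have hp : spS (u - v') w ∈ M := by
        apply hHM
        refine ⟨?_, spS_mem _ _⟩
        apply mem_stab_of_forall
        intro x hx
        rw [spS_mulVec _ _ haw, hW x hx w hwW, zero_smul, add_zero]
        exact W.add_mem hx (W.smul_mem _ hwW)
      have hpu := XS_act M hMK _ hp u huX
      rw [spS_mulVec _ _ haw] at hpu
      have huw : sympForm m F u w = -1 := by rw [sympForm_swap, hwu]
      rw [huw] at hpu
      set c := sympForm m F u (u - v')
      have e1 : u + c • w + (-1 : F) • (u - v') = v' + c • w := by module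
      rw [e1] at hpu
      have hu2 : v' + c • w ∉ perp W := by
        intro h
        apply hv'
        have : v' = (v' + c • w) - c • w := by abel
        rw [this]
        exact (perp W).sub_mem h ((perp W).smul_mem _ (hWp hwW))
      have := enlarge M hMK W hW hX _ hpu hu2 ((-c) • w) ((perp W).smul_mem _ (hWp hwW)) 1
      have e2 : (-c) • w + (1 : F) • (v' + c • w) = v' := by module
      rw [e2] at this
      exact this


end Cfsg.Agent.Helper9SpMax
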