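-- helper9: symplectic frames in the standard symplectic space, and the stabiliser of a
-- non-degenerate subspace in the symplectic group.
import Mathlib
import Cfsg.Prelude.Def_ClassicalGeometry
import Cfsg.Agent.Lib.Helper1_Symp

set_option autoImplicit false

namespace Cfsg.Agent.Helper9SpStab

open Finset Cfsg Cfsg.Agent.Lib.Helper1_Symp

variable {F : Type*} [Field F] {m : ℕ}

/-- `x ↦ f x w` as a linear map. -/
def sL (m : ℕ) (w : Fin m ⊕ Fin m → F) : (Fin m ⊕ Fin m → F) →ₗ[F] F where
  toFun x := sympForm m F x w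
  map_add' x y := sympForm_add_left x y w
  map_smul' a x := by rw [sympForm_smul_left]; rfl

/-- `x ↦ f w x` as a linear map. -/
def sR (m : ℕ) (w : Fin m ⊕ Fin m → F) : (Fin m ⊕ Fin m → F) →ₗ[F] F where
  toFun x := sympForm m F w x
  map_add' x y := sympForm_add_right w x y
  map_smul' a x := by rw [sympForm_smul_right]; rfl

lemma symp_sum_left {ι : Type*} (s : Finset ι) (c : ι → F) (v : ι → Fin m ⊕ Fin m → F)
    (w : Fin m ⊕ Fin m → F) :
    sympForm m F (∑ i ∈ s, c i • v i) w = ∑ i ∈ s, c i * sympForm m F (v i) w := by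
  have h := map_sum (sL m w) (fun i => c i • v i) s
  simp only [map_smul, smul_eq_mul] at h
  exact h

lemma symp_sum_right {ι : Type*} (s : Finset ι) (c : ι → F) (v : ι → Fin m ⊕ Fin m → F)
    (w : Fin m ⊕ Fin m → F) :
    sympForm m F w (∑ i ∈ s, c i • v i) = ∑ i ∈ s, c i * sympForm m F w (v i) := by
  have h := map_sum (sR m w) (fun i => c i • v i) s
  simp only [map_smul, smul_eq_mul] at h
  exact h

lemma symp_single_right (x : Fin m ⊕ Fin m → F) (i : Fin m) :
    sympForm m F x (Pi.single (Sum.inl i) 1) = x (Sum.inr i) ∧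
    sympForm m F x (Pi.single (Sum.inr i) 1) = -x (Sum.inl i) := by
  classical
  constructor
  · rw [sympForm_eq, Finset.sum_eq_single i]
    · simp
    · intro l _ hl
      simp [hl]
    · intro h; exact absurd (Finset.mem_univ _) h
  · rw [sympForm_eq, Finset.sum_eq_single i]
    · simp
    · intro l _ hl
      simp [hl]
    · intro h; exact absurd (Finset.mem_univ _) h

lemma symp_nondeg (x : Fin m ⊕ Fin m → F) (hx : ∀ z, sympForm m F x z = 0) : x = 0 := by
  funext a
  rcases a with i | i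
  · have := (symp_single_right x i).2
    rw [hx] at this
    simpa using this.symm
  · have := (symp_single_right x i).1
    rw [hx] at this
    simpa using this.symm

/-- Linear combinations of a family. -/
def comb {j : ℕ} (p : Fin j ⊕ Fin j → Fin m ⊕ Fin m → F) (c : Fin j ⊕ Fin j → F) :
    Fin m ⊕ Fin m → F := ∑ a, c a • p a

/-- Coordinates with respect to a symplectic frame. -/
def coords {j : ℕ} (p : Fin j ⊕ Fin j → Fin m ⊕ Fin m → F) (x : Fin m ⊕ Fin m → F) :
    Fin j ⊕ Fin j → F :=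
  Sum.elim (fun i => -sympForm m F x (p (Sum.inr i))) (fun i => sympForm m F x (p (Sum.inl i)))

/-- Symplectic frames: `comb p` is an isometric embedding of the standard space. -/
def IsSF {j : ℕ} (p : Fin j ⊕ Fin j → Fin m ⊕ Fin m → F) : Prop :=
  ∀ c d, sympForm m F (comb p c) (comb p d) = sympForm j F c d

lemma coords_spec {j : ℕ} (p : Fin j ⊕ Fin j → Fin m ⊕ Fin m → F) (x : Fin m ⊕ Fin m → F)
    (d : Fin j ⊕ Fin j → F) :
    sympForm m F x (comb p d) = sympForm j F (coords p x) d := by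
  unfold comb
  rw [symp_sum_right, Fintype.sum_sum_type, sympForm_eq, ← Finset.sum_add_distrib]
  apply Finset.sum_congr rfl
  intro i _
  simp only [coords, Sum.elim_inl, Sum.elim_inr]
  ring

lemma comb_single {j : ℕ} (p : Fin j ⊕ Fin j → Fin m ⊕ Fin m → F) (a : Fin j ⊕ Fin j) :
    comb p (Pi.single a 1) = p a := by
  classical
  unfold comb
  rw [Finset.sum_eq_single a]
  · simp
  · intro b _ hb
    simp [hb]
  · intro h; exact absurd (Finset.mem_univ _) h

lemma coords_comb {j : ℕ} (p : Fin j ⊕ Fin j → Fin m ⊕ Fin m → F) (hp : IsSF p)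
    (c : Fin j ⊕ Fin j → F) : coords p (comb p c) = c := by
  funext a
  rcases a with i | i
  · show -sympForm m F (comb p c) (p (Sum.inr i)) = c (Sum.inl i)
    rw [← comb_single p (Sum.inr i), hp, (symp_single_right c i).2, neg_neg]
  · show sympForm m F (comb p c) (p (Sum.inl i)) = c (Sum.inr i)
    rw [← comb_single p (Sum.inl i), hp, (symp_single_right c i).1]

lemma coords_add {j : ℕ} (p : Fin j ⊕ Fin j → Fin m ⊕ Fin m → F) (x y : Fin m ⊕ Fin m → F) :
    coords p (x + y) = coords p x + coords p y := by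
  funext a
  rcases a with i | i
  · simp only [coords, Sum.elim_inl, Pi.add_apply, sympForm_add_left]; ring
  · simp only [coords, Sum.elim_inr, Pi.add_apply, sympForm_add_left]

lemma coords_smul {j : ℕ} (p : Fin j ⊕ Fin j → Fin m ⊕ Fin m → F) (t : F) (x : Fin m ⊕ Fin m → F) :
    coords p (t • x) = t • coords p x := by
  funext a
  rcases a with i | i
  · simp only [coords, Sum.elim_inl, Pi.smul_apply, sympForm_smul_left, smul_eq_mul]; ring
  · simp only [coords, Sum.elim_inr, Pi.smul_apply, sympForm_smul_left, smul_eq_mul]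

/-- `coords` as a linear map. -/
def coordsL {j : ℕ} (p : Fin j ⊕ Fin j → Fin m ⊕ Fin m → F) :
    (Fin m ⊕ Fin m → F) →ₗ[F] (Fin j ⊕ Fin j → F) where
  toFun := coords p
  map_add' := coords_add p
  map_smul' := coords_smul p

lemma comb_add {j : ℕ} (p : Fin j ⊕ Fin j → Fin m ⊕ Fin m → F) (c d : Fin j ⊕ Fin j → F) :
    comb p (c + d) = comb p c + comb p d := by
  unfold comb
  rw [← Finset.sum_add_distrib]
  apply Finset.sum_congr rfl
  intro a _
  rw [Pi.add_apply, add_smul]

lemma comb_smul {j : ℕ} (p : Fin j ⊕ Fin j → Fin m ⊕ Fin m → F) (t : F) (c : Fin j ⊕ Fin j → F) :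
    comb p (t • c) = t • comb p c := by
  unfold comb
  rw [Finset.smul_sum]
  apply Finset.sum_congr rfl
  intro a _
  rw [Pi.smul_apply, smul_eq_mul, mul_smul]

lemma comb_zero {j : ℕ} (p : Fin j ⊕ Fin j → Fin m ⊕ Fin m → F) : comb p 0 = 0 := by
  simp [comb]

/-- `comb` as a linear map. -/
def combL {j : ℕ} (p : Fin j ⊕ Fin j → Fin m ⊕ Fin m → F) :
    (Fin j ⊕ Fin j → F) →ₗ[F] (Fin m ⊕ Fin m → F) where
  toFun := comb p
  map_add' := comb_add p
  map_smul' := comb_smul p

/-- The projection off a frame is orthogonal to the frame. -/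
lemma proj_perp {j : ℕ} (p : Fin j ⊕ Fin j → Fin m ⊕ Fin m → F) (hp : IsSF p)
    (x : Fin m ⊕ Fin m → F) (d : Fin j ⊕ Fin j → F) :
    sympForm m F (x - comb p (coords p x)) (comb p d) = 0 := by
  rw [sympForm_sub_left, hp, coords_spec, sub_self]

lemma comb_injective {j : ℕ} (p : Fin j ⊕ Fin j → Fin m ⊕ Fin m → F) (hp : IsSF p) :
    Function.Injective (comb p) := by
  intro c d h
  rw [← coords_comb p hp c, ← coords_comb p hp d, h]

/-- Gram conditions of a symplectic frame. -/
def IsGram {j : ℕ} (p : Fin j ⊕ Fin j → Fin m ⊕ Fin m → F) : Prop :=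
  ∀ a b, sympForm m F (p a) (p b) = sympForm j F (Pi.single a 1) (Pi.single b 1)

lemma comb_self_std {j : ℕ} (c : Fin j ⊕ Fin j → F) :
    (∑ a, c a • (Pi.single a 1 : Fin j ⊕ Fin j → F)) = c := by
  classical
  funext b
  rw [Finset.sum_apply, Finset.sum_eq_single b]
  · simp
  · intro a _ hab
    simp [hab]
  · intro h; exact absurd (Finset.mem_univ _) h

lemma isSF_of_gram {j : ℕ} (p : Fin j ⊕ Fin j → Fin m ⊕ Fin m → F) (hp : IsGram p) : IsSF p := by
  classical
  intro c d
  unfold comb
  rw [symp_sum_left]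
  conv_rhs => rw [← comb_self_std c, symp_sum_left]
  apply Finset.sum_congr rfl
  intro a _
  congr 1
  rw [symp_sum_right]
  conv_rhs => rw [← comb_self_std d, symp_sum_right]
  apply Finset.sum_congr rfl
  intro b _
  rw [hp a b]

lemma gram_of_isSF {j : ℕ} (p : Fin j ⊕ Fin j → Fin m ⊕ Fin m → F) (hp : IsSF p) : IsGram p := by
  intro a b
  rw [← comb_single p a, ← comb_single p b, hp]

lemma std_gram (j : ℕ) :
    (∀ i i' : Fin j, sympForm j F (Pi.single (Sum.inl i) 1) (Pi.single (Sum.inl i') 1) = 0) ∧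
    (∀ i i' : Fin j, sympForm j F (Pi.single (Sum.inr i) 1) (Pi.single (Sum.inr i') 1) = 0) ∧
    (∀ i i' : Fin j, sympForm j F (Pi.single (Sum.inr i) 1) (Pi.single (Sum.inl i') 1) =
      if i = i' then 1 else 0) ∧
    (∀ i i' : Fin j, sympForm j F (Pi.single (Sum.inl i) 1) (Pi.single (Sum.inr i') 1) =
      if i = i' then -1 else 0) := by
  classical
  refine ⟨?_, ?_, ?_, ?_⟩
  · intro i i'
    rw [(symp_single_right _ i').1]
    simp
  · intro i i'
    rw [(symp_single_right _ i').2]
    simp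
  · intro i i'
    rw [(symp_single_right _ i').1, Pi.single_apply]
    simp [eq_comm]
  · intro i i'
    rw [(symp_single_right _ i').2, Pi.single_apply]
    by_cases h : i = i'
    · simp [h]
    · simp [h, Ne.symm h]

/-- Explicit Gram conditions. -/
lemma gram_iff {j : ℕ} (p : Fin j ⊕ Fin j → Fin m ⊕ Fin m → F) :
    IsGram p ↔
      (∀ i i', sympForm m F (p (Sum.inl i)) (p (Sum.inl i')) = 0) ∧
      (∀ i i', sympForm m F (p (Sum.inr i)) (p (Sum.inr i')) = 0) ∧
      (∀ i i', sympForm m F (p (Sum.inr i)) (p (Sum.inl i')) = if i = i' then 1 else 0) := by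
  obtain ⟨s1, s2, s3, s4⟩ := std_gram (F := F) j
  constructor
  · intro h
    refine ⟨fun i i' => ?_, fun i i' => ?_, fun i i' => ?_⟩
    · rw [h, s1]
    · rw [h, s2]
    · rw [h, s3]
  · rintro ⟨h1, h2, h3⟩ (i | i) (i' | i')
    · rw [h1, s1]
    · rw [sympForm_swap, h3, s4]
      by_cases h : i = i'
      · simp [h]
      · simp [h, Ne.symm h]
    · rw [h3, s3]
    · rw [h2, s2]

lemma li_of_isSF {j : ℕ} (p : Fin j ⊕ Fin j → Fin m ⊕ Fin m → F) (hp : IsSF p) :
    LinearIndependent F p := by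
  rw [Fintype.linearIndependent_iff]
  intro g hg
  have h1 : comb p g = comb p 0 := by
    rw [comb_zero]; exact hg
  have h2 := comb_injective p hp h1
  intro i
  rw [h2]; rfl

lemma comb_mem {j : ℕ} (p : Fin j ⊕ Fin j → Fin m ⊕ Fin m → F) (W : Submodule F (Fin m ⊕ Fin m → F))
    (hpW : ∀ a, p a ∈ W) (c : Fin j ⊕ Fin j → F) : comb p c ∈ W := by
  unfold comb
  apply Submodule.sum_mem
  intro a _
  exact W.smul_mem _ (hpW a)

lemma comb_mem_span {j : ℕ} (p : Fin j ⊕ Fin j → Fin m ⊕ Fin m → F) (c : Fin j ⊕ Fin j → F) :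
    comb p c ∈ Submodule.span F (Set.range p) :=
  comb_mem p (Submodule.span F (Set.range p)) (fun a => Submodule.subset_span (Set.mem_range_self a)) c

/-- Extending a symplectic frame inside a non-degenerate subspace. -/
lemma ext_frame_in (W : Submodule F (Fin m ⊕ Fin m → F))
    (hW : ∀ u ∈ W, (∀ v ∈ W, sympForm m F u v = 0) → u = 0)
    {j : ℕ} (p : Fin j ⊕ Fin j → Fin m ⊕ Fin m → F) (hpW : ∀ a, p a ∈ W) (hp : IsSF p)
    (hj : 2 * j < Module.finrank F W) :
    ∃ x ∈ W, ∃ y ∈ W, sympForm m F x y = -1 ∧ (∀ a, sympForm m F x (p a) = 0) ∧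
      (∀ a, sympForm m F y (p a) = 0) := by
  have hli := li_of_isSF p hp
  have hle : Submodule.span F (Set.range p) ≤ W := by
    rw [Submodule.span_le]
    rintro _ ⟨i, rfl⟩
    exact hpW i
  have hspan : Submodule.span F (Set.range p) ≠ W := by
    intro htop
    have h1 := finrank_span_eq_card hli
    rw [htop, Fintype.card_sum, Fintype.card_fin] at h1
    omega
  obtain ⟨w, hwW, hw⟩ : ∃ w ∈ W, w ∉ Submodule.span F (Set.range p) := by
    by_contra hcon
    push Not at hcon
    exact hspan (le_antisymm hle fun x hx => hcon x hx)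
  have hperp : ∀ z a, sympForm m F (z - comb p (coords p z)) (p a) = 0 := by
    intro z a
    rw [← comb_single p a]
    exact proj_perp p hp z _
  have hprojW : ∀ z, z ∈ W → z - comb p (coords p z) ∈ W :=
    fun z hz => W.sub_mem hz (comb_mem p W hpW _)
  obtain ⟨x, hx⟩ : ∃ x, x = w - comb p (coords p w) := ⟨_, rfl⟩
  have hxW : x ∈ W := hx ▸ hprojW w hwW
  have hxne : x ≠ 0 := by
    intro h0
    rw [hx, sub_eq_zero] at h0
    exact hw (h0 ▸ comb_mem_span p _)
  have hxperp : ∀ a, sympForm m F x (p a) = 0 := fun a => hx ▸ hperp w a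
  obtain ⟨z, hzW, hz⟩ : ∃ z ∈ W, sympForm m F x z ≠ 0 := by
    by_contra hcon
    push Not at hcon
    exact hxne (hW x hxW hcon)
  obtain ⟨y₀, hy₀⟩ : ∃ y₀, y₀ = z - comb p (coords p z) := ⟨_, rfl⟩
  have hy₀W : y₀ ∈ W := hy₀ ▸ hprojW z hzW
  have hy₀perp : ∀ a, sympForm m F y₀ (p a) = 0 := fun a => hy₀ ▸ hperp z a
  have hxy₀ : sympForm m F x y₀ = sympForm m F x z := by
    rw [hy₀, sympForm_sub_right]
    have : sympForm m F x (comb p (coords p z)) = 0 := by
      unfold comb
      rw [symp_sum_right]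
      apply Finset.sum_eq_zero
      intro a _
      rw [hxperp a, mul_zero]
    rw [this, sub_zero]
  refine ⟨x, hxW, (-(sympForm m F x z)⁻¹) • y₀, W.smul_mem _ hy₀W, ?_, hxperp, ?_⟩
  · rw [sympForm_smul_right, hxy₀, neg_mul, inv_mul_cancel₀ hz]
  · intro a
    rw [sympForm_smul_left, hy₀perp a, mul_zero]

/-- Adding a hyperbolic pair to a frame. -/
def consFrame {j : ℕ} (x y : Fin m ⊕ Fin m → F) (p : Fin j ⊕ Fin j → Fin m ⊕ Fin m → F) :
    Fin (j + 1) ⊕ Fin (j + 1) → Fin m ⊕ Fin m → F :=
  Sum.elim (Fin.cons x (fun i => p (Sum.inl i))) (Fin.cons y (fun i => p (Sum.inr i)))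

lemma consFrame_isSF {j : ℕ} (x y : Fin m ⊕ Fin m → F) (p : Fin j ⊕ Fin j → Fin m ⊕ Fin m → F)
    (hp : IsSF p) (hxy : sympForm m F x y = -1) (hx : ∀ a, sympForm m F x (p a) = 0)
    (hy : ∀ a, sympForm m F y (p a) = 0) : IsSF (consFrame x y p) := by
  obtain ⟨g1, g2, g3⟩ := (gram_iff p).1 (gram_of_isSF p hp)
  have hx' : ∀ a, sympForm m F (p a) x = 0 := fun a => by rw [sympForm_swap, hx a, neg_zero]
  have hy' : ∀ a, sympForm m F (p a) y = 0 := fun a => by rw [sympForm_swap, hy a, neg_zero]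
  have hyx : sympForm m F y x = 1 := by rw [sympForm_swap, hxy, neg_neg]
  apply isSF_of_gram
  rw [gram_iff]
  refine ⟨?_, ?_, ?_⟩
  · intro i i'
    refine Fin.cases ?_ (fun i => ?_) i <;> refine Fin.cases ?_ (fun i' => ?_) i'
    · simp [consFrame, sympForm_self]
    · simp [consFrame, hx]
    · simp [consFrame, hx']
    · simp [consFrame, g1]
  · intro i i'
    refine Fin.cases ?_ (fun i => ?_) i <;> refine Fin.cases ?_ (fun i' => ?_) i'
    · simp [consFrame, sympForm_self]
    · simp [consFrame, hy]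
    · simp [consFrame, hy']
    · simp [consFrame, g2]
  · intro i i'
    refine Fin.cases ?_ (fun i => ?_) i <;> refine Fin.cases ?_ (fun i' => ?_) i'
    · simp [consFrame, hyx]
    · simp [consFrame, hy, (Fin.succ_ne_zero i').symm]
    · simp [consFrame, hx', Fin.succ_ne_zero i]
    · simp [consFrame, g3, Fin.succ_inj]

/-- A non-degenerate subspace contains symplectic frames of every admissible size. -/
lemma exists_SF_basis (W : Submodule F (Fin m ⊕ Fin m → F))
    (hW : ∀ u ∈ W, (∀ v ∈ W, sympForm m F u v = 0) → u = 0) :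
    ∀ j, 2 * j ≤ Module.finrank F W →
      ∃ p : Fin j ⊕ Fin j → Fin m ⊕ Fin m → F, IsSF p ∧ ∀ a, p a ∈ W := by
  intro j
  induction j with
  | zero =>
    intro _
    refine ⟨fun a => 0, ?_, fun a => W.zero_mem⟩
    intro c d
    simp [comb, sympForm_eq]
  | succ j ih =>
    intro hj
    obtain ⟨p, hp, hpW⟩ := ih (by omega)
    obtain ⟨x, hxW, y, hyW, hxy, hx, hy⟩ := ext_frame_in W hW p hpW hp (by omega)
    refine ⟨consFrame x y p, consFrame_isSF x y p hp hxy hx hy, ?_⟩
    rintro (i | i)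
    · refine Fin.cases ?_ (fun i => ?_) i
      · simpa [consFrame] using hxW
      · simpa [consFrame] using hpW _
    · refine Fin.cases ?_ (fun i => ?_) i
      · simpa [consFrame] using hyW
      · simpa [consFrame] using hpW _


lemma coordsL_apply {j : ℕ} (p : Fin j ⊕ Fin j → Fin m ⊕ Fin m → F) (x : Fin m ⊕ Fin m → F) :
    coordsL p x = coords p x := rfl

lemma combL_apply {j : ℕ} (p : Fin j ⊕ Fin j → Fin m ⊕ Fin m → F) (c : Fin j ⊕ Fin j → F) :
    combL p c = comb p c := rfl

lemma coords_eq_zero_iff {j : ℕ} (p : Fin j ⊕ Fin j → Fin m ⊕ Fin m → F) (x : Fin m ⊕ Fin m → F) :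
    coords p x = 0 ↔ ∀ a, sympForm m F x (p a) = 0 := by
  constructor
  · intro h a
    rcases a with i | i
    · have := congrFun h (Sum.inr i)
      simpa [coords] using this
    · have := congrFun h (Sum.inl i)
      simpa [coords] using this
  · intro h
    funext a
    rcases a with i | i
    · simp [coords, h]
    · simp [coords, h]

/-- The orthogonal complement of the span of a frame. -/
def perp {j : ℕ} (p : Fin j ⊕ Fin j → Fin m ⊕ Fin m → F) : Submodule F (Fin m ⊕ Fin m → F) :=
  LinearMap.ker (coordsL p)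

lemma mem_perp {j : ℕ} (p : Fin j ⊕ Fin j → Fin m ⊕ Fin m → F) (x : Fin m ⊕ Fin m → F) :
    x ∈ perp p ↔ coords p x = 0 := by
  unfold perp
  rw [LinearMap.mem_ker]; rfl

lemma proj_mem_perp {j : ℕ} (p : Fin j ⊕ Fin j → Fin m ⊕ Fin m → F) (hp : IsSF p)
    (x : Fin m ⊕ Fin m → F) : x - comb p (coords p x) ∈ perp p := by
  rw [mem_perp, coords_eq_zero_iff]
  intro a
  rw [← comb_single p a]
  exact proj_perp p hp x _

lemma perp_nondeg {j : ℕ} (p : Fin j ⊕ Fin j → Fin m ⊕ Fin m → F) (hp : IsSF p) :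
    ∀ u ∈ perp p, (∀ v ∈ perp p, sympForm m F u v = 0) → u = 0 := by
  intro u hu h
  apply symp_nondeg
  intro z
  have hz : z = comb p (coords p z) + (z - comb p (coords p z)) := by abel
  rw [hz, sympForm_add_right, h _ (proj_mem_perp p hp z), add_zero, coords_spec,
    (mem_perp p u).1 hu, sympForm_zero_left]

lemma finrank_perp {j : ℕ} (p : Fin j ⊕ Fin j → Fin m ⊕ Fin m → F) (hp : IsSF p) :
    Module.finrank F (perp p) + 2 * j = 2 * m := by
  have hsurj : Function.Surjective (coordsL p) := by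
    intro c
    exact ⟨comb p c, coords_comb p hp c⟩
  have h1 := LinearMap.finrank_range_add_finrank_ker (coordsL p)
  rw [LinearMap.range_eq_top.2 hsurj, finrank_top] at h1
  simp only [Module.finrank_fintype_fun_eq_card, Fintype.card_sum, Fintype.card_fin] at h1
  unfold perp
  omega

section adapted

variable {k l : ℕ} (w : Fin k ⊕ Fin k → Fin m ⊕ Fin m → F) (u : Fin l ⊕ Fin l → Fin m ⊕ Fin m → F)
  (hw : IsSF w) (hu : IsSF u) (huw : ∀ b, coords w (u b) = 0) (hkl : k + l = m)

include huw in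
lemma coords_w_comb_u (d : Fin l ⊕ Fin l → F) : coords w (comb u d) = 0 := by
  have h1 : coordsL w (combL u d) = 0 := by
    rw [combL_apply]
    unfold comb
    rw [map_sum]
    apply Finset.sum_eq_zero
    intro b _
    rw [map_smul, coordsL_apply, huw b, smul_zero]
  exact h1

include huw in
lemma cross_zero (c : Fin k ⊕ Fin k → F) (d : Fin l ⊕ Fin l → F) :
    sympForm m F (comb u d) (comb w c) = 0 ∧ sympForm m F (comb w c) (comb u d) = 0 := by
  have h1 : sympForm m F (comb u d) (comb w c) = 0 := by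
    rw [coords_spec, coords_w_comb_u w u huw, sympForm_zero_left]
  exact ⟨h1, by rw [sympForm_swap, h1, neg_zero]⟩

include huw in
lemma coords_u_comb_w (c : Fin k ⊕ Fin k → F) : coords u (comb w c) = 0 := by
  rw [coords_eq_zero_iff]
  intro b
  rw [← comb_single u b]
  exact (cross_zero w u huw c _).2

include hw hu huw in
lemma coords_comb2 (c : Fin k ⊕ Fin k → F) (d : Fin l ⊕ Fin l → F) :
    coords w (comb w c + comb u d) = c ∧ coords u (comb w c + comb u d) = d := by
  constructor
  · rw [coords_add, coords_comb w hw, coords_w_comb_u w u huw, add_zero]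
  · rw [coords_add, coords_comb u hu, coords_u_comb_w w u huw, zero_add]

include hw hu huw in
lemma symp_decomp (c c' : Fin k ⊕ Fin k → F) (d d' : Fin l ⊕ Fin l → F) :
    sympForm m F (comb w c + comb u d) (comb w c' + comb u d') =
      sympForm k F c c' + sympForm l F d d' := by
  rw [sympForm_add_left, sympForm_add_right, sympForm_add_right, hw, hu,
    (cross_zero w u huw c' d).1, (cross_zero w u huw c d').2, add_zero, zero_add]

include hw hu huw hkl in
lemma decomp (x : Fin m ⊕ Fin m → F) : x = comb w (coords w x) + comb u (coords u x) := by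
  let T : ((Fin k ⊕ Fin k → F) × (Fin l ⊕ Fin l → F)) →ₗ[F] (Fin m ⊕ Fin m → F) :=
    (combL w).coprod (combL u)
  have hT : ∀ z, T z = comb w z.1 + comb u z.2 := fun z => rfl
  have hinj : Function.Injective T := by
    intro z z' h
    rw [hT, hT] at h
    have h1 := (coords_comb2 w u hw hu huw z.1 z.2)
    have h2 := (coords_comb2 w u hw hu huw z'.1 z'.2)
    rw [h] at h1
    exact Prod.ext (h1.1.symm.trans h2.1) (h1.2.symm.trans h2.2)
  have hdim : Module.finrank F ((Fin k ⊕ Fin k → F) × (Fin l ⊕ Fin l → F)) =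
      Module.finrank F (Fin m ⊕ Fin m → F) := by
    rw [Module.finrank_prod]
    simp only [Module.finrank_fintype_fun_eq_card, Fintype.card_sum, Fintype.card_fin]
    omega
  have hsurj := (LinearMap.injective_iff_surjective_of_finrank_eq_finrank hdim).1 hinj
  obtain ⟨z, rfl⟩ := hsurj x
  rw [hT, (coords_comb2 w u hw hu huw z.1 z.2).1, (coords_comb2 w u hw hu huw z.1 z.2).2]

include hw hu huw hkl in
/-- Membership in `W` is the vanishing of the `u`-coordinates. -/
lemma mem_W_iff (W : Submodule F (Fin m ⊕ Fin m → F)) (hWk : Module.finrank F W = 2 * k)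
    (hwW : ∀ a, w a ∈ W) (x : Fin m ⊕ Fin m → F) : x ∈ W ↔ coords u x = 0 := by
  have hli := li_of_isSF w hw
  have hspan : Submodule.span F (Set.range w) = W := by
    apply Submodule.eq_of_le_of_finrank_eq
    · rw [Submodule.span_le]
      rintro _ ⟨i, rfl⟩
      exact hwW i
    · rw [finrank_span_eq_card hli, Fintype.card_sum, Fintype.card_fin, hWk]; omega
  constructor
  · intro hx
    rw [← hspan] at hx
    obtain ⟨c, rfl⟩ := (Submodule.mem_span_range_iff_exists_fun F).1 hx
    exact coords_u_comb_w w u huw c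
  · intro hx
    have h1 := decomp w u hw hu huw hkl x
    rw [hx, comb_zero, add_zero] at h1
    rw [h1]
    exact comb_mem w W hwW _

/-- The block of a matrix along a frame. -/
def blk {j : ℕ} (p : Fin j ⊕ Fin j → Fin m ⊕ Fin m → F)
    (M : Matrix (Fin m ⊕ Fin m) (Fin m ⊕ Fin m) F) : Matrix (Fin j ⊕ Fin j) (Fin j ⊕ Fin j) F :=
  Matrix.of (fun a b => coords p (M.mulVec (p b)) a)

lemma mulVec_comb {j : ℕ} (M : Matrix (Fin m ⊕ Fin m) (Fin m ⊕ Fin m) F)
    (p : Fin j ⊕ Fin j → Fin m ⊕ Fin m → F) (c : Fin j ⊕ Fin j → F) :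
    M.mulVec (comb p c) = ∑ b, c b • M.mulVec (p b) := by
  unfold comb
  rw [Matrix.mulVec_sum]
  apply Finset.sum_congr rfl
  intro b _
  rw [Matrix.mulVec_smul]

lemma coords_mulVec_comb {j j' : ℕ} (M : Matrix (Fin m ⊕ Fin m) (Fin m ⊕ Fin m) F)
    (p : Fin j ⊕ Fin j → Fin m ⊕ Fin m → F) (p' : Fin j' ⊕ Fin j' → Fin m ⊕ Fin m → F)
    (c : Fin j ⊕ Fin j → F) :
    coords p' (M.mulVec (comb p c)) =
      (Matrix.of (fun a b => coords p' (M.mulVec (p b)) a)).mulVec c := by
  rw [mulVec_comb]
  have h1 : coordsL p' (∑ b, c b • M.mulVec (p b)) = ∑ b, c b • coords p' (M.mulVec (p b)) := by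
    rw [map_sum]
    apply Finset.sum_congr rfl
    intro b _
    rw [map_smul]; rfl
  rw [← coordsL_apply, h1]
  funext a
  rw [Finset.sum_apply]
  simp only [Matrix.mulVec, dotProduct, Matrix.of_apply, Pi.smul_apply, smul_eq_mul]
  apply Finset.sum_congr rfl
  intro b _
  ring

lemma mat_ext {ι : Type*} [Fintype ι] [DecidableEq ι] (A A' : Matrix ι ι F)
    (h : ∀ c, A.mulVec c = A'.mulVec c) : A = A' := by
  ext i j
  have := congrFun (h (Pi.single j 1)) i
  simpa [Matrix.mulVec_single_one] using this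

/-- A matrix mapping `span w` and `span u` to themselves. -/
def Adapted (M : Matrix (Fin m ⊕ Fin m) (Fin m ⊕ Fin m) F) : Prop :=
  (∀ b, coords u (M.mulVec (w b)) = 0) ∧ (∀ b, coords w (M.mulVec (u b)) = 0)

lemma zero_block {j j' : ℕ} (M : Matrix (Fin m ⊕ Fin m) (Fin m ⊕ Fin m) F)
    (p : Fin j ⊕ Fin j → Fin m ⊕ Fin m → F) (p' : Fin j' ⊕ Fin j' → Fin m ⊕ Fin m → F)
    (h : ∀ b, coords p' (M.mulVec (p b)) = 0) :
    (Matrix.of (fun a b => coords p' (M.mulVec (p b)) a)) = 0 := by
  ext a b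
  exact congrFun (h b) a

include hw hu huw hkl in
lemma adapted_apply (M : Matrix (Fin m ⊕ Fin m) (Fin m ⊕ Fin m) F) (hM : Adapted w u M)
    (c : Fin k ⊕ Fin k → F) (d : Fin l ⊕ Fin l → F) :
    M.mulVec (comb w c + comb u d) = comb w ((blk w M).mulVec c) + comb u ((blk u M).mulVec d) := by
  have h1 := decomp w u hw hu huw hkl (M.mulVec (comb w c + comb u d))
  rw [h1]
  congr 2
  · rw [Matrix.mulVec_add, coords_add, coords_mulVec_comb, coords_mulVec_comb,
      zero_block M u w hM.2, Matrix.zero_mulVec, add_zero]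
    rfl
  · rw [Matrix.mulVec_add, coords_add, coords_mulVec_comb, coords_mulVec_comb,
      zero_block M w u hM.1, Matrix.zero_mulVec, zero_add]
    rfl

include hw hu huw hkl in
lemma adapted_mul (M M' : Matrix (Fin m ⊕ Fin m) (Fin m ⊕ Fin m) F) (hM : Adapted w u M)
    (hM' : Adapted w u M') :
    blk w (M * M') = blk w M * blk w M' ∧ blk u (M * M') = blk u M * blk u M' := by
  have key : ∀ c d, (M * M').mulVec (comb w c + comb u d) =
      comb w ((blk w M * blk w M').mulVec c) + comb u ((blk u M * blk u M').mulVec d) := by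
    intro c d
    rw [← Matrix.mulVec_mulVec, adapted_apply w u hw hu huw hkl M' hM',
      adapted_apply w u hw hu huw hkl M hM, Matrix.mulVec_mulVec, Matrix.mulVec_mulVec]
  constructor
  · apply mat_ext
    intro c
    have h1 := key c 0
    have h2 := congrArg (coords w) h1
    rw [(coords_comb2 w u hw hu huw _ _).1, comb_zero, add_zero, coords_mulVec_comb] at h2
    exact h2
  · apply mat_ext
    intro d
    have h1 := key 0 d
    have h2 := congrArg (coords u) h1
    rw [(coords_comb2 w u hw hu huw _ _).2, comb_zero, zero_add, coords_mulVec_comb] at h2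
    exact h2

include hw hu huw hkl in
lemma adapted_pres (M : Matrix (Fin m ⊕ Fin m) (Fin m ⊕ Fin m) F) (hM : Adapted w u M)
    (hpres : ∀ x y, sympForm m F (M.mulVec x) (M.mulVec y) = sympForm m F x y) :
    (∀ c c', sympForm k F ((blk w M).mulVec c) ((blk w M).mulVec c') = sympForm k F c c') ∧
    (∀ d d', sympForm l F ((blk u M).mulVec d) ((blk u M).mulVec d') = sympForm l F d d') := by
  have h0 : ∀ (j : ℕ), sympForm j F (0 : Fin j ⊕ Fin j → F) 0 = 0 := fun j => sympForm_zero_left 0
  constructor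
  · intro c c'
    have h1 := hpres (comb w c + comb u 0) (comb w c' + comb u 0)
    rw [adapted_apply w u hw hu huw hkl M hM, adapted_apply w u hw hu huw hkl M hM,
      symp_decomp w u hw hu huw, symp_decomp w u hw hu huw, Matrix.mulVec_zero, h0,
      add_zero, add_zero] at h1
    exact h1
  · intro d d'
    have h1 := hpres (comb w 0 + comb u d) (comb w 0 + comb u d')
    rw [adapted_apply w u hw hu huw hkl M hM, adapted_apply w u hw hu huw hkl M hM,
      symp_decomp w u hw hu huw, symp_decomp w u hw hu huw, Matrix.mulVec_zero, h0,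
      zero_add, zero_add] at h1
    exact h1

end adapted


end Cfsg.Agent.Helper9SpStab
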