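import Mathlib
import Cfsg.Prelude.Def_SporadicCombinatorics

set_option autoImplicit false

namespace Cfsg.Agent.Helper9TG

open Cfsg

/-- parameter space of the ternary code of length 12 -/
abbrev T : Type := ZMod 3 × ZMod 3 × ZMod 3 × ZMod 3 × ZMod 3 × ZMod 3

/-- systematic encoder, information positions (0,0),(0,1),(0,2),(1,0),(1,1),(2,0) -/
def encT (c : T) : ArrayPt → ZMod 3 := fun p =>
  (![ (![c.1, c.2.1, c.2.2.1] : Fin 3 → ZMod 3),
      ![c.2.2.2.1, c.2.2.2.2.1,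
        c.1 + c.2.1 + c.2.2.1 + 2 * c.2.2.2.1 + 2 * c.2.2.2.2.1],
      ![c.2.2.2.2.2,
        2 * c.2.1 + c.2.2.1 + 2 * c.2.2.2.1 + c.2.2.2.2.1 + c.2.2.2.2.2,
        c.1 + 2 * c.2.1 + c.2.2.2.1 + 2 * c.2.2.2.2.1 + c.2.2.2.2.2],
      ![c.1 + 2 * c.2.1 + 2 * c.2.2.1 + 2 * c.2.2.2.1 + 2 * c.2.2.2.2.2,
        c.1 + c.2.2.1 + c.2.2.2.1 + c.2.2.2.2.1 + 2 * c.2.2.2.2.2,
        2 * c.1 + 2 * c.2.1 + c.2.2.1 + 2 * c.2.2.2.2.1 + 2 * c.2.2.2.2.2] ] p.1)
    (show Fin 3 from p.2)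

/-- the information symbols of a word -/
def info (x : ArrayPt → ZMod 3) : T :=
  (x (0, 0), x (0, 1), x (0, 2), x (1, 0), x (1, 1), x (2, 0))

theorem info_encT (c : T) : info (encT c) = c := rfl

theorem encT_injective : Function.Injective encT := fun c d h => by
  rw [← info_encT c, ← info_encT d, h]

/-- decidable form of the defining conditions -/
def IsTGW' (x : ArrayPt → ZMod 3) : Prop :=
  ∃ s : ZMod 3, (∀ i : Fin 4, ∑ r : ZMod 3, x (i, r) = -s) ∧
    ∀ a b : ZMod 3,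
      ∑ i : Fin 4, x (i, (a • ![0, 1, 1, 1] + b • ![1, 0, 1, 2] : Fin 4 → ZMod 3) i) = s

instance : DecidablePred IsTGW' := fun x => by unfold IsTGW'; infer_instance

theorem isTGW_iff (x : ArrayPt → ZMod 3) : IsTernaryGolayWord x ↔ IsTGW' x := by
  unfold IsTernaryGolayWord IsTGW'
  refine exists_congr fun s => and_congr Iff.rfl ?_
  constructor
  · intro h a b
    refine h _ ?_
    exact Submodule.add_mem _
      (Submodule.smul_mem _ a (Submodule.subset_span (by simp)))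
      (Submodule.smul_mem _ b (Submodule.subset_span (by simp)))
  · intro h t ht
    obtain ⟨a, b, rfl⟩ := Submodule.mem_span_pair.mp ht
    exact h a b

theorem encT_mem (c : T) : encT c ∈ ternaryGolayCode := by
  show IsTernaryGolayWord _
  rw [isTGW_iff]
  revert c
  decide +kernel

theorem h3 : (3 : ZMod 3) = 0 := by decide

theorem eq_encT_of_mem {x : ArrayPt → ZMod 3} (hx : x ∈ ternaryGolayCode) :
    x = encT (info x) := by
  obtain ⟨s, hcol, htet⟩ := hx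
  have hc0 : x (0, 0) + x (0, 1) + x (0, 2) = -s := by
    have := hcol 0
    rw [show (∑ r : ZMod 3, x (0, r)) = ∑ r : Fin 3, x (0, r) from rfl, Fin.sum_univ_three] at this
    exact this
  have hc1 : x (1, 0) + x (1, 1) + x (1, 2) = -s := by
    have := hcol 1
    rw [show (∑ r : ZMod 3, x (1, r)) = ∑ r : Fin 3, x (1, r) from rfl, Fin.sum_univ_three] at this
    exact this
  have hc2 : x (2, 0) + x (2, 1) + x (2, 2) = -s := by
    have := hcol 2
    rw [show (∑ r : ZMod 3, x (2, r)) = ∑ r : Fin 3, x (2, r) from rfl, Fin.sum_univ_three] at this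
    exact this
  have hc3 : x (3, 0) + x (3, 1) + x (3, 2) = -s := by
    have := hcol 3
    rw [show (∑ r : ZMod 3, x (3, r)) = ∑ r : Fin 3, x (3, r) from rfl, Fin.sum_univ_three] at this
    exact this
  have ht00 : x (0, 0) + x (1, 0) + x (2, 0) + x (3, 0) = s := by
    have := htet 0 (Submodule.zero_mem _)
    simpa [Fin.sum_univ_four] using this
  have ht01 : x (0, 1) + x (1, 0) + x (2, 1) + x (3, 2) = s := by
    have := htet ![1, 0, 1, 2] (Submodule.subset_span (by simp))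
    simpa [Fin.sum_univ_four] using this
  have ht10 : x (0, 0) + x (1, 1) + x (2, 1) + x (3, 1) = s := by
    have := htet ![0, 1, 1, 1] (Submodule.subset_span (by simp))
    simpa [Fin.sum_univ_four] using this
  have h3 := h3
  have e5 : x (1, 2) = x (0, 0) + x (0, 1) + x (0, 2) + 2 * x (1, 0) + 2 * x (1, 1) := by
    linear_combination 2 * hc0 + 1 * hc1 + ((-1) * x (0, 0) + (-1) * x (0, 1) + (-1) * x (0, 2) + (-1) * x (1, 0) + (-1) * x (1, 1) + (-1) * s) * h3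
  have e7 : x (2, 1) = 2 * x (0, 1) + x (0, 2) + 2 * x (1, 0) + x (1, 1) + x (2, 0) := by
    linear_combination 2 * hc0 + 1 * hc3 + 2 * ht00 + 2 * ht01 + 2 * ht10 + ((-2) * x (0, 0) + (-2) * x (0, 1) + (-1) * x (0, 2) + (-2) * x (1, 0) + (-1) * x (1, 1) + (-1) * x (2, 0) + (-1) * x (2, 1) + (-1) * x (3, 0) + (-1) * x (3, 1) + (-1) * x (3, 2) + (1) * s) * h3
  have e8 : x (2, 2) = x (0, 0) + 2 * x (0, 1) + x (1, 0) + 2 * x (1, 1) + x (2, 0) := by
    linear_combination 1 * hc2 + 2 * hc3 + 1 * ht00 + 1 * ht01 + 1 * ht10 + ((-1) * x (0, 0) + (-1) * x (0, 1) + (-1) * x (1, 0) + (-1) * x (1, 1) + (-1) * x (2, 0) + (-1) * x (2, 1) + (-1) * x (3, 0) + (-1) * x (3, 1) + (-1) * x (3, 2)) * h3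
  have e9 : x (3, 0) = x (0, 0) + 2 * x (0, 1) + 2 * x (0, 2) + 2 * x (1, 0) + 2 * x (2, 0) := by
    linear_combination 1 * hc0 + 1 * ht00 + ((-1) * x (0, 0) + (-1) * x (0, 1) + (-1) * x (0, 2) + (-1) * x (1, 0) + (-1) * x (2, 0)) * h3
  have e10 : x (3, 1) = x (0, 0) + x (0, 2) + x (1, 0) + x (1, 1) + 2 * x (2, 0) := by
    linear_combination 2 * hc0 + 2 * hc3 + 1 * ht00 + 1 * ht01 + 2 * ht10 + ((-2) * x (0, 0) + (-1) * x (0, 1) + (-1) * x (0, 2) + (-1) * x (1, 0) + (-1) * x (1, 1) + (-1) * x (2, 0) + (-1) * x (2, 1) + (-1) * x (3, 0) + (-1) * x (3, 1) + (-1) * x (3, 2)) * h3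
  have e11 : x (3, 2) = 2 * x (0, 0) + 2 * x (0, 1) + x (0, 2) + 2 * x (1, 1) + 2 * x (2, 0) := by
    linear_combination 2 * hc0 + 2 * hc3 + 1 * ht00 + 2 * ht01 + 1 * ht10 + ((-2) * x (0, 0) + (-2) * x (0, 1) + (-1) * x (0, 2) + (-1) * x (1, 0) + (-1) * x (1, 1) + (-1) * x (2, 0) + (-1) * x (2, 1) + (-1) * x (3, 0) + (-1) * x (3, 1) + (-1) * x (3, 2)) * h3
  funext ⟨i, r⟩
  have hr : ∀ r : Fin 3, r = 0 ∨ r = 1 ∨ r = 2 := by decide
  have hi : ∀ i : Fin 4, i = 0 ∨ i = 1 ∨ i = 2 ∨ i = 3 := by decide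
  rcases hi i with rfl | rfl | rfl | rfl <;> rcases hr r with rfl | rfl | rfl
  · rfl
  · rfl
  · rfl
  · rfl
  · rfl
  · exact e5
  · rfl
  · exact e7
  · exact e8
  · exact e9
  · exact e10
  · exact e11

theorem mem_iff (x : ArrayPt → ZMod 3) : x ∈ ternaryGolayCode ↔ ∃ c : T, x = encT c :=
  ⟨fun h => ⟨_, eq_encT_of_mem h⟩, fun ⟨c, hc⟩ => hc ▸ encT_mem c⟩

end Cfsg.Agent.Helper9TG

namespace Cfsg.Agent.Helper9TG

open Cfsg

/-- the code is in bijection with the parameter space -/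
noncomputable def codeEquiv : T ≃ ↥ternaryGolayCode :=
  Equiv.ofBijective (fun c => ⟨encT c, encT_mem c⟩)
    ⟨fun c d h => encT_injective (congrArg Subtype.val h),
     fun x => by
      obtain ⟨c, hc⟩ := (mem_iff x.1).mp x.2
      exact ⟨c, Subtype.ext hc.symm⟩⟩

theorem card_code : Nat.card ↥ternaryGolayCode = 729 := by
  rw [← Nat.card_congr codeEquiv, Nat.card_eq_fintype_card]
  decide +kernel

theorem ncard_pred (P : (ArrayPt → ZMod 3) → Prop) [DecidablePred P] (n : ℕ)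
    (h : (Finset.univ.filter (fun c : T => P (encT c))).card = n) :
    {x : ArrayPt → ZMod 3 | x ∈ ternaryGolayCode ∧ P x}.ncard = n := by
  have hset : {x : ArrayPt → ZMod 3 | x ∈ ternaryGolayCode ∧ P x} =
      encT '' (↑(Finset.univ.filter (fun c : T => P (encT c))) : Set T) := by
    ext x
    constructor
    · rintro ⟨hx, hP⟩
      obtain ⟨c, rfl⟩ := (mem_iff x).mp hx
      exact ⟨c, by simpa using hP, rfl⟩
    · rintro ⟨c, hc, rfl⟩
      exact ⟨encT_mem c, by simpa using hc⟩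
  rw [hset, Set.ncard_image_of_injective _ encT_injective, Set.ncard_coe_finset, h]

end Cfsg.Agent.Helper9TG
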