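import Mathlib
import Cfsg.Agent.Lib.Helper9_TernaryGolay

set_option autoImplicit false

namespace Cfsg.Agent.Helper9TGHex

open Cfsg Cfsg.Agent.Helper9TG

/-- the hexads as a finset -/
def hexF : Finset (Finset ArrayPt) :=
  (Finset.univ.filter (fun c : T => (ternarySupport (encT c)).card = 6)).image
    (fun c => ternarySupport (encT c))

set_option maxRecDepth 100000 in
theorem hexF_card : hexF.card = 132 := by
  decide +kernel

set_option maxRecDepth 100000 in
theorem inter_T : ∀ c d : T, (ternarySupport (encT c)).card = 6 →
    (ternarySupport (encT d)).card = 6 → ternarySupport (encT c) ≠ ternarySupport (encT d) →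
    (ternarySupport (encT c) ∩ ternarySupport (encT d)).card ≤ 4 := by
  decide +kernel


end Cfsg.Agent.Helper9TGHex
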