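import Cfsg.Prelude.Def_GeometricClasses
import Mathlib

set_option autoImplicit false

namespace Cfsg.Agent.Helper9

open Matrix

variable {n : ℕ} {F : Type*} [Field F]

/-- A linear automorphism of `F^n` as an element of `GL`. -/
noncomputable def glOfEquiv (e : (Fin n → F) ≃ₗ[F] (Fin n → F)) : Matrix.GeneralLinearGroup (Fin n) F :=
  ⟨LinearMap.toMatrix' e.toLinearMap, LinearMap.toMatrix' e.symm.toLinearMap,
    by rw [← LinearMap.toMatrix'_comp]; simp,
    by rw [← LinearMap.toMatrix'_comp]; simp⟩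

theorem glOfEquiv_mulVec (e : (Fin n → F) ≃ₗ[F] (Fin n → F)) (v : Fin n → F) :
    ((glOfEquiv e : Matrix.GeneralLinearGroup (Fin n) F) : Matrix (Fin n) (Fin n) F) *ᵥ v = e v := by
  show LinearMap.toMatrix' e.toLinearMap *ᵥ v = e v
  rw [LinearMap.toMatrix'_mulVec]; rfl

theorem glOfEquiv_det (e : (Fin n → F) ≃ₗ[F] (Fin n → F)) :
    ((glOfEquiv e : Matrix.GeneralLinearGroup (Fin n) F) : Matrix (Fin n) (Fin n) F).det =
      LinearMap.det e.toLinearMap := by
  show (LinearMap.toMatrix' e.toLinearMap).det = _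
  rw [LinearMap.det_toMatrix']

theorem mem_specialLinear_iff (g : Matrix.GeneralLinearGroup (Fin n) F) :
    g ∈ Cfsg.Geo.specialLinear (Fin n) F ↔ (g : Matrix (Fin n) (Fin n) F).det = 1 := by
  unfold Cfsg.Geo.specialLinear
  rw [MonoidHom.mem_ker]
  constructor
  · intro h
    have := congrArg Units.val h
    simpa using this
  · intro h
    apply Units.ext
    simpa using h

theorem mem_stab_iff (W : Submodule F (Fin n → F)) (g : Matrix.GeneralLinearGroup (Fin n) F) :
    g ∈ Cfsg.Geo.subspaceStabilizer W ↔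
      ∀ v, v ∈ W ↔ (g : Matrix (Fin n) (Fin n) F) *ᵥ v ∈ W := Iff.rfl

/-- the transvection `v ↦ v + f v • y` in `GL`. -/
noncomputable def glTransv (f : Module.Dual F (Fin n → F)) (y : Fin n → F) (h : f y = 0) :
    Matrix.GeneralLinearGroup (Fin n) F :=
  glOfEquiv (LinearEquiv.transvection h)

theorem glTransv_mulVec (f : Module.Dual F (Fin n → F)) (y : Fin n → F) (h : f y = 0) (v : Fin n → F) :
    ((glTransv f y h : Matrix.GeneralLinearGroup (Fin n) F) : Matrix (Fin n) (Fin n) F) *ᵥ v = v + f v • y := by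
  unfold glTransv
  rw [glOfEquiv_mulVec, LinearEquiv.transvection.apply]

theorem glTransv_mem_SL (f : Module.Dual F (Fin n → F)) (y : Fin n → F) (h : f y = 0) :
    glTransv f y h ∈ Cfsg.Geo.specialLinear (Fin n) F := by
  rw [mem_specialLinear_iff]
  unfold glTransv
  rw [glOfEquiv_det]
  have := LinearMap.transvection.det f y
  rw [h, add_zero] at this
  rw [← this]
  rfl

theorem glTransv_stab_of_mem (f : Module.Dual F (Fin n → F)) (y : Fin n → F) (h : f y = 0)
    (W : Submodule F (Fin n → F)) (hy : y ∈ W) : glTransv f y h ∈ Cfsg.Geo.subspaceStabilizer W := by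
  rw [mem_stab_iff]
  intro v
  rw [glTransv_mulVec]
  constructor
  · intro hv
    exact W.add_mem hv (W.smul_mem _ hy)
  · intro hv
    have : v = (v + f v • y) - f v • y := by abel
    rw [this]
    exact W.sub_mem hv (W.smul_mem _ hy)

theorem glTransv_stab_of_ker (f : Module.Dual F (Fin n → F)) (y : Fin n → F) (h : f y = 0)
    (W : Submodule F (Fin n → F)) (hW : ∀ w ∈ W, f w = 0) : glTransv f y h ∈ Cfsg.Geo.subspaceStabilizer W := by
  rw [mem_stab_iff]
  intro v
  rw [glTransv_mulVec]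
  constructor
  · intro hv
    rw [hW v hv, zero_smul, add_zero]; exact hv
  · intro hv
    have h2 : f (v + f v • y) = f v := by
      rw [map_add, map_smul, h, smul_zero, add_zero]
    have h3 := hW _ hv
    rw [h2] at h3
    rw [h3, zero_smul, add_zero] at hv
    exact hv

theorem glTransv_not_stab (f : Module.Dual F (Fin n → F)) (y : Fin n → F) (h : f y = 0)
    (W : Submodule F (Fin n → F)) (hy : y ∉ W) (u : Fin n → F) (hu : u ∈ W) (hfu : f u ≠ 0) :
    glTransv f y h ∉ Cfsg.Geo.subspaceStabilizer W := by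
  rw [mem_stab_iff]
  intro hcon
  have h1 := (hcon u).mp hu
  rw [glTransv_mulVec] at h1
  have h2 : f u • y ∈ W := by
    have : f u • y = (u + f u • y) - u := by abel
    rw [this]; exact W.sub_mem h1 hu
  apply hy
  have : y = (f u)⁻¹ • (f u • y) := by
    rw [smul_smul, inv_mul_cancel₀ hfu, one_smul]
  rw [this]
  exact W.smul_mem _ h2

/-- existence of a transvection in `SL` with prescribed direction `y`, trivial on `P ∋ y`, moving `u ∉ P`. -/
theorem exists_functional (P : Submodule F (Fin n → F)) (u : Fin n → F) (hu : u ∉ P) :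
    ∃ f : Module.Dual F (Fin n → F), f u ≠ 0 ∧ ∀ w ∈ P, f w = 0 := by
  obtain ⟨f, hfu, hf⟩ := Submodule.exists_le_ker_of_notMem hu
  exact ⟨f, hfu, fun w hw => LinearMap.mem_ker.mp (hf hw)⟩


theorem exists_notMem_of_ne_top (U : Submodule F (Fin n → F)) (hU : U ≠ ⊤) : ∃ y, y ∉ U := by
  by_contra hcon
  push Not at hcon
  exact hU ((Submodule.eq_top_iff').mpr hcon)

/-- some element of `SL` does not stabilise a proper nonzero subspace -/
theorem exists_SL_not_stab (W : Submodule F (Fin n → F)) (hW0 : W ≠ ⊥) (hWtop : W ≠ ⊤) :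
    ∃ g ∈ Cfsg.Geo.specialLinear (Fin n) F, g ∉ Cfsg.Geo.subspaceStabilizer W := by
  obtain ⟨w, hw, hw0⟩ := Submodule.exists_mem_ne_zero_of_ne_bot hW0
  obtain ⟨y, hy⟩ := exists_notMem_of_ne_top W hWtop
  have hwP : w ∉ Submodule.span F {y} := by
    intro h
    obtain ⟨c, rfl⟩ := Submodule.mem_span_singleton.mp h
    have hc : c ≠ 0 := by
      intro hc; apply hw0; rw [hc, zero_smul]
    apply hy
    have : y = c⁻¹ • (c • y) := by rw [smul_smul, inv_mul_cancel₀ hc, one_smul]
    rw [this]; exact W.smul_mem _ hw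
  obtain ⟨f, hfw, hfP⟩ := exists_functional _ w hwP
  have hfy : f y = 0 := hfP y (Submodule.mem_span_singleton_self y)
  exact ⟨glTransv f y hfy, glTransv_mem_SL f y hfy, glTransv_not_stab f y hfy W hy w hw hfw⟩

/-- nested case: `W < U < ⊤`; some element of `SL` stabilises `W` but not `U`. -/
theorem exists_SL_stab_not_stab_nested (W U : Submodule F (Fin n → F)) (hWU : W < U) (hU : U ≠ ⊤) :
    ∃ g ∈ Cfsg.Geo.specialLinear (Fin n) F, g ∈ Cfsg.Geo.subspaceStabilizer W ∧
      g ∉ Cfsg.Geo.subspaceStabilizer U := by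
  obtain ⟨y, hy⟩ := exists_notMem_of_ne_top U hU
  obtain ⟨u, hu, huW⟩ := SetLike.exists_of_lt hWU
  have huP : u ∉ W ⊔ Submodule.span F {y} := by
    intro h
    obtain ⟨w, hw, z, hz, hwz⟩ := Submodule.mem_sup.mp h
    obtain ⟨c, rfl⟩ := Submodule.mem_span_singleton.mp hz
    by_cases hc : c = 0
    · apply huW
      rw [← hwz, hc, zero_smul, add_zero]; exact hw
    · apply hy
      have h1 : c • y ∈ U := by
        have : c • y = u - w := by rw [← hwz]; abel
        rw [this]; exact U.sub_mem hu (hWU.le hw)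
      have : y = c⁻¹ • (c • y) := by rw [smul_smul, inv_mul_cancel₀ hc, one_smul]
      rw [this]; exact U.smul_mem _ h1
  obtain ⟨f, hfu, hfP⟩ := exists_functional _ u huP
  have hfy : f y = 0 := hfP y (Submodule.mem_sup_right (Submodule.mem_span_singleton_self y))
  refine ⟨glTransv f y hfy, glTransv_mem_SL f y hfy, ?_, glTransv_not_stab f y hfy U hy u hu hfu⟩
  exact glTransv_stab_of_ker f y hfy W (fun w hw => hfP w (Submodule.mem_sup_left hw))

/-- disjoint case: `W ⊓ U = ⊥`, both nonzero; some element of `SL` stabilises `W` but not `U`. -/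
theorem exists_SL_stab_not_stab_disjoint (W U : Submodule F (Fin n → F)) (hWU : W ⊓ U = ⊥)
    (hW : W ≠ ⊥) (hU : U ≠ ⊥) :
    ∃ g ∈ Cfsg.Geo.specialLinear (Fin n) F, g ∈ Cfsg.Geo.subspaceStabilizer W ∧
      g ∉ Cfsg.Geo.subspaceStabilizer U := by
  obtain ⟨y, hy, hy0⟩ := Submodule.exists_mem_ne_zero_of_ne_bot hW
  obtain ⟨u, hu, hu0⟩ := Submodule.exists_mem_ne_zero_of_ne_bot hU
  have hyU : y ∉ U := by
    intro h
    have : y ∈ W ⊓ U := ⟨hy, h⟩
    rw [hWU, Submodule.mem_bot] at this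
    exact hy0 this
  have huP : u ∉ Submodule.span F {y} := by
    intro h
    obtain ⟨c, rfl⟩ := Submodule.mem_span_singleton.mp h
    have : c • y ∈ W ⊓ U := ⟨W.smul_mem _ hy, hu⟩
    rw [hWU, Submodule.mem_bot] at this
    exact hu0 this
  obtain ⟨f, hfu, hfP⟩ := exists_functional _ u huP
  have hfy : f y = 0 := hfP y (Submodule.mem_span_singleton_self y)
  exact ⟨glTransv f y hfy, glTransv_mem_SL f y hfy, glTransv_stab_of_mem f y hfy W hy,
    glTransv_not_stab f y hfy U hyU u hu hfu⟩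

/-- the standard intermediate-subgroup conclusion -/
theorem between_of_witnesses (W U : Submodule F (Fin n → F))
    (h1 : ∃ g ∈ Cfsg.Geo.specialLinear (Fin n) F, g ∈ Cfsg.Geo.subspaceStabilizer W ∧
      g ∉ Cfsg.Geo.subspaceStabilizer U)
    (h2 : ∃ g ∈ Cfsg.Geo.specialLinear (Fin n) F, g ∉ Cfsg.Geo.subspaceStabilizer W) :
    ∃ K : Subgroup (Matrix.GeneralLinearGroup (Fin n) F),
      Cfsg.Geo.subspaceStabilizer W ⊓ Cfsg.Geo.subspaceStabilizer U ⊓ Cfsg.Geo.specialLinear (Fin n) F < K ∧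
      K < Cfsg.Geo.specialLinear (Fin n) F := by
  refine ⟨Cfsg.Geo.subspaceStabilizer W ⊓ Cfsg.Geo.specialLinear (Fin n) F, ?_, ?_⟩
  · refine lt_of_le_of_ne (inf_le_inf_right _ inf_le_left) ?_
    intro h
    obtain ⟨g, hgS, hgW, hgU⟩ := h1
    have : g ∈ Cfsg.Geo.subspaceStabilizer W ⊓ Cfsg.Geo.specialLinear (Fin n) F := ⟨hgW, hgS⟩
    rw [← h] at this
    exact hgU this.1.2
  · refine lt_of_le_of_ne inf_le_right ?_
    intro h
    obtain ⟨g, hgS, hgW⟩ := h2
    rw [← h] at hgS
    exact hgW hgS.1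

end Cfsg.Agent.Helper9
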