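import Mathlib

set_option autoImplicit false

namespace Cfsg.Agent.Lib.Helper9_Wagner
namespace Helper9W

open MulAction

section
variable {G : Type*} {X : Type*} [Group G] [MulAction G X]

/-- the setwise stabilizer of the pair `{a, b}` -/
def pairStab (a b : X) : Subgroup G where
  carrier := {g | (g • a = a ∧ g • b = b) ∨ (g • a = b ∧ g • b = a)}
  one_mem' := Or.inl ⟨one_smul _ _, one_smul _ _⟩
  mul_mem' := by
    rintro g h (⟨ga, gb⟩ | ⟨ga, gb⟩) (⟨ha, hb⟩ | ⟨ha, hb⟩)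
    · left; exact ⟨by rw [mul_smul, ha, ga], by rw [mul_smul, hb, gb]⟩
    · right; exact ⟨by rw [mul_smul, ha, gb], by rw [mul_smul, hb, ga]⟩
    · right; exact ⟨by rw [mul_smul, ha, ga], by rw [mul_smul, hb, gb]⟩
    · left; exact ⟨by rw [mul_smul, ha, gb], by rw [mul_smul, hb, ga]⟩
  inv_mem' := by
    rintro g (⟨ga, gb⟩ | ⟨ga, gb⟩)
    · left; exact ⟨by rw [inv_smul_eq_iff, ga], by rw [inv_smul_eq_iff, gb]⟩
    · right; exact ⟨by rw [inv_smul_eq_iff, gb], by rw [inv_smul_eq_iff, ga]⟩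

theorem exists_pair (N : Subgroup G) (h2 : MulAction.IsMultiplyPretransitive N X 2)
    (x y x' y' : X) (hxy : x ≠ y) (hxy' : x' ≠ y') :
    ∃ n : G, n ∈ N ∧ n • x = x' ∧ n • y = y' := by
  let e : Fin 2 ↪ X := ⟨![x, y], by
    intro i j hij
    fin_cases i <;> fin_cases j <;>
      first
      | rfl
      | (exfalso; simp [hxy, hxy.symm] at hij)⟩
  let e' : Fin 2 ↪ X := ⟨![x', y'], by
    intro i j hij
    fin_cases i <;> fin_cases j <;>
      first
      | rfl
      | (exfalso; simp [hxy', hxy'.symm] at hij)⟩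
  obtain ⟨n, hn⟩ := MulAction.exists_smul_eq N e e'
  refine ⟨(n : G), n.2, ?_, ?_⟩
  · exact DFunLike.congr_fun hn 0
  · exact DFunLike.congr_fun hn 1

theorem exists_triple (h3 : MulAction.IsMultiplyPretransitive G X 3) (a b : X) (hab : a ≠ b)
    (z z' : X) (hza : z ≠ a) (hzb : z ≠ b) (hza' : z' ≠ a) (hzb' : z' ≠ b) :
    ∃ g : G, g • a = a ∧ g • b = b ∧ g • z = z' := by
  let e : Fin 3 ↪ X := ⟨![a, b, z], by
    intro i j hij
    fin_cases i <;> fin_cases j <;>
      first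
      | rfl
      | (exfalso; simp [hab, hab.symm, hza, hzb, hza.symm, hzb.symm] at hij)⟩
  let e' : Fin 3 ↪ X := ⟨![a, b, z'], by
    intro i j hij
    fin_cases i <;> fin_cases j <;>
      first
      | rfl
      | (exfalso; simp [hab, hab.symm, hza', hzb', hza'.symm, hzb'.symm] at hij)⟩
  obtain ⟨g, hg⟩ := MulAction.exists_smul_eq G e e'
  exact ⟨g, DFunLike.congr_fun hg 0, DFunLike.congr_fun hg 1, DFunLike.congr_fun hg 2⟩

theorem fact_two : (2 * 1 : ℕ) = 2 := rfl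

theorem key [Finite G] [Finite X] (hodd : Odd (Nat.card X))
    (h3 : MulAction.IsMultiplyPretransitive G X 3) (N : Subgroup G) [hNn : N.Normal]
    (h2 : MulAction.IsMultiplyPretransitive N X 2) (a b : X) (hab : a ≠ b)
    (c c' : X) (hca : c ≠ a) (hcb : c ≠ b) (hca' : c' ≠ a) (hcb' : c' ≠ b) :
    ∃ m : G, m ∈ N ∧ m • a = a ∧ m • b = b ∧ m • c = c' := by
  classical
  haveI : Fact (Nat.Prime 2) := ⟨Nat.prime_two⟩
  obtain ⟨L, hL⟩ : ∃ L : Subgroup G, ∀ g, g ∈ L ↔
      (g • a = a ∧ g • b = b) ∨ (g • a = b ∧ g • b = a) := ⟨pairStab a b, fun g => Iff.rfl⟩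
  obtain ⟨M, hMn, hM⟩ : ∃ M : Subgroup L, M.Normal ∧ ∀ g : L, g ∈ M ↔ (g : G) ∈ N :=
    ⟨N.subgroupOf L, inferInstance, fun g => Subgroup.mem_subgroupOf⟩
  haveI := hMn
  have hoff : ∀ u : G, u ∈ L → ∀ z : X, z ≠ a → z ≠ b → u • z ≠ a ∧ u • z ≠ b := by
    intro u hu z hza hzb
    rcases (hL u).1 hu with ⟨ua, ub⟩ | ⟨ua, ub⟩
    · exact ⟨fun h => hza (smul_left_cancel u (h.trans ua.symm)),
        fun h => hzb (smul_left_cancel u (h.trans ub.symm))⟩
    · exact ⟨fun h => hzb (smul_left_cancel u (h.trans ub.symm)),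
        fun h => hza (smul_left_cancel u (h.trans ua.symm))⟩
  obtain ⟨R⟩ : Nonempty (Sylow 2 M) := inferInstance
  -- index two
  have horb : orbit M a = {a, b} := by
    ext y
    rw [Set.mem_insert_iff, Set.mem_singleton_iff]
    constructor
    · rintro ⟨m, rfl⟩
      rcases (hL _).1 (m : L).2 with ⟨ma, -⟩ | ⟨ma, -⟩
      · left; exact ma
      · right; exact ma
    · rintro (h | h)
      · rw [h]; exact mem_orbit_self _
      · obtain ⟨n₀, hn₀N, hn₀a, hn₀b⟩ := exists_pair N h2 a b b a hab hab.symm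
        have hn₀L : n₀ ∈ L := (hL n₀).2 (Or.inr ⟨hn₀a, hn₀b⟩)
        rw [h]
        exact ⟨⟨⟨n₀, hn₀L⟩, (hM _).2 hn₀N⟩, hn₀a⟩
  have hidx : (stabilizer M a).index = 2 := by
    rw [MulAction.index_stabilizer, horb, Set.ncard_pair hab]
  -- an element of R swapping a and b
  have hν : ∃ ν : M, ν ∈ R ∧ ((ν : L) : G) • a = b := by
    by_contra hno
    push Not at hno
    have hle : (R : Subgroup M) ≤ stabilizer M a := by
      intro x hx
      rw [mem_stabilizer_iff]
      rcases (hL _).1 (x : L).2 with ⟨xa, -⟩ | ⟨xa, -⟩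
      · exact xa
      · exact absurd xa (hno x hx)
    have h2dvd : 2 ∣ (R : Subgroup M).index := by
      have := Subgroup.index_dvd_of_le hle
      rwa [hidx] at this
    exact Sylow.not_dvd_index R h2dvd
  obtain ⟨ν, hνR, hνa⟩ := hν
  have hνb : ((ν : L) : G) • b = a := by
    rcases (hL _).1 (ν : L).2 with ⟨νa, -⟩ | ⟨-, νb⟩
    · exact absurd (νa.symm.trans hνa) hab
    · exact νb
  -- a fixed point of R
  have hfixne : Nat.card (fixedPoints (R : Subgroup M) X) ≠ 0 := by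
    have hmod := IsPGroup.card_modEq_card_fixedPoints (p := 2) R.isPGroup' X
    obtain ⟨r, hr⟩ := hodd
    unfold Nat.ModEq at hmod
    omega
  obtain ⟨⟨⟨c₁, hc₁⟩⟩, -⟩ := Nat.card_ne_zero.1 hfixne
  have hc₁' : ∀ x : M, x ∈ R → ((x : L) : G) • c₁ = c₁ := fun x hx => hc₁ ⟨x, hx⟩
  have hνc : ((ν : L) : G) • c₁ = c₁ := hc₁' ν hνR
  have hc1a : c₁ ≠ a := by
    intro h
    rw [h] at hνc
    exact hab (hνc.symm.trans hνa)
  have hc1b : c₁ ≠ b := by
    intro h
    rw [h] at hνc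
    exact hab (hνb.symm.trans hνc)
  -- transitivity of M off a, b
  have T : ∀ c₂ : X, c₂ ≠ a → c₂ ≠ b → ∃ m : M, ((m : L) : G) • c₁ = c₂ := by
    intro c₂ h2a h2b
    by_contra hno
    push Not at hno
    obtain ⟨g, ga, gb, gc⟩ := exists_triple h3 a b hab c₁ c₂ hc1a hc1b h2a h2b
    have hgL : g ∈ L := (hL g).2 (Or.inl ⟨ga, gb⟩)
    have hfr := Sylow.normalizer_sup_eq_top R
    have hmem : (⟨g, hgL⟩ : L) ∈
        (↑(Subgroup.normalizer (↑((R : Subgroup M).map M.subtype) : Set L) ⊔ M) : Set L) := by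
      rw [hfr]; trivial
    rw [Subgroup.mul_normal] at hmem
    obtain ⟨w, hw, k, hk, hwk⟩ := Set.mem_mul.1 hmem
    have hwk' : (w : G) * (k : G) = g := by
      have := congrArg (fun z : L => (z : G)) hwk
      simpa using this
    have hkM : k ∈ M := hk
    -- R fixes w • c₁
    have hfix2 : ∀ x : M, x ∈ R → ((x : L) : G) • ((w : G) • c₁) = (w : G) • c₁ := by
      intro x hx
      have hxmap : (x : L) ∈ ((R : Subgroup M).map M.subtype) :=
        Subgroup.mem_map.2 ⟨x, hx, rfl⟩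
      have hconj := ((Subgroup.mem_set_normalizer_iff''.1 hw) (x : L)).1 (SetLike.mem_coe.2 hxmap)
      obtain ⟨x', hx', hx'eq⟩ := Subgroup.mem_map.1 (SetLike.mem_coe.1 hconj)
      have e1 : ((x' : L) : G) = (w : G)⁻¹ * ((x : L) : G) * (w : G) := by
        have := congrArg (fun z : L => (z : G)) hx'eq
        simpa using this
      have hfix' : ((x' : L) : G) • c₁ = c₁ := hc₁' x' hx'
      rw [e1, mul_smul, mul_smul, inv_smul_eq_iff] at hfix'
      exact hfix'
    obtain ⟨h2a', h2b'⟩ := hoff (w : G) w.2 c₁ hc1a hc1b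
    have hne : (w : G) • c₁ ≠ c₁ := by
      intro heq
      have hwinv : (w : G)⁻¹ • c₁ = c₁ := inv_smul_eq_iff.2 heq.symm
      have hmemM : w * k * w⁻¹ ∈ M := hMn.conj_mem k hkM w
      apply hno ⟨w * k * w⁻¹, hmemM⟩
      show ((w * k * w⁻¹ : L) : G) • c₁ = c₂
      have : ((w * k * w⁻¹ : L) : G) = (w : G) * (k : G) * (w : G)⁻¹ := by simp
      rw [this, mul_smul, hwinv, hwk', gc]
    obtain ⟨h, hhN, hh1, hh2⟩ := exists_pair N h2 c₁ ((w : G) • c₁) a b hne.symm hab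
    have hh1' : h⁻¹ • a = c₁ := inv_smul_eq_iff.2 hh1.symm
    have hh2' : h⁻¹ • b = (w : G) • c₁ := inv_smul_eq_iff.2 hh2.symm
    have hconjfix : ∀ x : M, x ∈ R → (h * ((x : L) : G) * h⁻¹) • a = a ∧
        (h * ((x : L) : G) * h⁻¹) • b = b := by
      intro x hx
      constructor
      · rw [mul_smul, mul_smul, hh1', hc₁' x hx, hh1]
      · rw [mul_smul, mul_smul, hh2', hfix2 x hx, hh2]
    have hconjL : ∀ x : M, x ∈ R → h * ((x : L) : G) * h⁻¹ ∈ L :=
      fun x hx => (hL _).2 (Or.inl (hconjfix x hx))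
    have hconjN : ∀ x : M, h * ((x : L) : G) * h⁻¹ ∈ N :=
      fun x => N.mul_mem (N.mul_mem hhN ((hM _).1 x.2)) (N.inv_mem hhN)
    let f : (R : Subgroup M) →* stabilizer M a := MonoidHom.mk'
      (fun x => ⟨⟨⟨h * (((x : M) : L) : G) * h⁻¹, hconjL x x.2⟩, (hM _).2 (hconjN x)⟩,
        (hconjfix x x.2).1⟩)
      (by
        intro x y
        apply Subtype.ext
        apply Subtype.ext
        apply Subtype.ext
        simp [mul_assoc])
    have hf : Function.Injective f := by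
      intro x y hxy
      have h1 : h * (((x : M) : L) : G) * h⁻¹ = h * (((y : M) : L) : G) * h⁻¹ :=
        congrArg (fun z : stabilizer M a => (((z : M) : L) : G)) hxy
      have h2' : (((x : M) : L) : G) = (((y : M) : L) : G) :=
        mul_left_cancel (mul_right_cancel h1)
      exact Subtype.ext (Subtype.ext (Subtype.ext h2'))
    have hdvd : Nat.card (R : Subgroup M) ∣ Nat.card (stabilizer M a) :=
      Subgroup.card_dvd_of_injective f hf
    have hcardR : Nat.card (R : Subgroup M) = 2 ^ (Nat.card M).factorization 2 :=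
      Sylow.card_eq_multiplicity R
    have hpos : Nat.card (stabilizer M a) ≠ 0 := Nat.card_pos.ne'
    have hcardM : Nat.card M = 2 * Nat.card (stabilizer M a) := by
      rw [← (stabilizer M a).index_mul_card, hidx]
    have hv : (2 * Nat.card (stabilizer M a)).factorization 2 =
        (Nat.card (stabilizer M a)).factorization 2 + 1 := by
      rw [Nat.factorization_mul (by norm_num) hpos, Finsupp.add_apply,
        Nat.prime_two.factorization_self]
      omega
    rw [hcardR, hcardM, hv] at hdvd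
    exact Nat.pow_succ_factorization_not_dvd hpos Nat.prime_two hdvd
  -- assembly
  have adj : ∀ z : X, z ≠ a → z ≠ b → ∃ m : G, m ∈ N ∧ m • a = a ∧ m • b = b ∧ m • c₁ = z := by
    intro z hza hzb
    obtain ⟨m, hm⟩ := T z hza hzb
    rcases (hL _).1 (m : L).2 with ⟨ma, mb⟩ | ⟨ma, mb⟩
    · exact ⟨((m : L) : G), (hM _).1 m.2, ma, mb, hm⟩
    · refine ⟨((m : L) : G) * ((ν : L) : G), N.mul_mem ((hM _).1 m.2) ((hM _).1 ν.2), ?_, ?_, ?_⟩
      · rw [mul_smul, hνa, mb]
      · rw [mul_smul, hνb, ma]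
      · rw [mul_smul, hνc, hm]
  obtain ⟨m₁, h₁N, m₁a, m₁b, m₁c⟩ := adj c hca hcb
  obtain ⟨m₂, h₂N, m₂a, m₂b, m₂c⟩ := adj c' hca' hcb'
  refine ⟨m₂ * m₁⁻¹, N.mul_mem h₂N (N.inv_mem h₁N), ?_, ?_, ?_⟩
  · rw [mul_smul, inv_smul_eq_iff.2 m₁a.symm, m₂a]
  · rw [mul_smul, inv_smul_eq_iff.2 m₁b.symm, m₂b]
  · rw [mul_smul, inv_smul_eq_iff.2 m₁c.symm, m₂c]

/-- A 2-transitive normal subgroup of a 3-transitive group of odd degree is 3-transitive. -/
theorem three_of_two [Finite G] [Finite X] (hodd : Odd (Nat.card X))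
    (h3 : MulAction.IsMultiplyPretransitive G X 3) (N : Subgroup G) [hNn : N.Normal]
    (h2 : MulAction.IsMultiplyPretransitive N X 2) :
    MulAction.IsMultiplyPretransitive N X 3 := by
  refine ⟨fun x y => ?_⟩
  have hx : ∀ i j : Fin 3, i ≠ j → x i ≠ x j := fun i j hij h => hij (x.injective h)
  have hy : ∀ i j : Fin 3, i ≠ j → y i ≠ y j := fun i j hij h => hij (y.injective h)
  obtain ⟨n₁, hn₁N, h0, h1⟩ := exists_pair N h2 (x 0) (x 1) (y 0) (y 1) (hx 0 1 (by decide))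
    (hy 0 1 (by decide))
  obtain ⟨m, hmN, ma, mb, mc⟩ := key hodd h3 N h2 (y 0) (y 1) (hy 0 1 (by decide))
    (n₁ • x 2) (y 2)
    (fun h => hx 2 0 (by decide) (smul_left_cancel n₁ (h.trans h0.symm)))
    (fun h => hx 2 1 (by decide) (smul_left_cancel n₁ (h.trans h1.symm)))
    (hy 2 0 (by decide)) (hy 2 1 (by decide))
  refine ⟨⟨m * n₁, N.mul_mem hmN hn₁N⟩, ?_⟩
  ext i
  fin_cases i
  · show (m * n₁) • x 0 = y 0
    rw [mul_smul, h0, ma]
  · show (m * n₁) • x 1 = y 1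
    rw [mul_smul, h1, mb]
  · show (m * n₁) • x 2 = y 2
    rw [mul_smul, mc]

end

end Helper9W
end Cfsg.Agent.Lib.Helper9_Wagner
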