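import Mathlib
import Cfsg.Prelude.Def_PLocal
import Cfsg.Agent.Lib.Helper7_NPC
import Cfsg.Agent.Lib.Helper4_PCore
import Cfsg.Agent.Lib.Lead_SZ
import Cfsg.Agent.Lib.Lead_Hall

/-!
# Transfer lemmas for normal p-complements (numerical form `NPC`)
-/

namespace Cfsg.Agent.Lib.Lead_GT1

open Cfsg.Agent.Lib.Helper7_NPC Cfsg.Agent.Lib.Helper4_PCore

universe u

section
variable {p : ℕ} [Fact p.Prime]

theorem npc_of_injective {X Y : Type*} [Group X] [Group Y] [Finite Y] (f : X →* Y)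
    (hf : Function.Injective f) (h : NPC p Y) : NPC p X := by
  have hp : p.Prime := Fact.out
  obtain ⟨N, hNn, hNc, k, hk⟩ := h
  refine ⟨N.comap f, hNn.comap f, ?_, ?_⟩
  · exact Nat.Coprime.coprime_dvd_left (Subgroup.card_comap_dvd_of_injective N f hf) hNc
  · have h1 : (N.comap f).index ∣ N.index := by
      rw [Subgroup.index_comap]
      haveI := hNn
      exact Subgroup.relIndex_dvd_index_of_normal (H := N) (K := f.range)
    rw [hk] at h1
    obtain ⟨j, -, hj⟩ := (Nat.dvd_prime_pow hp).1 h1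
    exact ⟨j, hj⟩

theorem npc_of_surjective {X Y : Type*} [Group X] [Group Y] [Finite X] (f : X →* Y)
    (hf : Function.Surjective f) (h : NPC p X) : NPC p Y := by
  have hp : p.Prime := Fact.out
  obtain ⟨N, hNn, hNc, k, hk⟩ := h
  refine ⟨N.map f, hNn.map f hf, ?_, ?_⟩
  · exact Nat.Coprime.coprime_dvd_left (Subgroup.card_map_dvd N f) hNc
  · have h1 : (N.map f).index ∣ N.index := Subgroup.index_map_dvd N hf
    rw [hk] at h1
    obtain ⟨j, -, hj⟩ := (Nat.dvd_prime_pow hp).1 h1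
    exact ⟨j, hj⟩

theorem npc_of_equiv {X Y : Type*} [Group X] [Group Y] [Finite X] (e : X ≃* Y)
    (h : NPC p X) : NPC p Y :=
  npc_of_surjective e.toMonoidHom e.surjective h

theorem npc_of_coprime {X : Type*} [Group X] (h : (Nat.card X).Coprime p) : NPC p X := by
  refine ⟨⊤, inferInstance, ?_, 0, ?_⟩
  · rwa [Subgroup.card_top]
  · simp

theorem npc_of_pGroup {X : Type*} [Group X] [Finite X] (h : IsPGroup p X) : NPC p X := by
  obtain ⟨k, hk⟩ := IsPGroup.iff_card.1 h
  refine ⟨⊥, inferInstance, ?_, k, ?_⟩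
  · rw [Subgroup.card_bot]; exact Nat.coprime_one_left p
  · rw [Subgroup.index_bot, hk]

/-- NPC of a subgroup `M` from NPC of a bigger subgroup. -/
theorem npc_of_le {G : Type*} [Group G] [Finite G] {M M' : Subgroup G} (h : M ≤ M')
    (h' : NPC p ↥M') : NPC p ↥M :=
  npc_of_injective (Subgroup.inclusion h) (Subgroup.inclusion_injective h) h'

theorem npc_top_iff {G : Type*} [Group G] [Finite G] : NPC p ↥(⊤ : Subgroup G) ↔ NPC p G :=
  ⟨fun h => npc_of_equiv Subgroup.topEquiv h, fun h => npc_of_equiv Subgroup.topEquiv.symm h⟩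

theorem npc_of_eq_top {G : Type*} [Group G] [Finite G] {M : Subgroup G} (hM : M = ⊤)
    (h : NPC p ↥M) : NPC p G := by
  subst hM
  exact npc_top_iff.1 h

theorem npc_of_quotient {G : Type*} [Group G] [Finite G] (D : Subgroup G) [D.Normal]
    (hD : (Nat.card D).Coprime p) (h : NPC p (G ⧸ D)) : NPC p G := by
  obtain ⟨N, hNn, hNc, k, hk⟩ := h
  refine ⟨N.comap (QuotientGroup.mk' D), hNn.comap _, ?_, k, ?_⟩
  · rw [Cfsg.Agent.Lib.Lead_Hall.card_comap_mk]
    exact Nat.Coprime.mul_left hNc hD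
  · rw [Subgroup.index_comap_of_surjective _ (QuotientGroup.mk'_surjective D)]
    exact hk

/-- A normal `p'`-subgroup and a normal `p`-subgroup commute. -/
theorem commute_of_coprime_normal {G : Type*} [Group G] [Finite G] (T H : Subgroup G)
    [hT : T.Normal] [hH : H.Normal] (hTc : (Nat.card T).Coprime p) (hHp : IsPGroup p H) :
    T ≤ Subgroup.centralizer (H : Set G) := by
  obtain ⟨k, hk⟩ := IsPGroup.iff_card.1 hHp
  have hcop : (Nat.card T).Coprime (Nat.card H) := by rw [hk]; exact hTc.pow_right k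
  have hdisj : T ⊓ H = ⊥ := (Subgroup.disjoint_of_coprime_natCard hcop).eq_bot
  intro t ht
  rw [Subgroup.mem_centralizer_iff]
  intro h hh
  have h1 : h * t * h⁻¹ * t⁻¹ ∈ T ⊓ H := by
    refine ⟨?_, ?_⟩
    · exact T.mul_mem (hT.conj_mem t ht h) (T.inv_mem ht)
    · have e : h * t * h⁻¹ * t⁻¹ = h * (t * h⁻¹ * t⁻¹) := by group
      rw [e]
      exact H.mul_mem hh (hH.conj_mem h⁻¹ (H.inv_mem hh) t)
  rw [hdisj, Subgroup.mem_bot] at h1
  calc h * t = (h * t * h⁻¹ * t⁻¹) * (t * h) := by group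
    _ = t * h := by rw [h1, one_mul]

end

end Cfsg.Agent.Lib.Lead_GT1
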