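import Mathlib
import Cfsg.Prelude.Def_PLocal
import Cfsg.Agent.Lib.Lead_GT1
import Cfsg.Agent.Lib.Lead_Coprime

/-!
# Generic Glauberman–Thompson reduction: the functor and basic consequences
-/

namespace Cfsg.Agent.Lib.Lead_GT2

open Cfsg.Agent.Lib.Helper7_NPC Cfsg.Agent.Lib.Helper4_PCore Cfsg.Agent.Lib.Lead_GT1
open scoped Pointwise

universe u

/-- A "characteristic `p`-functor" with a ZJ-type theorem. -/
structure WFun (p : ℕ) where
  W : ∀ (X : Type u) [Group X], Subgroup X → Subgroup X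
  le : ∀ (X : Type u) [Group X] (R : Subgroup X), W X R ≤ R
  ne_bot : ∀ (X : Type u) [Group X] [Finite X] (R : Subgroup X), IsPGroup p R → R ≠ ⊥ →
    W X R ≠ ⊥
  map : ∀ (X Y : Type u) [Group X] [Group Y] [Finite X] [Finite Y] (f : X →* Y)
    (R : Subgroup X), IsPGroup p R → Set.InjOn f (R : Set X) → W Y (R.map f) = (W X R).map f
  normal : ∀ (X : Type u) [Group X] [Finite X],
    Subgroup.centralizer (Cfsg.pCore p X : Set X) ≤ Cfsg.pCore p X →
    (∀ (V : Subgroup X) [V.Normal], IsPGroup p V → Cfsg.IsPStableOn p V) →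
    ∀ S : Sylow p X, (W X (S : Subgroup X)).Normal

variable {p : ℕ} [Fact p.Prime] (𝒲 : WFun.{u} p)

/-- The hypothesis of the normal `p`-complement theorem. -/
def Hyp (G : Type u) [Group G] : Prop :=
  ∀ P : Sylow p G, NPC p ↥(Subgroup.normalizer ((𝒲.W G (P : Subgroup G) : Subgroup G) : Set G))

section
variable {G : Type u} [Group G] [Finite G]

theorem map_conj_eq_of_mem_normalizer (R : Subgroup G) {g : G}
    (hg : g ∈ Subgroup.normalizer (R : Set G)) : R.map (MulAut.conj g).toMonoidHom = R := by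
  rw [Subgroup.mem_normalizer_iff_map_conj_eq] at hg
  exact hg

theorem W_char (R : Subgroup G) (hR : IsPGroup p R) :
    Subgroup.normalizer (R : Set G) ≤ Subgroup.normalizer ((𝒲.W G R : Subgroup G) : Set G) := by
  intro g hg
  have h1 := 𝒲.map G G (MulAut.conj g).toMonoidHom R hR
    ((MulAut.conj g).injective.injOn)
  rw [map_conj_eq_of_mem_normalizer R hg] at h1
  rw [Subgroup.mem_normalizer_iff_map_conj_eq]
  exact h1.symm

/-- `W` of a subgroup of a subgroup. -/
theorem W_subtype (M : Subgroup G) (R : Subgroup ↥M) (hR : IsPGroup p R) :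
    𝒲.W G (R.map M.subtype) = (𝒲.W ↥M R).map M.subtype :=
  𝒲.map ↥M G M.subtype R hR (M.subtype_injective.injOn)

theorem npc_normalizer_sub (M : Subgroup G) (R : Subgroup ↥M) (hR : IsPGroup p R)
    (h : NPC p ↥(Subgroup.normalizer ((𝒲.W G (R.map M.subtype) : Subgroup G) : Set G))) :
    NPC p ↥(Subgroup.normalizer ((𝒲.W ↥M R : Subgroup ↥M) : Set ↥M)) := by
  set N₁ := Subgroup.normalizer ((𝒲.W ↥M R : Subgroup ↥M) : Set ↥M) with hN₁
  set N₂ := Subgroup.normalizer ((𝒲.W G (R.map M.subtype) : Subgroup G) : Set G) with hN₂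
  have hmem : ∀ x : ↥N₁, ((x : ↥M) : G) ∈ N₂ := by
    intro x
    rw [hN₂, W_subtype 𝒲 M R hR]
    exact Subgroup.le_normalizer_map M.subtype ⟨x.1, x.2, rfl⟩
  let f : ↥N₁ →* ↥N₂ := (M.subtype.comp N₁.subtype).codRestrict N₂ hmem
  have hf : Function.Injective f := by
    intro x y hxy
    have := congrArg Subtype.val hxy
    exact Subtype.ext (Subtype.ext this)
  exact npc_of_injective f hf h

/-- The hypothesis passes to subgroups containing a Sylow subgroup. -/
theorem hyp_of_sylow_le (hG : Hyp 𝒲 G) (M : Subgroup G) (P : Sylow p G)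
    (hPM : (P : Subgroup G) ≤ M) : Hyp 𝒲 ↥M := by
  intro R
  apply npc_normalizer_sub 𝒲 M R R.isPGroup'
  -- `R.map M.subtype` is a Sylow subgroup of `G`
  have hcard : Nat.card ((R : Subgroup ↥M).map M.subtype) =
      p ^ (Nat.card G).factorization p := by
    rw [Subgroup.card_map_of_injective M.subtype_injective, R.card_eq_multiplicity]
    congr 1
    have h1 : Nat.card (P : Subgroup G) ∣ Nat.card M := Subgroup.card_dvd_of_le hPM
    rw [P.card_eq_multiplicity] at h1
    have hM0 : Nat.card M ≠ 0 := Nat.card_pos.ne'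
    have hG0 : Nat.card G ≠ 0 := Nat.card_pos.ne'
    have h2 : (Nat.card G).factorization p ≤ (Nat.card M).factorization p :=
      (Nat.Prime.pow_dvd_iff_le_factorization Fact.out hM0).1 h1
    have h3 : (Nat.card M).factorization p ≤ (Nat.card G).factorization p := by
      have := (Nat.factorization_le_iff_dvd hM0 hG0).2 (Subgroup.card_subgroup_dvd_card M)
      exact this p
    exact le_antisymm h3 h2
  have := hG (Sylow.ofCard _ hcard)
  rwa [Sylow.coe_ofCard] at this

/-- Frattini-type: normalizers of `p`-subgroups modulo a normal `p'`-subgroup. -/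
theorem normalizer_map_mk (D : Subgroup G) [hDn : D.Normal] (hD : (Nat.card D).Coprime p)
    (W₀ : Subgroup G) (hW₀ : IsPGroup p W₀) :
    Subgroup.normalizer ((W₀.map (QuotientGroup.mk' D) : Subgroup (G ⧸ D)) : Set (G ⧸ D)) =
      (Subgroup.normalizer (W₀ : Set G)).map (QuotientGroup.mk' D) := by
  apply le_antisymm
  · intro y hy
    obtain ⟨x, rfl⟩ := QuotientGroup.mk'_surjective D y
    have hA₂ : MulAut.conj x • W₀ ≤ D ⊔ W₀ := by
      intro z hz
      rw [Cfsg.Agent.Lib.Lead_SZ.mem_conj_smul] at hz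
      -- z = x (x⁻¹ z x) x⁻¹
      have h1 : QuotientGroup.mk' D z ∈ W₀.map (QuotientGroup.mk' D) := by
        have h2 := (Subgroup.mem_normalizer_iff.1 hy (QuotientGroup.mk' D (x⁻¹ * z * x))).1
          ⟨_, hz, rfl⟩
        have e : QuotientGroup.mk' D x * QuotientGroup.mk' D (x⁻¹ * z * x) *
            (QuotientGroup.mk' D x)⁻¹ = QuotientGroup.mk' D z := by
          rw [← map_inv, ← map_mul, ← map_mul]
          congr 1
          group
        rwa [e] at h2
      have h3 : z ∈ (W₀.map (QuotientGroup.mk' D)).comap (QuotientGroup.mk' D) := h1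
      rw [Subgroup.comap_map_eq, QuotientGroup.ker_mk', sup_comm] at h3
      exact h3
    obtain ⟨k, hk⟩ := IsPGroup.iff_card.1 hW₀
    have hcop : (Nat.card W₀).Coprime (Nat.card D) := by
      rw [hk]; exact (hD.pow_right k).symm
    haveI : Group.IsNilpotent ↥W₀ := hW₀.isNilpotent
    have hsolv : Group.IsSolvable ↥W₀ := inferInstance
    have hAD : W₀ ≤ Subgroup.normalizer (D : Set G) := by
      rw [Subgroup.normalizer_eq_top]; exact le_top
    obtain ⟨d, hd, hdW⟩ := Cfsg.Agent.Lib.Lead_Coprime.exists_conj_of_le_sup D W₀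
      (MulAut.conj x • W₀) hAD hcop (Or.inl hsolv) hA₂
      (Cfsg.Agent.Lib.Lead_SZ.card_conj_smul x W₀)
    have hn : d⁻¹ * x ∈ Subgroup.normalizer (W₀ : Set G) := by
      rw [Cfsg.Agent.Lib.Lead_SZ.conj_smul_le_normalizer,
        ← Cfsg.Agent.Lib.Lead_SZ.conj_smul_smul, ← hdW,
        Cfsg.Agent.Lib.Lead_SZ.conj_smul_smul, inv_mul_cancel, map_one, one_smul]
    refine ⟨d⁻¹ * x, hn, ?_⟩
    rw [map_mul, map_inv]
    have e : QuotientGroup.mk' D d = 1 := (QuotientGroup.eq_one_iff d).2 hd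
    rw [e, inv_one, one_mul]
  · exact Subgroup.le_normalizer_map _

theorem hyp_quotient (D : Subgroup G) [hDn : D.Normal] (hD : (Nat.card D).Coprime p)
    (hG : Hyp 𝒲 G) : Hyp 𝒲 (G ⧸ D) := by
  intro Pb
  have hπs : Function.Surjective (QuotientGroup.mk' D) := QuotientGroup.mk'_surjective D
  obtain ⟨P', hP'⟩ := Sylow.mapSurjective_surjective hπs p Pb
  have hcoe : (Pb : Subgroup (G ⧸ D)) = (P' : Subgroup G).map (QuotientGroup.mk' D) := by
    rw [← hP', Sylow.coe_mapSurjective]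
  have hinj : Set.InjOn (QuotientGroup.mk' D) ((P' : Subgroup G) : Set G) := by
    intro x hx y hy hxy
    have h1 : x⁻¹ * y ∈ D := by
      rw [← QuotientGroup.eq_one_iff, ← QuotientGroup.mk'_apply, map_mul, map_inv, hxy,
        inv_mul_cancel]
    have h2 : x⁻¹ * y ∈ (P' : Subgroup G) := Subgroup.mul_mem _ (Subgroup.inv_mem _ hx) hy
    obtain ⟨k, hk⟩ := IsPGroup.iff_card.1 P'.isPGroup'
    have hcop : (Nat.card (P' : Subgroup G)).Coprime (Nat.card D) := by
      rw [hk]; exact (hD.pow_right k).symm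
    have h3 : x⁻¹ * y ∈ (P' : Subgroup G) ⊓ D := ⟨h2, h1⟩
    rw [(Subgroup.disjoint_of_coprime_natCard hcop).eq_bot, Subgroup.mem_bot] at h3
    exact inv_mul_eq_one.1 h3
  rw [hcoe, 𝒲.map G (G ⧸ D) (QuotientGroup.mk' D) P' P'.isPGroup' hinj]
  set W₀ := 𝒲.W G (P' : Subgroup G) with hW₀
  have hW₀p : IsPGroup p W₀ := P'.isPGroup'.to_le (𝒲.le G _)
  have hnorm := normalizer_map_mk D hD W₀ hW₀p
  have h0 := hG P'
  set N₁ := Subgroup.normalizer (W₀ : Set G) with hN₁
  set N₂ := Subgroup.normalizer ((W₀.map (QuotientGroup.mk' D) : Subgroup (G ⧸ D)) : Set (G ⧸ D))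
    with hN₂
  have hmem : ∀ x : ↥N₁, QuotientGroup.mk' D (x : G) ∈ N₂ := by
    intro x
    rw [hnorm]
    exact ⟨x.1, x.2, rfl⟩
  let f : ↥N₁ →* ↥N₂ := ((QuotientGroup.mk' D).comp N₁.subtype).codRestrict N₂ hmem
  have hf : Function.Surjective f := by
    rintro ⟨y, hy⟩
    rw [hnorm] at hy
    obtain ⟨x, hx, rfl⟩ := hy
    exact ⟨⟨x, hx⟩, rfl⟩
  exact npc_of_surjective f hf h0

end

end Cfsg.Agent.Lib.Lead_GT2
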