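import Mathlib
import Cfsg.Agent.S0650
import Cfsg.Agent.Lib.Lead_SZ
import Cfsg.Agent.Lib.Lead_Coprime

/-! Consequences of Glauberman's replacement theorem. -/

namespace Cfsg.Agent.Lib.Lead_Replacement

open Cfsg.Agent.Lib.Lead_Coprime

theorem exists_mem_normalizer_not_mem {G : Type*} [Group G] [Finite G] {p : ℕ} [Fact p.Prime]
    {H M : Subgroup G} (hM : IsPGroup p M) (hlt : H < M) :
    ∃ y ∈ M, y ∉ H ∧ y ∈ Subgroup.normalizer (H : Set G) := by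
  have hlt' : H.subgroupOf M < ⊤ := by
    rw [lt_top_iff_ne_top]
    intro htop
    apply not_le_of_gt hlt
    intro x hx
    have : (⟨x, hx⟩ : M) ∈ H.subgroupOf M := by rw [htop]; trivial
    exact Subgroup.mem_subgroupOf.mp this
  haveI hnil : Group.IsNilpotent M := IsPGroup.isNilpotent hM
  have hnc := normalizerCondition_of_isNilpotent (G := M) _ hlt'
  obtain ⟨y, hyN, hyH⟩ := SetLike.exists_of_lt hnc
  refine ⟨(y : G), y.2, fun h => hyH (Subgroup.mem_subgroupOf.mpr h), ?_⟩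
  apply mem_normalizer_of_conj_mem
  · intro v hv
    have := (Subgroup.mem_normalizer_iff.mp hyN ⟨v, hlt.le hv⟩).mp (Subgroup.mem_subgroupOf.mpr hv)
    exact Subgroup.mem_subgroupOf.mp this
  · intro v hv
    have hy' := Subgroup.inv_mem _ hyN
    have := (Subgroup.mem_normalizer_iff.mp hy' ⟨v, hlt.le hv⟩).mp (Subgroup.mem_subgroupOf.mpr hv)
    have h2 := Subgroup.mem_subgroupOf.mp this
    simpa using h2

/-- The replacement property for a family of abelian subgroups of a normal subgroup `D`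
closed under replacing a member by an abelian subgroup of `D` of the same order and no
larger exponent. -/
theorem replacement_family {S : Type*} [Group S] [Finite S] {p : ℕ} [Fact p.Prime]
    (hS : IsPGroup p S) (hp : p ≠ 2) (D : Subgroup S) [D.Normal] (F : Set (Subgroup S))
    (h1 : ∀ A ∈ F, IsMulCommutative A ∧ A ≤ D)
    (h2 : ∀ A ∈ F, ∀ A' : Subgroup S, A' ≤ D → IsMulCommutative A' → Nat.card A' = Nat.card A →
      Monoid.exponent A' ∣ Monoid.exponent A → A' ∈ F)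
    (B : Subgroup S) [B.Normal] (hU : ∃ U ∈ F, ⁅B, B⁆ ≤ U ∧ ¬ B ≤ U) :
    ∃ A ∈ F, ⁅B, B⁆ ≤ A ∧ ¬ B ≤ A ∧ B ≤ Subgroup.normalizer (A : Set S) := by
  classical
  have hfin : {U : Subgroup S | U ∈ F ∧ ⁅B, B⁆ ≤ U ∧ ¬ B ≤ U}.Finite := Set.toFinite _
  obtain ⟨U, hUF, hU1, hU2⟩ := hU
  obtain ⟨A, ⟨hAF, hA1, hA2⟩, hmax⟩ := Set.exists_max_image _
    (fun U : Subgroup S => Nat.card (U ⊓ B : Subgroup S)) hfin ⟨U, hUF, hU1, hU2⟩
  refine ⟨A, hAF, hA1, hA2, ?_⟩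
  by_contra hnot
  obtain ⟨hAc, hAD⟩ := h1 A hAF
  -- find b
  have hlt : Subgroup.normalizer (A : Set S) < Subgroup.normalizer (A : Set S) ⊔ B := by
    refine lt_of_le_not_ge le_sup_left (fun h => hnot (le_sup_right.trans h))
  obtain ⟨y, hyM, hyN, hyNN⟩ := exists_mem_normalizer_not_mem (hS.to_subgroup _) hlt
  have hy' : y ∈ ((Subgroup.normalizer (A : Set S) ⊔ B : Subgroup S) : Set S) := hyM
  rw [Subgroup.mul_normal] at hy'
  obtain ⟨n, hn, b, hb, rfl⟩ := Set.mem_mul.1 hy'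
  have hbN : b ∈ Subgroup.normalizer ((Subgroup.normalizer (A : Set S)) : Set S) := by
    have h3 := Subgroup.mul_mem _ (Subgroup.inv_mem _ (Subgroup.le_normalizer hn)) hyNN
    rwa [inv_mul_cancel_left] at h3
  have hbA : b ∉ Subgroup.normalizer (A : Set S) := fun h => hyN (Subgroup.mul_mem _ hn h)
  obtain ⟨r1, r2, r3, r4, r5, -, -, -, -, r10⟩ :=
    Cfsg.Agent.S0650.result hS B (fun h => absurd h hp) A hAc hA1 hnot b hb hbN hbA
  have hle : (A ⊓ A.map (MulAut.conj (b⁻¹)).toMonoidHom) ⊔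
      Subgroup.closure {g : S | ∃ a ∈ A, g = a * b⁻¹ * a⁻¹ * b} ≤ D := by
    refine sup_le (inf_le_left.trans hAD) ?_
    rw [Subgroup.closure_le]
    rintro _ ⟨a, ha, rfl⟩
    have h3 := ‹D.Normal›.conj_mem _ (D.inv_mem (hAD ha)) b⁻¹
    rw [inv_inv] at h3
    have e : a * b⁻¹ * a⁻¹ * b = a * (b⁻¹ * a⁻¹ * b) := by group
    rw [e]
    exact D.mul_mem (hAD ha) h3
  have hmem := h2 A hAF _ hle r2 r1 (r10 hp)
  have h5 : ¬ B ≤ (A ⊓ A.map (MulAut.conj (b⁻¹)).toMonoidHom) ⊔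
      Subgroup.closure {g : S | ∃ a ∈ A, g = a * b⁻¹ * a⁻¹ * b} := by
    intro h
    exact absurd (inf_eq_right.2 h) (ne_of_lt r5)
  have h6 := hmax _ ⟨hmem, r3, h5⟩
  exact absurd (Cfsg.Agent.Lib.Lead_SZ.card_lt r4) (not_lt.2 h6)

/-- The replacement property for an abelian normal subgroup `B` (all primes), for a family of
abelian subgroups of `D` closed under replacing a member by an abelian subgroup of `D` of the
same order. -/
theorem replacement_family_abelian {S : Type*} [Group S] [Finite S] {p : ℕ} [Fact p.Prime]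
    (hS : IsPGroup p S) (D : Subgroup S) [D.Normal] (F : Set (Subgroup S))
    (h1 : ∀ A ∈ F, IsMulCommutative A ∧ A ≤ D)
    (h2 : ∀ A ∈ F, ∀ A' : Subgroup S, A' ≤ D → IsMulCommutative A' → Nat.card A' = Nat.card A →
      A' ∈ F)
    (B : Subgroup S) [B.Normal] (hBc : IsMulCommutative B) (hU : ∃ U ∈ F, ¬ B ≤ U) :
    ∃ A ∈ F, ¬ B ≤ A ∧ B ≤ Subgroup.normalizer (A : Set S) := by
  classical
  have hBB : ⁅B, B⁆ = ⊥ := by
    rw [Subgroup.commutator_eq_bot_iff_le_centralizer]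
    intro b hb
    rw [Subgroup.mem_centralizer_iff]
    intro c hc
    exact Subgroup.mul_comm_of_mem_isMulCommutative B hc hb
  have hfin : {U : Subgroup S | U ∈ F ∧ ¬ B ≤ U}.Finite := Set.toFinite _
  obtain ⟨U, hUF, hU2⟩ := hU
  obtain ⟨A, ⟨hAF, hA2⟩, hmax⟩ := Set.exists_max_image _
    (fun U : Subgroup S => Nat.card (U ⊓ B : Subgroup S)) hfin ⟨U, hUF, hU2⟩
  refine ⟨A, hAF, hA2, ?_⟩
  by_contra hnot
  obtain ⟨hAc, hAD⟩ := h1 A hAF
  have hlt : Subgroup.normalizer (A : Set S) < Subgroup.normalizer (A : Set S) ⊔ B := by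
    refine lt_of_le_not_ge le_sup_left (fun h => hnot (le_sup_right.trans h))
  obtain ⟨y, hyM, hyN, hyNN⟩ := exists_mem_normalizer_not_mem (hS.to_subgroup _) hlt
  have hy' : y ∈ ((Subgroup.normalizer (A : Set S) ⊔ B : Subgroup S) : Set S) := hyM
  rw [Subgroup.mul_normal] at hy'
  obtain ⟨n, hn, b, hb, rfl⟩ := Set.mem_mul.1 hy'
  have hbN : b ∈ Subgroup.normalizer ((Subgroup.normalizer (A : Set S)) : Set S) := by
    have h3 := Subgroup.mul_mem _ (Subgroup.inv_mem _ (Subgroup.le_normalizer hn)) hyNN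
    rwa [inv_mul_cancel_left] at h3
  have hbA : b ∉ Subgroup.normalizer (A : Set S) := fun h => hyN (Subgroup.mul_mem _ hn h)
  obtain ⟨r1, r2, -, r4, r5, -, -, -, -, -⟩ :=
    Cfsg.Agent.S0650.result hS B (fun _ => hBc) A hAc (hBB ▸ bot_le) hnot b hb hbN hbA
  have hle : (A ⊓ A.map (MulAut.conj (b⁻¹)).toMonoidHom) ⊔
      Subgroup.closure {g : S | ∃ a ∈ A, g = a * b⁻¹ * a⁻¹ * b} ≤ D := by
    refine sup_le (inf_le_left.trans hAD) ?_
    rw [Subgroup.closure_le]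
    rintro _ ⟨a, ha, rfl⟩
    have h3 := ‹D.Normal›.conj_mem _ (D.inv_mem (hAD ha)) b⁻¹
    rw [inv_inv] at h3
    have e : a * b⁻¹ * a⁻¹ * b = a * (b⁻¹ * a⁻¹ * b) := by group
    rw [e]
    exact D.mul_mem (hAD ha) h3
  have hmem := h2 A hAF _ hle r2 r1
  have h5 : ¬ B ≤ (A ⊓ A.map (MulAut.conj (b⁻¹)).toMonoidHom) ⊔
      Subgroup.closure {g : S | ∃ a ∈ A, g = a * b⁻¹ * a⁻¹ * b} := by
    intro h
    exact absurd (inf_eq_right.2 h) (ne_of_lt r5)
  have h6 := hmax _ ⟨hmem, h5⟩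
  exact absurd (Cfsg.Agent.Lib.Lead_SZ.card_lt r4) (not_lt.2 h6)

/-- A subgroup generated by a set whose commutators are central has class at most two. -/
theorem class_two_of_gens {G : Type*} [Group G] (T : Set G)
    (h : ∀ t ∈ T, ∀ t' ∈ T, ∀ u ∈ T, (t * t' * t⁻¹ * t'⁻¹) * u = u * (t * t' * t⁻¹ * t'⁻¹)) :
    ⁅⁅Subgroup.closure T, Subgroup.closure T⁆, Subgroup.closure T⁆ = ⊥ := by
  -- elements commuting with `T` commute with the closure
  have hcl : ∀ z : G, (∀ u ∈ T, z * u = u * z) → ∀ k ∈ Subgroup.closure T, z * k = k * z := by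
    intro z hz k hk
    induction hk using Subgroup.closure_induction with
    | mem x hx => exact hz x hx
    | one => simp
    | mul x y _ _ ihx ihy => rw [← mul_assoc, ihx, mul_assoc, ihy, mul_assoc]
    | inv x _ ih =>
      calc z * x⁻¹ = x⁻¹ * (x * z) * x⁻¹ := by group
        _ = x⁻¹ * (z * x) * x⁻¹ := by rw [ih]
        _ = _ := by group
  -- step 1
  have s1 : ∀ g ∈ Subgroup.closure T, ∀ t ∈ T, ∀ k ∈ Subgroup.closure T,
      (g * t * g⁻¹ * t⁻¹) * k = k * (g * t * g⁻¹ * t⁻¹) := by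
    intro g hg t ht
    induction hg using Subgroup.closure_induction with
    | mem x hx => exact hcl _ (h x hx t ht)
    | one => intro k _; simp
    | mul x y hx _ ihx ihy =>
      intro k hk
      have e : x * y * t * (x * y)⁻¹ * t⁻¹ = x * (y * t * y⁻¹ * t⁻¹) * x⁻¹ * (x * t * x⁻¹ * t⁻¹) := by
        group
      have e2 : x * (y * t * y⁻¹ * t⁻¹) * x⁻¹ = y * t * y⁻¹ * t⁻¹ := by
        rw [← ihy x hx]; group
      rw [e, e2, mul_assoc, ihx k hk, ← mul_assoc, ihy k hk, mul_assoc]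
    | inv x hx ih =>
      intro k hk
      have e : x⁻¹ * t * x⁻¹⁻¹ * t⁻¹ = x⁻¹ * (x * t * x⁻¹ * t⁻¹)⁻¹ * x := by group
      have e2 : x⁻¹ * (x * t * x⁻¹ * t⁻¹)⁻¹ * x = (x * t * x⁻¹ * t⁻¹)⁻¹ := by
        have := ih x hx
        calc x⁻¹ * (x * t * x⁻¹ * t⁻¹)⁻¹ * x
            = (x * t * x⁻¹ * t⁻¹)⁻¹ * ((x * t * x⁻¹ * t⁻¹) * x⁻¹) * (x * t * x⁻¹ * t⁻¹)⁻¹ * x := by
              group
          _ = (x * t * x⁻¹ * t⁻¹)⁻¹ * (x⁻¹ * (x * t * x⁻¹ * t⁻¹)) * (x * t * x⁻¹ * t⁻¹)⁻¹ * x := by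
              rw [ih x⁻¹ (Subgroup.inv_mem _ hx)]
          _ = _ := by group
      rw [e, e2]
      have := ih k hk
      calc (x * t * x⁻¹ * t⁻¹)⁻¹ * k
          = (x * t * x⁻¹ * t⁻¹)⁻¹ * (k * (x * t * x⁻¹ * t⁻¹)) * (x * t * x⁻¹ * t⁻¹)⁻¹ := by group
        _ = (x * t * x⁻¹ * t⁻¹)⁻¹ * ((x * t * x⁻¹ * t⁻¹) * k) * (x * t * x⁻¹ * t⁻¹)⁻¹ := by
            rw [this]
        _ = _ := by group
  -- step 2
  have s2 : ∀ g ∈ Subgroup.closure T, ∀ hh ∈ Subgroup.closure T, ∀ k ∈ Subgroup.closure T,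
      (g * hh * g⁻¹ * hh⁻¹) * k = k * (g * hh * g⁻¹ * hh⁻¹) := by
    intro g hg hh hhh
    induction hhh using Subgroup.closure_induction with
    | mem x hx => exact s1 g hg x hx
    | one => intro k _; simp
    | mul x y hx _ ihx ihy =>
      intro k hk
      have e : g * (x * y) * g⁻¹ * (x * y)⁻¹ =
          (g * x * g⁻¹ * x⁻¹) * (x * (g * y * g⁻¹ * y⁻¹) * x⁻¹) := by group
      have e2 : x * (g * y * g⁻¹ * y⁻¹) * x⁻¹ = g * y * g⁻¹ * y⁻¹ := by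
        rw [← ihy x hx]; group
      rw [e, e2, mul_assoc, ihy k hk, ← mul_assoc, ihx k hk, mul_assoc]
    | inv x hx ih =>
      intro k hk
      have e : g * x⁻¹ * g⁻¹ * x⁻¹⁻¹ = x⁻¹ * (g * x * g⁻¹ * x⁻¹)⁻¹ * x := by group
      have e2 : x⁻¹ * (g * x * g⁻¹ * x⁻¹)⁻¹ * x = (g * x * g⁻¹ * x⁻¹)⁻¹ := by
        calc x⁻¹ * (g * x * g⁻¹ * x⁻¹)⁻¹ * x
            = (g * x * g⁻¹ * x⁻¹)⁻¹ * ((g * x * g⁻¹ * x⁻¹) * x⁻¹) * (g * x * g⁻¹ * x⁻¹)⁻¹ * x := by
              group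
          _ = (g * x * g⁻¹ * x⁻¹)⁻¹ * (x⁻¹ * (g * x * g⁻¹ * x⁻¹)) * (g * x * g⁻¹ * x⁻¹)⁻¹ * x := by
              rw [ih x⁻¹ (Subgroup.inv_mem _ hx)]
          _ = _ := by group
      rw [e, e2]
      have := ih k hk
      calc (g * x * g⁻¹ * x⁻¹)⁻¹ * k
          = (g * x * g⁻¹ * x⁻¹)⁻¹ * (k * (g * x * g⁻¹ * x⁻¹)) * (g * x * g⁻¹ * x⁻¹)⁻¹ := by group
        _ = (g * x * g⁻¹ * x⁻¹)⁻¹ * ((g * x * g⁻¹ * x⁻¹) * k) * (g * x * g⁻¹ * x⁻¹)⁻¹ := by
            rw [this]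
        _ = _ := by group
  rw [Subgroup.commutator_eq_bot_iff_le_centralizer]
  rw [Subgroup.commutator_le]
  intro g hg hh hhh
  rw [commutatorElement_def, Subgroup.mem_centralizer_iff]
  intro k hk
  exact (s2 g hg hh hhh k hk).symm

end Cfsg.Agent.Lib.Lead_Replacement
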