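import Mathlib
import Cfsg.Prelude.Def_PLocal
import Cfsg.Agent.Lib.Lead_GT2
import Cfsg.Agent.Lib.Lead_Replacement
import Cfsg.Agent.S0072

/-!
# Generic Glauberman–Thompson reduction: steps 1 and 2 (the maximal bad `p`-subgroup is normal)
-/

namespace Cfsg.Agent.Lib.Lead_GT3

open Cfsg.Agent.Lib.Helper7_NPC Cfsg.Agent.Lib.Helper4_PCore Cfsg.Agent.Lib.Lead_GT1
  Cfsg.Agent.Lib.Lead_GT2
open scoped Pointwise

universe u

variable {p : ℕ} [Fact p.Prime] (𝒲 : WFun.{u} p)

section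
variable {G : Type u} [Group G] [Finite G]

/-- the exponent of `p` in the order of the normalizer -/
noncomputable def ee (p : ℕ) (Q : Subgroup G) : ℕ :=
  (Nat.card (Subgroup.normalizer (Q : Set G))).factorization p

omit [Fact p.Prime] in
theorem ee_le (Q : Subgroup G) : ee p Q ≤ (Nat.card G).factorization p := by
  have hM0 : Nat.card (Subgroup.normalizer (Q : Set G)) ≠ 0 := Nat.card_pos.ne'
  have hG0 : Nat.card G ≠ 0 := Nat.card_pos.ne'
  have := (Nat.factorization_le_iff_dvd hM0 hG0).2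
    (Subgroup.card_subgroup_dvd_card (Subgroup.normalizer (Q : Set G)))
  exact this p

/-- a `p`-subgroup of the normalizer bounds `ee` from below -/
theorem le_ee (Q T : Subgroup G) (hT : T ≤ Subgroup.normalizer (Q : Set G)) (k : ℕ)
    (hk : Nat.card T = p ^ k) : k ≤ ee p Q := by
  have h1 : Nat.card T ∣ Nat.card (Subgroup.normalizer (Q : Set G)) := Subgroup.card_dvd_of_le hT
  rw [hk] at h1
  exact (Nat.Prime.pow_dvd_iff_le_factorization Fact.out Nat.card_pos.ne').1 h1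

theorem exists_bad (hno : ¬ NPC p G) :
    ∃ H : Subgroup G, IsPGroup p H ∧ H ≠ ⊥ ∧
      ¬ NPC p ↥(Subgroup.normalizer (H : Set G)) ∧
      (∀ Q : Subgroup G, IsPGroup p Q → Q ≠ ⊥ → ee p H < ee p Q →
        NPC p ↥(Subgroup.normalizer (Q : Set G))) ∧
      (∀ Q : Subgroup G, IsPGroup p Q → Q ≠ ⊥ → ee p H ≤ ee p Q → Nat.card H < Nat.card Q →
        NPC p ↥(Subgroup.normalizer (Q : Set G))) := by
  have h1 : ¬ ∀ Q : Subgroup G, IsPGroup p Q → Q ≠ ⊥ →
      Cfsg.HasNormalPComplement p (Subgroup.normalizer (Q : Set G)) := by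
    intro h
    exact hno (hasNormalPComplement_iff_npc.1 ((Cfsg.Agent.S0072.result p).2 h))
  push Not at h1
  obtain ⟨Q₀, hQ₀p, hQ₀ne, hQ₀⟩ := h1
  rw [hasNormalPComplement_iff_npc] at hQ₀
  set ℬ : Set (Subgroup G) :=
    {Q | IsPGroup p Q ∧ Q ≠ ⊥ ∧ ¬ NPC p ↥(Subgroup.normalizer (Q : Set G))} with hℬ
  obtain ⟨H, hHℬ, hmax⟩ := Set.exists_max_image ℬ
    (fun Q => ee p Q * (Nat.card G + 1) + Nat.card Q) (Set.toFinite _) ⟨Q₀, hQ₀p, hQ₀ne, hQ₀⟩
  obtain ⟨hHp, hHne, hHbad⟩ := hHℬ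
  have hcardle : ∀ Q : Subgroup G, Nat.card Q ≤ Nat.card G := fun Q =>
    Nat.le_of_dvd Nat.card_pos (Subgroup.card_subgroup_dvd_card Q)
  refine ⟨H, hHp, hHne, hHbad, ?_, ?_⟩
  · intro Q hQp hQne hlt
    by_contra hbad
    have h2 := hmax Q ⟨hQp, hQne, hbad⟩
    have h3 := hcardle H
    have h4 : (ee p H + 1) * (Nat.card G + 1) ≤ ee p Q * (Nat.card G + 1) :=
      Nat.mul_le_mul_right _ hlt
    nlinarith
  · intro Q hQp hQne hle hlt
    by_contra hbad
    have h2 := hmax Q ⟨hQp, hQne, hbad⟩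
    have h4 : ee p H * (Nat.card G + 1) ≤ ee p Q * (Nat.card G + 1) :=
      Nat.mul_le_mul_right _ hle
    omega

set_option maxHeartbeats 1000000 in
/-- Step 2: the maximal bad subgroup is normal. -/
theorem normalizer_eq_top
    (IH : ∀ (X : Type u) [Group X] [Finite X], Nat.card X < Nat.card G → Hyp 𝒲 X → NPC p X)
    (hG : Hyp 𝒲 G) (H : Subgroup G) (hHp : IsPGroup p H) (hHne : H ≠ ⊥)
    (hHbad : ¬ NPC p ↥(Subgroup.normalizer (H : Set G)))
    (hM1 : ∀ Q : Subgroup G, IsPGroup p Q → Q ≠ ⊥ → ee p H < ee p Q →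
        NPC p ↥(Subgroup.normalizer (Q : Set G))) :
    Subgroup.normalizer (H : Set G) = ⊤ := by
  have hpp : p.Prime := Fact.out
  by_contra hne
  set N := Subgroup.normalizer (H : Set G) with hN
  have hlt : Nat.card N < Nat.card G := by
    have := Cfsg.Agent.Lib.Lead_SZ.card_lt (lt_top_iff_ne_top.2 hne)
    rwa [Subgroup.card_top] at this
  apply hHbad
  apply IH ↥N hlt
  intro R
  apply npc_normalizer_sub 𝒲 N R R.isPGroup'
  set R' := (R : Subgroup ↥N).map N.subtype with hR'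
  have hR'p : IsPGroup p R' := R.isPGroup'.map _
  have hHR' : H ≤ R' := by
    intro h hh
    have hhN : h ∈ N := Subgroup.le_normalizer hh
    have hHNn : (H.subgroupOf N).Normal := Subgroup.normal_in_normalizer
    have h1 : H.subgroupOf N ≤ (R : Subgroup ↥N) :=
      normal_pGroup_le_sylow (H.subgroupOf N) hHNn (hHp.comap_subtype) R
    exact ⟨⟨h, hhN⟩, h1 (Subgroup.mem_subgroupOf.2 hh), rfl⟩
  have hR'ne : R' ≠ ⊥ := by
    intro h0
    apply hHne
    rw [eq_bot_iff, ← h0]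
    exact hHR'
  set W' := 𝒲.W G R' with hW'
  have hW'p : IsPGroup p W' := hR'p.to_le (𝒲.le G R')
  have hW'ne : W' ≠ ⊥ := 𝒲.ne_bot G R' hR'p hR'ne
  by_contra hbad
  have hle : ee p W' ≤ ee p H := by
    by_contra hlt'
    push Not at hlt'
    exact hbad (hM1 W' hW'p hW'ne hlt')
  obtain ⟨P', hRP'⟩ := hR'p.exists_le_sylow
  by_cases hEq : R' = P'
  · apply hbad
    have := hG P'
    rwa [← hEq] at this
  · have hlt2 : R' < (P' : Subgroup G) := lt_of_le_of_ne hRP' hEq
    obtain ⟨y, hyP, hyR, hyN⟩ :=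
      Cfsg.Agent.Lib.Lead_Replacement.exists_mem_normalizer_not_mem P'.isPGroup' hlt2
    set T := R' ⊔ Subgroup.zpowers y with hT
    have hTP : T ≤ (P' : Subgroup G) := sup_le hRP' (Subgroup.zpowers_le.2 hyP)
    have hTp : IsPGroup p T := P'.isPGroup'.to_le hTP
    have hTN : T ≤ Subgroup.normalizer (R' : Set G) :=
      sup_le Subgroup.le_normalizer (Subgroup.zpowers_le.2 hyN)
    have hRT : R' < T := by
      refine lt_of_le_of_ne le_sup_left ?_
      intro h0
      apply hyR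
      rw [h0]
      exact (le_sup_right : Subgroup.zpowers y ≤ T) (Subgroup.mem_zpowers y)
    have hcardR : Nat.card R' = p ^ ee p H := by
      rw [hR', Subgroup.card_map_of_injective N.subtype_injective, R.card_eq_multiplicity]
      rfl
    obtain ⟨k, hk⟩ := IsPGroup.iff_card.1 hTp
    have hklt : ee p H < k := by
      have := Cfsg.Agent.Lib.Lead_SZ.card_lt hRT
      rw [hcardR, hk] at this
      exact (Nat.pow_lt_pow_iff_right hpp.one_lt).1 this
    have h5 : k ≤ ee p W' := le_ee W' T (hTN.trans (W_char 𝒲 R' hR'p)) k hk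
    omega

end

end Cfsg.Agent.Lib.Lead_GT3
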