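import Mathlib
import Cfsg.Prelude.Def_PLocal
import Cfsg.Agent.Lib.Lead_GT3

/-!
# Generic Glauberman–Thompson reduction: step 3 (`H = O_p(G)` and `G/H` has a normal
`p`-complement)
-/

namespace Cfsg.Agent.Lib.Lead_GT4

open Cfsg.Agent.Lib.Helper7_NPC Cfsg.Agent.Lib.Helper4_PCore Cfsg.Agent.Lib.Lead_GT1
  Cfsg.Agent.Lib.Lead_GT2 Cfsg.Agent.Lib.Lead_GT3
open scoped Pointwise

universe u

variable {p : ℕ} [Fact p.Prime] (𝒲 : WFun.{u} p)

section
variable {G : Type u} [Group G] [Finite G]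

omit [Fact p.Prime] in
theorem ee_of_normal (Q : Subgroup G) (h : Subgroup.normalizer (Q : Set G) = ⊤) :
    ee p Q = (Nat.card G).factorization p := by
  unfold ee
  rw [h, Subgroup.card_top]

theorem eq_pCore (hno : ¬ NPC p G) (H : Subgroup G) (hHp : IsPGroup p H) (hHne : H ≠ ⊥)
    (hHn : Subgroup.normalizer (H : Set G) = ⊤)
    (hM2 : ∀ Q : Subgroup G, IsPGroup p Q → Q ≠ ⊥ → ee p H ≤ ee p Q → Nat.card H < Nat.card Q →
        NPC p ↥(Subgroup.normalizer (Q : Set G))) :
    H = Cfsg.pCore p G := by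
  have hHnorm : H.Normal := Subgroup.normalizer_eq_top_iff.1 hHn
  set O := Cfsg.pCore p G with hO
  haveI hOn : O.Normal := pCore_normal p G
  have hOp : IsPGroup p O := pCore_isPGroup
  have hHO : H ≤ O := le_pCore H hHnorm hHp
  have hOne : O ≠ ⊥ := by
    intro h0
    apply hHne
    rw [eq_bot_iff, ← h0]; exact hHO
  have hOtop : Subgroup.normalizer (O : Set G) = ⊤ := Subgroup.normalizer_eq_top_iff.2 hOn
  apply Cfsg.Agent.Lib.Lead_SZ.eq_of_le_of_card_eq hHO
  apply le_antisymm (Subgroup.card_le_of_le hHO)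
  by_contra hlt
  push Not at hlt
  apply hno
  apply npc_of_eq_top hOtop
  apply hM2 O hOp hOne _ hlt
  rw [ee_of_normal H hHn, ee_of_normal O hOtop]

omit [Fact p.Prime] in
theorem relIndex_comap_mk (H : Subgroup G) [H.Normal] (X : Subgroup (G ⧸ H)) :
    H.relIndex (X.comap (QuotientGroup.mk' H)) = Nat.card X := by
  have h2 := Subgroup.relIndex_comap (H := (⊥ : Subgroup (G ⧸ H))) (QuotientGroup.mk' H)
    (X.comap (QuotientGroup.mk' H))
  rw [MonoidHom.comap_bot, QuotientGroup.ker_mk', Subgroup.relIndex_bot_left,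
    Subgroup.map_comap_eq_self_of_surjective (QuotientGroup.mk'_surjective H)] at h2
  exact h2

set_option maxHeartbeats 1000000 in
theorem npc_quot
    (IH : ∀ (X : Type u) [Group X] [Finite X], Nat.card X < Nat.card G → Hyp 𝒲 X → NPC p X)
    (H : Subgroup G) [hHnorm : H.Normal] (hHp : IsPGroup p H) (hHne : H ≠ ⊥)
    (hM2 : ∀ Q : Subgroup G, IsPGroup p Q → Q ≠ ⊥ → ee p H ≤ ee p Q → Nat.card H < Nat.card Q →
        NPC p ↥(Subgroup.normalizer (Q : Set G))) :
    NPC p (G ⧸ H) := by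
  have hpp : p.Prime := Fact.out
  have hπs : Function.Surjective (QuotientGroup.mk' H) := QuotientGroup.mk'_surjective H
  have hH1 : 1 < Nat.card H := (Subgroup.one_lt_card_iff_ne_bot _).2 hHne
  have hlt : Nat.card (G ⧸ H) < Nat.card G := by
    rw [Subgroup.card_eq_card_quotient_mul_card_subgroup H]
    have : 0 < Nat.card (G ⧸ H) := Nat.card_pos
    nlinarith
  apply IH (G ⧸ H) hlt
  intro Pb
  obtain ⟨P', hP'⟩ := Sylow.mapSurjective_surjective hπs p Pb
  have hcoe : (Pb : Subgroup (G ⧸ H)) = (P' : Subgroup G).map (QuotientGroup.mk' H) := by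
    rw [← hP', Sylow.coe_mapSurjective]
  by_cases hb : (Pb : Subgroup (G ⧸ H)) = ⊥
  · apply npc_of_coprime
    have h1 : ¬ p ∣ (Pb : Subgroup (G ⧸ H)).index := Pb.not_dvd_index
    rw [hb, Subgroup.index_bot] at h1
    have h2 : (Nat.card (G ⧸ H)).Coprime p := ((Nat.Prime.coprime_iff_not_dvd hpp).2 h1).symm
    exact Nat.Coprime.coprime_dvd_left (Subgroup.card_subgroup_dvd_card _) h2
  · set WPb := 𝒲.W (G ⧸ H) (Pb : Subgroup (G ⧸ H)) with hWPb
    have hWPbne : WPb ≠ ⊥ := 𝒲.ne_bot (G ⧸ H) _ Pb.isPGroup' hb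
    have hWPbp : IsPGroup p WPb := Pb.isPGroup'.to_le (𝒲.le _ _)
    set L := WPb.comap (QuotientGroup.mk' H) with hL
    have hLp : IsPGroup p L := by
      apply hWPbp.comap_of_ker_isPGroup
      rw [QuotientGroup.ker_mk']
      exact hHp
    have hHL : H ≤ L := by
      intro h hh
      rw [hL, Subgroup.mem_comap]
      have : QuotientGroup.mk' H h = 1 := (QuotientGroup.eq_one_iff h).2 hh
      rw [this]; exact Subgroup.one_mem _
    have hLne : L ≠ ⊥ := by
      intro h0
      apply hHne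
      rw [eq_bot_iff, ← h0]; exact hHL
    have hcardL : Nat.card H < Nat.card L := by
      rw [hL, Cfsg.Agent.Lib.Lead_Hall.card_comap_mk]
      have : 1 < Nat.card WPb := (Subgroup.one_lt_card_iff_ne_bot _).2 hWPbne
      nlinarith
    have hP'N : (P' : Subgroup G) ≤ Subgroup.normalizer (L : Set G) := by
      intro x hx
      have h1 : QuotientGroup.mk' H x ∈ (Pb : Subgroup (G ⧸ H)) := by
        rw [hcoe]; exact ⟨x, hx, rfl⟩
      have h2 : QuotientGroup.mk' H x ∈ Subgroup.normalizer (WPb : Set (G ⧸ H)) :=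
        W_char 𝒲 _ Pb.isPGroup' (Subgroup.le_normalizer h1)
      exact Subgroup.le_normalizer_comap (QuotientGroup.mk' H) h2
    have hee : ee p H ≤ ee p L := by
      refine le_trans (ee_le H) ?_
      exact le_ee L P' hP'N _ P'.card_eq_multiplicity
    have h3 := hM2 L hLp hLne hee hcardL
    have hnorm : Subgroup.normalizer (L : Set G) =
        (Subgroup.normalizer (WPb : Set (G ⧸ H))).comap (QuotientGroup.mk' H) :=
      (Subgroup.comap_normalizer_eq_of_surjective WPb hπs).symm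
    set N₁ := Subgroup.normalizer (L : Set G) with hN₁
    set N₂ := Subgroup.normalizer (WPb : Set (G ⧸ H)) with hN₂
    have hmem : ∀ x : ↥N₁, QuotientGroup.mk' H (x : G) ∈ N₂ := by
      rintro ⟨x, hx⟩
      rw [hnorm] at hx
      exact hx
    let f : ↥N₁ →* ↥N₂ := ((QuotientGroup.mk' H).comp N₁.subtype).codRestrict N₂ hmem
    have hf : Function.Surjective f := by
      rintro ⟨y, hy⟩
      obtain ⟨x, rfl⟩ := hπs y
      have hx : x ∈ N₁ := by rw [hnorm]; exact hy
      exact ⟨⟨x, hx⟩, rfl⟩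
    exact npc_of_surjective f hf h3

/-- The normal subgroup `K` with `K/H` a `p'`-group and `G/K` a `p`-group. -/
theorem exists_K (H : Subgroup G) [hHnorm : H.Normal] (h : NPC p (G ⧸ H)) :
    ∃ K : Subgroup G, K.Normal ∧ H ≤ K ∧ (H.relIndex K).Coprime p ∧ ∃ k, K.index = p ^ k := by
  obtain ⟨Nb, hNn, hNc, k, hk⟩ := h
  refine ⟨Nb.comap (QuotientGroup.mk' H), hNn.comap _, ?_, ?_, k, ?_⟩
  · intro h hh
    rw [Subgroup.mem_comap]
    have : QuotientGroup.mk' H h = 1 := (QuotientGroup.eq_one_iff h).2 hh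
    rw [this]; exact Subgroup.one_mem _
  · rw [relIndex_comap_mk]; exact hNc
  · rw [Subgroup.index_comap_of_surjective _ (QuotientGroup.mk'_surjective H)]
    exact hk

end

end Cfsg.Agent.Lib.Lead_GT4
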