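import Mathlib

/-!
# Quadratic action and commutative coprime subrings (ring-theoretic core of
  the p-stability of groups with abelian p'-sections)
-/

namespace Cfsg.Agent.Lib.Lead_QuadRing

section
variable {R : Type*} [Ring R]

theorem closure_comm {s : Set R} (hs : ∀ x ∈ s, ∀ y ∈ s, x * y = y * x) {x y : R}
    (hx : x ∈ Subring.closure s) (hy : y ∈ Subring.closure s) : x * y = y * x := by
  letI := Subring.closureCommRingOfComm hs
  exact congrArg Subtype.val (mul_comm (⟨x, hx⟩ : Subring.closure s) ⟨y, hy⟩)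

theorem pow_fix {s : Set R} (hs : ∀ x ∈ s, ∀ y ∈ s, x * y = y * x) (p : ℕ) [Fact p.Prime]
    [CharP R p] (hp2 : p ≠ 2) (N : ℕ) (hN : ∀ x ∈ s, x ^ (p ^ N) = x) :
    ∀ x ∈ Subring.closure s, x ^ (p ^ N) = x := by
  intro x hx
  have hodd : Odd (p ^ N) := Odd.pow ((Fact.out : p.Prime).odd_of_ne_two hp2)
  induction hx using Subring.closure_induction with
  | mem x hx => exact hN x hx
  | zero => exact zero_pow (pow_ne_zero _ (Fact.out : p.Prime).ne_zero)
  | one => exact one_pow _
  | add x y hx hy ihx ihy =>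
    rw [add_pow_char_pow_of_commute p N (closure_comm hs hx hy), ihx, ihy]
  | neg x hx ihx => rw [Odd.neg_pow hodd, ihx]
  | mul x y hx hy ihx ihy =>
    have hc : Commute x y := closure_comm hs hx hy
    rw [hc.mul_pow, ihx, ihy]

theorem reduced_of_pow_fix {s : Set R} (hs : ∀ x ∈ s, ∀ y ∈ s, x * y = y * x) (p : ℕ)
    [Fact p.Prime] [CharP R p] (hp2 : p ≠ 2) (N : ℕ) (hN1 : 1 ≤ N)
    (hN : ∀ x ∈ s, x ^ (p ^ N) = x) :
    ∀ x ∈ Subring.closure s, x * x = 0 → x = 0 := by
  intro x hx h0
  have h1 := pow_fix hs p hp2 N hN x hx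
  have h2 : 2 ≤ p ^ N := by
    calc 2 ≤ p := (Fact.out : p.Prime).two_le
      _ = p ^ 1 := (pow_one p).symm
      _ ≤ p ^ N := Nat.pow_le_pow_right (Fact.out : p.Prime).pos hN1
  obtain ⟨k, hk⟩ := Nat.exists_eq_add_of_le h2
  rw [← h1, hk, pow_add, pow_two, h0, zero_mul]

end

theorem quad_comm {R : Type*} [Ring R] {𝒢 : Type*} [Group 𝒢] (ρ : 𝒢 →* R) (p : ℕ)
    [Fact p.Prime] (hp2 : p ≠ 2) (hchar : (p : R) = 0)
    (Q : Subgroup 𝒢) (hcomm : ∀ x ∈ Q, ∀ y ∈ Q, ρ x * ρ y = ρ y * ρ x)
    (m : ℕ) (hm : m.Coprime p) (hpow : ∀ x ∈ Q, ρ x ^ m = 1)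
    (a : 𝒢) (ha : ∀ x ∈ Q, a * x * a⁻¹ ∈ Q) (ha' : ∀ x ∈ Q, a⁻¹ * x * a ∈ Q)
    (hquad : (ρ a - 1) * (ρ a - 1) = 0) :
    ∀ x ∈ Q, ρ a * ρ x = ρ x * ρ a := by
  rcases subsingleton_or_nontrivial R with hsub | hnt
  · intro x _; exact Subsingleton.elim _ _
  have hpp : p.Prime := Fact.out
  have hCh : CharP R p := (CharP.charP_iff_prime_eq_zero hpp).2 hchar
  set s : Set R := ρ '' (Q : Set 𝒢) with hs_def
  have hs : ∀ x ∈ s, ∀ y ∈ s, x * y = y * x := by
    rintro _ ⟨x, hx, rfl⟩ _ ⟨y, hy, rfl⟩
    exact hcomm x hx y hy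
  -- the exponent
  have hm0 : 0 < m := by
    rcases Nat.eq_zero_or_pos m with h | h
    · subst h
      rw [Nat.coprime_zero_left] at hm
      exact absurd hm hpp.one_lt.ne'
    · exact h
  set N : ℕ := Nat.totient m with hN_def
  have hN1 : 1 ≤ N := Nat.totient_pos.2 hm0
  have hmod : p ^ N ≡ 1 [MOD m] := Nat.ModEq.pow_totient hm.symm
  have hgen : ∀ x ∈ s, x ^ (p ^ N) = x := by
    rintro _ ⟨x, hx, rfl⟩
    have h1 : 1 ≤ p ^ N := Nat.one_le_pow _ _ hpp.pos
    have hdvd : m ∣ p ^ N - 1 := (Nat.modEq_iff_dvd' h1).1 hmod.symm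
    obtain ⟨k, hk⟩ := hdvd
    have : p ^ N = m * k + 1 := by omega
    rw [this, pow_succ, pow_mul, hpow x hx, one_pow, one_mul]
  have hred := reduced_of_pow_fix hs p hp2 N hN1 hgen
  -- notation
  set u : R := ρ a with hu
  set n : R := u - 1 with hn
  have hnn : n * n = 0 := hquad
  have hu1 : u = 1 + n := by rw [hn]; abel
  set u' : R := ρ a⁻¹ with hu'
  have huu' : u * u' = 1 := by rw [hu, hu', ← map_mul, mul_inv_cancel, map_one]
  have hu'u : u' * u = 1 := by rw [hu, hu', ← map_mul, inv_mul_cancel, map_one]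
  have hu'1 : u' = 1 - n := by
    have h1 : (1 - n) * u = 1 := by
      rw [hu1]
      have : (1 - n) * (1 + n) = 1 - n * n := by noncomm_ring
      rw [this, hnn, sub_zero]
    calc u' = ((1 - n) * u) * u' := by rw [h1, one_mul]
      _ = (1 - n) * (u * u') := by rw [mul_assoc]
      _ = 1 - n := by rw [huu', mul_one]
  -- invariance of the closure
  have hσ : ∀ l ∈ Subring.closure s, u * l * u' ∈ Subring.closure s := by
    intro l hl
    induction hl using Subring.closure_induction with
    | mem x hx =>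
      obtain ⟨y, hy, rfl⟩ := hx
      apply Subring.subset_closure
      refine ⟨a * y * a⁻¹, ha y hy, ?_⟩
      rw [map_mul, map_mul]
    | zero => simp
    | one => rw [mul_one, huu']; exact Subring.one_mem _
    | add x y _ _ ihx ihy =>
      have : u * (x + y) * u' = u * x * u' + u * y * u' := by noncomm_ring
      rw [this]; exact Subring.add_mem _ ihx ihy
    | neg x _ ihx =>
      have : u * (-x) * u' = -(u * x * u') := by noncomm_ring
      rw [this]; exact Subring.neg_mem _ ihx
    | mul x y _ _ ihx ihy =>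
      have : u * (x * y) * u' = (u * x * u') * (u * y * u') := by
        calc u * (x * y) * u' = u * x * 1 * y * u' := by noncomm_ring
          _ = u * x * (u' * u) * y * u' := by rw [hu'u]
          _ = (u * x * u') * (u * y * u') := by noncomm_ring
      rw [this]; exact Subring.mul_mem _ ihx ihy
  have hσ' : ∀ l ∈ Subring.closure s, u' * l * u ∈ Subring.closure s := by
    intro l hl
    induction hl using Subring.closure_induction with
    | mem x hx =>
      obtain ⟨y, hy, rfl⟩ := hx
      apply Subring.subset_closure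
      refine ⟨a⁻¹ * y * a, ha' y hy, ?_⟩
      rw [map_mul, map_mul]
    | zero => simp
    | one => rw [mul_one, hu'u]; exact Subring.one_mem _
    | add x y _ _ ihx ihy =>
      have : u' * (x + y) * u = u' * x * u + u' * y * u := by noncomm_ring
      rw [this]; exact Subring.add_mem _ ihx ihy
    | neg x _ ihx =>
      have : u' * (-x) * u = -(u' * x * u) := by noncomm_ring
      rw [this]; exact Subring.neg_mem _ ihx
    | mul x y _ _ ihx ihy =>
      have : u' * (x * y) * u = (u' * x * u) * (u' * y * u) := by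
        calc u' * (x * y) * u = u' * x * 1 * y * u := by noncomm_ring
          _ = u' * x * (u * u') * y * u := by rw [huu']
          _ = (u' * x * u) * (u' * y * u) := by noncomm_ring
      rw [this]; exact Subring.mul_mem _ ihx ihy
  -- the half
  set h : R := (((p + 1) / 2 : ℕ) : R) with hh
  have hhmem : h ∈ Subring.closure s := natCast_mem _ _
  have hh2 : h * 2 = 1 := by
    have hodd : Odd p := hpp.odd_of_ne_two hp2
    obtain ⟨k, hk⟩ := hodd
    have h1 : (p + 1) / 2 * 2 = p + 1 := by omega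
    have h2 : ((((p + 1) / 2 * 2 : ℕ)) : R) = ((p + 1 : ℕ) : R) := by rw [h1]
    rw [Nat.cast_mul, Nat.cast_add, hchar] at h2
    simpa using h2
  -- step B
  have hB : ∀ l ∈ Subring.closure s, n * l * n = 0 := by
    intro l hl
    have hmem : n * l * n ∈ Subring.closure s := by
      have e : n * l * n = h * (2 * l - u * l * u' - u' * l * u) := by
        rw [hu1, hu'1]
        have : (2 : R) * l - (1 + n) * l * (1 - n) - (1 - n) * l * (1 + n) = 2 * (n * l * n) := by
          noncomm_ring
        rw [this, ← mul_assoc, hh2, one_mul]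
      rw [e]
      refine Subring.mul_mem _ hhmem (Subring.sub_mem _ (Subring.sub_mem _ ?_ (hσ l hl)) (hσ' l hl))
      exact Subring.mul_mem _ (by exact_mod_cast natCast_mem (Subring.closure s) 2) hl
    apply hred _ hmem
    calc n * l * n * (n * l * n) = n * l * (n * n) * l * n := by noncomm_ring
      _ = 0 := by rw [hnn]; simp
  have hA : ∀ l ∈ Subring.closure s, n * l = l * n := by
    intro l hl
    have hmem : n * l - l * n ∈ Subring.closure s := by
      have e : n * l - l * n = h * (u * l * u' - u' * l * u) := by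
        rw [hu1, hu'1]
        have : (1 + n) * l * (1 - n) - (1 - n) * l * (1 + n) = 2 * (n * l - l * n) := by
          noncomm_ring
        rw [this, ← mul_assoc, hh2, one_mul]
      rw [e]
      exact Subring.mul_mem _ hhmem (Subring.sub_mem _ (hσ l hl) (hσ' l hl))
    have h0 : n * l - l * n = 0 := by
      apply hred _ hmem
      have h1 := hB l hl
      have h2 := hB (l * l) (Subring.mul_mem _ hl hl)
      calc (n * l - l * n) * (n * l - l * n)
          = (n * l * n) * l - n * (l * l) * n - l * (n * n) * l + l * (n * l * n) := by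
            noncomm_ring
        _ = 0 := by rw [h1, h2, hnn]; simp
    exact sub_eq_zero.1 h0
  intro x hx
  have hl : ρ x ∈ Subring.closure s := Subring.subset_closure ⟨x, hx, rfl⟩
  have := hA (ρ x) hl
  rw [hu1]
  calc (1 + n) * ρ x = ρ x + n * ρ x := by noncomm_ring
    _ = ρ x + ρ x * n := by rw [this]
    _ = ρ x * (1 + n) := by noncomm_ring

end Cfsg.Agent.Lib.Lead_QuadRing
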