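import Mathlib
import Cfsg.Agent.Lib.Lead_QuadRing

/-!
# Quadratic action on an elementary abelian group: group-action versions of the ring lemma
-/

namespace Cfsg.Agent.Lib.Lead_QuadAct

open Cfsg.Agent.Lib.Lead_QuadRing

/-- Linearisation of automorphisms of a commutative group. -/
def linAut (U : Type*) [CommGroup U] : MulAut U →* AddMonoid.End (Additive U) where
  toFun e := MonoidHom.toAdditive e.toMonoidHom
  map_one' := rfl
  map_mul' _ _ := rfl

theorem linAut_apply {U : Type*} [CommGroup U] (e : MulAut U) (u : U) :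
    linAut U e (Additive.ofMul u) = Additive.ofMul (e u) := rfl

theorem linAut_injective (U : Type*) [CommGroup U] : Function.Injective (linAut U) := by
  intro e e' h
  ext u
  have := congrArg (fun f : AddMonoid.End (Additive U) => f (Additive.ofMul u)) h
  simp only [linAut_apply] at this
  exact Additive.ofMul.injective this

theorem quad_comm_act {Γ U : Type*} [Group Γ] [CommGroup U] (θ : Γ →* MulAut U) (p : ℕ)
    [Fact p.Prime] (hp2 : p ≠ 2) (hUp : ∀ u : U, u ^ p = 1)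
    (Q : Subgroup Γ) (hQc : ∀ x ∈ Q, ∀ y ∈ Q, θ x * θ y = θ y * θ x)
    (m : ℕ) (hm : m.Coprime p) (hQm : ∀ x ∈ Q, θ x ^ m = 1)
    (a : Γ) (ha : ∀ x ∈ Q, a * x * a⁻¹ ∈ Q) (ha' : ∀ x ∈ Q, a⁻¹ * x * a ∈ Q)
    (hquad : ∀ u, θ a (θ a u / u) = θ a u / u) :
    ∀ x ∈ Q, θ a * θ x = θ x * θ a := by
  set ρ : Γ →* AddMonoid.End (Additive U) := (linAut U).comp θ with hρ
  have hρa : ∀ g (u : U), ρ g (Additive.ofMul u) = Additive.ofMul (θ g u) := fun g u => rfl
  have hchar : ((p : ℕ) : AddMonoid.End (Additive U)) = 0 := by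
    ext u
    rw [AddMonoid.End.natCast_apply]
    obtain ⟨u', rfl⟩ := Additive.ofMul.surjective u
    rw [← ofMul_pow, hUp]
    rfl
  have hcomm : ∀ x ∈ Q, ∀ y ∈ Q, ρ x * ρ y = ρ y * ρ x := by
    intro x hx y hy
    show linAut U (θ x) * linAut U (θ y) = linAut U (θ y) * linAut U (θ x)
    rw [← map_mul (linAut U), ← map_mul (linAut U), hQc x hx y hy]
  have hpow : ∀ x ∈ Q, ρ x ^ m = 1 := by
    intro x hx
    show linAut U (θ x) ^ m = 1
    rw [← map_pow (linAut U), hQm x hx, map_one]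
  have hq : (ρ a - 1) * (ρ a - 1) = 0 := by
    have e0 : ∀ (f : AddMonoid.End (Additive U)) (v : Additive U), (f - 1) v = f v - v :=
      fun f v => rfl
    refine AddMonoidHom.ext fun u => ?_
    obtain ⟨u', rfl⟩ := Additive.ofMul.surjective u
    show (ρ a - 1) ((ρ a - 1) (Additive.ofMul u')) = 0
    have e1 : (ρ a - 1) (Additive.ofMul u') = Additive.ofMul (θ a u' / u') := by
      rw [e0, hρa, ofMul_div]
    rw [e1, e0, hρa, hquad]
    exact sub_self _
  have key := quad_comm ρ p hp2 hchar Q hcomm m hm hpow a ha ha' hq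
  intro x hx
  apply linAut_injective U
  rw [map_mul, map_mul]
  exact key x hx

/-- The version for a normal elementary abelian subgroup and the conjugation action. -/
theorem quad_comm_conj {Γ : Type*} [Group Γ] {p : ℕ} [Fact p.Prime] (hp2 : p ≠ 2)
    (U : Subgroup Γ) [hU : U.Normal] (hUc : ∀ x ∈ U, ∀ y ∈ U, x * y = y * x)
    (hUp : ∀ x ∈ U, x ^ p = 1)
    (Q : Subgroup Γ)
    (hQc : ∀ x ∈ Q, ∀ y ∈ Q, ∀ u ∈ U, (x * y) * u * (x * y)⁻¹ = (y * x) * u * (y * x)⁻¹)
    (m : ℕ) (hm : m.Coprime p) (hQm : ∀ x ∈ Q, ∀ u ∈ U, x ^ m * u * (x ^ m)⁻¹ = u)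
    (a : Γ) (ha : ∀ x ∈ Q, a * x * a⁻¹ ∈ Q) (ha' : ∀ x ∈ Q, a⁻¹ * x * a ∈ Q)
    (hquad : ∀ u ∈ U, a * (a * u * a⁻¹ * u⁻¹) * a⁻¹ = a * u * a⁻¹ * u⁻¹) :
    ∀ x ∈ Q, ∀ u ∈ U, (a * x) * u * (a * x)⁻¹ = (x * a) * u * (x * a)⁻¹ := by
  letI : CommGroup ↥U :=
    { (inferInstance : Group ↥U) with
      mul_comm := fun x y => Subtype.ext (hUc x x.2 y y.2) }
  have hθ : ∀ (g : Γ) (u : ↥U), ((MulAut.conjNormal g u : ↥U) : Γ) = g * u * g⁻¹ :=
    fun g u => MulAut.conjNormal_apply g u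
  have hext : ∀ g g' : Γ, (∀ u ∈ U, g * u * g⁻¹ = g' * u * g'⁻¹) →
      (MulAut.conjNormal g : MulAut ↥U) = MulAut.conjNormal g' := by
    intro g g' h
    ext u
    rw [hθ, hθ]
    exact h u u.2
  have key := quad_comm_act (MulAut.conjNormal : Γ →* MulAut ↥U) p hp2
    (fun u => Subtype.ext (by simpa using hUp u u.2)) Q
    (fun x hx y hy => by
      rw [← map_mul, ← map_mul]
      exact hext _ _ (hQc x hx y hy))
    m hm
    (fun x hx => by
      rw [← map_pow, ← map_one (MulAut.conjNormal : Γ →* MulAut ↥U)]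
      apply hext
      intro u hu
      rw [hQm x hx u hu]; simp)
    a ha ha'
    (fun u => by
      apply Subtype.ext
      rw [hθ]
      have e : (((MulAut.conjNormal a u : ↥U) / u : ↥U) : Γ) = a * u * a⁻¹ * (u : Γ)⁻¹ := by
        rw [div_eq_mul_inv]
        simp only [Subgroup.coe_mul, Subgroup.coe_inv, hθ]
      rw [e]
      exact hquad u u.2)
  intro x hx u hu
  have h1 := key x hx
  rw [← map_mul, ← map_mul] at h1
  have h2 := congrArg (fun e : MulAut ↥U => ((e ⟨u, hu⟩ : ↥U) : Γ)) h1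
  simp only [hθ] at h2
  exact h2

end Cfsg.Agent.Lib.Lead_QuadAct
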