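import Mathlib
import Cfsg.Prelude.Def_PLocal
import Cfsg.Agent.Lib.Lead_QuadAct
import Cfsg.Agent.Lib.Lead_PStable
import Cfsg.Agent.Lib.Lead_SZ
import Cfsg.Agent.Lib.Helper4_PCore
import Cfsg.Agent.Lib.Helper7_PFrattini
import Cfsg.Agent.Lib.Helper7_Conj

/-!
# p-stability of groups with a normal series `H ≤ K ≤ G`, `H` a `p`-group, `K/H` an abelian
  `p'`-group and `G/K` a `p`-group (`p` odd)
-/

namespace Cfsg.Agent.Lib.Lead_PStab2

open Cfsg.Agent.Lib.Helper4_PCore Cfsg.Agent.Lib.Lead_PStable Cfsg.Agent.Lib.Lead_QuadAct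
open scoped commutatorElement

section
variable {G : Type*} [Group G]

theorem closure_normal_of_conj (S : Set G) (hS : ∀ g : G, ∀ s ∈ S, g * s * g⁻¹ ∈ S) :
    (Subgroup.closure S).Normal := by
  refine ⟨fun n hn g => ?_⟩
  induction hn using Subgroup.closure_induction with
  | mem x hx => exact Subgroup.subset_closure (hS g x hx)
  | one => simp
  | mul x y _ _ ihx ihy =>
    have : g * (x * y) * g⁻¹ = (g * x * g⁻¹) * (g * y * g⁻¹) := by group
    rw [this]; exact Subgroup.mul_mem _ ihx ihy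
  | inv x _ ihx =>
    have : g * x⁻¹ * g⁻¹ = (g * x * g⁻¹)⁻¹ := by group
    rw [this]; exact Subgroup.inv_mem _ ihx

/-- The Frattini-type subgroup `[V, N] V^p`. -/
def frat (p : ℕ) (V N : Subgroup G) : Subgroup G :=
  ⁅V, N⁆ ⊔ Subgroup.closure {x | ∃ v ∈ V, x = v ^ p}

theorem frat_normal (p : ℕ) (V N : Subgroup G) [hV : V.Normal] [N.Normal] :
    (frat p V N).Normal := by
  haveI : (Subgroup.closure {x | ∃ v ∈ V, x = v ^ p}).Normal := by
    apply closure_normal_of_conj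
    rintro g _ ⟨v, hv, rfl⟩
    exact ⟨g * v * g⁻¹, hV.conj_mem v hv g, by rw [conj_pow]⟩
  unfold frat
  infer_instance

theorem frat_le (p : ℕ) (V N : Subgroup G) [hV : V.Normal] : frat p V N ≤ V := by
  unfold frat
  refine sup_le (Subgroup.commutator_le_left V N) ?_
  rw [Subgroup.closure_le]
  rintro _ ⟨v, hv, rfl⟩
  exact V.pow_mem hv p

theorem comm_ne [Finite G] {p : ℕ} [Fact p.Prime] (V N : Subgroup G) (hVN : V ≤ N)
    (hN : IsPGroup p N) (hV : V ≠ ⊥) : ⁅V, N⁆ ≠ V := by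
  intro h
  haveI : Group.IsNilpotent ↥N := hN.isNilpotent
  obtain ⟨n, hn⟩ := (Subgroup.isNilpotent_iff_lowerCentralSeries N).1 inferInstance
  have key : ∀ k, V ≤ N.lowerCentralSeries k := by
    intro k
    induction k with
    | zero => exact hVN
    | succ k ih =>
      rw [Subgroup.lowerCentralSeries_succ]
      calc V = ⁅V, N⁆ := h.symm
        _ ≤ ⁅N.lowerCentralSeries k, N⁆ := Subgroup.commutator_mono ih le_rfl
  have := key n
  rw [hn, le_bot_iff] at this
  exact hV this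

theorem frat_ne [Finite G] {p : ℕ} [Fact p.Prime] (V N : Subgroup G) [hVn : V.Normal]
    (hVN : V ≤ N) (hN : IsPGroup p N) (hV : V ≠ ⊥) : frat p V N ≠ V := by
  intro h
  have hW : ⁅V, N⁆ ≠ V := comm_ne V N hVN hN hV
  have hWV : ⁅V, N⁆ ≤ V := Subgroup.commutator_le_left V N
  have hne : (⁅V, N⁆).subgroupOf V ≠ ⊤ := by
    intro h1
    rw [Subgroup.subgroupOf_eq_top] at h1
    exact hW (le_antisymm hWV h1)
  obtain ⟨M, hM, hWM⟩ := Cfsg.Agent.Lib.Helper7_Conj.exists_coatom_ge _ hne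
  have hVp : IsPGroup p ↥V := hN.to_le hVN
  obtain ⟨hMn, hMi⟩ := Cfsg.Agent.Lib.Helper7_PFrattini.coatom_normal_index hVp M hM
  have hle : frat p V N ≤ M.map V.subtype := by
    unfold frat
    refine sup_le ?_ ?_
    · intro x hx
      exact ⟨⟨x, hWV hx⟩, hWM (Subgroup.mem_subgroupOf.2 hx), rfl⟩
    · rw [Subgroup.closure_le]
      rintro _ ⟨v, hv, rfl⟩
      refine ⟨⟨v, hv⟩ ^ p, ?_, by simp⟩
      have := M.pow_index_mem (⟨v, hv⟩ : ↥V)
      rwa [hMi] at this
  apply hM.1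
  rw [eq_top_iff]
  intro x _
  have hx : (x : G) ∈ frat p V N := by rw [h]; exact x.2
  obtain ⟨y, hy, hyx⟩ := hle hx
  have : y = x := Subtype.ext hyx
  rwa [← this]

theorem pow_relIndex_mem (H K : Subgroup G) [H.Normal] {k : G} (hk : k ∈ K) :
    k ^ H.relIndex K ∈ H := by
  have := (H.subgroupOf K).pow_index_mem (⟨k, hk⟩ : ↥K)
  rw [Subgroup.mem_subgroupOf] at this
  have e : (H.subgroupOf K).index = H.relIndex K := rfl
  rw [e] at this
  simpa using this

end

section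
variable {G : Type*} [Group G] [Finite G] {p : ℕ} [Fact p.Prime]

set_option maxHeartbeats 1600000 in
/-- Key claim: `p'`-powers of the commutators `[a, x]`, `x ∈ K`, centralize every normal
`p`-subgroup on which `a` acts quadratically. -/
theorem claim (hp2 : p ≠ 2) (H K : Subgroup G) [hHn : H.Normal] [hKn : K.Normal]
    (hHp : IsPGroup p H) (hab : ⁅K, K⁆ ≤ H) (hcop : (H.relIndex K).Coprime p) (a : G) :
    ∀ n : ℕ, ∀ V₁ : Subgroup G, V₁.Normal → IsPGroup p V₁ → Nat.card V₁ = n →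
      (∀ v ∈ V₁, a * (a * v * a⁻¹ * v⁻¹) * a⁻¹ = a * v * a⁻¹ * v⁻¹) →
      ∀ x ∈ K, ∀ y ∈ Subgroup.zpowers ((x * a)⁻¹ * (a * x)), (orderOf y).Coprime p →
        y ∈ Subgroup.centralizer (V₁ : Set G) := by
  intro n
  induction n using Nat.strong_induction_on with
  | _ n ih =>
  intro V₁ hV₁n hV₁p hcard hq x hx y hy hycop
  by_cases hbot : V₁ = ⊥
  · subst hbot
    rw [Subgroup.mem_centralizer_iff]
    intro h hh
    have : h = 1 := by simpa using hh
    rw [this, one_mul, mul_one]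
  haveI := hV₁n
  set N := Cfsg.pCore p G with hN
  haveI hNn : N.Normal := pCore_normal p G
  have hNp : IsPGroup p N := pCore_isPGroup
  have hV₁N : V₁ ≤ N := le_pCore V₁ hV₁n hV₁p
  have hHN : H ≤ N := le_pCore H hHn hHp
  set V₂ := frat p V₁ N with hV₂
  haveI hV₂n : V₂.Normal := frat_normal p V₁ N
  have hV₂le : V₂ ≤ V₁ := frat_le p V₁ N
  have hV₂ne : V₂ ≠ V₁ := frat_ne V₁ N hV₁N hNp hbot
  have hlt : Nat.card V₂ < Nat.card V₁ :=
    Cfsg.Agent.Lib.Lead_SZ.card_lt (lt_of_le_of_ne hV₂le hV₂ne)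
  have hy2 : y ∈ Subgroup.centralizer (V₂ : Set G) :=
    ih (Nat.card V₂) (hcard ▸ hlt) V₂ hV₂n (hV₁p.to_le hV₂le) rfl
      (fun v hv => hq v (hV₂le hv)) x hx y hy hycop
  -- the quotient
  set π := QuotientGroup.mk' V₂ with hπ
  have hπs : Function.Surjective π := QuotientGroup.mk'_surjective V₂
  haveI hUn : (V₁.map π).Normal := hV₁n.map π hπs
  have hQn : (K.map π).Normal := hKn.map π hπs
  have hmem : ∀ g : G, π g = 1 ↔ g ∈ V₂ := fun g => QuotientGroup.eq_one_iff g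
  have hcomm_mem : ∀ v ∈ V₁, ∀ h ∈ N, v * h * v⁻¹ * h⁻¹ ∈ V₂ := by
    intro v hv h hh
    have := Subgroup.commutator_mem_commutator hv hh
    rw [commutatorElement_def] at this
    exact (le_sup_left : ⁅V₁, N⁆ ≤ frat p V₁ N) this
  have hpow_mem : ∀ v ∈ V₁, v ^ p ∈ V₂ := fun v hv =>
    (le_sup_right : _ ≤ frat p V₁ N) (Subgroup.subset_closure ⟨v, hv, rfl⟩)
  have hNtriv : ∀ h ∈ N, ∀ v ∈ V₁, π h * π v * (π h)⁻¹ = π v := by
    intro h hh v hv
    have h1 : π (v * h * v⁻¹ * h⁻¹) = 1 := (hmem _).2 (hcomm_mem v hv h hh)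
    simp only [map_mul, map_inv] at h1
    have h2 : π v * π h = π h * π v := by
      calc π v * π h = (π v * π h * (π v)⁻¹ * (π h)⁻¹) * (π h * π v) := by group
        _ = π h * π v := by rw [h1, one_mul]
    rw [← h2]; group
  have key := quad_comm_conj (Γ := G ⧸ V₂) hp2 (V₁.map π)
    (by
      rintro _ ⟨v, hv, rfl⟩ _ ⟨w, hw, rfl⟩
      have := hNtriv w (hV₁N hw) v hv
      calc π v * π w = (π w * π v * (π w)⁻¹) * π w := by rw [this]
        _ = π w * π v := by group)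
    (by
      rintro _ ⟨v, hv, rfl⟩
      rw [← map_pow]
      exact (hmem _).2 (hpow_mem v hv))
    (K.map π)
    (by
      rintro _ ⟨k, hk, rfl⟩ _ ⟨k', hk', rfl⟩ _ ⟨v, hv, rfl⟩
      have hh : (k' * k)⁻¹ * (k * k') ∈ N := by
        apply hHN
        apply hab
        have := Subgroup.commutator_mem_commutator (K.inv_mem hk) (K.inv_mem hk')
        rw [commutatorElement_def, inv_inv, inv_inv] at this
        have e : (k' * k)⁻¹ * (k * k') = k⁻¹ * k'⁻¹ * k * k' := by group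
        rw [e]; exact this
      have e : π k * π k' = π k' * π k * π ((k' * k)⁻¹ * (k * k')) := by
        rw [← map_mul, ← map_mul, ← map_mul]
        congr 1
        group
      rw [e]
      have h3 := hNtriv _ hh v hv
      calc π k' * π k * π ((k' * k)⁻¹ * (k * k')) * π v
            * (π k' * π k * π ((k' * k)⁻¹ * (k * k')))⁻¹
          = π k' * π k * (π ((k' * k)⁻¹ * (k * k')) * π v * (π ((k' * k)⁻¹ * (k * k')))⁻¹)
            * (π k' * π k)⁻¹ := by group
        _ = π k' * π k * π v * (π k' * π k)⁻¹ := by rw [h3])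
    (H.relIndex K) hcop
    (by
      rintro _ ⟨k, hk, rfl⟩ _ ⟨v, hv, rfl⟩
      rw [← map_pow]
      exact hNtriv _ (hHN (pow_relIndex_mem H K hk)) v hv)
    (π a)
    (fun z hz => hQn.conj_mem z hz (π a))
    (fun z hz => by
      have := hQn.conj_mem z hz (π a)⁻¹
      rwa [inv_inv] at this)
    (by
      rintro _ ⟨v, hv, rfl⟩
      have := congrArg π (hq v hv)
      simpa only [map_mul, map_inv] using this)
  -- the commutator `c` acts trivially on `V₁ / V₂`
  set c := (x * a)⁻¹ * (a * x) with hc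
  set Cen : Subgroup G := (Subgroup.centralizer ((V₁.map π : Subgroup (G ⧸ V₂)) : Set (G ⧸ V₂))).comap π
    with hCen
  have hcCen : c ∈ Cen := by
    rw [hCen, Subgroup.mem_comap, Subgroup.mem_centralizer_iff]
    rintro _ ⟨v, hv, rfl⟩
    have h1 := key (π x) ⟨x, hx, rfl⟩ (π v) ⟨v, hv, rfl⟩
    have e : π c = (π x * π a)⁻¹ * (π a * π x) := by
      rw [hc]; simp only [map_mul, map_inv]
    rw [e]
    calc π v * ((π x * π a)⁻¹ * (π a * π x))
        = (π x * π a)⁻¹ * ((π x * π a) * π v * (π x * π a)⁻¹) * (π a * π x) := by group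
      _ = (π x * π a)⁻¹ * ((π a * π x) * π v * (π a * π x)⁻¹) * (π a * π x) := by rw [h1]
      _ = (π x * π a)⁻¹ * (π a * π x) * π v := by group
  have hzc : Subgroup.zpowers c ≤ Cen := Subgroup.zpowers_le.2 hcCen
  have hzy : Subgroup.zpowers y ≤ Cen := Subgroup.zpowers_le.2 (hzc hy)
  have hquad_y : ⁅⁅V₁, Subgroup.zpowers y⁆, Subgroup.zpowers y⁆ = ⊥ := by
    have s1 : ⁅V₁, Subgroup.zpowers y⁆ ≤ V₂ := by
      rw [Subgroup.commutator_le]
      intro v hv z hz
      have hz' := hzy hz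
      rw [hCen, Subgroup.mem_comap, Subgroup.mem_centralizer_iff] at hz'
      have h1 := hz' (π v) ⟨v, hv, rfl⟩
      rw [commutatorElement_def, ← hmem]
      simp only [map_mul, map_inv]
      rw [h1]; group
    have s2 : ⁅V₂, Subgroup.zpowers y⁆ = ⊥ := by
      rw [Subgroup.commutator_eq_bot_iff_le_centralizer]
      intro v hv
      rw [Subgroup.mem_centralizer_iff]
      intro z hz
      have hz' : z ∈ Subgroup.centralizer (V₂ : Set G) :=
        (Subgroup.zpowers_le.2 hy2 : Subgroup.zpowers y ≤ _) hz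
      rw [Subgroup.mem_centralizer_iff] at hz'
      exact (hz' v hv).symm
    rw [eq_bot_iff]
    calc ⁅⁅V₁, Subgroup.zpowers y⁆, Subgroup.zpowers y⁆
        ≤ ⁅V₂, Subgroup.zpowers y⁆ := Subgroup.commutator_mono s1 le_rfl
      _ = ⊥ := s2
  exact coprime_quad_trivial V₁ hV₁p y hycop hquad_y

/-- A `p`-element of `K` lies in `H` when `K / H` is a `p'`-group. -/
theorem pElement_mem (H K : Subgroup G) [H.Normal] (hcop : (H.relIndex K).Coprime p)
    {k : G} (hk : k ∈ K) (t : ℕ) (hkt : k ^ (p ^ t) = 1) : k ∈ H := by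
  have hm := pow_relIndex_mem H K hk
  have hcop' : Nat.Coprime (H.relIndex K) (p ^ t) := Nat.Coprime.pow_right t hcop
  have hb := Nat.gcd_eq_gcd_ab (H.relIndex K) (p ^ t)
  rw [hcop'.gcd_eq_one] at hb
  have e : k = (k ^ (H.relIndex K)) ^ (Nat.gcdA (H.relIndex K) (p ^ t)) *
      (k ^ (p ^ t)) ^ (Nat.gcdB (H.relIndex K) (p ^ t)) := by
    rw [← zpow_natCast, ← zpow_natCast, ← zpow_mul, ← zpow_mul, ← zpow_add, ← hb]
    simp
  rw [e, hkt, one_zpow, mul_one]
  exact H.zpow_mem hm _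

/-- If a `p`-element `a` commutes with a normal subgroup `K` of `p`-power index modulo
`O_p`, then `a ∈ O_p`. -/
theorem lemB {Γ : Type*} [Group Γ] [Finite Γ] {p : ℕ} [Fact p.Prime] (K : Subgroup Γ)
    [hKn : K.Normal] (hKi : ∃ j, K.index = p ^ j) (a : Γ) (ha : ∃ t, a ^ (p ^ t) = 1)
    (hc : ∀ x ∈ K, (x * a)⁻¹ * (a * x) ∈ Cfsg.pCore p Γ) : a ∈ Cfsg.pCore p Γ := by
  have hpp : p.Prime := Fact.out
  set O := Cfsg.pCore p Γ with hO
  haveI hOn : O.Normal := pCore_normal p Γ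
  have hOp : IsPGroup p O := pCore_isPGroup
  obtain ⟨t, hat⟩ := ha
  have hD : IsPGroup p (Subgroup.zpowers a ⊔ O : Subgroup Γ) :=
    IsPGroup.to_sup_of_normal_right (zpowers_isPGroup a t hat) hOp
  obtain ⟨P', hDP'⟩ := hD.exists_le_sylow
  have htop : (P' : Subgroup Γ) ⊔ K = ⊤ := by
    rw [← Subgroup.index_eq_one]
    have h1 : ((P' : Subgroup Γ) ⊔ K).index ∣ K.index := Subgroup.index_dvd_of_le le_sup_right
    have h2 : ((P' : Subgroup Γ) ⊔ K).index ∣ (P' : Subgroup Γ).index :=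
      Subgroup.index_dvd_of_le le_sup_left
    have h3 : ¬ p ∣ (P' : Subgroup Γ).index := P'.not_dvd_index
    obtain ⟨j, hj⟩ := hKi
    rw [hj] at h1
    obtain ⟨i, -, hi⟩ := (Nat.dvd_prime_pow hpp).1 h1
    rcases Nat.eq_zero_or_pos i with h0 | h0
    · rw [hi, h0, pow_zero]
    · exfalso
      apply h3
      refine dvd_trans ?_ h2
      rw [hi]
      exact dvd_pow_self p h0.ne'
  have hconj : ∀ g : Γ, g * a * g⁻¹ ∈ (P' : Subgroup Γ) := by
    intro g
    have hg : g ∈ ((P' : Subgroup Γ) ⊔ K : Subgroup Γ) := by rw [htop]; trivial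
    have hg' : g ∈ ((↑((P' : Subgroup Γ) ⊔ K) : Set Γ)) := hg
    rw [Subgroup.mul_normal, Set.mem_mul] at hg'
    obtain ⟨x', hx', k, hk, rfl⟩ := hg'
    have h1 := hc k⁻¹ (K.inv_mem hk)
    have h2 : k * a * k⁻¹ ∈ (P' : Subgroup Γ) := by
      apply hDP'
      have e : k * a * k⁻¹ = a * ((k⁻¹ * a)⁻¹ * (a * k⁻¹)) := by group
      rw [e]
      exact Subgroup.mul_mem _ (le_sup_left (a := Subgroup.zpowers a) (Subgroup.mem_zpowers a))
        (le_sup_right (b := O) h1)
    have e : x' * k * a * (x' * k)⁻¹ = x' * (k * a * k⁻¹) * x'⁻¹ := by group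
    rw [e]
    exact Subgroup.mul_mem _ (Subgroup.mul_mem _ hx' h2) (Subgroup.inv_mem _ hx')
  have hle : Subgroup.normalClosure ({a} : Set Γ) ≤ (P' : Subgroup Γ) := by
    unfold Subgroup.normalClosure
    rw [Subgroup.closure_le]
    intro x hx
    obtain ⟨a', ha', hconj'⟩ := Group.mem_conjugatesOfSet_iff.1 hx
    rw [Set.mem_singleton_iff] at ha'
    subst ha'
    obtain ⟨c, hc'⟩ := isConj_iff.1 hconj'
    rw [← hc']
    exact hconj c
  have hle2 : Subgroup.normalClosure ({a} : Set Γ) ≤ O :=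
    le_pCore _ Subgroup.normalClosure_normal (P'.isPGroup'.to_le hle)
  exact hle2 (Subgroup.subset_normalClosure (Set.mem_singleton a))

set_option maxHeartbeats 1600000 in
/-- p-stability of groups with a normal series `H ≤ K ≤ G`, `H` a `p`-group, `K/H` an abelian
`p'`-group, `G/K` a `p`-group, `p` odd. -/
theorem ps2 (hp2 : p ≠ 2) (H K : Subgroup G) [hHn : H.Normal] [hKn : K.Normal]
    (hHp : IsPGroup p H) (hab : ⁅K, K⁆ ≤ H) (hcop : (H.relIndex K).Coprime p)
    (hKi : ∃ j, K.index = p ^ j)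
    (V : Subgroup G) [hVn : V.Normal] (hVp : IsPGroup p V) : Cfsg.IsPStableOn p V := by
  apply stableOn_of_pElements V hVp
  rintro a ⟨t, hat⟩ hquad
  have hq : ∀ v ∈ V, a * (a * v * a⁻¹ * v⁻¹) * a⁻¹ = a * v * a⁻¹ * v⁻¹ := by
    intro v hv
    have h1 : ⁅v, a⁆ ∈ ⁅V, Subgroup.zpowers a⁆ :=
      Subgroup.commutator_mem_commutator hv (Subgroup.mem_zpowers a)
    have h2 : ⁅⁅v, a⁆, a⁆ = 1 := by
      have := Subgroup.commutator_mem_commutator h1 (Subgroup.mem_zpowers a)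
      rwa [hquad, Subgroup.mem_bot] at this
    rw [commutatorElement_def, commutatorElement_def] at h2
    obtain ⟨w, hw⟩ : ∃ w, w = v * a * v⁻¹ * a⁻¹ := ⟨_, rfl⟩
    rw [← hw] at h2
    have h3 : w * a = a * w := by
      calc w * a = (w * a * w⁻¹ * a⁻¹) * (a * w) := by group
        _ = a * w := by rw [h2, one_mul]
    have e : a * v * a⁻¹ * v⁻¹ = w⁻¹ := by rw [hw]; group
    rw [e]
    calc a * w⁻¹ * a⁻¹ = w⁻¹ * (w * a) * w⁻¹ * a⁻¹ := by group
      _ = w⁻¹ * (a * w) * w⁻¹ * a⁻¹ := by rw [h3]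
      _ = w⁻¹ := by group
  set C := Subgroup.centralizer (V : Set G) with hC
  set π := QuotientGroup.mk' C with hπ
  have hπs : Function.Surjective π := QuotientGroup.mk'_surjective C
  haveI hKbn : (K.map π).Normal := hKn.map π hπs
  have hHb : H.map π ≤ Cfsg.pCore p (G ⧸ C) :=
    le_pCore _ (hHn.map π hπs) (hHp.map π)
  have key : π a ∈ Cfsg.pCore p (G ⧸ C) := by
    apply lemB (K.map π)
    · obtain ⟨j, hj⟩ := hKi
      have h1 : (K.map π).index ∣ K.index := Subgroup.index_map_dvd K hπs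
      rw [hj] at h1
      obtain ⟨i, -, hi⟩ := (Nat.dvd_prime_pow Fact.out).1 h1
      exact ⟨i, hi⟩
    · exact ⟨t, by rw [← map_pow, hat, map_one]⟩
    · rintro _ ⟨k, hk, rfl⟩
      set c := (k * a)⁻¹ * (a * k) with hc
      have hcK : c ∈ K := by
        have h1 := hKn.conj_mem k⁻¹ (K.inv_mem hk) a⁻¹
        have e : c = (a⁻¹ * k⁻¹ * a⁻¹⁻¹) * k := by rw [hc]; group
        rw [e]
        exact K.mul_mem h1 hk
      obtain ⟨c₁, h1, c₂, h2, hdec, ⟨t', hp1⟩, hp2'⟩ := exists_p_decomp p c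
      have hc2 : c₂ ∈ C :=
        claim hp2 H K hHp hab hcop a (Nat.card V) V hVn hVp rfl hq k hk c₂ h2 hp2'
      have hc1K : c₁ ∈ K := (Subgroup.zpowers_le.2 hcK : Subgroup.zpowers c ≤ K) h1
      have hc1H : c₁ ∈ H := pElement_mem H K hcop hc1K t' hp1
      have e : (π k * π a)⁻¹ * (π a * π k) = π c₁ := by
        have e1 : (π k * π a)⁻¹ * (π a * π k) = π c := by
          rw [hc]; simp only [map_mul, map_inv]
        have e2 : π c₂ = 1 := (QuotientGroup.eq_one_iff c₂).2 hc2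
        rw [e1, hdec, map_mul, e2, mul_one]
      rw [e]
      exact hHb ⟨c₁, hc1H, rfl⟩
  exact key

end

end Cfsg.Agent.Lib.Lead_PStab2
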