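import Mathlib
import Cfsg.Prelude.Def_PLocal
import Cfsg.Agent.Lib.Lead_GT4
import Cfsg.Agent.Lib.Lead_PStab2

/-!
# Generic Glauberman–Thompson reduction: step 4 (`O_{p'}(G) = 1` and `C_G(H) ≤ H`)
-/

namespace Cfsg.Agent.Lib.Lead_GT5

open Cfsg.Agent.Lib.Helper7_NPC Cfsg.Agent.Lib.Helper4_PCore Cfsg.Agent.Lib.Lead_GT1
  Cfsg.Agent.Lib.Lead_GT2 Cfsg.Agent.Lib.Lead_GT3 Cfsg.Agent.Lib.Lead_GT4
open scoped Pointwise

universe u

variable {p : ℕ} [Fact p.Prime] (𝒲 : WFun.{u} p)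

section
variable {G : Type u} [Group G] [Finite G]

theorem pprime_normal_eq_bot
    (IH : ∀ (X : Type u) [Group X] [Finite X], Nat.card X < Nat.card G → Hyp 𝒲 X → NPC p X)
    (hG : Hyp 𝒲 G) (hno : ¬ NPC p G) (D : Subgroup G) [hDn : D.Normal]
    (hD : (Nat.card D).Coprime p) : D = ⊥ := by
  by_contra hne
  apply hno
  apply npc_of_quotient D hD
  have hD1 : 1 < Nat.card D := (Subgroup.one_lt_card_iff_ne_bot _).2 hne
  have hlt : Nat.card (G ⧸ D) < Nat.card G := by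
    rw [Subgroup.card_eq_card_quotient_mul_card_subgroup D]
    have : 0 < Nat.card (G ⧸ D) := Nat.card_pos
    nlinarith
  exact IH (G ⧸ D) hlt (hyp_quotient 𝒲 D hD hG)

set_option maxHeartbeats 1000000 in
theorem centralizer_le
    (hbot : ∀ (D : Subgroup G) [D.Normal], (Nat.card D).Coprime p → D = ⊥)
    (H K : Subgroup G) [hHn : H.Normal] [hKn : K.Normal] (hHp : IsPGroup p H)
    (hHO : H = Cfsg.pCore p G) (hHK : H ≤ K)
    (hcop : (H.relIndex K).Coprime p) (hKi : ∃ k, K.index = p ^ k) :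
    Subgroup.centralizer (H : Set G) ≤ H := by
  have hpp : p.Prime := Fact.out
  set C := Subgroup.centralizer (H : Set G) with hC
  haveI hCn : C.Normal := Subgroup.normal_centralizer
  set E := C ⊓ K with hE
  haveI hEn : E.Normal := inferInstance
  -- `E` has a normal `p`-complement
  have hF : FrobHyp p ↥E := by
    intro Q hQ g _ _
    rw [Subgroup.mem_centralizer_iff]
    intro q hq
    obtain ⟨t, ht⟩ := hQ ⟨q, hq⟩
    have ht' : ((q : ↥E) : G) ^ (p ^ t) = 1 := by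
      have := congrArg (fun z : ↥Q => ((z : ↥E) : G)) ht
      simpa using this
    have hqH : ((q : ↥E) : G) ∈ H :=
      Cfsg.Agent.Lib.Lead_PStab2.pElement_mem H K hcop (q.2.2) t ht'
    have hgC : ((g : ↥E) : G) ∈ C := g.2.1
    rw [hC, Subgroup.mem_centralizer_iff] at hgC
    exact Subtype.ext (hgC _ hqH)
  obtain ⟨D₀, hD₀n, hD₀c, k, hk⟩ := npc_of_frobHyp hF
  set D := D₀.map E.subtype with hD
  have hDn : D.Normal := by
    refine ⟨?_⟩
    rintro _ ⟨d₀, hd₀, rfl⟩ g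
    have hmemE : g * (d₀ : G) * g⁻¹ ∈ E := hEn.conj_mem _ d₀.2 g
    have hord : (orderOf (⟨g * (d₀ : G) * g⁻¹, hmemE⟩ : ↥E)).Coprime p := by
      rw [← Subgroup.orderOf_coe]
      have e1 : orderOf (g * (d₀ : G) * g⁻¹) = orderOf (d₀ : G) := by
        have := MulEquiv.orderOf_eq (MulAut.conj g) (d₀ : G)
        rwa [MulAut.conj_apply] at this
      show (orderOf (g * (d₀ : G) * g⁻¹)).Coprime p
      rw [e1, Subgroup.orderOf_coe]
      have h2 : orderOf (⟨d₀, hd₀⟩ : ↥D₀) ∣ Nat.card D₀ := orderOf_dvd_natCard _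
      rw [← Subgroup.orderOf_coe] at h2
      exact Nat.Coprime.coprime_dvd_left h2 hD₀c
    haveI := hD₀n
    have := mem_of_index_pow D₀ hk _ hord
    exact ⟨_, this, rfl⟩
  have hDc : (Nat.card D).Coprime p := by
    rw [hD, Subgroup.card_map_of_injective E.subtype_injective]
    exact hD₀c
  have hDbot : D = ⊥ := @hbot D hDn hDc
  have hD₀bot : D₀ = ⊥ := (Subgroup.map_eq_bot_iff_of_injective D₀ E.subtype_injective).1 hDbot
  have hEp : IsPGroup p ↥E := by
    rw [hD₀bot, Subgroup.index_bot] at hk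
    exact IsPGroup.of_card hk
  have hEH : E ≤ H := by
    rw [hHO]
    exact le_pCore E hEn hEp
  -- `C` is a `p`-group
  have hCp : IsPGroup p ↥C := by
    rintro ⟨c, hc⟩
    obtain ⟨j, hj⟩ := hKi
    have h1 : c ^ (p ^ j) ∈ K := by
      have := K.pow_index_mem c
      rwa [hj] at this
    have h2 : c ^ (p ^ j) ∈ H := hEH ⟨C.pow_mem hc _, h1⟩
    obtain ⟨t, ht⟩ := hHp ⟨_, h2⟩
    have ht' : (c ^ (p ^ j)) ^ (p ^ t) = 1 := by
      have := congrArg (fun z : ↥H => (z : G)) ht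
      simpa using this
    refine ⟨j + t, Subtype.ext ?_⟩
    rw [Subgroup.coe_pow, Subgroup.coe_one, pow_add, pow_mul]
    exact ht'
  rw [hHO]
  exact le_pCore C hCn hCp

end

end Cfsg.Agent.Lib.Lead_GT5
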