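import Mathlib
import Cfsg.Prelude.Def_PLocal
import Cfsg.Agent.Lib.Lead_GT5

/-!
# Generic Glauberman–Thompson reduction: steps 5–7 and the main theorem
-/

namespace Cfsg.Agent.Lib.Lead_GT6

open Cfsg.Agent.Lib.Helper7_NPC Cfsg.Agent.Lib.Helper4_PCore Cfsg.Agent.Lib.Lead_GT1
  Cfsg.Agent.Lib.Lead_GT2 Cfsg.Agent.Lib.Lead_GT3 Cfsg.Agent.Lib.Lead_GT4
  Cfsg.Agent.Lib.Lead_GT5
open scoped Pointwise commutatorElement

universe u

variable {p : ℕ} [Fact p.Prime] (𝒲 : WFun.{u} p)

section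
variable {G : Type u} [Group G] [Finite G]

set_option maxHeartbeats 1000000 in
/-- Any `P'`-invariant subgroup between `H` and `K` is `H` or `K`. -/
theorem between
    (IH : ∀ (X : Type u) [Group X] [Finite X], Nat.card X < Nat.card G → Hyp 𝒲 X → NPC p X)
    (hG : Hyp 𝒲 G)
    (H K : Subgroup G) [hHn : H.Normal] [hKn : K.Normal] (hHp : IsPGroup p H)
    (hcop : (H.relIndex K).Coprime p)
    (hcent : Subgroup.centralizer (H : Set G) ≤ H) (P' : Sylow p G)
    (Y : Subgroup G) (hHY : H ≤ Y) (hYK : Y ≤ K)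
    (hPY : (P' : Subgroup G) ≤ Subgroup.normalizer (Y : Set G)) : Y = H ∨ Y = K := by
  have hpp : p.Prime := Fact.out
  have hpel : ∀ x ∈ K, (∃ t, x ^ (p ^ t) = 1) → x ∈ H := fun x hx ⟨t, ht⟩ =>
    Cfsg.Agent.Lib.Lead_PStab2.pElement_mem H K hcop hx t ht
  have hpel' : ∀ x ∈ (P' : Subgroup G), ∃ t, x ^ (p ^ t) = 1 := by
    intro x hx
    obtain ⟨t, ht⟩ := P'.isPGroup' ⟨x, hx⟩
    exact ⟨t, by simpa using congrArg (fun z : ↥(P' : Subgroup G) => (z : G)) ht⟩
  set M := Y ⊔ (P' : Subgroup G) with hM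
  by_cases hMtop : M = ⊤
  · right
    apply le_antisymm hYK
    intro k hk
    have h1 : k ∈ (↑(Y ⊔ (P' : Subgroup G)) : Set G) := by
      show k ∈ M
      rw [hMtop]; trivial
    rw [Subgroup.coe_mul_of_right_le_normalizer_left Y P' hPY, Set.mem_mul] at h1
    obtain ⟨y, hy, x, hx, rfl⟩ := h1
    have hxK : x ∈ K := by
      have e : x = y⁻¹ * (y * x) := by group
      rw [e]
      exact K.mul_mem (K.inv_mem (hYK hy)) hk
    exact Y.mul_mem hy (hHY (hpel x hxK (hpel' x hx)))
  · left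
    apply le_antisymm _ hHY
    have hlt : Nat.card M < Nat.card G := by
      have := Cfsg.Agent.Lib.Lead_SZ.card_lt (lt_top_iff_ne_top.2 hMtop)
      rwa [Subgroup.card_top] at this
    have hPM : (P' : Subgroup G) ≤ M := le_sup_right
    have hYM : Y ≤ M := le_sup_left
    obtain ⟨T, hTn, hTc, k, hk⟩ := IH ↥M hlt (hyp_of_sylow_le 𝒲 hG M P' hPM)
    haveI := hTn
    haveI hH'n : (H.subgroupOf M).Normal := inferInstance
    have hH'p : IsPGroup p (H.subgroupOf M) := hHp.comap_subtype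
    have hTcent := commute_of_coprime_normal T (H.subgroupOf M) hTc hH'p
    have hTbot : T = ⊥ := by
      rw [eq_bot_iff]
      intro t ht
      rw [Subgroup.mem_bot]
      have h1 := hTcent ht
      rw [Subgroup.mem_centralizer_iff] at h1
      have h2 : ((t : ↥M) : G) ∈ Subgroup.centralizer (H : Set G) := by
        rw [Subgroup.mem_centralizer_iff]
        intro h hh
        have := h1 ⟨h, hYM (hHY hh)⟩ (Subgroup.mem_subgroupOf.2 hh)
        exact congrArg Subtype.val this
      have h3 : ((t : ↥M) : G) ∈ H := hcent h2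
      obtain ⟨j, hj⟩ := hHp ⟨_, h3⟩
      have hj' : t ^ (p ^ j) = 1 := by
        apply Subtype.ext
        have := congrArg (fun z : ↥H => (z : G)) hj
        simpa using this
      have h4 : orderOf t ∣ p ^ j := orderOf_dvd_of_pow_eq_one hj'
      have h5 : orderOf t ∣ Nat.card T := by
        have := orderOf_dvd_natCard (⟨t, ht⟩ : ↥T)
        rwa [← Subgroup.orderOf_coe] at this
      have h6 : orderOf t = 1 :=
        Nat.Coprime.eq_one_of_dvd ((hTc.pow_right j).coprime_dvd_left h5) h4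
      exact orderOf_eq_one_iff.1 h6
    have hMp : IsPGroup p ↥M := by
      rw [hTbot, Subgroup.index_bot] at hk
      exact IsPGroup.of_card hk
    intro y hy
    apply hpel y (hYK hy)
    obtain ⟨t, ht⟩ := hMp ⟨y, hYM hy⟩
    exact ⟨t, by simpa using congrArg (fun z : ↥M => (z : G)) ht⟩

omit [Fact p.Prime] [Finite G] in
theorem card_map_mk_eq_relIndex (H K : Subgroup G) [H.Normal] :
    Nat.card (K.map (QuotientGroup.mk' H)) = H.relIndex K := by
  have h2 := Subgroup.relIndex_comap (H := (⊥ : Subgroup (G ⧸ H))) (QuotientGroup.mk' H) K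
  rw [MonoidHom.comap_bot, QuotientGroup.ker_mk', Subgroup.relIndex_bot_left] at h2
  exact h2.symm

set_option maxHeartbeats 2000000 in
/-- `K / H` is abelian. -/
theorem comm_le
    (H K : Subgroup G) [hHn : H.Normal] [hKn : K.Normal] (hHp : IsPGroup p H) (hHK : H ≤ K)
    (hcop : (H.relIndex K).Coprime p) (P' : Sylow p G)
    (hbetween : ∀ Y : Subgroup G, H ≤ Y → Y ≤ K →
      (P' : Subgroup G) ≤ Subgroup.normalizer (Y : Set G) → Y = H ∨ Y = K) :
    ⁅K, K⁆ ≤ H := by
  have hpp : p.Prime := Fact.out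
  by_cases hKH : K = H
  · calc ⁅K, K⁆ ≤ K := Subgroup.commutator_le_left K K
      _ = H := hKH
  set π := QuotientGroup.mk' H with hπ
  have hπs : Function.Surjective π := QuotientGroup.mk'_surjective H
  set Kb := K.map π with hKb
  set Ab := (P' : Subgroup G).map π with hAb
  haveI hKbn : Kb.Normal := hKn.map π hπs
  have hker : π.ker = H := QuotientGroup.ker_mk' H
  have hcomapKb : Kb.comap π = K := by
    rw [hKb, Subgroup.comap_map_eq, hker, sup_eq_left.2 hHK]
  have hKbne : Kb ≠ ⊥ := by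
    intro h0
    apply hKH
    apply le_antisymm _ hHK
    rw [← hcomapKb, h0, MonoidHom.comap_bot, hker]
  have hcardKb : Nat.card Kb = H.relIndex K := card_map_mk_eq_relIndex H K
  have hKbcop : (Nat.card Kb).Coprime p := by rw [hcardKb]; exact hcop
  have hKb1 : Nat.card Kb ≠ 1 := by
    intro h1
    exact hKbne ((Subgroup.card_eq_one).1 h1)
  obtain ⟨q, hq, hqdvd⟩ := Nat.exists_prime_and_dvd hKb1
  haveI : Fact q.Prime := ⟨hq⟩
  have hAbp : IsPGroup p Ab := P'.isPGroup'.map π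
  obtain ⟨a, ha⟩ := IsPGroup.iff_card.1 hAbp
  have hcop' : (Nat.card Ab).Coprime (Nat.card Kb) := by
    rw [ha]; exact (hKbcop.pow_right a).symm
  have hAK : Ab ≤ Subgroup.normalizer (Kb : Set (G ⧸ H)) := by
    rw [Subgroup.normalizer_eq_top]; exact le_top
  haveI : Group.IsNilpotent ↥Ab := hAbp.isNilpotent
  have hsolv : Group.IsSolvable ↥Ab := inferInstance
  obtain ⟨Qb, hQb⟩ := Cfsg.Agent.Lib.Lead_Coprime.exists_invariant_sylow Ab Kb hAK hcop'
    (Or.inl hsolv) q
  set Qt := (Qb : Subgroup ↥Kb).map Kb.subtype with hQt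
  have hQtKb : Qt ≤ Kb := Subgroup.map_subtype_le _
  have hHle : ∀ X : Subgroup (G ⧸ H), H ≤ X.comap π := by
    intro X h hh
    rw [Subgroup.mem_comap]
    have : π h = 1 := (QuotientGroup.eq_one_iff h).2 hh
    rw [this]; exact Subgroup.one_mem _
  have hP'le : ∀ X : Subgroup (G ⧸ H), Ab ≤ Subgroup.normalizer (X : Set (G ⧸ H)) →
      (P' : Subgroup G) ≤ Subgroup.normalizer ((X.comap π : Subgroup G) : Set G) := by
    intro X hX x hx
    have h1 : π x ∈ Subgroup.normalizer (X : Set (G ⧸ H)) := hX ⟨x, hx, rfl⟩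
    exact Subgroup.le_normalizer_comap π h1
  have hKbq : IsPGroup q ↥Kb := by
    rcases hbetween (Qt.comap π) (hHle Qt)
      (by rw [← hcomapKb]; exact Subgroup.comap_mono hQtKb) (hP'le Qt hQb) with h1 | h1
    · exfalso
      have h2 : Qt = ⊥ := by
        rw [← Subgroup.map_comap_eq_self_of_surjective hπs Qt, h1]
        exact (Subgroup.map_eq_bot_iff _).2 (le_of_eq hker.symm)
      have h3 : (Qb : Subgroup ↥Kb) = ⊥ :=
        (Subgroup.map_eq_bot_iff_of_injective _ Kb.subtype_injective).1 h2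
      have h4 : q ∣ Nat.card (Qb : Subgroup ↥Kb) := Qb.dvd_card_of_dvd_card hqdvd
      rw [h3, Subgroup.card_bot] at h4
      exact hq.one_lt.ne' (Nat.dvd_one.1 h4)
    · have h2 : Qt = Kb := by
        rw [← Subgroup.map_comap_eq_self_of_surjective hπs Qt, h1]
      have h3 : (Qb : Subgroup ↥Kb) = ⊤ := by
        rw [eq_top_iff]
        intro x _
        have hx : (x : G ⧸ H) ∈ Qt := by rw [h2]; exact x.2
        obtain ⟨y, hy, hyx⟩ := hx
        have : y = x := Subtype.ext hyx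
        rwa [← this]
      have h4 := Qb.isPGroup'
      rw [h3] at h4
      exact IsPGroup.of_equiv h4 Subgroup.topEquiv
  have hne := Cfsg.Agent.Lib.Lead_PStab2.comm_ne Kb Kb le_rfl hKbq hKbne
  set Cb := ⁅Kb, Kb⁆ with hCb
  haveI hCbn : Cb.Normal := inferInstance
  have hCbKb : Cb ≤ Kb := Subgroup.commutator_le_left Kb Kb
  have hY2 : Cb.comap π = H := by
    rcases hbetween (Cb.comap π) (hHle Cb)
      (by rw [← hcomapKb]; exact Subgroup.comap_mono hCbKb)
      (hP'le Cb (by rw [Subgroup.normalizer_eq_top]; exact le_top)) with h1 | h1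
    · exact h1
    · exfalso
      apply hne
      rw [← Subgroup.map_comap_eq_self_of_surjective hπs Cb, h1]
  rw [Subgroup.commutator_le]
  intro k hk k' hk'
  have h1 : π ⁅k, k'⁆ ∈ Cb := by
    rw [map_commutatorElement]
    exact Subgroup.commutator_mem_commutator ⟨k, hk, rfl⟩ ⟨k', hk', rfl⟩
  have h2 : ⁅k, k'⁆ ∈ Cb.comap π := h1
  rwa [hY2] at h2

set_option maxHeartbeats 1000000 in
theorem step (hp2 : p ≠ 2)
    (IH : ∀ (X : Type u) [Group X] [Finite X], Nat.card X < Nat.card G → Hyp 𝒲 X → NPC p X)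
    (hG : Hyp 𝒲 G) : NPC p G := by
  by_contra hno
  obtain ⟨H, hHp, hHne, hHbad, hM1, hM2⟩ := exists_bad hno
  have hHtop := normalizer_eq_top 𝒲 IH hG H hHp hHne hHbad hM1
  haveI hHn : H.Normal := Subgroup.normalizer_eq_top_iff.1 hHtop
  have hHO := eq_pCore hno H hHp hHne hHtop hM2
  have hq := npc_quot 𝒲 IH H hHp hHne hM2
  obtain ⟨K, hKn, hHK, hcop, hKi⟩ := exists_K H hq
  haveI := hKn
  have hbot : ∀ (D : Subgroup G) [D.Normal], (Nat.card D).Coprime p → D = ⊥ :=
    fun D _ hD => pprime_normal_eq_bot 𝒲 IH hG hno D hD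
  have hcent := centralizer_le hbot H K hHp hHO hHK hcop hKi
  obtain ⟨P'⟩ : Nonempty (Sylow p G) := inferInstance
  have hbetween := between 𝒲 IH hG H K hHp hcop hcent P'
  have hab := comm_le H K hHp hHK hcop P' hbetween
  have hst : ∀ (V : Subgroup G) [V.Normal], IsPGroup p V → Cfsg.IsPStableOn p V :=
    fun V _ hVp => Cfsg.Agent.Lib.Lead_PStab2.ps2 hp2 H K hHp hab hcop hKi V hVp
  have hcent' : Subgroup.centralizer (Cfsg.pCore p G : Set G) ≤ Cfsg.pCore p G := by
    rw [← hHO]; exact hcent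
  have hWn := 𝒲.normal G hcent' hst P'
  apply hno
  exact npc_of_eq_top (Subgroup.normalizer_eq_top_iff.2 hWn) (hG P')

end

theorem main_aux (hp2 : p ≠ 2) : ∀ n : ℕ, ∀ (G : Type u) [Group G] [Finite G],
    Nat.card G = n → Hyp 𝒲 G → NPC p G := by
  intro n
  induction n using Nat.strong_induction_on with
  | _ n ih =>
  intro G _ _ hn hG
  apply step 𝒲 hp2 _ hG
  intro X _ _ hX hXH
  exact ih (Nat.card X) (hn ▸ hX) X rfl hXH

/-- The generic normal `p`-complement theorem. -/
theorem main (hp2 : p ≠ 2) (G : Type u) [Group G] [Finite G] (hG : Hyp 𝒲 G) : NPC p G :=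
  main_aux 𝒲 hp2 _ G rfl hG

/-- The hypothesis for one Sylow subgroup gives it for all. -/
theorem hyp_of_single {G : Type u} [Group G] [Finite G] (P : Sylow p G)
    (h : NPC p ↥(Subgroup.normalizer ((𝒲.W G (P : Subgroup G) : Subgroup G) : Set G))) :
    Hyp 𝒲 G := by
  intro P₂
  obtain ⟨g, hg⟩ := MulAction.exists_smul_eq G P₂ P
  have hcoe : (P : Subgroup G) = (P₂ : Subgroup G).map (MulAut.conj g).toMonoidHom := by
    rw [← hg, Sylow.coe_subgroup_smul]
    rfl
  have hW : 𝒲.W G (P : Subgroup G) = (𝒲.W G (P₂ : Subgroup G)).map (MulAut.conj g).toMonoidHom := by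
    rw [hcoe]
    exact 𝒲.map G G (MulAut.conj g).toMonoidHom P₂ P₂.isPGroup' (MulAut.conj g).injective.injOn
  set N₁ := Subgroup.normalizer ((𝒲.W G (P₂ : Subgroup G) : Subgroup G) : Set G) with hN₁
  set N₂ := Subgroup.normalizer ((𝒲.W G (P : Subgroup G) : Subgroup G) : Set G) with hN₂
  have hmem : ∀ x : ↥N₁, (MulAut.conj g).toMonoidHom (x : G) ∈ N₂ := by
    intro x
    rw [hN₂, hW]
    exact Subgroup.le_normalizer_map _ ⟨x.1, x.2, rfl⟩
  let f : ↥N₁ →* ↥N₂ := ((MulAut.conj g).toMonoidHom.comp N₁.subtype).codRestrict N₂ hmem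
  have hf : Function.Injective f := by
    intro x y hxy
    have h1 := congrArg Subtype.val hxy
    exact Subtype.ext ((MulAut.conj g).injective h1)
  exact npc_of_injective f hf h

end Cfsg.Agent.Lib.Lead_GT6
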