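import Mathlib
import Cfsg.Prelude.Def_PLocal
import Cfsg.Agent.Lib.Lead_GT6

/-!
# Generic Glauberman–Thompson reduction, second version: a class of groups closed under
subgroups and quotients, and an end condition on the final configuration
-/

namespace Cfsg.Agent.Lib.Lead_GTb

open Cfsg.Agent.Lib.Helper7_NPC Cfsg.Agent.Lib.Helper4_PCore Cfsg.Agent.Lib.Lead_GT1
open Cfsg.Agent.Lib.Lead_GT2 (normalizer_map_mk map_conj_eq_of_mem_normalizer)
open Cfsg.Agent.Lib.Lead_GT3 (ee ee_le le_ee exists_bad)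
open Cfsg.Agent.Lib.Lead_GT4 (ee_of_normal eq_pCore relIndex_comap_mk exists_K)
open Cfsg.Agent.Lib.Lead_GT5 (centralizer_le)
open Cfsg.Agent.Lib.Lead_GT6 (card_map_mk_eq_relIndex comm_le)
open scoped Pointwise commutatorElement

universe u

/-- A "characteristic `p`-functor". -/
structure WFun0 (p : ℕ) where
  W : ∀ (X : Type u) [Group X], Subgroup X → Subgroup X
  le : ∀ (X : Type u) [Group X] (R : Subgroup X), W X R ≤ R
  ne_bot : ∀ (X : Type u) [Group X] [Finite X] (R : Subgroup X), IsPGroup p R → R ≠ ⊥ →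
    W X R ≠ ⊥
  map : ∀ (X Y : Type u) [Group X] [Group Y] [Finite X] [Finite Y] (f : X →* Y)
    (R : Subgroup X), IsPGroup p R → Set.InjOn f (R : Set X) → W Y (R.map f) = (W X R).map f

/-- A class of groups closed under subgroups and quotients. -/
structure GClass where
  mem : ∀ (X : Type u) [Group X], Prop
  sub : ∀ (X : Type u) [Group X] (M : Subgroup X), mem X → mem ↥M
  quot : ∀ (X : Type u) [Group X] (N : Subgroup X) [N.Normal], mem X → mem (X ⧸ N)

variable {p : ℕ} [Fact p.Prime] (𝒲 : WFun0.{u} p) (𝒢 : GClass.{u})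

/-- The hypothesis of the normal `p`-complement theorem. -/
def Hyp (G : Type u) [Group G] : Prop :=
  ∀ P : Sylow p G, NPC p ↥(Subgroup.normalizer ((𝒲.W G (P : Subgroup G) : Subgroup G) : Set G))

section
variable {G : Type u} [Group G] [Finite G]

theorem W_char (R : Subgroup G) (hR : IsPGroup p R) :
    Subgroup.normalizer (R : Set G) ≤ Subgroup.normalizer ((𝒲.W G R : Subgroup G) : Set G) := by
  intro g hg
  have h1 := 𝒲.map G G (MulAut.conj g).toMonoidHom R hR
    ((MulAut.conj g).injective.injOn)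
  rw [map_conj_eq_of_mem_normalizer R hg] at h1
  rw [Subgroup.mem_normalizer_iff_map_conj_eq]
  exact h1.symm

/-- `W` of a subgroup of a subgroup. -/
theorem W_subtype (M : Subgroup G) (R : Subgroup ↥M) (hR : IsPGroup p R) :
    𝒲.W G (R.map M.subtype) = (𝒲.W ↥M R).map M.subtype :=
  𝒲.map ↥M G M.subtype R hR (M.subtype_injective.injOn)

theorem npc_normalizer_sub (M : Subgroup G) (R : Subgroup ↥M) (hR : IsPGroup p R)
    (h : NPC p ↥(Subgroup.normalizer ((𝒲.W G (R.map M.subtype) : Subgroup G) : Set G))) :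
    NPC p ↥(Subgroup.normalizer ((𝒲.W ↥M R : Subgroup ↥M) : Set ↥M)) := by
  set N₁ := Subgroup.normalizer ((𝒲.W ↥M R : Subgroup ↥M) : Set ↥M) with hN₁
  set N₂ := Subgroup.normalizer ((𝒲.W G (R.map M.subtype) : Subgroup G) : Set G) with hN₂
  have hmem : ∀ x : ↥N₁, ((x : ↥M) : G) ∈ N₂ := by
    intro x
    rw [hN₂, W_subtype 𝒲 M R hR]
    exact Subgroup.le_normalizer_map M.subtype ⟨x.1, x.2, rfl⟩
  let f : ↥N₁ →* ↥N₂ := (M.subtype.comp N₁.subtype).codRestrict N₂ hmem
  have hf : Function.Injective f := by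
    intro x y hxy
    have := congrArg Subtype.val hxy
    exact Subtype.ext (Subtype.ext this)
  exact npc_of_injective f hf h

/-- The hypothesis passes to subgroups containing a Sylow subgroup. -/
theorem hyp_of_sylow_le (hG : Hyp 𝒲 G) (M : Subgroup G) (P : Sylow p G)
    (hPM : (P : Subgroup G) ≤ M) : Hyp 𝒲 ↥M := by
  intro R
  apply npc_normalizer_sub 𝒲 M R R.isPGroup'
  -- `R.map M.subtype` is a Sylow subgroup of `G`
  have hcard : Nat.card ((R : Subgroup ↥M).map M.subtype) =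
      p ^ (Nat.card G).factorization p := by
    rw [Subgroup.card_map_of_injective M.subtype_injective, R.card_eq_multiplicity]
    congr 1
    have h1 : Nat.card (P : Subgroup G) ∣ Nat.card M := Subgroup.card_dvd_of_le hPM
    rw [P.card_eq_multiplicity] at h1
    have hM0 : Nat.card M ≠ 0 := Nat.card_pos.ne'
    have hG0 : Nat.card G ≠ 0 := Nat.card_pos.ne'
    have h2 : (Nat.card G).factorization p ≤ (Nat.card M).factorization p :=
      (Nat.Prime.pow_dvd_iff_le_factorization Fact.out hM0).1 h1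
    have h3 : (Nat.card M).factorization p ≤ (Nat.card G).factorization p := by
      have := (Nat.factorization_le_iff_dvd hM0 hG0).2 (Subgroup.card_subgroup_dvd_card M)
      exact this p
    exact le_antisymm h3 h2
  have := hG (Sylow.ofCard _ hcard)
  rwa [Sylow.coe_ofCard] at this

theorem hyp_quotient (D : Subgroup G) [hDn : D.Normal] (hD : (Nat.card D).Coprime p)
    (hG : Hyp 𝒲 G) : Hyp 𝒲 (G ⧸ D) := by
  intro Pb
  have hπs : Function.Surjective (QuotientGroup.mk' D) := QuotientGroup.mk'_surjective D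
  obtain ⟨P', hP'⟩ := Sylow.mapSurjective_surjective hπs p Pb
  have hcoe : (Pb : Subgroup (G ⧸ D)) = (P' : Subgroup G).map (QuotientGroup.mk' D) := by
    rw [← hP', Sylow.coe_mapSurjective]
  have hinj : Set.InjOn (QuotientGroup.mk' D) ((P' : Subgroup G) : Set G) := by
    intro x hx y hy hxy
    have h1 : x⁻¹ * y ∈ D := by
      rw [← QuotientGroup.eq_one_iff, ← QuotientGroup.mk'_apply, map_mul, map_inv, hxy,
        inv_mul_cancel]
    have h2 : x⁻¹ * y ∈ (P' : Subgroup G) := Subgroup.mul_mem _ (Subgroup.inv_mem _ hx) hy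
    obtain ⟨k, hk⟩ := IsPGroup.iff_card.1 P'.isPGroup'
    have hcop : (Nat.card (P' : Subgroup G)).Coprime (Nat.card D) := by
      rw [hk]; exact (hD.pow_right k).symm
    have h3 : x⁻¹ * y ∈ (P' : Subgroup G) ⊓ D := ⟨h2, h1⟩
    rw [(Subgroup.disjoint_of_coprime_natCard hcop).eq_bot, Subgroup.mem_bot] at h3
    exact inv_mul_eq_one.1 h3
  rw [hcoe, 𝒲.map G (G ⧸ D) (QuotientGroup.mk' D) P' P'.isPGroup' hinj]
  set W₀ := 𝒲.W G (P' : Subgroup G) with hW₀
  have hW₀p : IsPGroup p W₀ := P'.isPGroup'.to_le (𝒲.le G _)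
  have hnorm := normalizer_map_mk D hD W₀ hW₀p
  have h0 := hG P'
  set N₁ := Subgroup.normalizer (W₀ : Set G) with hN₁
  set N₂ := Subgroup.normalizer ((W₀.map (QuotientGroup.mk' D) : Subgroup (G ⧸ D)) : Set (G ⧸ D))
    with hN₂
  have hmem : ∀ x : ↥N₁, QuotientGroup.mk' D (x : G) ∈ N₂ := by
    intro x
    rw [hnorm]
    exact ⟨x.1, x.2, rfl⟩
  let f : ↥N₁ →* ↥N₂ := ((QuotientGroup.mk' D).comp N₁.subtype).codRestrict N₂ hmem
  have hf : Function.Surjective f := by
    rintro ⟨y, hy⟩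
    rw [hnorm] at hy
    obtain ⟨x, hx, rfl⟩ := hy
    exact ⟨⟨x, hx⟩, rfl⟩
  exact npc_of_surjective f hf h0


set_option maxHeartbeats 1000000 in
/-- Step 2: the maximal bad subgroup is normal. -/
theorem normalizer_eq_top
    (IH : ∀ (X : Type u) [Group X] [Finite X], Nat.card X < Nat.card G → 𝒢.mem X → Hyp 𝒲 X → NPC p X)
    (h𝒢 : 𝒢.mem G)
    (hG : Hyp 𝒲 G) (H : Subgroup G) (hHp : IsPGroup p H) (hHne : H ≠ ⊥)
    (hHbad : ¬ NPC p ↥(Subgroup.normalizer (H : Set G)))
    (hM1 : ∀ Q : Subgroup G, IsPGroup p Q → Q ≠ ⊥ → ee p H < ee p Q →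
        NPC p ↥(Subgroup.normalizer (Q : Set G))) :
    Subgroup.normalizer (H : Set G) = ⊤ := by
  have hpp : p.Prime := Fact.out
  by_contra hne
  set N := Subgroup.normalizer (H : Set G) with hN
  have hlt : Nat.card N < Nat.card G := by
    have := Cfsg.Agent.Lib.Lead_SZ.card_lt (lt_top_iff_ne_top.2 hne)
    rwa [Subgroup.card_top] at this
  apply hHbad
  apply IH ↥N hlt (𝒢.sub G N h𝒢)
  intro R
  apply npc_normalizer_sub 𝒲 N R R.isPGroup'
  set R' := (R : Subgroup ↥N).map N.subtype with hR'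
  have hR'p : IsPGroup p R' := R.isPGroup'.map _
  have hHR' : H ≤ R' := by
    intro h hh
    have hhN : h ∈ N := Subgroup.le_normalizer hh
    have hHNn : (H.subgroupOf N).Normal := Subgroup.normal_in_normalizer
    have h1 : H.subgroupOf N ≤ (R : Subgroup ↥N) :=
      normal_pGroup_le_sylow (H.subgroupOf N) hHNn (hHp.comap_subtype) R
    exact ⟨⟨h, hhN⟩, h1 (Subgroup.mem_subgroupOf.2 hh), rfl⟩
  have hR'ne : R' ≠ ⊥ := by
    intro h0
    apply hHne
    rw [eq_bot_iff, ← h0]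
    exact hHR'
  set W' := 𝒲.W G R' with hW'
  have hW'p : IsPGroup p W' := hR'p.to_le (𝒲.le G R')
  have hW'ne : W' ≠ ⊥ := 𝒲.ne_bot G R' hR'p hR'ne
  by_contra hbad
  have hle : ee p W' ≤ ee p H := by
    by_contra hlt'
    push Not at hlt'
    exact hbad (hM1 W' hW'p hW'ne hlt')
  obtain ⟨P', hRP'⟩ := hR'p.exists_le_sylow
  by_cases hEq : R' = P'
  · apply hbad
    have := hG P'
    rwa [← hEq] at this
  · have hlt2 : R' < (P' : Subgroup G) := lt_of_le_of_ne hRP' hEq
    obtain ⟨y, hyP, hyR, hyN⟩ :=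
      Cfsg.Agent.Lib.Lead_Replacement.exists_mem_normalizer_not_mem P'.isPGroup' hlt2
    set T := R' ⊔ Subgroup.zpowers y with hT
    have hTP : T ≤ (P' : Subgroup G) := sup_le hRP' (Subgroup.zpowers_le.2 hyP)
    have hTp : IsPGroup p T := P'.isPGroup'.to_le hTP
    have hTN : T ≤ Subgroup.normalizer (R' : Set G) :=
      sup_le Subgroup.le_normalizer (Subgroup.zpowers_le.2 hyN)
    have hRT : R' < T := by
      refine lt_of_le_of_ne le_sup_left ?_
      intro h0
      apply hyR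
      rw [h0]
      exact (le_sup_right : Subgroup.zpowers y ≤ T) (Subgroup.mem_zpowers y)
    have hcardR : Nat.card R' = p ^ ee p H := by
      rw [hR', Subgroup.card_map_of_injective N.subtype_injective, R.card_eq_multiplicity]
      rfl
    obtain ⟨k, hk⟩ := IsPGroup.iff_card.1 hTp
    have hklt : ee p H < k := by
      have := Cfsg.Agent.Lib.Lead_SZ.card_lt hRT
      rw [hcardR, hk] at this
      exact (Nat.pow_lt_pow_iff_right hpp.one_lt).1 this
    have h5 : k ≤ ee p W' := le_ee W' T (hTN.trans (W_char 𝒲 R' hR'p)) k hk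
    omega


set_option maxHeartbeats 1000000 in
theorem npc_quot
    (IH : ∀ (X : Type u) [Group X] [Finite X], Nat.card X < Nat.card G → 𝒢.mem X → Hyp 𝒲 X → NPC p X)
    (h𝒢 : 𝒢.mem G)
    (H : Subgroup G) [hHnorm : H.Normal] (hHp : IsPGroup p H) (hHne : H ≠ ⊥)
    (hM2 : ∀ Q : Subgroup G, IsPGroup p Q → Q ≠ ⊥ → ee p H ≤ ee p Q → Nat.card H < Nat.card Q →
        NPC p ↥(Subgroup.normalizer (Q : Set G))) :
    NPC p (G ⧸ H) := by
  have hpp : p.Prime := Fact.out
  have hπs : Function.Surjective (QuotientGroup.mk' H) := QuotientGroup.mk'_surjective H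
  have hH1 : 1 < Nat.card H := (Subgroup.one_lt_card_iff_ne_bot _).2 hHne
  have hlt : Nat.card (G ⧸ H) < Nat.card G := by
    rw [Subgroup.card_eq_card_quotient_mul_card_subgroup H]
    have : 0 < Nat.card (G ⧸ H) := Nat.card_pos
    nlinarith
  apply IH (G ⧸ H) hlt (𝒢.quot G H h𝒢)
  intro Pb
  obtain ⟨P', hP'⟩ := Sylow.mapSurjective_surjective hπs p Pb
  have hcoe : (Pb : Subgroup (G ⧸ H)) = (P' : Subgroup G).map (QuotientGroup.mk' H) := by
    rw [← hP', Sylow.coe_mapSurjective]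
  by_cases hb : (Pb : Subgroup (G ⧸ H)) = ⊥
  · apply npc_of_coprime
    have h1 : ¬ p ∣ (Pb : Subgroup (G ⧸ H)).index := Pb.not_dvd_index
    rw [hb, Subgroup.index_bot] at h1
    have h2 : (Nat.card (G ⧸ H)).Coprime p := ((Nat.Prime.coprime_iff_not_dvd hpp).2 h1).symm
    exact Nat.Coprime.coprime_dvd_left (Subgroup.card_subgroup_dvd_card _) h2
  · set WPb := 𝒲.W (G ⧸ H) (Pb : Subgroup (G ⧸ H)) with hWPb
    have hWPbne : WPb ≠ ⊥ := 𝒲.ne_bot (G ⧸ H) _ Pb.isPGroup' hb
    have hWPbp : IsPGroup p WPb := Pb.isPGroup'.to_le (𝒲.le _ _)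
    set L := WPb.comap (QuotientGroup.mk' H) with hL
    have hLp : IsPGroup p L := by
      apply hWPbp.comap_of_ker_isPGroup
      rw [QuotientGroup.ker_mk']
      exact hHp
    have hHL : H ≤ L := by
      intro h hh
      rw [hL, Subgroup.mem_comap]
      have : QuotientGroup.mk' H h = 1 := (QuotientGroup.eq_one_iff h).2 hh
      rw [this]; exact Subgroup.one_mem _
    have hLne : L ≠ ⊥ := by
      intro h0
      apply hHne
      rw [eq_bot_iff, ← h0]; exact hHL
    have hcardL : Nat.card H < Nat.card L := by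
      rw [hL, Cfsg.Agent.Lib.Lead_Hall.card_comap_mk]
      have : 1 < Nat.card WPb := (Subgroup.one_lt_card_iff_ne_bot _).2 hWPbne
      nlinarith
    have hP'N : (P' : Subgroup G) ≤ Subgroup.normalizer (L : Set G) := by
      intro x hx
      have h1 : QuotientGroup.mk' H x ∈ (Pb : Subgroup (G ⧸ H)) := by
        rw [hcoe]; exact ⟨x, hx, rfl⟩
      have h2 : QuotientGroup.mk' H x ∈ Subgroup.normalizer (WPb : Set (G ⧸ H)) :=
        W_char 𝒲 _ Pb.isPGroup' (Subgroup.le_normalizer h1)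
      exact Subgroup.le_normalizer_comap (QuotientGroup.mk' H) h2
    have hee : ee p H ≤ ee p L := by
      refine le_trans (ee_le H) ?_
      exact le_ee L P' hP'N _ P'.card_eq_multiplicity
    have h3 := hM2 L hLp hLne hee hcardL
    have hnorm : Subgroup.normalizer (L : Set G) =
        (Subgroup.normalizer (WPb : Set (G ⧸ H))).comap (QuotientGroup.mk' H) :=
      (Subgroup.comap_normalizer_eq_of_surjective WPb hπs).symm
    set N₁ := Subgroup.normalizer (L : Set G) with hN₁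
    set N₂ := Subgroup.normalizer (WPb : Set (G ⧸ H)) with hN₂
    have hmem : ∀ x : ↥N₁, QuotientGroup.mk' H (x : G) ∈ N₂ := by
      rintro ⟨x, hx⟩
      rw [hnorm] at hx
      exact hx
    let f : ↥N₁ →* ↥N₂ := ((QuotientGroup.mk' H).comp N₁.subtype).codRestrict N₂ hmem
    have hf : Function.Surjective f := by
      rintro ⟨y, hy⟩
      obtain ⟨x, rfl⟩ := hπs y
      have hx : x ∈ N₁ := by rw [hnorm]; exact hy
      exact ⟨⟨x, hx⟩, rfl⟩
    exact npc_of_surjective f hf h3


theorem pprime_normal_eq_bot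
    (IH : ∀ (X : Type u) [Group X] [Finite X], Nat.card X < Nat.card G → 𝒢.mem X → Hyp 𝒲 X → NPC p X)
    (h𝒢 : 𝒢.mem G)
    (hG : Hyp 𝒲 G) (hno : ¬ NPC p G) (D : Subgroup G) [hDn : D.Normal]
    (hD : (Nat.card D).Coprime p) : D = ⊥ := by
  by_contra hne
  apply hno
  apply npc_of_quotient D hD
  have hD1 : 1 < Nat.card D := (Subgroup.one_lt_card_iff_ne_bot _).2 hne
  have hlt : Nat.card (G ⧸ D) < Nat.card G := by
    rw [Subgroup.card_eq_card_quotient_mul_card_subgroup D]
    have : 0 < Nat.card (G ⧸ D) := Nat.card_pos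
    nlinarith
  exact IH (G ⧸ D) hlt (𝒢.quot G D h𝒢) (hyp_quotient 𝒲 D hD hG)


set_option maxHeartbeats 1000000 in
/-- Any `P'`-invariant subgroup between `H` and `K` is `H` or `K`. -/
theorem between
    (IH : ∀ (X : Type u) [Group X] [Finite X], Nat.card X < Nat.card G → 𝒢.mem X → Hyp 𝒲 X → NPC p X)
    (h𝒢 : 𝒢.mem G)
    (hG : Hyp 𝒲 G)
    (H K : Subgroup G) [hHn : H.Normal] [hKn : K.Normal] (hHp : IsPGroup p H)
    (hcop : (H.relIndex K).Coprime p)
    (hcent : Subgroup.centralizer (H : Set G) ≤ H) (P' : Sylow p G)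
    (Y : Subgroup G) (hHY : H ≤ Y) (hYK : Y ≤ K)
    (hPY : (P' : Subgroup G) ≤ Subgroup.normalizer (Y : Set G)) : Y = H ∨ Y = K := by
  have hpp : p.Prime := Fact.out
  have hpel : ∀ x ∈ K, (∃ t, x ^ (p ^ t) = 1) → x ∈ H := fun x hx ⟨t, ht⟩ =>
    Cfsg.Agent.Lib.Lead_PStab2.pElement_mem H K hcop hx t ht
  have hpel' : ∀ x ∈ (P' : Subgroup G), ∃ t, x ^ (p ^ t) = 1 := by
    intro x hx
    obtain ⟨t, ht⟩ := P'.isPGroup' ⟨x, hx⟩
    exact ⟨t, by simpa using congrArg (fun z : ↥(P' : Subgroup G) => (z : G)) ht⟩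
  set M := Y ⊔ (P' : Subgroup G) with hM
  by_cases hMtop : M = ⊤
  · right
    apply le_antisymm hYK
    intro k hk
    have h1 : k ∈ (↑(Y ⊔ (P' : Subgroup G)) : Set G) := by
      show k ∈ M
      rw [hMtop]; trivial
    rw [Subgroup.coe_mul_of_right_le_normalizer_left Y P' hPY, Set.mem_mul] at h1
    obtain ⟨y, hy, x, hx, rfl⟩ := h1
    have hxK : x ∈ K := by
      have e : x = y⁻¹ * (y * x) := by group
      rw [e]
      exact K.mul_mem (K.inv_mem (hYK hy)) hk
    exact Y.mul_mem hy (hHY (hpel x hxK (hpel' x hx)))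
  · left
    apply le_antisymm _ hHY
    have hlt : Nat.card M < Nat.card G := by
      have := Cfsg.Agent.Lib.Lead_SZ.card_lt (lt_top_iff_ne_top.2 hMtop)
      rwa [Subgroup.card_top] at this
    have hPM : (P' : Subgroup G) ≤ M := le_sup_right
    have hYM : Y ≤ M := le_sup_left
    obtain ⟨T, hTn, hTc, k, hk⟩ := IH ↥M hlt (𝒢.sub G M h𝒢) (hyp_of_sylow_le 𝒲 hG M P' hPM)
    haveI := hTn
    haveI hH'n : (H.subgroupOf M).Normal := inferInstance
    have hH'p : IsPGroup p (H.subgroupOf M) := hHp.comap_subtype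
    have hTcent := commute_of_coprime_normal T (H.subgroupOf M) hTc hH'p
    have hTbot : T = ⊥ := by
      rw [eq_bot_iff]
      intro t ht
      rw [Subgroup.mem_bot]
      have h1 := hTcent ht
      rw [Subgroup.mem_centralizer_iff] at h1
      have h2 : ((t : ↥M) : G) ∈ Subgroup.centralizer (H : Set G) := by
        rw [Subgroup.mem_centralizer_iff]
        intro h hh
        have := h1 ⟨h, hYM (hHY hh)⟩ (Subgroup.mem_subgroupOf.2 hh)
        exact congrArg Subtype.val this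
      have h3 : ((t : ↥M) : G) ∈ H := hcent h2
      obtain ⟨j, hj⟩ := hHp ⟨_, h3⟩
      have hj' : t ^ (p ^ j) = 1 := by
        apply Subtype.ext
        have := congrArg (fun z : ↥H => (z : G)) hj
        simpa using this
      have h4 : orderOf t ∣ p ^ j := orderOf_dvd_of_pow_eq_one hj'
      have h5 : orderOf t ∣ Nat.card T := by
        have := orderOf_dvd_natCard (⟨t, ht⟩ : ↥T)
        rwa [← Subgroup.orderOf_coe] at this
      have h6 : orderOf t = 1 :=
        Nat.Coprime.eq_one_of_dvd ((hTc.pow_right j).coprime_dvd_left h5) h4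
      exact orderOf_eq_one_iff.1 h6
    have hMp : IsPGroup p ↥M := by
      rw [hTbot, Subgroup.index_bot] at hk
      exact IsPGroup.of_card hk
    intro y hy
    apply hpel y (hYK hy)
    obtain ⟨t, ht⟩ := hMp ⟨y, hYM hy⟩
    exact ⟨t, by simpa using congrArg (fun z : ↥M => (z : G)) ht⟩


end

/-- The final configuration of a minimal counterexample. -/
def EndConfig (p : ℕ) (X : Type u) [Group X] : Prop :=
  ∃ H K : Subgroup X, H.Normal ∧ K.Normal ∧ IsPGroup p H ∧ H = Cfsg.pCore p X ∧ H ≤ K ∧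
    ⁅K, K⁆ ≤ H ∧ (H.relIndex K).Coprime p ∧ (∃ k, K.index = p ^ k) ∧
    Subgroup.centralizer (H : Set X) ≤ H ∧ ∀ P : Sylow p X, IsCoatom (P : Subgroup X)

section
variable {G : Type u} [Group G] [Finite G]

theorem coatom_of_between (hno : ¬ NPC p G) (H K : Subgroup G) [hHn : H.Normal] [hKn : K.Normal]
    (hHp : IsPGroup p H) (hHK : H ≤ K) (hKi : ∃ k, K.index = p ^ k) (P' : Sylow p G)
    (hbetween : ∀ Y : Subgroup G, H ≤ Y → Y ≤ K →
      (P' : Subgroup G) ≤ Subgroup.normalizer (Y : Set G) → Y = H ∨ Y = K) :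
    IsCoatom (P' : Subgroup G) := by
  have hHP : H ≤ (P' : Subgroup G) := normal_pGroup_le_sylow H hHn hHp P'
  have htop : (P' : Subgroup G) ⊔ K = ⊤ := by
    apply sylow_sup_eq_top K _ P'
    intro n
    obtain ⟨k, hk⟩ := hKi
    exact ⟨k, by rw [← hk]; exact K.pow_index_mem n⟩
  refine ⟨?_, ?_⟩
  · intro h
    apply hno
    apply npc_of_pGroup
    intro g
    obtain ⟨k, hk⟩ := P'.isPGroup' ⟨g, by rw [h]; trivial⟩
    exact ⟨k, by simpa using congrArg Subtype.val hk⟩
  · intro M hM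
    have hPM : (P' : Subgroup G) ≤ M := hM.le
    have hPY : (P' : Subgroup G) ≤ Subgroup.normalizer ((M ⊓ K : Subgroup G) : Set G) := by
      intro x hx
      refine Cfsg.Agent.Lib.Lead_Coprime.mem_normalizer_of_conj_mem ?_ ?_
      · rintro n ⟨hn1, hn2⟩
        exact ⟨M.mul_mem (M.mul_mem (hPM hx) hn1) (M.inv_mem (hPM hx)), hKn.conj_mem n hn2 x⟩
      · rintro n ⟨hn1, hn2⟩
        refine ⟨M.mul_mem (M.mul_mem (M.inv_mem (hPM hx)) hn1) (hPM hx), ?_⟩
        have := hKn.conj_mem n hn2 x⁻¹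
        rwa [inv_inv] at this
    rcases hbetween (M ⊓ K) (le_inf (hHP.trans hPM) hHK) inf_le_right hPY with h1 | h1
    · exfalso
      apply not_le_of_gt hM
      intro m hm
      have hm' : m ∈ (↑((P' : Subgroup G) ⊔ K) : Set G) := by
        show m ∈ (P' : Subgroup G) ⊔ K
        rw [htop]; trivial
      rw [Subgroup.mul_normal, Set.mem_mul] at hm'
      obtain ⟨x, hx, k, hk, rfl⟩ := hm'
      have hkM : k ∈ M := by
        have e : k = x⁻¹ * (x * k) := by group
        rw [e]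
        exact M.mul_mem (M.inv_mem (hPM hx)) hm
      have hkH : k ∈ H := by
        rw [← h1]; exact ⟨hkM, hk⟩
      exact Subgroup.mul_mem _ hx (hHP hkH)
    · rw [eq_top_iff, ← htop]
      refine sup_le hPM ?_
      rw [← h1]; exact inf_le_left

set_option maxHeartbeats 1000000 in
theorem step_b
    (hend : ∀ (X : Type u) [Group X] [Finite X], 𝒢.mem X → EndConfig p X →
      ∀ S : Sylow p X, (𝒲.W X (S : Subgroup X)).Normal)
    (IH : ∀ (X : Type u) [Group X] [Finite X], Nat.card X < Nat.card G → 𝒢.mem X →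
      Hyp 𝒲 X → NPC p X)
    (h𝒢 : 𝒢.mem G) (hG : Hyp 𝒲 G) : NPC p G := by
  by_contra hno
  obtain ⟨H, hHp, hHne, hHbad, hM1, hM2⟩ := exists_bad hno
  have hHtop := normalizer_eq_top 𝒲 𝒢 IH h𝒢 hG H hHp hHne hHbad hM1
  haveI hHn : H.Normal := Subgroup.normalizer_eq_top_iff.1 hHtop
  have hHO := eq_pCore hno H hHp hHne hHtop hM2
  have hq := npc_quot 𝒲 𝒢 IH h𝒢 H hHp hHne hM2
  obtain ⟨K, hKn, hHK, hcop, hKi⟩ := exists_K H hq
  haveI := hKn
  have hbot : ∀ (D : Subgroup G) [D.Normal], (Nat.card D).Coprime p → D = ⊥ :=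
    fun D _ hD => pprime_normal_eq_bot 𝒲 𝒢 IH h𝒢 hG hno D hD
  have hcent := centralizer_le hbot H K hHp hHO hHK hcop hKi
  obtain ⟨P'⟩ : Nonempty (Sylow p G) := inferInstance
  have hbetween := fun P' : Sylow p G => between 𝒲 𝒢 IH h𝒢 hG H K hHp hcop hcent P'
  have hab := comm_le H K hHp hHK hcop P' (hbetween P')
  have hE : EndConfig p G :=
    ⟨H, K, hHn, hKn, hHp, hHO, hHK, hab, hcop, hKi, hcent,
      fun P => coatom_of_between hno H K hHp hHK hKi P (hbetween P)⟩
  have hWn := hend G h𝒢 hE P'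
  apply hno
  exact npc_of_eq_top (Subgroup.normalizer_eq_top_iff.2 hWn) (hG P')

end

theorem main_aux_b
    (hend : ∀ (X : Type u) [Group X] [Finite X], 𝒢.mem X → EndConfig p X →
      ∀ S : Sylow p X, (𝒲.W X (S : Subgroup X)).Normal) :
    ∀ n : ℕ, ∀ (G : Type u) [Group G] [Finite G],
    Nat.card G = n → 𝒢.mem G → Hyp 𝒲 G → NPC p G := by
  intro n
  induction n using Nat.strong_induction_on with
  | _ n ih =>
  intro G _ _ hn h𝒢 hG
  apply step_b 𝒲 𝒢 hend _ h𝒢 hG
  intro X _ _ hX hX𝒢 hXH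
  exact ih (Nat.card X) (hn ▸ hX) X rfl hX𝒢 hXH

/-- The generic normal `p`-complement theorem, second version. -/
theorem main_b
    (hend : ∀ (X : Type u) [Group X] [Finite X], 𝒢.mem X → EndConfig p X →
      ∀ S : Sylow p X, (𝒲.W X (S : Subgroup X)).Normal)
    (G : Type u) [Group G] [Finite G] (h𝒢 : 𝒢.mem G) (hG : Hyp 𝒲 G) : NPC p G :=
  main_aux_b 𝒲 𝒢 hend _ G rfl h𝒢 hG

/-- The hypothesis for one Sylow subgroup gives it for all. -/
theorem hyp_of_single {G : Type u} [Group G] [Finite G] (P : Sylow p G)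
    (h : NPC p ↥(Subgroup.normalizer ((𝒲.W G (P : Subgroup G) : Subgroup G) : Set G))) :
    Hyp 𝒲 G := by
  intro P₂
  obtain ⟨g, hg⟩ := MulAction.exists_smul_eq G P₂ P
  have hcoe : (P : Subgroup G) = (P₂ : Subgroup G).map (MulAut.conj g).toMonoidHom := by
    rw [← hg, Sylow.coe_subgroup_smul]
    rfl
  have hW : 𝒲.W G (P : Subgroup G) = (𝒲.W G (P₂ : Subgroup G)).map (MulAut.conj g).toMonoidHom := by
    rw [hcoe]
    exact 𝒲.map G G (MulAut.conj g).toMonoidHom P₂ P₂.isPGroup' (MulAut.conj g).injective.injOn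
  set N₁ := Subgroup.normalizer ((𝒲.W G (P₂ : Subgroup G) : Subgroup G) : Set G) with hN₁
  set N₂ := Subgroup.normalizer ((𝒲.W G (P : Subgroup G) : Subgroup G) : Set G) with hN₂
  have hmem : ∀ x : ↥N₁, (MulAut.conj g).toMonoidHom (x : G) ∈ N₂ := by
    intro x
    rw [hN₂, hW]
    exact Subgroup.le_normalizer_map _ ⟨x.1, x.2, rfl⟩
  let f : ↥N₁ →* ↥N₂ := ((MulAut.conj g).toMonoidHom.comp N₁.subtype).codRestrict N₂ hmem
  have hf : Function.Injective f := by
    intro x y hxy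
    have h1 := congrArg Subtype.val hxy
    exact Subtype.ext ((MulAut.conj g).injective h1)
  exact npc_of_injective f hf h

end Cfsg.Agent.Lib.Lead_GTb
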