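import Mathlib
import Cfsg.Prelude.Def_PLocal
import Cfsg.Agent.Lib.Lead_GTb
import Cfsg.Agent.Lib.Lead_PStab2

/-!
# The final configuration of the Glauberman–Thompson reduction is `p`-stable in the action sense
-/

namespace Cfsg.Agent.Lib.Lead_ActStab

open Cfsg.Agent.Lib.Helper7_NPC Cfsg.Agent.Lib.Helper4_PCore Cfsg.Agent.Lib.Lead_GT1
  Cfsg.Agent.Lib.Lead_GTb Cfsg.Agent.Lib.Lead_PStab2
open scoped commutatorElement

universe u

section
variable {G : Type*} [Group G]

theorem relIndex_subgroupOf_dvd (H K N : Subgroup G) [H.Normal] :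
    (H.subgroupOf N).relIndex (K.subgroupOf N) ∣ H.relIndex K := by
  rw [← Subgroup.inf_subgroupOf_right K N, Subgroup.relIndex_subgroupOf inf_le_right,
    ← Subgroup.relIndex_subgroupOf (inf_le_left : K ⊓ N ≤ K)]
  exact Subgroup.relIndex_dvd_index_of_normal (H := H.subgroupOf K)
    (K := (K ⊓ N).subgroupOf K)

end

section
variable {X : Type u} [Group X] [Finite X] {p : ℕ} [Fact p.Prime]

/-- `p`-stability on the normal subgroups of a subgroup `N`. -/
theorem stableOn_subgroup (hp2 : p ≠ 2) (H K : Subgroup X) [hHn : H.Normal] [hKn : K.Normal]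
    (hHp : IsPGroup p H) (hab : ⁅K, K⁆ ≤ H) (hcop : (H.relIndex K).Coprime p)
    (hKi : ∃ j, K.index = p ^ j) (N : Subgroup X) (V : Subgroup ↥N) [V.Normal]
    (hVp : IsPGroup p V) : Cfsg.IsPStableOn p V := by
  have hpp : p.Prime := Fact.out
  apply ps2 hp2 (H.subgroupOf N) (K.subgroupOf N) hHp.comap_subtype _ _ _ V hVp
  · rw [Subgroup.commutator_le]
    intro a ha b hb
    rw [Subgroup.mem_subgroupOf] at ha hb ⊢
    apply hab
    have : ((⁅a, b⁆ : ↥N) : X) = ⁅(a : X), (b : X)⁆ := by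
      simp [commutatorElement_def]
    rw [this]
    exact Subgroup.commutator_mem_commutator ha hb
  · exact Nat.Coprime.coprime_dvd_left (relIndex_subgroupOf_dvd H K N) hcop
  · obtain ⟨j, hj⟩ := hKi
    have h1 : (K.subgroupOf N).index ∣ K.index :=
      Subgroup.relIndex_dvd_index_of_normal (H := K) (K := N)
    rw [hj] at h1
    obtain ⟨i, -, hi⟩ := (Nat.dvd_prime_pow hpp).1 h1
    exact ⟨i, hi⟩

set_option maxHeartbeats 2000000 in
/-- `p`-stability on a section `O / Φ` with `Φ ≤ H`. -/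
theorem stableOnSection (hp2 : p ≠ 2) (H K : Subgroup X) [hHn : H.Normal] [hKn : K.Normal]
    (hHp : IsPGroup p H) (hHK : H ≤ K) (hab : ⁅K, K⁆ ≤ H) (hcop : (H.relIndex K).Coprime p)
    (hKi : ∃ j, K.index = p ^ j) (O Φ : Subgroup X) [hOn : O.Normal] [hΦn : Φ.Normal]
    (hOp : IsPGroup p O) (hΦH : Φ ≤ H) :
    Cfsg.IsPStableOnSection p O Φ := by
  have hpp : p.Prime := Fact.out
  intro a ha
  set π := QuotientGroup.mk' Φ with hπ
  have hπs : Function.Surjective π := QuotientGroup.mk'_surjective Φ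
  have hker : π.ker = Φ := QuotientGroup.ker_mk' Φ
  haveI hHb : (H.map π).Normal := hHn.map π hπs
  haveI hKb : (K.map π).Normal := hKn.map π hπs
  haveI hVb : (O.map π).Normal := hOn.map π hπs
  have hcomapH : (H.map π).comap π = H := by
    rw [Subgroup.comap_map_eq, hker, sup_eq_left.2 hΦH]
  have hst : Cfsg.IsPStableOn p (O.map π) := by
    apply ps2 hp2 (H.map π) (K.map π) (hHp.map π) _ _ _ (O.map π) (hOp.map π)
    · rw [← Subgroup.map_commutator]
      exact Subgroup.map_mono hab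
    · have h1 := Subgroup.relIndex_comap (H.map π) π K
      rw [hcomapH] at h1
      rw [← h1]; exact hcop
    · obtain ⟨j, hj⟩ := hKi
      refine ⟨j, ?_⟩
      rw [Subgroup.index_map_eq K hπs (by rw [hker]; exact hΦH.trans hHK)]
      exact hj
  have hquad : ⁅⁅O.map π, Subgroup.zpowers (π a)⁆, Subgroup.zpowers (π a)⁆ = ⊥ := by
    rw [← MonoidHom.map_zpowers, ← Subgroup.map_commutator, ← Subgroup.map_commutator,
      eq_bot_iff]
    calc (⁅⁅O, Subgroup.zpowers a⁆, Subgroup.zpowers a⁆).map π ≤ Φ.map π := Subgroup.map_mono ha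
      _ = ⊥ := (Subgroup.map_eq_bot_iff _).2 (le_of_eq hker.symm)
  have h1 := hst (π a) hquad
  set Cb := Subgroup.centralizer ((O.map π : Subgroup (X ⧸ Φ)) : Set (X ⧸ Φ)) with hCb
  set Pc := Cfsg.pCore p ((X ⧸ Φ) ⧸ Cb) with hPc
  haveI hPcn : Pc.Normal := pCore_normal p _
  have hPcp : IsPGroup p Pc := pCore_isPGroup
  set Db := Pc.comap (QuotientGroup.mk' Cb) with hDb
  have hCbDb : Cb ≤ Db := by
    intro c hc
    rw [hDb, Subgroup.mem_comap]
    have : QuotientGroup.mk' Cb c = 1 := (QuotientGroup.eq_one_iff c).2 hc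
    rw [this]; exact Subgroup.one_mem _
  refine ⟨Db.comap π, (hPcn.comap _).comap π, ?_, ?_, ?_⟩
  · show Cb.comap π ≤ Db.comap π
    exact Subgroup.comap_mono hCbDb
  · obtain ⟨k, hk⟩ := IsPGroup.iff_card.1 hPcp
    refine ⟨k, ?_⟩
    show (Cb.comap π).relIndex (Db.comap π) = p ^ k
    rw [Subgroup.relIndex_comap, Subgroup.map_comap_eq_self_of_surjective hπs]
    have h2 := Subgroup.relIndex_comap (H := (⊥ : Subgroup ((X ⧸ Φ) ⧸ Cb)))
      (QuotientGroup.mk' Cb) Db
    rw [MonoidHom.comap_bot, QuotientGroup.ker_mk', Subgroup.relIndex_bot_left, hDb,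
      Subgroup.map_comap_eq_self_of_surjective (QuotientGroup.mk'_surjective Cb)] at h2
    rw [hDb, h2, hk]
  · show π a ∈ Db
    exact h1

/-- The final configuration is `p`-stable in the action sense. -/
theorem actionPStable_of_endConfig (hp2 : p ≠ 2) (hE : EndConfig p X) :
    Cfsg.IsActionPStable p X := by
  obtain ⟨H, K, hHn, hKn, hHp, hHO, hHK, hab, hcop, hKi, hcent, -⟩ := hE
  refine ⟨?_, ?_, ?_⟩
  · intro V _ hV
    apply ps2 hp2 H K hHp hab hcop hKi V
    intro x
    refine ⟨1, ?_⟩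
    apply Subtype.ext
    simpa using hV.2 x x.2
  · subst hHO
    apply stableOnSection hp2 (Cfsg.pCore p X) K hHp hHK hab hcop hKi _ _ hHp
    exact Subgroup.map_subtype_le _
  · intro S V _ hV
    apply stableOn_subgroup hp2 H K hHp hab hcop hKi _ V
    have h1 : IsPGroup p (V.map (Subgroup.normalizer
        (Cfsg.thompsonSubgroupOf p (S : Subgroup X) : Set X)).subtype) := by
      apply S.isPGroup'.to_le
      exact hV.trans (Subgroup.map_subtype_le _)
    exact h1.comap_of_injective _ (Subgroup.subtype_injective _) |>.to_le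
      (Subgroup.le_comap_map _ _)

end

end Cfsg.Agent.Lib.Lead_ActStab
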