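import Mathlib
import Cfsg.Prelude.Def_Solvable
import Cfsg.Agent.Lib.Lead_SZ
import Cfsg.Agent.Lib.Lead_Frob

/-! Schmidt's theorem: ingredients. -/

namespace Cfsg.Agent.Lib.Lead_Schmidt

open Cfsg Cfsg.Agent.Lib.Lead_SZ Cfsg.Agent.Lib.Lead_Frob
open scoped Pointwise

variable {G : Type*} [Group G]

/-- Conjugation as an order isomorphism of the subgroup lattice. -/
def conjOrderIso (g : G) : Subgroup G ≃o Subgroup G where
  toFun := fun H => MulAut.conj g • H
  invFun := fun H => (MulAut.conj g)⁻¹ • H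
  left_inv := fun H => inv_smul_smul _ H
  right_inv := fun H => smul_inv_smul _ H
  map_rel_iff' := Subgroup.pointwise_smul_le_pointwise_smul_iff

theorem isCoatom_conj {M : Subgroup G} (hM : IsCoatom M) (g : G) :
    IsCoatom (MulAut.conj g • M) :=
  ((conjOrderIso g).isCoatom_iff M).mpr hM

/-- A subgroup of a nilpotent subgroup is nilpotent. -/
theorem isNilpotent_of_le {N M : Subgroup G} (hNM : N ≤ M) (hM : Group.IsNilpotent M) :
    Group.IsNilpotent N := by
  haveI := hM
  exact nilpotent_of_mulEquiv (Subgroup.subgroupOfEquivOfLe hNM)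

/-- Normalizers grow in nilpotent subgroups. -/
theorem exists_mem_normalizer_not_mem {D M : Subgroup G} (hM : Group.IsNilpotent M)
    (hDM : D < M) : ∃ x ∈ M, x ∈ Subgroup.normalizer (D : Set G) ∧ x ∉ D := by
  haveI := hM
  have hlt : D.subgroupOf M < ⊤ := by
    rw [lt_top_iff_ne_top]
    intro h
    rw [Subgroup.subgroupOf_eq_top] at h
    exact absurd (le_antisymm hDM.le h) hDM.ne
  have h1 := normalizerCondition_of_isNilpotent (G := M) (D.subgroupOf M) hlt
  obtain ⟨x, hx1, hx2⟩ := SetLike.exists_of_lt h1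
  rw [← Subgroup.subgroupOf_normalizer_eq hDM.le] at hx1
  exact ⟨x, x.2, hx1, hx2⟩


/-- In a simple group whose maximal subgroups are nilpotent, distinct maximal subgroups
meet trivially. -/
theorem coatom_inf_eq_bot [Finite G]
    (hsimple : ∀ N : Subgroup G, N.Normal → N = ⊥ ∨ N = ⊤)
    (h : ∀ M : Subgroup G, IsCoatom M → Group.IsNilpotent M) :
    ∀ (k : ℕ) (M₁ M₂ : Subgroup G), IsCoatom M₁ → IsCoatom M₂ → M₁ ≠ M₂ →
      Nat.card G - Nat.card (M₁ ⊓ M₂ : Subgroup G) = k → M₁ ⊓ M₂ = ⊥ := by
  intro k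
  induction k using Nat.strong_induction_on with
  | _ k ih =>
    intro M₁ M₂ h1 h2 hne hk
    by_contra hbot
    obtain ⟨D, hD⟩ : ∃ D : Subgroup G, D = M₁ ⊓ M₂ := ⟨_, rfl⟩
    rw [← hD] at hbot hk
    have hD1 : D < M₁ := by
      refine lt_of_le_of_ne (hD ▸ inf_le_left) ?_
      intro he
      have : M₁ ≤ M₂ := by rw [← he, hD]; exact inf_le_right
      rcases eq_or_lt_of_le this with e | e
      · exact hne e
      · exact h2.1 (h1.2 _ e)
    have hD2 : D < M₂ := by
      refine lt_of_le_of_ne (hD ▸ inf_le_right) ?_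
      intro he
      have : M₂ ≤ M₁ := by rw [← he, hD]; exact inf_le_left
      rcases eq_or_lt_of_le this with e | e
      · exact hne e.symm
      · exact h1.1 (h2.2 _ e)
    have hN : Subgroup.normalizer (D : Set G) ≠ ⊤ := by
      intro hN
      have : D.Normal := Subgroup.normalizer_eq_top_iff.mp hN
      rcases hsimple D this with e | e
      · exact hbot e
      · rw [e] at hD1; exact h1.1 (top_le_iff.mp hD1.le)
    obtain ⟨M₃, h3, hN3⟩ := (eq_top_or_exists_le_coatom _).resolve_left hN
    have step : ∀ M : Subgroup G, IsCoatom M → D < M → M = M₃ := by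
      intro M hM hDM
      by_contra hMne
      obtain ⟨x, hxM, hxN, hxD⟩ := exists_mem_normalizer_not_mem (h M hM) hDM
      have hle : D ≤ M ⊓ M₃ := le_inf hDM.le (le_trans Subgroup.le_normalizer hN3)
      have hlt : D < M ⊓ M₃ := by
        refine lt_of_le_of_ne hle ?_
        intro he
        apply hxD
        rw [he]
        exact Subgroup.mem_inf.mpr ⟨hxM, hN3 hxN⟩
      have hcard : Nat.card D < Nat.card (M ⊓ M₃ : Subgroup G) := card_lt hlt
      have hle' : Nat.card (M ⊓ M₃ : Subgroup G) ≤ Nat.card G := Subgroup.card_le_card_group _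
      have := ih (Nat.card G - Nat.card (M ⊓ M₃ : Subgroup G)) (by omega) M M₃ hM h3 hMne rfl
      rw [this] at hle
      exact hbot (le_bot_iff.mp hle)
    exact hne ((step M₁ h1 hD1).trans (step M₂ h2 hD2).symm)


theorem comm_of_bot_isCoatom (hbot : IsCoatom (⊥ : Subgroup G)) : ∀ a b : G, a * b = b * a := by
  intro a b
  by_cases ha : a = 1
  · rw [ha, one_mul, mul_one]
  · have hz : Subgroup.zpowers a = ⊤ := by
      apply hbot.2
      rw [bot_lt_iff_ne_bot]
      intro h
      exact ha (Subgroup.zpowers_eq_bot.mp h)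
    have hb : b ∈ Subgroup.zpowers a := by rw [hz]; trivial
    obtain ⟨n, rfl⟩ := Subgroup.mem_zpowers_iff.mp hb
    exact ((Commute.refl a).zpow_right n).eq

/-- In a simple non-abelian group whose maximal subgroups are nilpotent, every maximal subgroup
is a Frobenius complement. -/
theorem coatom_isFrobeniusComplement [Finite G]
    (hsimple : ∀ N : Subgroup G, N.Normal → N = ⊥ ∨ N = ⊤)
    (hnc : ¬ ∀ a b : G, a * b = b * a)
    (h : ∀ M : Subgroup G, IsCoatom M → Group.IsNilpotent M)
    {M : Subgroup G} (hM : IsCoatom M) : IsFrobeniusComplement M := by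
  have hMbot : M ≠ ⊥ := by
    intro e
    rw [e] at hM
    exact hnc (comm_of_bot_isCoatom hM)
  refine ⟨hMbot, hM.1, ?_⟩
  intro g hg
  refine coatom_inf_eq_bot hsimple h _ M _ hM (isCoatom_conj hM g) ?_ rfl
  intro he
  have hgN : g ∈ Subgroup.normalizer (M : Set G) := by
    rw [Subgroup.mem_normalizer_iff_map_conj_eq]  
    exact he.symm
  have hNM : Subgroup.normalizer (M : Set G) = M := by
    rcases eq_or_lt_of_le (Subgroup.le_normalizer (H := M)) with e | e
    · exact e.symm
    · exfalso
      have : M.Normal := Subgroup.normalizer_eq_top_iff.mp (hM.2 _ e)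
      rcases hsimple M this with e' | e'
      · exact hMbot e'
      · exact hM.1 e'
  rw [hNM] at hgN
  exact hg hgN


theorem two_mul_index_le [Finite G] {M : Subgroup G} (hM : M ≠ ⊥) :
    2 * M.index ≤ Nat.card G := by
  have h1 : 1 < Nat.card M := M.one_lt_card_iff_ne_bot.mpr hM
  have h2 := M.card_mul_index
  nlinarith

/-- No simple non-abelian finite group has all maximal subgroups nilpotent. -/
theorem false_of_simple [Finite G]
    (hsimple : ∀ N : Subgroup G, N.Normal → N = ⊥ ∨ N = ⊤)
    (hnc : ¬ ∀ a b : G, a * b = b * a)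
    (h : ∀ M : Subgroup G, IsCoatom M → Group.IsNilpotent M) : False := by
  classical
  have hnt : (⊥ : Subgroup G) ≠ ⊤ := by
    intro e
    apply hnc
    intro a b
    have ha : a ∈ (⊥ : Subgroup G) := by rw [e]; trivial
    rw [Subgroup.mem_bot.mp ha, one_mul, mul_one]
  obtain ⟨M, hM, -⟩ := (eq_top_or_exists_le_coatom (⊥ : Subgroup G)).resolve_left hnt
  have hF := coatom_isFrobeniusComplement hsimple hnc h hM
  have hcK := card_kernel hF
  have hidx : 2 ≤ M.index := by
    have h0 : M.index ≠ 0 := Subgroup.index_ne_zero_of_finite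
    have h1 : M.index ≠ 1 := fun e => hM.1 (Subgroup.index_eq_one.mp e)
    omega
  -- a nontrivial element of the kernel
  have hx : ∃ x ∈ frobeniusKernel M, x ≠ 1 := by
    by_contra hcon
    push_neg at hcon
    have hsub : frobeniusKernel M ⊆ {1} := fun x hx => hcon x hx
    have := Set.ncard_le_ncard hsub (Set.finite_singleton _)
    rw [Set.ncard_singleton, ← Nat.card_coe_set_eq, hcK] at this
    omega
  obtain ⟨x, hxK, hx1⟩ := hx
  have hzx : Subgroup.zpowers x ≠ ⊤ := by
    intro e
    apply hnc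
    intro a b
    have ha : a ∈ Subgroup.zpowers x := by rw [e]; trivial
    have hb : b ∈ Subgroup.zpowers x := by rw [e]; trivial
    obtain ⟨m, rfl⟩ := Subgroup.mem_zpowers_iff.mp ha
    obtain ⟨n, rfl⟩ := Subgroup.mem_zpowers_iff.mp hb
    exact (((Commute.refl x).zpow_right n).zpow_left m).eq
  obtain ⟨M', hM', hxM'⟩ := (eq_top_or_exists_le_coatom _).resolve_left hzx
  have hxM'' : x ∈ M' := hxM' (Subgroup.mem_zpowers x)
  have hF' := coatom_isFrobeniusComplement hsimple hnc h hM'
  have hcK' := card_kernel hF'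
  have hsub : (frobeniusKernel M)ᶜ ⊆ frobeniusKernel M' \ {1} := by
    intro y hy
    simp only [Set.mem_compl_iff, frobeniusKernel, Set.mem_setOf_eq, not_or, not_forall,
      not_not] at hy
    obtain ⟨hy1, g, hyg⟩ := hy
    refine ⟨?_, hy1⟩
    right
    intro g' hyg'
    have heq : MulAut.conj g • M = MulAut.conj g' • M' := by
      by_contra hne
      have := coatom_inf_eq_bot hsimple h _ _ _ (isCoatom_conj hM g) (isCoatom_conj hM' g') hne rfl
      have hmem : y ∈ MulAut.conj g • M ⊓ MulAut.conj g' • M' := Subgroup.mem_inf.mpr ⟨hyg, hyg'⟩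
      rw [this, Subgroup.mem_bot] at hmem
      exact hy1 hmem
    rcases hxK with hx | hx
    · exact hx1 hx
    · apply hx (g'⁻¹ * g)
      rw [map_mul, mul_smul, heq, map_inv, inv_smul_smul]
      exact hxM''
  have hfin : (frobeniusKernel M' \ {1}).Finite := Set.toFinite _
  have h1 := Set.ncard_le_ncard hsub hfin
  have h2 : (frobeniusKernel M' \ {1}).ncard = (frobeniusKernel M').ncard - 1 :=
    Set.ncard_diff_singleton_of_mem (Or.inl rfl)
  have h3 := Set.ncard_add_ncard_compl (frobeniusKernel M)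
  rw [Nat.card_coe_set_eq] at hcK hcK'
  rw [hcK'] at h2
  rw [hcK] at h3
  have h4 := two_mul_index_le hF.1
  have h5 := two_mul_index_le hF'.1
  have h6 : 1 ≤ M'.index := Nat.one_le_iff_ne_zero.mpr Subgroup.index_ne_zero_of_finite
  omega

end Cfsg.Agent.Lib.Lead_Schmidt
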