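import Mathlib
import Cfsg.Prelude.Def_SolvableStructure
import Cfsg.Agent.Lib.Lead_SZ
import Cfsg.Agent.Lib.Lead_Schmidt
import Cfsg.Agent.S0046

/-! Minimal non-nilpotent groups. -/

namespace Cfsg.Agent.Lib.Lead_MinNonNil

open Cfsg Cfsg.Agent.Lib.Lead_SZ Cfsg.Agent.Lib.Lead_Schmidt
open scoped Pointwise

variable {G : Type*} [Group G]

/-- a nontrivial finite solvable group has a normal maximal subgroup -/
theorem exists_normal_coatom [Finite G] [Group.IsSolvable G] [Nontrivial G] :
    ∃ M : Subgroup G, IsCoatom M ∧ M.Normal := by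
  have hlt := IsSolvable.commutator_lt_top_of_nontrivial (G := G)
  obtain ⟨M, hM, hle⟩ := (eq_top_or_exists_le_coatom (commutator G)).resolve_left hlt.ne
  refine ⟨M, hM, ⟨?_⟩⟩
  intro n hn g
  have h1 : g * n * g⁻¹ * n⁻¹ ∈ commutator G := by
    rw [commutator_def]
    exact Subgroup.commutator_mem_commutator (Subgroup.mem_top g) (Subgroup.mem_top n)
  have h2 : g * n * g⁻¹ = (g * n * g⁻¹ * n⁻¹) * n := by group
  rw [h2]
  exact M.mul_mem (hle h1) hn

/-- a subgroup containing a Sylow subgroup for every prime is everything -/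
theorem eq_top_of_forall_sylow_le [Finite G] (H : Subgroup G)
    (h : ∀ (r : ℕ) [Fact r.Prime], ∃ S : Sylow r G, (S : Subgroup G) ≤ H) : H = ⊤ := by
  rw [← Subgroup.index_eq_one, Nat.eq_one_iff_not_exists_prime_dvd]
  intro r hr hdvd
  haveI : Fact r.Prime := ⟨hr⟩
  obtain ⟨S, hS⟩ := h r
  exact S.not_dvd_index (hdvd.trans (Subgroup.index_dvd_of_le hS))

/-- in a nilpotent finite subgroup, elements of a `p`-subgroup and a `q`-subgroup commute -/
theorem commute_of_nilpotent {p q : ℕ} [Fact p.Prime] [Fact q.Prime] (hpq : p ≠ q)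
    {X : Subgroup G} [Finite X] (hX : Group.IsNilpotent X) {A B : Subgroup G}
    (hA : IsPGroup p A) (hB : IsPGroup q B) (hAX : A ≤ X) (hBX : B ≤ X)
    {a b : G} (ha : a ∈ A) (hb : b ∈ B) : a * b = b * a := by
  have hA' : IsPGroup p (A.subgroupOf X) := hA.comap_of_injective X.subtype X.subtype_injective
  have hB' : IsPGroup q (B.subgroupOf X) := hB.comap_of_injective X.subtype X.subtype_injective
  obtain ⟨P, hP⟩ := hA'.exists_le_sylow
  obtain ⟨Q, hQ⟩ := hB'.exists_le_sylow
  have hnorm := (Group.isNilpotent_of_finite_tfae (G := X)).out 0 3 rfl rfl |>.mp hX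
  have hdis := IsPGroup.disjoint_of_ne p q hpq (P : Subgroup X) (Q : Subgroup X) P.isPGroup' Q.isPGroup'
  have := Subgroup.commute_of_normal_of_disjoint _ _ (hnorm p inferInstance P) (hnorm q inferInstance Q)
    hdis ⟨a, hAX ha⟩ ⟨b, hBX hb⟩ (hP (Subgroup.mem_subgroupOf.mpr ha)) (hQ (Subgroup.mem_subgroupOf.mpr hb))
  exact congrArg Subtype.val this.eq


/-- a normal nilpotent subgroup of `p`-power index provides normal Sylow `q`-subgroups, `q ≠ p` -/
theorem exists_normal_sylow [Finite G] {M : Subgroup G} [M.Normal] (hMnil : Group.IsNilpotent M)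
    {p k : ℕ} (hidx : M.index = p ^ k) (hp : p.Prime) (q : ℕ) [Fact q.Prime] (hqp : q ≠ p) :
    ∃ Q : Sylow q G, (Q : Subgroup G).Normal := by
  have hq : q.Prime := Fact.out
  obtain ⟨Q₀⟩ : Nonempty (Sylow q M) := inferInstance
  have hnorm := (Group.isNilpotent_of_finite_tfae (G := M)).out 0 3 rfl rfl |>.mp hMnil
  have hQ₀n : (Q₀ : Subgroup M).Normal := hnorm q inferInstance Q₀
  haveI : (Q₀ : Subgroup M).Characteristic := Sylow.characteristic_of_normal Q₀ hQ₀n
  have hQn : ((Q₀ : Subgroup M).map M.subtype).Normal := ConjAct.normal_of_characteristic_of_normal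
  have hcard : Nat.card ((Q₀ : Subgroup M).map M.subtype) = q ^ (Nat.card G).factorization q := by
    have h1 : Nat.card ((Q₀ : Subgroup M).map M.subtype) = Nat.card (Q₀ : Subgroup M) :=
      Nat.card_congr (Subgroup.equivMapOfInjective _ M.subtype M.subtype_injective).toEquiv.symm
    rw [h1, Q₀.card_eq_multiplicity]
    congr 1
    have h2 := M.card_mul_index
    rw [hidx] at h2
    rw [← h2, Nat.factorization_mul Nat.card_pos.ne' (pow_ne_zero _ hp.ne_zero)]
    simp only [Finsupp.coe_add, Pi.add_apply]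
    rw [hp.factorization_pow]
    simp [hqp.symm]
  exact ⟨Sylow.ofCard _ hcard, hQn⟩

/-- structure of minimal non-nilpotent groups -/
theorem structure_minNonNil [Finite G] (hG : IsMinimalNonNilpotent G) :
    ∃ p q : ℕ, p.Prime ∧ q.Prime ∧ p ≠ q ∧ ∃ (P : Sylow p G) (Q : Sylow q G),
      IsCyclic P ∧ (Q : Subgroup G).Normal ∧ (P : Subgroup G) ⊔ Q = ⊤ := by
  classical
  obtain ⟨hnil, hprop⟩ := hG
  haveI : Group.IsSolvable G :=
    Cfsg.Agent.S0046.result (fun M hM => hprop M hM.1)
  haveI : Nontrivial G := by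
    by_contra h
    rw [not_nontrivial_iff_subsingleton] at h
    exact hnil inferInstance
  obtain ⟨M, hM, hMn⟩ := exists_normal_coatom (G := G)
  haveI := hMn
  have hMnil := hprop M hM.1
  -- a prime dividing the index
  have hidx1 : M.index ≠ 1 := fun h => hM.1 (Subgroup.index_eq_one.mp h)
  obtain ⟨p, hp, hpdvd⟩ := Nat.exists_prime_and_dvd hidx1
  haveI : Fact p.Prime := ⟨hp⟩
  obtain ⟨P⟩ : Nonempty (Sylow p G) := inferInstance
  have hPM : ¬ (P : Subgroup G) ≤ M := fun h =>
    P.not_dvd_index (hpdvd.trans (Subgroup.index_dvd_of_le h))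
  have hsup : (P : Subgroup G) ⊔ M = ⊤ :=
    hM.2 _ (lt_of_le_of_ne le_sup_right (fun h => hPM (h ▸ le_sup_left)))
  have hidx : ∃ k, M.index = p ^ k := by
    have h1 : M.relIndex ((P : Subgroup G) ⊔ M) = M.relIndex (P : Subgroup G) :=
      Subgroup.relIndex_sup_right _ _
    rw [hsup, Subgroup.relIndex_top_right] at h1
    have h2 : M.relIndex (P : Subgroup G) ∣ Nat.card P := Subgroup.index_dvd_card _
    rw [P.card_eq_multiplicity, ← h1] at h2
    obtain ⟨k, -, hk⟩ := (Nat.dvd_prime_pow hp).mp h2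
    exact ⟨k, hk⟩
  obtain ⟨k, hk⟩ := hidx
  -- normal Sylow q-subgroups for q ≠ p
  have hQ : ∀ (q : ℕ) [Fact q.Prime], q ≠ p → ∀ Q : Sylow q G, (Q : Subgroup G).Normal := by
    intro q _ hqp Q
    obtain ⟨Q', hQ'⟩ := exists_normal_sylow hMnil hk hp q hqp
    haveI := Sylow.unique_of_normal Q' hQ'
    have : Q = Q' := Subsingleton.elim _ _
    rw [this]; exact hQ'
  -- P is not normal
  have hPn : ¬ (P : Subgroup G).Normal := by
    intro hPn
    apply hnil
    refine (Group.isNilpotent_of_finite_tfae.out 0 3 rfl rfl).mpr ?_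
    intro r hr S
    haveI := hr
    by_cases hrp : r = p
    · subst hrp
      haveI := Sylow.unique_of_normal P hPn
      have : S = P := Subsingleton.elim _ _
      rw [this]; exact hPn
    · exact hQ r hrp S
  -- some q with P ⊔ Q = ⊤
  have hex : ∃ (q : ℕ) (_ : Fact q.Prime) (Q : Sylow q G), q ≠ p ∧ (P : Subgroup G) ⊔ Q = ⊤ := by
    by_contra hcon
    push_neg at hcon
    apply hPn
    rw [← Subgroup.normalizer_eq_top_iff]
    apply eq_top_of_forall_sylow_le
    intro r hr
    by_cases hrp : r = p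
    · subst hrp
      exact ⟨P, Subgroup.le_normalizer⟩
    · obtain ⟨S⟩ : Nonempty (Sylow r G) := inferInstance
      refine ⟨S, ?_⟩
      have hne := hcon r hr S hrp
      have hXnil := hprop _ hne
      -- P is a normal Sylow subgroup of X
      have hPX : (P : Subgroup G) ≤ (P : Subgroup G) ⊔ S := le_sup_left
      have hnorm := (Group.isNilpotent_of_finite_tfae (G := ((P : Subgroup G) ⊔ S : Subgroup G))).out 0 3 rfl rfl |>.mp hXnil
      have h1 := hnorm p inferInstance (P.subtype hPX)
      rw [Sylow.coe_subtype, Subgroup.normal_subgroupOf_iff_le_normalizer hPX] at h1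
      exact le_sup_right.trans h1
  obtain ⟨q, hqF, Q, hqp, hPQ⟩ := hex
  haveI := hqF
  refine ⟨p, q, hp, hqF.out, hqp.symm, P, Q, ?_, hQ q hqp Q, hPQ⟩
  -- P is cyclic
  by_contra hnc
  apply hPn
  rw [← Subgroup.normalizer_eq_top_iff, eq_top_iff, ← hPQ]
  refine sup_le Subgroup.le_normalizer ?_
  refine le_trans ?_ (Subgroup.centralizer_le_normalizer ((P : Subgroup G) : Set G))
  intro y hy
  rw [Subgroup.mem_centralizer_iff]
  intro x hx
  -- X = zpowers x ⊔ Q is proper
  have hXne : Subgroup.zpowers x ⊔ (Q : Subgroup G) ≠ ⊤ := by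
    intro htop
    apply hnc
    have hQn := hQ q hqp Q
    haveI := hQn
    have hdisj : (Q : Subgroup G) ⊓ (P : Subgroup G) = ⊥ :=
      (IsPGroup.disjoint_of_ne q p hqp _ _ Q.isPGroup' P.isPGroup').eq_bot
    have h1 : (Q : Subgroup G).index = Nat.card P := by
      have := Subgroup.relIndex_sup_right (P : Subgroup G) (Q : Subgroup G)
      rw [hPQ, Subgroup.relIndex_top_right] at this
      rw [this, ← Subgroup.inf_relIndex_right, hdisj, Subgroup.relIndex_bot_left]
    have h2 : (Q : Subgroup G).index ∣ orderOf x := by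
      have := Subgroup.relIndex_sup_right (Subgroup.zpowers x) (Q : Subgroup G)
      rw [htop, Subgroup.relIndex_top_right] at this
      rw [this, ← Nat.card_zpowers]
      exact Subgroup.index_dvd_card _
    have h3 : orderOf (⟨x, hx⟩ : P) = Nat.card P := by
      rw [Subgroup.orderOf_mk]
      apply Nat.dvd_antisymm
      · have := orderOf_dvd_natCard (⟨x, hx⟩ : P)
        rwa [Subgroup.orderOf_mk] at this
      · rw [← h1]; exact h2
    exact isCyclic_of_orderOf_eq_card _ h3
  have hXnil := hprop _ hXne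
  have hxp : IsPGroup p (Subgroup.zpowers x) :=
    P.isPGroup'.to_le (Subgroup.zpowers_le.mpr hx)
  exact commute_of_nilpotent hqp.symm hXnil hxp Q.isPGroup' le_sup_left le_sup_right
    (Subgroup.mem_zpowers x) hy

end Cfsg.Agent.Lib.Lead_MinNonNil
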