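import Mathlib
import Cfsg.Agent.Lib.Lead_SZ
import Cfsg.Agent.Lib.Lead_Coprime
import Cfsg.Agent.Lib.Lead_MinNonNil
import Cfsg.Agent.Lib.Lead_Schmidt
import Cfsg.Agent.Lib.Helper7_Fpf3
import Cfsg.Agent.S3735

/-! Generation of a group by centralizers under a coprime abelian operator group. -/

namespace Cfsg.Agent.Lib.Lead_CoprimeGen

open Cfsg.Agent.Lib.Lead_SZ Cfsg.Agent.Lib.Lead_Coprime Cfsg.Agent.Lib.Lead_MinNonNil
open Cfsg.Agent.Lib.Lead_Schmidt Cfsg.Agent.Lib.Helper7_Fpf Cfsg.Agent.Lib.Helper7_Fpf3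
open scoped Pointwise

variable {T : Type*} [Group T]

/-- the action of `A` on `G / Y` induced by conjugation -/
@[reducible] def quotAct (A G Y : Subgroup T) (hAG : A ≤ Subgroup.normalizer (G : Set T))
    (hAY : A ≤ Subgroup.normalizer (Y : Set T)) [(Y.subgroupOf G).Normal] :
    MulDistribMulAction A (↥G ⧸ Y.subgroupOf G) where
  smul a := QuotientGroup.map (Y.subgroupOf G) (Y.subgroupOf G)
    (conjEquivOfMemNormalizer (hAG a.2)).toMonoidHom (by
      intro y hy
      rw [Subgroup.mem_comap, Subgroup.mem_subgroupOf]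
      exact (Subgroup.mem_normalizer_iff.mp (hAY a.2) _).mp (Subgroup.mem_subgroupOf.mp hy))
  one_smul q := by
    induction q using QuotientGroup.induction_on with
    | H x =>
      show QuotientGroup.map _ _ _ _ (QuotientGroup.mk x) = _
      rw [QuotientGroup.map_mk]
      congr 1
      apply Subtype.ext
      show ((1 : A) : T) * (x : T) * ((1 : A) : T)⁻¹ = x
      simp
  mul_smul a b q := by
    induction q using QuotientGroup.induction_on with
    | H x =>
      show QuotientGroup.map _ _ _ _ (QuotientGroup.mk x) =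
        QuotientGroup.map _ _ _ _ (QuotientGroup.map _ _ _ _ (QuotientGroup.mk x))
      rw [QuotientGroup.map_mk, QuotientGroup.map_mk, QuotientGroup.map_mk]
      congr 1
      apply Subtype.ext
      show ((a * b : A) : T) * (x : T) * ((a * b : A) : T)⁻¹ =
        (a : T) * ((b : T) * (x : T) * (b : T)⁻¹) * (a : T)⁻¹
      rw [Subgroup.coe_mul]
      group
  smul_mul a q₁ q₂ := map_mul _ q₁ q₂
  smul_one a := map_one _

theorem quotAct_mk (A G Y : Subgroup T) (hAG : A ≤ Subgroup.normalizer (G : Set T))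
    (hAY : A ≤ Subgroup.normalizer (Y : Set T)) [(Y.subgroupOf G).Normal] (a : A) (x : G) :
    letI := quotAct A G Y hAG hAY
    a • (QuotientGroup.mk x : ↥G ⧸ Y.subgroupOf G) =
      QuotientGroup.mk ⟨(a : T) * (x : T) * (a : T)⁻¹,
        (Subgroup.mem_normalizer_iff.mp (hAG a.2) x).mp x.2⟩ := rfl


/-- the family of subgroups `B` of `A` with `A / B` cyclic -/
def cocyclic (A : Subgroup T) : Set (Subgroup T) :=
  {B | B ≤ A ∧ ∃ a ∈ A, B ⊔ Subgroup.zpowers a = A}

/-- the subgroup of `G` generated by the centralizers of the cocyclic subgroups of `A` -/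
def gen (A G : Subgroup T) : Subgroup T :=
  ⨆ B ∈ cocyclic A, G ⊓ Subgroup.centralizer (B : Set T)

theorem gen_le (A G : Subgroup T) : gen A G ≤ G := iSup₂_le (fun _ _ => inf_le_left)

theorem gen_mono (A : Subgroup T) {G₁ G : Subgroup T} (h : G₁ ≤ G) : gen A G₁ ≤ gen A G :=
  iSup₂_mono (fun _ _ => inf_le_inf_right _ h)

theorem centralizer_inv (A B : Subgroup T) (hAc : ∀ a ∈ A, ∀ b ∈ A, a * b = b * a) (hBA : B ≤ A) :
    A ≤ Subgroup.normalizer ((Subgroup.centralizer (B : Set T) : Subgroup T) : Set T) := by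
  have key : ∀ a ∈ A, ∀ x ∈ Subgroup.centralizer (B : Set T),
      a * x * a⁻¹ ∈ Subgroup.centralizer (B : Set T) := by
    intro a ha x hx
    rw [Subgroup.mem_centralizer_iff] at hx ⊢
    intro b hb
    have h1 : Commute x b := (hx b hb).symm
    have h2 : Commute a b := hAc a ha b (hBA hb)
    exact (((h2.mul_left h1).mul_left h2.inv_left) : Commute (a * x * a⁻¹) b).eq.symm
  intro a ha
  refine mem_normalizer_of_conj_mem (key a ha) ?_
  intro x hx
  have := key a⁻¹ (A.inv_mem ha) x hx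
  rwa [inv_inv] at this

theorem gen_inv (A G : Subgroup T) (hAc : ∀ a ∈ A, ∀ b ∈ A, a * b = b * a)
    (hAG : A ≤ Subgroup.normalizer (G : Set T)) :
    A ≤ Subgroup.normalizer ((gen A G : Subgroup T) : Set T) := by
  refine le_trans ?_ (Subgroup.iInf_normalizer_le_normalizer_iSup _)
  refine le_iInf (fun B => ?_)
  refine le_trans ?_ (Subgroup.iInf_normalizer_le_normalizer_iSup _)
  refine le_iInf (fun hB => ?_)
  exact Cfsg.Agent.S3735.inv_inf A G _ hAG (centralizer_inv A B hAc hB.1)


set_option maxHeartbeats 400000 in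
theorem le_gen (A G : Subgroup T) {B : Subgroup T} (hB : B ∈ cocyclic A) :
    G ⊓ Subgroup.centralizer (B : Set T) ≤ gen A G := by
  unfold gen
  exact le_iSup₂ (f := fun (B : Subgroup T) (_ : B ∈ cocyclic A) =>
    G ⊓ Subgroup.centralizer (B : Set T)) B hB

set_option maxHeartbeats 400000 in
/-- If an abelian group `A` acts coprimely on `G`, then `G` is generated by the centralizers of
the subgroups `B` of `A` with `A / B` cyclic. -/
theorem main [Finite T] (A : Subgroup T) (hAc : ∀ a ∈ A, ∀ b ∈ A, a * b = b * a) :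
    ∀ (n : ℕ) (G : Subgroup T), Nat.card G = n → A ≤ Subgroup.normalizer (G : Set T) →
      (Nat.card A).Coprime (Nat.card G) → G ≤ gen A G := by
  intro n
  induction n using Nat.strong_induction_on with
  | _ n ih =>
  intro G hn hAG hcop
  classical
  by_contra hGY
  set Y := gen A G with hY
  have hYG : Y ≤ G := gen_le A G
  have hYlt : Y < G := lt_of_le_of_ne hYG (fun h => hGY h.ge)
  have hAY : A ≤ Subgroup.normalizer (Y : Set T) := gen_inv A G hAc hAG
  haveI hAcomm : IsMulCommutative A := ⟨⟨fun a b => Subtype.ext (hAc a a.2 b b.2)⟩⟩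
  have hAsolv : Group.IsSolvable A := by
    letI : CommGroup A :=
      { (inferInstance : Group A) with mul_comm := fun a b => Subtype.ext (hAc a a.2 b b.2) }
    infer_instance
  have ha : ∀ G₁ : Subgroup T, G₁ < G → A ≤ Subgroup.normalizer (G₁ : Set T) → G₁ ≤ Y := by
    intro G₁ hlt hinv
    have hc : Nat.card G₁ < n := hn ▸ card_lt hlt
    have hcop₁ : (Nat.card A).Coprime (Nat.card G₁) :=
      Nat.Coprime.coprime_dvd_right (Subgroup.card_dvd_of_le hlt.le) hcop
    exact (ih _ hc G₁ rfl hinv hcop₁).trans (gen_mono A hlt.le)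
  have hq : ∃ q : ℕ, q.Prime ∧ IsPGroup q G := by
    by_contra hno
    push_neg at hno
    have htop : Y.subgroupOf G = ⊤ := by
      apply eq_top_of_forall_sylow_le
      intro r hr
      obtain ⟨P, hP⟩ := exists_invariant_sylow A G hAG hcop (Or.inl hAsolv) r
      refine ⟨P, ?_⟩
      have hPG : (P : Subgroup G).map G.subtype ≤ G := Subgroup.map_subtype_le _
      have hne : (P : Subgroup G).map G.subtype ≠ G := by
        intro heq
        apply hno r hr.out
        have h1 : (P : Subgroup G) = ⊤ := by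
          apply Subgroup.map_injective G.subtype_injective
          rw [heq, ← MonoidHom.range_eq_map, Subgroup.range_subtype]
        have h2 := P.isPGroup'
        rw [h1] at h2
        exact h2.of_equiv Subgroup.topEquiv
      have h3 := ha _ (lt_of_le_of_ne hPG hne) hP
      intro x hx
      rw [Subgroup.mem_subgroupOf]
      exact h3 ⟨x, hx, rfl⟩
    rw [Subgroup.subgroupOf_eq_top] at htop
    exact hGY htop
  obtain ⟨q, hqp, hGq⟩ := hq
  haveI := Fact.mk hqp
  have hGnil : Group.IsNilpotent G := hGq.isNilpotent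
  have hGN : G ≤ Subgroup.normalizer (Y : Set T) := by
    obtain ⟨x, hxG, hxN, hxY⟩ := exists_mem_normalizer_not_mem hGnil hYlt
    have hinv := le_normalizer_normalizer_inf A Y G hAY hAG
    by_contra hcon
    have hlt : Subgroup.normalizer (Y : Set T) ⊓ G < G :=
      lt_of_le_of_ne inf_le_right (fun h => hcon (h ▸ inf_le_left))
    exact hxY (ha _ hlt hinv (Subgroup.mem_inf.mpr ⟨hxN, hxG⟩))
  haveI hYn : (Y.subgroupOf G).Normal := Subgroup.normal_subgroupOf_of_le_normalizer hGN
  letI act := quotAct A G Y hAG hAY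
  haveI : Nontrivial (↥G ⧸ Y.subgroupOf G) := by
    rw [← Finite.one_lt_card_iff_nontrivial, ← Subgroup.index_eq_card]
    have h1 : (Y.subgroupOf G).index ≠ 1 := by
      rw [Ne, Subgroup.index_eq_one, Subgroup.subgroupOf_eq_top]
      exact hGY
    have h0 : (Y.subgroupOf G).index ≠ 0 := Subgroup.index_ne_zero_of_finite
    omega
  have hdich : ∀ a : A, (∀ x : G, a • (QuotientGroup.mk x : ↥G ⧸ Y.subgroupOf G) =
        QuotientGroup.mk x) ∨
      (∀ x : G, a • (QuotientGroup.mk x : ↥G ⧸ Y.subgroupOf G) = QuotientGroup.mk x →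
        (QuotientGroup.mk x : ↥G ⧸ Y.subgroupOf G) = 1) := by
    intro a
    set F : Subgroup (↥G ⧸ Y.subgroupOf G) :=
      (MulDistribMulAction.toMonoidHom (↥G ⧸ Y.subgroupOf G) a).eqLocus (MonoidHom.id _) with hF
    set Ga : Subgroup T := (F.comap (QuotientGroup.mk' (Y.subgroupOf G))).map G.subtype with hGa
    have hGaG : Ga ≤ G := Subgroup.map_subtype_le _
    have hmem : ∀ x : G, (x : T) ∈ Ga ↔
        a • (QuotientGroup.mk x : ↥G ⧸ Y.subgroupOf G) = QuotientGroup.mk x := by
      intro x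
      constructor
      · rintro ⟨x', hx', hxx'⟩
        have : x' = x := Subtype.ext hxx'
        subst this
        exact hx'
      · intro h
        exact ⟨x, h, rfl⟩
    have hGainv : A ≤ Subgroup.normalizer (Ga : Set T) := by
      have key : ∀ c ∈ A, ∀ g ∈ Ga, c * g * c⁻¹ ∈ Ga := by
        intro c hc g hg
        obtain ⟨x, hx, rfl⟩ := hg
        have hxc : (c * (x : T) * c⁻¹) ∈ G := (Subgroup.mem_normalizer_iff.mp (hAG hc) x).mp x.2
        have h1 : ((⟨c * (x : T) * c⁻¹, hxc⟩ : G) : T) ∈ Ga := by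
          rw [hmem]
          have e : (QuotientGroup.mk (⟨c * (x : T) * c⁻¹, hxc⟩ : G) : ↥G ⧸ Y.subgroupOf G) =
              (⟨c, hc⟩ : A) • (QuotientGroup.mk x : ↥G ⧸ Y.subgroupOf G) := rfl
          have hx' : a • (QuotientGroup.mk x : ↥G ⧸ Y.subgroupOf G) = QuotientGroup.mk x := hx
          rw [e, smul_smul, show a * ⟨c, hc⟩ = ⟨c, hc⟩ * a from Subtype.ext (hAc _ a.2 _ hc),
            ← smul_smul, hx']
        exact h1
      intro c hc
      refine mem_normalizer_of_conj_mem (key c hc) ?_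
      intro g hg
      have := key c⁻¹ (A.inv_mem hc) g hg
      rwa [inv_inv] at this
    by_cases hGaeq : Ga = G
    · left
      intro x
      have hx : (x : T) ∈ Ga := by rw [hGaeq]; exact x.2
      exact (hmem x).mp hx
    · right
      intro x hq
      have h1 : (x : T) ∈ Ga := (hmem x).mpr hq
      have h2 := ha _ (lt_of_le_of_ne hGaG hGaeq) hGainv h1
      exact (QuotientGroup.eq_one_iff x).mpr (Subgroup.mem_subgroupOf.mpr h2)
  set φ : A →* MulAut (↥G ⧸ Y.subgroupOf G) :=
    MulDistribMulAction.toMulAut A (↥G ⧸ Y.subgroupOf G) with hφ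
  have hfR : Fpf φ.range (↥G ⧸ Y.subgroupOf G) := by
    rintro ⟨r, a, rfl⟩ hr1 q hq
    have hq' : a • q = q := hq
    obtain ⟨x, hx⟩ := QuotientGroup.mk_surjective q
    rw [← hx] at hq' ⊢
    rcases hdich a with h | h
    · exfalso
      apply hr1
      apply Subtype.ext
      ext q'
      obtain ⟨x', hx'⟩ := QuotientGroup.mk_surjective q'
      rw [← hx']
      exact h x'
    · exact h x hq'
  haveI : Finite φ.range := Finite.of_surjective φ.rangeRestrict φ.rangeRestrict_surjective
  haveI : IsMulCommutative φ.range := inferInstance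
  haveI : IsMulCommutative (⊤ : Subgroup φ.range) :=
    ⟨⟨fun a b => Subtype.ext (mul_comm' (a : φ.range) (b : φ.range))⟩⟩
  have hcyc : IsCyclic (⊤ : Subgroup φ.range) :=
    cyclic_of_abelian (A := φ.range) (N := ↥G ⧸ Y.subgroupOf G) hfR ⊤
  have hcycR : IsCyclic φ.range :=
    isCyclic_of_surjective Subgroup.topEquiv.toMonoidHom Subgroup.topEquiv.surjective
  obtain ⟨⟨r₀, a₀, rfl⟩, hgen⟩ := hcycR.exists_generator
  set K : Subgroup T := φ.ker.map A.subtype with hK
  have hKA : K ≤ A := Subgroup.map_subtype_le _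
  have hKc : K ∈ cocyclic A := by
    refine ⟨hKA, (a₀ : T), a₀.2, ?_⟩
    apply le_antisymm
    · exact sup_le hKA ((Subgroup.zpowers_le).mpr a₀.2)
    · intro a ha
      obtain ⟨k, hk⟩ := Subgroup.mem_zpowers_iff.mp (hgen ⟨φ ⟨a, ha⟩, ⟨a, ha⟩, rfl⟩)
      have h1 : φ (a₀ ^ k) = φ ⟨a, ha⟩ := by
        have := congrArg Subtype.val hk
        simpa using this
      have h2 : (⟨a, ha⟩ : A) * (a₀ ^ k)⁻¹ ∈ φ.ker := by
        rw [MonoidHom.mem_ker, map_mul, map_inv, h1, mul_inv_cancel]
      have e : a = (((⟨a, ha⟩ : A) * (a₀ ^ k)⁻¹ : A) : T) * ((a₀ : T) ^ k) := by simp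
      rw [e]
      exact Subgroup.mul_mem _ (Subgroup.mem_sup_left ⟨_, h2, rfl⟩)
        (Subgroup.mem_sup_right (Subgroup.zpow_mem_zpowers _ k))
  have hCK : G ⊓ Subgroup.centralizer (K : Set T) ≤ Y := le_gen A G hKc
  apply hGY
  intro x hxG
  have hKY : K ≤ Subgroup.normalizer (Y : Set T) := hKA.trans hAY
  have hcopK : (Nat.card K).Coprime (Nat.card Y) :=
    Nat.Coprime.coprime_dvd_left (Subgroup.card_dvd_of_le hKA)
      (Nat.Coprime.coprime_dvd_right (Subgroup.card_dvd_of_le hYG) hcop)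
  have hKsolv : Group.IsSolvable K := solvable_of_le hKA hAsolv
  have hx : ∀ a ∈ K, x⁻¹ * a * x * a⁻¹ ∈ Y := by
    rintro a ⟨a', ha', rfl⟩
    have h1 : a' • (QuotientGroup.mk ⟨x, hxG⟩ : ↥G ⧸ Y.subgroupOf G) = QuotientGroup.mk ⟨x, hxG⟩ := by
      have h0 := MonoidHom.mem_ker.mp ha'
      exact congrArg (fun f : MulAut (↥G ⧸ Y.subgroupOf G) => f (QuotientGroup.mk ⟨x, hxG⟩)) h0
    rw [quotAct_mk] at h1
    have h3 := QuotientGroup.eq.mp h1.symm
    have h4 := Subgroup.mem_subgroupOf.mp h3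
    simpa [mul_assoc] using h4
  obtain ⟨d, hdY, hxd⟩ := lemmaC Y K hKY hcopK (Or.inl hKsolv) x hx
  have h5 : x * d ∈ Y := hCK (Subgroup.mem_inf.mpr ⟨G.mul_mem hxG (hYG hdY), hxd⟩)
  have e : x = x * d * d⁻¹ := by group
  rw [e]
  exact Y.mul_mem h5 (Y.inv_mem hdY)

end Cfsg.Agent.Lib.Lead_CoprimeGen
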