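import Mathlib
import Cfsg.Agent.S1324
import Cfsg.Agent.Lib.Helper5_AxB
import Cfsg.Agent.Lib.Helper5_PPrime
import Cfsg.Agent.Lib.Lead_SZ

/-!
# Best offenders in a faithful group with self-centralizing `p'`-core
-/

namespace Cfsg.Agent.Lib.Lead_BO

open Cfsg
open scoped commutatorElement

section
variable {G : Type*} [Group G] [Finite G] {p : ℕ} [Fact p.Prime]

/-- The standing hypotheses. -/
structure SetS (p : ℕ) (V H : Subgroup G) : Prop where
  elem : IsElementaryAbelian p V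
  norm : H ≤ Subgroup.normalizer (V : Set G)
  faith : H ⊓ Subgroup.centralizer (V : Set G) = ⊥
  s1 : Subgroup.centralizer (pPrimeCore p ↥H : Set ↥H) ≤ pPrimeCore p ↥H

/-- The `p'`-core of `H`, inside `G`. -/
def Qc (p : ℕ) (H : Subgroup G) : Subgroup G := (pPrimeCore p ↥H).map H.subtype

omit [Finite G] [Fact p.Prime] in
theorem Qc_le (H : Subgroup G) : Qc p H ≤ H := Subgroup.map_subtype_le _

theorem Qc_card (H : Subgroup G) : ¬ p ∣ Nat.card ↥(Qc p H) := by
  have hp : p.Prime := Fact.out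
  unfold Qc
  rw [Subgroup.card_map_of_injective H.subtype_injective]
  have h1 := Cfsg.Agent.Lib.Helper5_PPrime.pPrimeCore_coprime p ↥H
  intro hd
  have := Nat.Coprime.eq_one_of_dvd h1.symm hd
  exact hp.one_lt.ne' this

theorem Qc_conj_mem (H : Subgroup G) {h y : G} (hh : h ∈ H) (hy : y ∈ Qc p H) :
    h * y * h⁻¹ ∈ Qc p H := by
  haveI := Cfsg.Agent.Lib.Helper5_PPrime.pPrimeCore_normal p ↥H
  obtain ⟨y', hy', rfl⟩ := hy
  refine ⟨⟨h, hh⟩ * y' * ⟨h, hh⟩⁻¹, ?_, rfl⟩
  exact (inferInstance : (pPrimeCore p ↥H).Normal).conj_mem y' hy' ⟨h, hh⟩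

theorem Qc_normal (H : Subgroup G) : H ≤ Subgroup.normalizer ((Qc p H : Subgroup G) : Set G) := by
  intro h hh
  rw [Subgroup.mem_normalizer_iff]
  intro y
  constructor
  · exact fun hy => Qc_conj_mem H hh hy
  · intro hy
    have := Qc_conj_mem H (H.inv_mem hh) hy
    have e : h⁻¹ * (h * y * h⁻¹) * h⁻¹⁻¹ = y := by group
    rwa [e] at this

theorem Qc_self_centralizing {V H : Subgroup G} (hS : SetS p V H) {x : G} (hx : x ∈ H)
    (hc : ∀ y ∈ Qc p H, x * y = y * x) : x ∈ Qc p H := by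
  have h1 : (⟨x, hx⟩ : ↥H) ∈ Subgroup.centralizer (pPrimeCore p ↥H : Set ↥H) := by
    rw [Subgroup.mem_centralizer_iff]
    intro y hy
    apply Subtype.ext
    have := hc (y : G) ⟨y, hy, rfl⟩
    exact this.symm
  exact ⟨⟨x, hx⟩, hS.s1 h1, rfl⟩

/-- `|C_V(X)|`. -/
noncomputable def cV (V X : Subgroup G) : ℕ := Nat.card ↥(V ⊓ Subgroup.centralizer (X : Set G))

/-- `|X| |C_V(X)|`. -/
noncomputable def fV (V X : Subgroup G) : ℕ := Nat.card ↥X * cV V X

omit [Finite G] in
theorem cV_bot (V : Subgroup G) : cV V ⊥ = Nat.card ↥V := by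
  unfold cV
  have : Subgroup.centralizer (((⊥ : Subgroup G) : Subgroup G) : Set G) = ⊤ := by
    rw [eq_top_iff]
    intro x _
    rw [Subgroup.mem_centralizer_iff]
    intro y hy
    have : y = 1 := hy
    rw [this, one_mul, mul_one]
  rw [this, inf_top_eq]

omit [Finite G] in
theorem fV_bot (V : Subgroup G) : fV V ⊥ = Nat.card ↥V := by
  unfold fV
  rw [cV_bot, Subgroup.card_bot, one_mul]

/-- A best offender inside `H` is an elementary abelian `p`-group. -/
theorem bo_comm {V H A : Subgroup G} (hS : SetS p V H) (hAH : A ≤ H)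
    (hA : IsBestOffenderOn p V A) : ∀ a ∈ A, ∀ b ∈ A, a * b = b * a := by
  intro a ha b hb
  have h1 : ⁅a, b⁆ ∈ ⁅A, A⁆ := Subgroup.commutator_mem_commutator ha hb
  have h0 : ⁅a, b⁆ ∈ H := by
    rw [commutatorElement_def]
    exact H.mul_mem (H.mul_mem (H.mul_mem (hAH ha) (hAH hb)) (H.inv_mem (hAH ha)))
      (H.inv_mem (hAH hb))
  have h2 : ⁅a, b⁆ ∈ H ⊓ Subgroup.centralizer (V : Set G) := ⟨h0, hA.2.1 h1⟩
  rw [hS.faith, Subgroup.mem_bot] at h2
  exact commutatorElement_eq_one_iff_mul_comm.1 h2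

theorem bo_pow {V H A : Subgroup G} (hS : SetS p V H) (hAH : A ≤ H)
    (hA : IsBestOffenderOn p V A) : ∀ a ∈ A, a ^ p = 1 := by
  intro a ha
  have h2 : a ^ p ∈ H ⊓ Subgroup.centralizer (V : Set G) :=
    ⟨H.pow_mem (hAH ha) p, hA.2.2 a ha⟩
  rw [hS.faith, Subgroup.mem_bot] at h2
  exact h2

theorem bo_elem {V H A : Subgroup G} (hS : SetS p V H) (hAH : A ≤ H)
    (hA : IsBestOffenderOn p V A) : IsElementaryAbelian p A := by
  refine ⟨⟨⟨fun a b => ?_⟩⟩, bo_pow hS hAH hA⟩
  exact Subtype.ext (bo_comm hS hAH hA a a.2 b b.2)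

theorem bo_pgroup {V H A : Subgroup G} (hS : SetS p V H) (hAH : A ≤ H)
    (hA : IsBestOffenderOn p V A) : IsPGroup p ↥A := by
  intro x
  refine ⟨1, ?_⟩
  apply Subtype.ext
  rw [pow_one, Subgroup.coe_pow, Subgroup.coe_one]
  exact bo_pow hS hAH hA x x.2

/-- A best offender in `H` acts faithfully on the `p'`-core. -/
theorem bo_faithful {V H A : Subgroup G} (hS : SetS p V H) (hAH : A ≤ H)
    (hA : IsBestOffenderOn p V A) {a : G} (ha : a ∈ A)
    (hc : ∀ y ∈ Qc p H, a * y = y * a) : a = 1 := by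
  have hp : p.Prime := Fact.out
  have h1 := Qc_self_centralizing hS (hAH ha) hc
  have h2 : orderOf a ∣ p := orderOf_dvd_of_pow_eq_one (bo_pow hS hAH hA a ha)
  rcases (Nat.dvd_prime hp).1 h2 with h3 | h3
  · exact orderOf_eq_one_iff.1 h3
  · exfalso
    apply Qc_card (p := p) H
    have h4 : orderOf (⟨a, h1⟩ : ↥(Qc p H)) ∣ Nat.card ↥(Qc p H) := orderOf_dvd_natCard _
    rw [← Subgroup.orderOf_coe] at h4
    simp only at h4
    rwa [h3] at h4

end

section key
variable {G : Type*} [Group G] [Finite G] {p : ℕ} [Fact p.Prime]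

omit [Finite G] [Fact p.Prime] in
theorem card_eq_relIndex_mul {B A : Subgroup G} (hBA : B ≤ A) :
    Nat.card ↥A = Nat.card ↥B * B.relIndex A := by
  have := Subgroup.relIndex_mul_relIndex ⊥ B A bot_le hBA
  rw [Subgroup.relIndex_bot_left, Subgroup.relIndex_bot_left] at this
  exact this.symm

set_option maxHeartbeats 1000000 in
/-- Key lemma: a hyperplane `B` of the best offender `A` such that `A` acts nontrivially on
`C_Q(B)` satisfies `|B||C_V(B)| = |A||C_V(A)|`. -/
theorem key {V H A B : Subgroup G} (hS : SetS p V H) (hAH : A ≤ H)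
    (hA : IsBestOffenderOn p V A) (hBA : B ≤ A) (hidx : B.relIndex A = p)
    (hgood : ¬ (Qc p H ⊓ Subgroup.centralizer (B : Set G) ≤ Subgroup.centralizer (A : Set G))) :
    fV V B = fV V A := by
  have hp : p.Prime := Fact.out
  have hcard : Nat.card ↥A = Nat.card ↥B * p := by
    rw [card_eq_relIndex_mul hBA, hidx]
  set WA : Subgroup G := V ⊓ Subgroup.centralizer (A : Set G) with hWA
  set WB : Subgroup G := V ⊓ Subgroup.centralizer (B : Set G) with hWB
  have hWle : WA ≤ WB := inf_le_inf_left _ (Subgroup.centralizer_le hBA)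
  have hbo : Nat.card ↥B * Nat.card ↥WB ≤ Nat.card ↥A * Nat.card ↥WA := hA.1 B hBA
  have hBpos : 0 < Nat.card ↥B := Nat.card_pos
  have hWApos : 0 < Nat.card ↥WA := Nat.card_pos
  have hle : Nat.card ↥WB ≤ p * Nat.card ↥WA := by
    rw [hcard, mul_assoc] at hbo
    exact Nat.le_of_mul_le_mul_left hbo hBpos
  obtain ⟨j, hj⟩ := Subgroup.card_dvd_of_le hWle
  have hVp : IsPGroup p ↥V := by
    intro x
    refine ⟨1, ?_⟩
    apply Subtype.ext
    rw [pow_one, Subgroup.coe_pow, Subgroup.coe_one]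
    exact hS.elem.2 x x.2
  have hWBp : IsPGroup p ↥WB := hVp.to_le inf_le_left
  obtain ⟨s, hs⟩ := IsPGroup.iff_card.1 hWBp
  have hjdvd : j ∣ p ^ s := by
    rw [← hs, hj]
    exact dvd_mul_left _ _
  obtain ⟨t, -, ht⟩ := (Nat.dvd_prime_pow hp).1 hjdvd
  have hjle : j ≤ p := by
    rw [hj] at hle
    have : Nat.card ↥WA * j ≤ Nat.card ↥WA * p := by rw [mul_comm _ p]; exact hle
    exact Nat.le_of_mul_le_mul_left this hWApos
  have ht1 : t ≤ 1 := by
    by_contra hcon
    push Not at hcon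
    have h2 : p ^ 2 ≤ p ^ t := Nat.pow_le_pow_right hp.pos hcon
    have h3 : p < p ^ 2 := by
      calc p = p ^ 1 := (pow_one p).symm
        _ < p ^ 2 := Nat.pow_lt_pow_right hp.one_lt (by norm_num)
    rw [ht] at hjle
    omega
  interval_cases t
  · -- `j = 1`: contradiction
    exfalso
    rw [pow_zero] at ht
    rw [ht, mul_one] at hj
    have hWeq : WA = WB := Cfsg.Agent.Lib.Lead_SZ.eq_of_le_of_card_eq hWle hj.symm
    apply hgood
    set X : Subgroup G := Qc p H ⊓ Subgroup.centralizer (B : Set G) with hX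
    set Y : Subgroup G := ⁅X, A⁆ with hY
    have hcomm := bo_comm hS hAH hA
    have hYQ : Y ≤ Qc p H := by
      rw [hY, Subgroup.commutator_le]
      intro x hx a ha
      rw [commutatorElement_def]
      have h1 : a * x⁻¹ * a⁻¹ ∈ Qc p H :=
        Qc_conj_mem H (hAH ha) ((Qc p H).inv_mem hx.1)
      have e : x * a * x⁻¹ * a⁻¹ = x * (a * x⁻¹ * a⁻¹) := by group
      rw [e]
      exact (Qc p H).mul_mem hx.1 h1
    have hYB : Y ≤ Subgroup.centralizer (B : Set G) := by
      rw [hY, Subgroup.commutator_le]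
      intro x hx a ha
      have ha' : a ∈ Subgroup.centralizer (B : Set G) := by
        rw [Subgroup.mem_centralizer_iff]
        intro b hb
        exact hcomm b (hBA hb) a ha
      rw [commutatorElement_def]
      exact Subgroup.mul_mem _ (Subgroup.mul_mem _ (Subgroup.mul_mem _ hx.2 ha')
        (Subgroup.inv_mem _ hx.2)) (Subgroup.inv_mem _ ha')
    have hYW : WB ≤ Subgroup.centralizer (Y : Set G) := by
      rw [Subgroup.le_centralizer_iff, hY, Subgroup.commutator_le]
      intro x hx a ha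
      rw [Subgroup.mem_centralizer_iff]
      intro w hw
      -- `a` commutes with elements of `WB = WA`
      have haW : ∀ w' ∈ WB, a * w' = w' * a := by
        intro w' hw'
        rw [← hWeq] at hw'
        exact (Subgroup.mem_centralizer_iff.1 hw'.2 a ha)
      have hxH : x ∈ H := Qc_le H hx.1
      have hw' : x⁻¹ * w * x ∈ WB := by
        refine ⟨?_, ?_⟩
        · have := (Subgroup.mem_normalizer_iff.1 (hS.norm (H.inv_mem hxH)) w).1 hw.1
          rwa [inv_inv] at this
        · have h1 : x⁻¹ ∈ Subgroup.centralizer (B : Set G) := Subgroup.inv_mem _ hx.2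
          exact Subgroup.mul_mem _ (Subgroup.mul_mem _ h1 hw.2) hx.2
      have h1 := haW w hw
      have h2 := haW _ hw'
      have h1' : a⁻¹ * w = w * a⁻¹ := by
        calc a⁻¹ * w = a⁻¹ * (w * a) * a⁻¹ := by group
          _ = a⁻¹ * (a * w) * a⁻¹ := by rw [h1]
          _ = w * a⁻¹ := by group
      rw [commutatorElement_def]
      calc w * (x * a * x⁻¹ * a⁻¹) = x * ((x⁻¹ * w * x) * a) * x⁻¹ * a⁻¹ := by group
        _ = x * (a * (x⁻¹ * w * x)) * x⁻¹ * a⁻¹ := by rw [h2]
        _ = x * a * x⁻¹ * (w * a⁻¹) := by group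
        _ = x * a * x⁻¹ * (a⁻¹ * w) := by rw [h1']
        _ = x * a * x⁻¹ * a⁻¹ * w := by group
    have hYo : ∀ y ∈ Y, (orderOf y).Coprime p := by
      intro y hy
      have h4 : orderOf (⟨y, hYQ hy⟩ : ↥(Qc p H)) ∣ Nat.card ↥(Qc p H) := orderOf_dvd_natCard _
      rw [← Subgroup.orderOf_coe] at h4
      simp only at h4
      have h5 : (Nat.card ↥(Qc p H)).Coprime p :=
        ((Nat.Prime.coprime_iff_not_dvd hp).2 (Qc_card H)).symm
      exact Nat.Coprime.coprime_dvd_left h4 h5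
    have hBp : IsPGroup p ↥B := (bo_pgroup hS hAH hA).to_le hBA
    have hYV : Y ≤ Subgroup.normalizer (V : Set G) := (hYQ.trans (Qc_le H)).trans hS.norm
    have hBV : B ≤ Subgroup.normalizer (V : Set G) := (hBA.trans hAH).trans hS.norm
    have h6 := Cfsg.Agent.Lib.Helper5_AxB.thompson_AxB Y B hYo hBp hYB V hVp hYV hBV hYW
    have h7 : Y ≤ H ⊓ Subgroup.centralizer (V : Set G) :=
      le_inf (hYQ.trans (Qc_le H)) (Subgroup.le_centralizer_iff.1 h6)
    rw [hS.faith, le_bot_iff, hY, Subgroup.commutator_eq_bot_iff_le_centralizer] at h7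
    exact h7
  · -- `j = p`
    rw [pow_one] at ht
    unfold fV cV
    rw [hj, ht, hcard]
    ring

end key

section good
variable {G : Type*} [Group G] [Finite G] {p : ℕ} [Fact p.Prime]

set_option maxHeartbeats 1000000 in
/-- For a nontrivial subgroup `D` of the best offender `A` there is a hyperplane `B` of `A` not
containing `D` such that `A` acts nontrivially on `C_Q(B)`. -/
theorem exists_good {V H A D : Subgroup G} (hS : SetS p V H) (hAH : A ≤ H)
    (hA : IsBestOffenderOn p V A) (hDA : D ≤ A) (hD : D ≠ ⊥) :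
    ∃ B : Subgroup G, B ≤ A ∧ B.relIndex A = p ∧ ¬ D ≤ B ∧
      ¬ (Qc p H ⊓ Subgroup.centralizer (B : Set G) ≤ Subgroup.centralizer (A : Set G)) := by
  have hp : p.Prime := Fact.out
  by_contra hcon
  push Not at hcon
  -- then `D` centralizes `Q`
  have hAel := bo_elem hS hAH hA
  have hAp := bo_pgroup hS hAH hA
  obtain ⟨k, hk⟩ := IsPGroup.iff_card.1 hAp
  have hA1 : A ≠ ⊥ := fun h => hD (le_bot_iff.1 (h ▸ hDA))
  have hk0 : k ≠ 0 := by
    rintro rfl
    rw [pow_zero] at hk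
    exact hA1 (Subgroup.card_eq_one.1 hk)
  have hQD : Qc p H ≤ Subgroup.centralizer (D : Set G) := by
    by_cases hk1 : k = 1
    · -- `|A| = p`: the hyperplane `⊥`
      have h1 : (⊥ : Subgroup G).relIndex A = p := by
        rw [Subgroup.relIndex_bot_left, hk, hk1, pow_one]
      have h2 : ¬ D ≤ (⊥ : Subgroup G) := fun h => hD (le_bot_iff.1 h)
      have h3 := hcon ⊥ bot_le h1 h2
      refine le_trans ?_ (h3.trans (Subgroup.centralizer_le hDA))
      apply le_inf le_rfl
      intro x _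
      rw [Subgroup.mem_centralizer_iff]
      intro y hy
      have : y = 1 := hy
      rw [this, one_mul, mul_one]
    · have hA2 : p ^ 2 ≤ Nat.card ↥A := by
        rw [hk]
        exact Nat.pow_le_pow_right hp.pos (by omega)
      have hAQ : A ≤ Subgroup.normalizer ((Qc p H : Subgroup G) : Set G) :=
        hAH.trans (Qc_normal H)
      have hgen := Cfsg.Agent.S1324.result p A (Qc p H) hAel hA2 (Qc_card H) hAQ
      rw [hgen]
      apply iSup_le
      rintro ⟨B, hBA, hBr⟩
      show Qc p H ⊓ Subgroup.centralizer (B : Set G) ≤ Subgroup.centralizer (D : Set G)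
      have hdvd : B.relIndex A ∣ p ^ k := hk ▸ Subgroup.relIndex_dvd_card B A
      obtain ⟨t, -, ht⟩ := (Nat.dvd_prime_pow hp).1 hdvd
      have ht1 : t ≤ 1 := by
        by_contra hc2
        push Not at hc2
        have h2 : p ^ 2 ≤ p ^ t := Nat.pow_le_pow_right hp.pos hc2
        have h3 : p < p ^ 2 := by
          calc p = p ^ 1 := (pow_one p).symm
            _ < p ^ 2 := Nat.pow_lt_pow_right hp.one_lt (by norm_num)
        rw [ht] at hBr
        omega
      interval_cases t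
      · rw [pow_zero] at ht
        have hAB : A ≤ B := Subgroup.relIndex_eq_one.1 ht
        exact inf_le_right.trans (Subgroup.centralizer_le (hDA.trans hAB))
      · rw [pow_one] at ht
        by_cases hDB : D ≤ B
        · exact inf_le_right.trans (Subgroup.centralizer_le hDB)
        · exact (hcon B hBA ht hDB).trans (Subgroup.centralizer_le hDA)
  obtain ⟨d, hd1⟩ := (Subgroup.ne_bot_iff_exists_ne_one).1 hD
  apply hd1
  apply Subtype.ext
  apply bo_faithful hS hAH hA (hDA d.2)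
  intro y hy
  exact (Subgroup.mem_centralizer_iff.1 (hQD hy) d d.2)

/-- A good hyperplane is again a best offender with the same value of `|B||C_V(B)|`. -/
theorem hyperplane_bo {V H A B : Subgroup G} (hS : SetS p V H) (hAH : A ≤ H)
    (hA : IsBestOffenderOn p V A) (hBA : B ≤ A) (hidx : B.relIndex A = p)
    (hgood : ¬ (Qc p H ⊓ Subgroup.centralizer (B : Set G) ≤ Subgroup.centralizer (A : Set G))) :
    IsBestOffenderOn p V B := by
  have hkey := key hS hAH hA hBA hidx hgood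
  refine ⟨?_, ?_, ?_⟩
  · intro B' hB'
    have h1 := hA.1 B' (hB'.trans hBA)
    have h2 : Nat.card ↥B * Nat.card ↥(V ⊓ Subgroup.centralizer (B : Set G))
        = Nat.card ↥A * Nat.card ↥(V ⊓ Subgroup.centralizer (A : Set G)) := hkey
    rw [h2]
    exact h1
  · exact (Subgroup.commutator_mono hBA hBA).trans hA.2.1
  · intro b hb
    exact hA.2.2 b (hBA hb)

set_option maxHeartbeats 1000000 in
/-- S0610: a nontrivial best offender `A ≤ H` satisfies `|A| |C_V(A)| = |V|`. -/
theorem bo_card_aux {V H : Subgroup G} (hS : SetS p V H) : ∀ n : ℕ, ∀ A : Subgroup G, A ≤ H →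
    IsBestOffenderOn p V A → Nat.card ↥A = n → fV V A = Nat.card ↥V := by
  intro n
  induction n using Nat.strong_induction_on with
  | _ n ih =>
  intro A hAH hA hn
  have hp : p.Prime := Fact.out
  by_cases hA1 : A = ⊥
  · rw [hA1, fV_bot]
  obtain ⟨B, hBA, hidx, -, hgood⟩ := exists_good hS hAH hA le_rfl hA1
  have hkey := key hS hAH hA hBA hidx hgood
  have hBbo := hyperplane_bo hS hAH hA hBA hidx hgood
  have hlt : Nat.card ↥B < n := by
    rw [← hn, card_eq_relIndex_mul hBA, hidx]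
    have : 0 < Nat.card ↥B := Nat.card_pos
    have := hp.one_lt
    nlinarith
  rw [← hkey]
  exact ih _ hlt B (hBA.trans hAH) hBbo rfl

theorem bo_card {V H A : Subgroup G} (hS : SetS p V H) (hAH : A ≤ H)
    (hA : IsBestOffenderOn p V A) : fV V A = Nat.card ↥V :=
  bo_card_aux hS _ A hAH hA rfl

end good

section minimal
variable {G : Type*} [Group G] [Finite G] {p : ℕ} [Fact p.Prime]

omit [Finite G] [Fact p.Prime] in
/-- In the faithful situation a subgroup of `H` acting trivially on `V` is trivial. -/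
theorem eq_bot_of_comm_eq_bot {V H B : Subgroup G} (hS : SetS p V H) (hBH : B ≤ H)
    (h : ⁅V, B⁆ = ⊥) : B = ⊥ := by
  rw [Subgroup.commutator_eq_bot_iff_le_centralizer, Subgroup.le_centralizer_iff] at h
  exact le_bot_iff.1 (hS.faith ▸ le_inf hBH h)

/-- A minimal nontrivially acting best offender has order `p`. -/
theorem min_card {V H A : Subgroup G} (hS : SetS p V H) (hAH : A ≤ H)
    (hA : IsBestOffenderOn p V A) (hAV : ⁅V, A⁆ ≠ ⊥)
    (hmin : ∀ B : Subgroup G, B ≤ A → IsBestOffenderOn p V B → ⁅V, B⁆ ≠ ⊥ → B = A) :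
    Nat.card ↥A = p := by
  have hp : p.Prime := Fact.out
  have hA1 : A ≠ ⊥ := by
    rintro rfl
    apply hAV
    rw [eq_bot_iff, Subgroup.commutator_le]
    intro v _ b hb
    rw [Subgroup.mem_bot] at hb ⊢
    rw [hb, commutatorElement_def]
    group
  obtain ⟨B, hBA, hidx, -, hgood⟩ := exists_good hS hAH hA le_rfl hA1
  have hBbo := hyperplane_bo hS hAH hA hBA hidx hgood
  have hB1 : B = ⊥ := by
    by_contra hB1
    have h1 : ⁅V, B⁆ ≠ ⊥ := fun h => hB1 (eq_bot_of_comm_eq_bot hS (hBA.trans hAH) h)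
    have h2 := hmin B hBA hBbo h1
    rw [h2, Subgroup.relIndex_self] at hidx
    exact hp.one_lt.ne hidx
  rw [card_eq_relIndex_mul hBA, hidx, hB1, Subgroup.card_bot, one_mul]

set_option maxHeartbeats 1000000 in
/-- For a subgroup `A = ⟨a⟩` normalizing the abelian group `V`: `|[V, A]| = |V : C_V(A)|`. -/
theorem card_comm_cyclic {V A : Subgroup G} (hVc : ∀ v ∈ V, ∀ w ∈ V, v * w = w * v)
    (hAV : A ≤ Subgroup.normalizer (V : Set G)) (a : G) (haA : a ∈ A)
    (hgen : ∀ b ∈ A, ∃ n : ℕ, a ^ n = b) :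
    Nat.card ↥(⁅V, A⁆ : Subgroup G) = (V ⊓ Subgroup.centralizer (A : Set G)).relIndex V := by
  have hconj : ∀ g ∈ A, ∀ v ∈ V, g * v * g⁻¹ ∈ V := fun g hg v hv =>
    (Subgroup.mem_normalizer_iff.1 (hAV hg) v).1 hv
  let φ : ↥V →* G :=
    { toFun := fun v => (v : G) * a * (v : G)⁻¹ * a⁻¹
      map_one' := by simp
      map_mul' := by
        intro v w
        have h1 : a * (w : G)⁻¹ * a⁻¹ ∈ V := hconj a haA _ (V.inv_mem w.2)
        have h2 : a * (v : G)⁻¹ * a⁻¹ ∈ V := hconj a haA _ (V.inv_mem v.2)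
        have h3 := hVc _ h2 _ w.2
        have h4 := hVc _ v.2 _ w.2
        show ((v * w : ↥V) : G) * a * ((v * w : ↥V) : G)⁻¹ * a⁻¹
          = ((v : G) * a * (v : G)⁻¹ * a⁻¹) * ((w : G) * a * (w : G)⁻¹ * a⁻¹)
        rw [Subgroup.coe_mul]
        have h5 : ((v : G) * w)⁻¹ = (v : G)⁻¹ * (w : G)⁻¹ := by rw [h4, mul_inv_rev]
        calc (v : G) * w * a * ((v : G) * w)⁻¹ * a⁻¹
            = (v : G) * w * a * ((v : G)⁻¹ * (w : G)⁻¹) * a⁻¹ := by rw [h5]
          _ = (v : G) * (w * (a * (v : G)⁻¹ * a⁻¹)) * (a * (w : G)⁻¹ * a⁻¹) := by group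
          _ = (v : G) * ((a * (v : G)⁻¹ * a⁻¹) * w) * (a * (w : G)⁻¹ * a⁻¹) := by rw [h3]
          _ = ((v : G) * a * (v : G)⁻¹ * a⁻¹) * ((w : G) * a * (w : G)⁻¹ * a⁻¹) := by group }
  have hφ : ∀ v : ↥V, φ v = (v : G) * a * (v : G)⁻¹ * a⁻¹ := fun _ => rfl
  -- the range is the commutator
  have hrange : (⁅V, A⁆ : Subgroup G) = φ.range := by
    apply le_antisymm
    · rw [Subgroup.commutator_le]
      intro v hv b hb
      obtain ⟨n, rfl⟩ := hgen b hb
      rw [commutatorElement_def]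
      induction n generalizing v with
      | zero =>
        have : v * a ^ 0 * v⁻¹ * (a ^ 0)⁻¹ = 1 := by simp
        rw [this]
        exact Subgroup.one_mem _
      | succ n ih =>
        have h1 : a ^ n * v * (a ^ n)⁻¹ ∈ V := hconj _ (A.pow_mem haA n) v hv
        have e : v * a ^ (n + 1) * v⁻¹ * (a ^ (n + 1))⁻¹
            = (v * a ^ n * v⁻¹ * (a ^ n)⁻¹) *
              ((a ^ n * v * (a ^ n)⁻¹) * a * (a ^ n * v * (a ^ n)⁻¹)⁻¹ * a⁻¹) := by
          have hc : a ^ n * a = a * a ^ n := (pow_succ a n).symm.trans (pow_succ' a n)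
          have hc' : (a ^ n)⁻¹ * a = a * (a ^ n)⁻¹ := by
            calc (a ^ n)⁻¹ * a = (a ^ n)⁻¹ * (a * a ^ n) * (a ^ n)⁻¹ := by group
              _ = (a ^ n)⁻¹ * (a ^ n * a) * (a ^ n)⁻¹ := by rw [hc]
              _ = a * (a ^ n)⁻¹ := by group
          calc v * a ^ (n + 1) * v⁻¹ * (a ^ (n + 1))⁻¹
              = v * (a ^ n * a) * v⁻¹ * (a ^ n * a)⁻¹ := by rw [pow_succ]
            _ = v * a ^ n * (a * v⁻¹ * a⁻¹) * (a ^ n)⁻¹ := by group
            _ = (v * a ^ n * v⁻¹ * (a ^ n)⁻¹) *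
                (a ^ n * v * ((a ^ n)⁻¹ * a) * (a ^ n * v⁻¹ * (a ^ n)⁻¹) * a⁻¹) := by
                  rw [hc']; group
            _ = _ := by group
        rw [e]
        exact Subgroup.mul_mem _ (ih v hv (A.pow_mem haA n)) ⟨⟨_, h1⟩, rfl⟩
    · rintro _ ⟨v, rfl⟩
      rw [hφ, ← commutatorElement_def]
      exact Subgroup.commutator_mem_commutator v.2 haA
  -- the kernel
  have hker : φ.ker = (V ⊓ Subgroup.centralizer (A : Set G)).subgroupOf V := by
    ext v
    rw [MonoidHom.mem_ker, hφ, Subgroup.mem_subgroupOf, Subgroup.mem_inf]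
    constructor
    · intro h
      refine ⟨v.2, ?_⟩
      have hva : (v : G) * a = a * v := by
        calc (v : G) * a = ((v : G) * a * (v : G)⁻¹ * a⁻¹) * (a * v) := by group
          _ = a * v := by rw [h, one_mul]
      rw [Subgroup.mem_centralizer_iff]
      intro b hb
      obtain ⟨n, rfl⟩ := hgen b hb
      have hc : Commute (v : G) a := hva
      exact (hc.pow_right n).eq.symm
    · rintro ⟨-, h⟩
      have := Subgroup.mem_centralizer_iff.1 h a haA
      calc (v : G) * a * (v : G)⁻¹ * a⁻¹ = (a * v) * (v : G)⁻¹ * a⁻¹ := by rw [this]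
        _ = 1 := by group
  rw [hrange, ← Subgroup.index_ker, hker]
  rfl

set_option maxHeartbeats 1000000 in
/-- S0611. -/
theorem min_structure {V H A : Subgroup G} (hS : SetS p V H) (hAH : A ≤ H)
    (hA : IsBestOffenderOn p V A) (hAV : ⁅V, A⁆ ≠ ⊥)
    (hmin : ∀ B : Subgroup G, B ≤ A → IsBestOffenderOn p V B → ⁅V, B⁆ ≠ ⊥ → B = A) :
    Nat.card ↥A = p ∧ Nat.card ↥(⁅V, A⁆ : Subgroup G) = p ∧
      (V ⊓ Subgroup.centralizer (A : Set G)).relIndex V = p := by
  have hp : p.Prime := Fact.out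
  have hcard := min_card hS hAH hA hAV hmin
  have hf := bo_card hS hAH hA
  have hrel : (V ⊓ Subgroup.centralizer (A : Set G)).relIndex V = p := by
    have h1 := card_eq_relIndex_mul (inf_le_left : V ⊓ Subgroup.centralizer (A : Set G) ≤ V)
    unfold fV cV at hf
    rw [hcard] at hf
    have hpos : 0 < Nat.card ↥(V ⊓ Subgroup.centralizer (A : Set G) : Subgroup G) := Nat.card_pos
    have h2 : Nat.card ↥(V ⊓ Subgroup.centralizer (A : Set G) : Subgroup G) *
        (V ⊓ Subgroup.centralizer (A : Set G)).relIndex V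
        = Nat.card ↥(V ⊓ Subgroup.centralizer (A : Set G) : Subgroup G) * p := by
      rw [← h1, ← hf, mul_comm]
    exact Nat.eq_of_mul_eq_mul_left hpos h2
  refine ⟨hcard, ?_, hrel⟩
  haveI : IsCyclic ↥A := isCyclic_of_prime_card hcard
  obtain ⟨g, hg⟩ := IsCyclic.exists_generator (α := ↥A)
  have hgen : ∀ b ∈ A, ∃ n : ℕ, (g : G) ^ n = b := by
    intro b hb
    have h1 := hg ⟨b, hb⟩
    rw [← (isOfFinOrder_of_finite g).mem_powers_iff_mem_zpowers, Submonoid.mem_powers_iff] at h1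
    obtain ⟨n, hn⟩ := h1
    refine ⟨n, ?_⟩
    have := congrArg Subtype.val hn
    simpa using this
  have hVc : ∀ v ∈ V, ∀ w ∈ V, v * w = w * v := by
    intro v hv w hw
    have := hS.elem.1.is_comm.comm (⟨v, hv⟩ : ↥V) ⟨w, hw⟩
    exact congrArg Subtype.val this
  rw [card_comm_cyclic hVc (hAH.trans hS.norm) (g : G) g.2 hgen, hrel]

end minimal

section decomp
variable {G : Type*} [Group G] [Finite G] {p : ℕ} [Fact p.Prime]

/-- A subgroup of order `p` of `H` acting on `V` as a transvection group. -/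
def IsTrans (p : ℕ) (V H X : Subgroup G) : Prop :=
  X ≤ H ∧ Nat.card ↥X = p ∧ fV V X = Nat.card ↥V

theorem sub_prime {X C : Subgroup G} (hX : Nat.card ↥X = p) (hC : C ≤ X) :
    C = ⊥ ∨ C = X := by
  have hp : p.Prime := Fact.out
  have h1 : Nat.card ↥C ∣ p := hX ▸ Subgroup.card_dvd_of_le hC
  rcases (Nat.dvd_prime hp).1 h1 with h2 | h2
  · exact Or.inl (Subgroup.card_eq_one.1 h2)
  · right
    exact Cfsg.Agent.Lib.Lead_SZ.eq_of_le_of_card_eq hC (h2.trans hX.symm)

omit [Finite G] [Fact p.Prime] in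
theorem comm_bot_right (V : Subgroup G) : ⁅V, (⊥ : Subgroup G)⁆ = ⊥ := by
  rw [eq_bot_iff, Subgroup.commutator_le]
  intro v _ b hb
  rw [Subgroup.mem_bot] at hb ⊢
  rw [hb, commutatorElement_def]
  group

set_option maxHeartbeats 1000000 in
theorem trans_props {V H X : Subgroup G} (hS : SetS p V H) (hX : IsTrans p V H X) :
    IsBestOffenderOn p V X ∧ ⁅V, X⁆ ≠ ⊥ ∧
      ∀ C : Subgroup G, C ≤ X → IsBestOffenderOn p V C → ⁅V, C⁆ ≠ ⊥ → C = X := by
  have hp : p.Prime := Fact.out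
  obtain ⟨hXH, hXc, hXf⟩ := hX
  haveI : IsCyclic ↥X := isCyclic_of_prime_card hXc
  obtain ⟨g, hg⟩ := IsCyclic.exists_generator (α := ↥X)
  have hcomm : ∀ x ∈ X, ∀ y ∈ X, x * y = y * x := by
    intro x hx y hy
    obtain ⟨i, hi⟩ := Subgroup.mem_zpowers_iff.1 (hg ⟨x, hx⟩)
    obtain ⟨j, hj⟩ := Subgroup.mem_zpowers_iff.1 (hg ⟨y, hy⟩)
    have h1 : (⟨x, hx⟩ : ↥X) * ⟨y, hy⟩ = ⟨y, hy⟩ * ⟨x, hx⟩ := by
      rw [← hi, ← hj]
      exact zpow_mul_comm g i j
    exact congrArg Subtype.val h1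
  refine ⟨⟨?_, ?_, ?_⟩, ?_, ?_⟩
  · intro B hB
    rcases sub_prime hXc hB with h | h
    · have h1 : fV V B = Nat.card ↥V := by rw [h, fV_bot]
      have h2 : fV V B ≤ fV V X := by rw [h1, hXf]
      exact h2
    · rw [h]
  · rw [Subgroup.commutator_le]
    intro x hx y hy
    rw [commutatorElement_eq_one_iff_mul_comm.2 (hcomm x hx y hy)]
    exact Subgroup.one_mem _
  · intro x hx
    have h1 : (⟨x, hx⟩ : ↥X) ^ p = 1 := by
      rw [← hXc]
      exact pow_card_eq_one'
    have h2 : x ^ p = 1 := by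
      have := congrArg Subtype.val h1
      simpa using this
    rw [h2]
    exact Subgroup.one_mem _
  · intro h
    have := eq_bot_of_comm_eq_bot hS hXH h
    rw [this, Subgroup.card_bot] at hXc
    exact hp.one_lt.ne hXc
  · intro C hC _ hCV
    rcases sub_prime hXc hC with h | h
    · exfalso
      apply hCV
      rw [h]
      exact comm_bot_right V
    · exact h

set_option maxHeartbeats 2000000 in
theorem decomp_aux {V H : Subgroup G} (hS : SetS p V H) : ∀ n : ℕ, ∀ A : Subgroup G, A ≤ H →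
    IsBestOffenderOn p V A → A ≠ ⊥ → Nat.card ↥A = n →
    ∃ (k : ℕ) (B : Fin k → Subgroup G), (∀ i, B i ≤ A ∧ IsTrans p V H (B i)) ∧
      iSupIndep B ∧ ⨆ i, B i = A := by
  intro n
  induction n using Nat.strong_induction_on with
  | _ n ih =>
  intro A hAH hA hA1 hn
  have hp : p.Prime := Fact.out
  obtain ⟨B₀, hB₀A, hidx₀, -, hgood₀⟩ := exists_good hS hAH hA le_rfl hA1
  have hB₀bo := hyperplane_bo hS hAH hA hB₀A hidx₀ hgood₀
  have hcardA : Nat.card ↥A = Nat.card ↥B₀ * p := by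
    rw [card_eq_relIndex_mul hB₀A, hidx₀]
  by_cases hB₀1 : B₀ = ⊥
  · -- `|A| = p`
    have hAp : Nat.card ↥A = p := by
      rw [hcardA, hB₀1, Subgroup.card_bot, one_mul]
    refine ⟨1, fun _ => A, ?_, iSupIndep_subsingleton _, ?_⟩
    · intro i
      exact ⟨le_rfl, hAH, hAp, bo_card hS hAH hA⟩
    · exact ciSup_const
  · have hlt₀ : Nat.card ↥B₀ < n := by
      rw [← hn, hcardA]
      have : 0 < Nat.card ↥B₀ := Nat.card_pos
      have := hp.one_lt
      nlinarith
    obtain ⟨k₀, F₀, hF₀, hind₀, hsup₀⟩ := ih _ hlt₀ B₀ (hB₀A.trans hAH) hB₀bo hB₀1 rfl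
    obtain ⟨B₁, hB₁A, hidx₁, hnot, hgood₁⟩ := exists_good hS hAH hA hB₀A hB₀1
    have hB₁bo := hyperplane_bo hS hAH hA hB₁A hidx₁ hgood₁
    have hcardA₁ : Nat.card ↥A = Nat.card ↥B₁ * p := by
      rw [card_eq_relIndex_mul hB₁A, hidx₁]
    have hcardeq : Nat.card ↥B₁ = Nat.card ↥B₀ := by
      have h1 : Nat.card ↥B₁ * p = Nat.card ↥B₀ * p := by rw [← hcardA, ← hcardA₁]
      exact Nat.eq_of_mul_eq_mul_right hp.pos h1
    have hB₁1 : B₁ ≠ ⊥ := by
      intro h
      rw [h, Subgroup.card_bot] at hcardeq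
      exact hB₀1 (Subgroup.card_eq_one.1 hcardeq.symm)
    have hlt₁ : Nat.card ↥B₁ < n := by rw [hcardeq]; exact hlt₀
    obtain ⟨k₁, F₁, hF₁, -, hsup₁⟩ := ih _ hlt₁ B₁ (hB₁A.trans hAH) hB₁bo hB₁1 rfl
    have hB₁B₀ : ¬ B₁ ≤ B₀ := by
      intro hle
      apply hnot
      rw [Cfsg.Agent.Lib.Lead_SZ.eq_of_le_of_card_eq hle hcardeq]
    obtain ⟨j, hj⟩ : ∃ j, ¬ F₁ j ≤ B₀ := by
      by_contra hcon
      push Not at hcon
      apply hB₁B₀
      rw [← hsup₁]
      exact iSup_le hcon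
    set X : Subgroup G := F₁ j with hX
    have hXtr : IsTrans p V H X := (hF₁ j).2
    have hXA : X ≤ A := (hF₁ j).1.trans hB₁A
    have hXB₀ : X ⊓ B₀ = ⊥ := by
      rcases sub_prime hXtr.2.1 (inf_le_left : X ⊓ B₀ ≤ X) with h | h
      · exact h
      · exact absurd (h ▸ inf_le_right) hj
    have hXsup : X ⊔ B₀ = A := by
      apply le_antisymm (sup_le hXA hB₀A)
      have h1 := Subgroup.relIndex_mul_relIndex B₀ (X ⊔ B₀) A le_sup_right (sup_le hXA hB₀A)
      rw [hidx₀] at h1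
      have h2 : (X ⊔ B₀).relIndex A ∣ p := Dvd.intro_left _ h1
      rcases (Nat.dvd_prime hp).1 h2 with h3 | h3
      · exact Subgroup.relIndex_eq_one.1 h3
      · exfalso
        rw [h3] at h1
        have h4 : B₀.relIndex (X ⊔ B₀) = 1 := by
          have : B₀.relIndex (X ⊔ B₀) * p = 1 * p := by rw [h1, one_mul]
          exact Nat.eq_of_mul_eq_mul_right hp.pos this
        exact hj (le_sup_left.trans (Subgroup.relIndex_eq_one.1 h4))
    have hAc := bo_comm hS hAH hA
    refine ⟨k₀ + 1, Fin.cons X F₀, ?_, ?_, ?_⟩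
    · intro i
      rcases Fin.eq_zero_or_eq_succ i with rfl | ⟨i', rfl⟩
      · rw [Fin.cons_zero]
        exact ⟨hXA, hXtr⟩
      · rw [Fin.cons_succ]
        exact ⟨(hF₀ i').1.trans hB₀A, (hF₀ i').2⟩
    · rw [iSupIndep_def]
      intro i
      rcases Fin.eq_zero_or_eq_succ i with rfl | ⟨i', rfl⟩
      · rw [Fin.cons_zero]
        have hle : (⨆ j, ⨆ (_ : j ≠ (0 : Fin (k₀ + 1))), (Fin.cons X F₀ : Fin (k₀ + 1) → Subgroup G) j)
            ≤ B₀ := by
          apply iSup_le
          intro j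
          apply iSup_le
          intro hj0
          rcases Fin.eq_zero_or_eq_succ j with rfl | ⟨j', rfl⟩
          · exact absurd rfl hj0
          · rw [Fin.cons_succ, ← hsup₀]
            exact le_iSup F₀ j'
        exact (disjoint_iff.2 hXB₀).mono_right hle
      · rw [Fin.cons_succ]
        set T : Subgroup G := ⨆ j, ⨆ (_ : j ≠ i'), F₀ j with hT
        have hTB₀ : T ≤ B₀ := by
          rw [hT, ← hsup₀]
          exact iSup_le fun j => iSup_le fun _ => le_iSup F₀ j
        have hle : (⨆ j, ⨆ (_ : j ≠ i'.succ), (Fin.cons X F₀ : Fin (k₀ + 1) → Subgroup G) j)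
            ≤ X ⊔ T := by
          apply iSup_le
          intro j
          apply iSup_le
          intro hj0
          rcases Fin.eq_zero_or_eq_succ j with rfl | ⟨j', rfl⟩
          · rw [Fin.cons_zero]
            exact le_sup_left
          · rw [Fin.cons_succ]
            have hj' : j' ≠ i' := fun h => hj0 (h ▸ rfl)
            exact le_trans (le_iSup₂ (f := fun j (_ : j ≠ i') => F₀ j) j' hj') le_sup_right
        refine Disjoint.mono_right hle ?_
        rw [disjoint_iff, eq_bot_iff]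
        rintro g ⟨hg1, hg2⟩
        have hTn : T ≤ Subgroup.normalizer (X : Set G) := by
          intro t ht
          apply Subgroup.centralizer_le_normalizer
          rw [Subgroup.mem_centralizer_iff]
          intro x hx
          exact hAc x (hXA hx) t (hB₀A (hTB₀ ht))
        have hg2' : g ∈ (↑(X ⊔ T) : Set G) := hg2
        rw [Subgroup.coe_mul_of_right_le_normalizer_left X T hTn, Set.mem_mul] at hg2'
        obtain ⟨x, hx, t, ht, rfl⟩ := hg2'
        have hgB₀ : x * t ∈ B₀ := by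
          rw [← hsup₀]
          exact (le_iSup F₀ i') hg1
        have hxB₀ : x ∈ B₀ := by
          have := B₀.mul_mem hgB₀ (B₀.inv_mem (hTB₀ ht))
          rwa [mul_inv_cancel_right] at this
        have hx1 : x = 1 := by
          have : x ∈ X ⊓ B₀ := ⟨hx, hxB₀⟩
          rwa [hXB₀, Subgroup.mem_bot] at this
        rw [hx1, one_mul] at hg1 ⊢
        have h5 := (iSupIndep_def.1 hind₀ i')
        rw [disjoint_iff] at h5
        have : t ∈ F₀ i' ⊓ T := ⟨hg1, ht⟩
        rw [h5] at this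
        exact this
    · apply le_antisymm
      · apply iSup_le
        intro i
        rcases Fin.eq_zero_or_eq_succ i with rfl | ⟨i', rfl⟩
        · rw [Fin.cons_zero]
          exact hXA
        · rw [Fin.cons_succ]
          exact (hF₀ i').1.trans hB₀A
      · rw [← hXsup]
        apply sup_le
        · have := le_iSup (Fin.cons X F₀ : Fin (k₀ + 1) → Subgroup G) 0
          rwa [Fin.cons_zero] at this
        · rw [← hsup₀]
          apply iSup_le
          intro i'
          have := le_iSup (Fin.cons X F₀ : Fin (k₀ + 1) → Subgroup G) i'.succ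
          rwa [Fin.cons_succ] at this

/-- S0612. -/
theorem decomp {V H A : Subgroup G} (hS : SetS p V H) (hAH : A ≤ H)
    (hA : IsBestOffenderOn p V A) (hA1 : A ≠ ⊥) :
    ∃ (k : ℕ) (B : Fin k → Subgroup G),
      (∀ i, B i ≤ A ∧ IsBestOffenderOn p V (B i) ∧ ⁅V, B i⁆ ≠ ⊥ ∧
        ∀ C : Subgroup G, C ≤ B i → IsBestOffenderOn p V C → ⁅V, C⁆ ≠ ⊥ → C = B i) ∧
      iSupIndep B ∧ ⨆ i, B i = A := by
  obtain ⟨k, B, hB, hind, hsup⟩ := decomp_aux hS _ A hAH hA hA1 rfl
  refine ⟨k, B, ?_, hind, hsup⟩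
  intro i
  obtain ⟨h1, h2, h3⟩ := trans_props hS (hB i).2
  exact ⟨(hB i).1, h1, h2, h3⟩

end decomp

end Cfsg.Agent.Lib.Lead_BO
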