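import Mathlib
import Cfsg.Agent.S0031
import Cfsg.Agent.S0032
import Cfsg.Agent.Lib.Lead_GT1
import Cfsg.Agent.Lib.Helper2_NilDecomp

/-!
# Fixed-point-free automorphisms of prime order: toolkit
-/

namespace Cfsg.Agent.Lib.Lead_FPF

open Cfsg.Agent.Lib.Helper7_NPC Cfsg.Agent.Lib.Lead_GT1

/-- Standing hypotheses: `φ` is fixed-point-free and `φ ^ r = 1`. -/
structure Setup {G : Type*} [Group G] (φ : G ≃* G) (r : ℕ) : Prop where
  fpf : ∀ g, φ g = g → g = 1
  iter : ∀ g, (⇑φ)^[r] g = g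

section
variable {G : Type*} [Group G]

theorem Setup.toFPF {φ : G ≃* G} {r : ℕ} (h : Setup φ r) :
    MonoidHom.FixedPointFree (φ : G →* G) := fun g hg => h.fpf g hg

theorem map_eq_of_forall_mem [Finite G] (φ : G ≃* G) (M : Subgroup G)
    (hM : ∀ m ∈ M, φ m ∈ M) : M.map (φ : G →* G) = M := by
  apply Cfsg.Agent.Lib.Lead_SZ.eq_of_le_of_card_eq
  · rintro _ ⟨m, hm, rfl⟩
    exact hM m hm
  · exact Subgroup.card_map_of_injective φ.injective

theorem mem_of_map_eq (φ : G ≃* G) (M : Subgroup G) (hM : M.map (φ : G →* G) = M) {m : G}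
    (hm : m ∈ M) : φ m ∈ M := by
  rw [← hM]; exact ⟨m, hm, rfl⟩

theorem symm_mem_of_map_eq (φ : G ≃* G) (M : Subgroup G) (hM : M.map (φ : G →* G) = M) {m : G}
    (hm : m ∈ M) : φ.symm m ∈ M := by
  rw [← hM] at hm
  obtain ⟨m', hm', rfl⟩ := hm
  have : φ.symm ((φ : G →* G) m') = m' := φ.symm_apply_apply m'
  rw [this]; exact hm'

/-- Restriction of an automorphism to an invariant subgroup. -/
def res (φ : G ≃* G) (M : Subgroup G) (hM : M.map (φ : G →* G) = M) : ↥M ≃* ↥M where
  toFun x := ⟨φ (x : G), mem_of_map_eq φ M hM x.2⟩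
  invFun x := ⟨φ.symm (x : G), symm_mem_of_map_eq φ M hM x.2⟩
  left_inv x := Subtype.ext (φ.symm_apply_apply (x : G))
  right_inv x := Subtype.ext (φ.apply_symm_apply (x : G))
  map_mul' x y := Subtype.ext (map_mul φ (x : G) (y : G))

@[simp] theorem res_apply (φ : G ≃* G) (M : Subgroup G) (hM : M.map (φ : G →* G) = M) (x : ↥M) :
    ((res φ M hM x : ↥M) : G) = φ (x : G) := rfl

theorem res_iterate (φ : G ≃* G) (M : Subgroup G) (hM : M.map (φ : G →* G) = M) (k : ℕ)
    (x : ↥M) : (((⇑(res φ M hM))^[k] x : ↥M) : G) = (⇑φ)^[k] (x : G) := by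
  induction k generalizing x with
  | zero => rfl
  | succ k ih =>
    rw [Function.iterate_succ_apply, Function.iterate_succ_apply, ih]
    rfl

theorem Setup.res {φ : G ≃* G} {r : ℕ} (h : Setup φ r) (M : Subgroup G)
    (hM : M.map (φ : G →* G) = M) : Setup (res φ M hM) r where
  fpf x hx := by
    have := congrArg Subtype.val hx
    exact Subtype.ext (h.fpf (x : G) this)
  iter x := Subtype.ext (by rw [res_iterate]; exact h.iter (x : G))

/-- The induced automorphism of a quotient. -/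
def quo (φ : G ≃* G) (N : Subgroup G) [N.Normal] (hN : N.map (φ : G →* G) = N) :
    G ⧸ N ≃* G ⧸ N := QuotientGroup.congr N N φ hN

theorem quo_mk (φ : G ≃* G) (N : Subgroup G) [N.Normal] (hN : N.map (φ : G →* G) = N) (x : G) :
    quo φ N hN (QuotientGroup.mk' N x) = QuotientGroup.mk' N (φ x) := rfl

theorem quo_iterate (φ : G ≃* G) (N : Subgroup G) [N.Normal] (hN : N.map (φ : G →* G) = N)
    (k : ℕ) (x : G) :
    (⇑(quo φ N hN))^[k] (QuotientGroup.mk' N x) = QuotientGroup.mk' N ((⇑φ)^[k] x) := by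
  induction k generalizing x with
  | zero => rfl
  | succ k ih =>
    rw [Function.iterate_succ_apply, Function.iterate_succ_apply, quo_mk, ih]

theorem Setup.quo [Finite G] {φ : G ≃* G} {r : ℕ} (h : Setup φ r) (N : Subgroup G) [N.Normal]
    (hN : N.map (φ : G →* G) = N) : Setup (quo φ N hN) r where
  fpf y hy := by
    obtain ⟨x, rfl⟩ := QuotientGroup.mk'_surjective N y
    rw [quo_mk] at hy
    have h1 : (φ x)⁻¹ * x ∈ N := by
      rw [← QuotientGroup.eq_one_iff, ← QuotientGroup.mk'_apply, map_mul, map_inv, hy,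
        inv_mul_cancel]
    have h2 := Cfsg.Agent.S0032.result φ h.toFPF N (fun n hn => mem_of_map_eq φ N hN hn) x h1
    exact (QuotientGroup.eq_one_iff x).2 h2
  iter y := by
    obtain ⟨x, rfl⟩ := QuotientGroup.mk'_surjective N y
    rw [quo_iterate, h.iter]

/-- Powers of `φ` not divisible by the prime `r` are fixed-point-free. -/
theorem Setup.fpf_iterate {φ : G ≃* G} {r : ℕ} (h : Setup φ r) (hr : r.Prime) (i : ℕ)
    (hi : ¬ r ∣ i) (g : G) (hg : (⇑φ)^[i] g = g) : g = 1 := by
  have hcop : Nat.Coprime i r := ((Nat.Prime.coprime_iff_not_dvd hr).2 hi).symm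
  obtain ⟨j, -, hj⟩ := Nat.exists_mul_mod_eq_one_of_coprime hcop hr.one_lt
  have h1 : (⇑φ)^[i * j] g = g := by
    rw [Function.iterate_mul]
    exact Function.iterate_fixed hg j
  have h2 : i * j = 1 + r * (i * j / r) := by
    have := Nat.div_add_mod (i * j) r
    omega
  have h3 : ∀ m : ℕ, ∀ x : G, (⇑φ)^[r * m] x = x := by
    intro m x
    rw [Function.iterate_mul]
    exact Function.iterate_fixed (h.iter x) m
  rw [h2, Function.iterate_add_apply, h3] at h1
  exact h.fpf g h1

end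

section
variable {G : Type*} [Group G] [Finite G]

/-- A finite nilpotent group has a normal `p`-complement. -/
theorem npc_of_nilpotent (p : ℕ) [Fact p.Prime] [hnil : Group.IsNilpotent G] : NPC p G := by
  have hpp : p.Prime := Fact.out
  apply npc_of_frobHyp
  intro Q hQ g _ hcop
  obtain ⟨P, hQP⟩ := hQ.exists_le_sylow
  have hnd : ¬ p ∣ orderOf g := (Nat.Prime.coprime_iff_not_dvd hpp).1 hcop.symm
  have key := Cfsg.Agent.Lib.Helper2_NilDecomp.commute_sylow_of_regular p P g hnd
  rw [Subgroup.mem_centralizer_iff]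
  intro q hq
  have := key q (hQP hq)
  calc q * g = (g * q * g⁻¹) * g := by rw [this]
    _ = g * q := by group

end

end Cfsg.Agent.Lib.Lead_FPF
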