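import Mathlib
import Cfsg.Prelude.Def_ConjugacyFunctors
import Cfsg.Agent.Lib.Lead_GTb

/-!
# Isomorphism-invariant `p`-group functors as characteristic `p`-functors; transport of the
local condition along isomorphisms; the class of groups all of whose subquotients satisfy it
-/

namespace Cfsg.Agent.Lib.Lead_Ind

open Cfsg.Agent.Lib.Helper7_NPC Cfsg.Agent.Lib.Helper4_PCore Cfsg.Agent.Lib.Lead_GT1
  Cfsg.Agent.Lib.Lead_GTb

universe u

section
variable {p : ℕ} [Fact p.Prime] (W : ∀ (Q : Type u) [Group Q], Subgroup Q)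

/-- The restriction iso `R ≃* f(R)` for `f` injective on `R`. -/
noncomputable def resEquiv {X Y : Type u} [Group X] [Group Y] (f : X →* Y) (R : Subgroup X)
    (hinj : Set.InjOn f (R : Set X)) : ↥R ≃* ↥(R.map f) :=
  MulEquiv.ofBijective (f.subgroupMap R)
    ⟨fun x y hxy => Subtype.ext (hinj x.2 y.2 (congrArg Subtype.val hxy)),
      f.subgroupMap_surjective R⟩

theorem induced_map (hW : Cfsg.IsCharPFunctor.{u} p W) {X Y : Type u} [Group X] [Group Y]
    [Finite X] (f : X →* Y) (R : Subgroup X) (hR : IsPGroup p R)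
    (hinj : Set.InjOn f (R : Set X)) :
    Cfsg.inducedFunctor W (R.map f) = (Cfsg.inducedFunctor W R).map f := by
  unfold Cfsg.inducedFunctor
  have h1 := hW.2 ↥R ↥(R.map f) hR (resEquiv f R hinj)
  rw [← h1, Subgroup.map_map, Subgroup.map_map]
  congr 1

/-- The characteristic `p`-functor attached to an isomorphism-invariant `p`-group functor. -/
noncomputable def indFun (hW : Cfsg.IsCharPFunctor.{u} p W) : WFun0.{u} p where
  W := fun X _ R => Cfsg.inducedFunctor W R
  le := fun X _ R => Subgroup.map_subtype_le _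
  ne_bot := fun X _ _ R hRp hR => by
    haveI : Nontrivial ↥R := (Subgroup.nontrivial_iff_ne_bot R).2 hR
    have h1 := hW.1 ↥R hRp inferInstance
    intro h0
    apply h1
    unfold Cfsg.inducedFunctor at h0
    exact (Subgroup.map_eq_bot_iff_of_injective _ R.subtype_injective).1 h0
  map := fun X Y _ _ _ _ f R hRp hinj => induced_map W hW f R hRp hinj

omit [Fact p.Prime] in
theorem pCore_map_le {Z Y : Type u} [Group Z] [Group Y] (e : Z ≃* Y) :
    (Cfsg.pCore p Z).map e.toMonoidHom ≤ Cfsg.pCore p Y := by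
  rw [Subgroup.map_le_iff_le_comap]
  unfold Cfsg.pCore
  apply sSup_le
  intro N hN
  rw [← Subgroup.map_le_iff_le_comap]
  apply le_sSup
  exact ⟨hN.1.map e.toMonoidHom e.surjective, hN.2.map _⟩

omit [Fact p.Prime] in
theorem pCore_map_equiv {Z Y : Type u} [Group Z] [Group Y] (e : Z ≃* Y) :
    (Cfsg.pCore p Z).map e.toMonoidHom = Cfsg.pCore p Y := by
  apply le_antisymm (pCore_map_le e)
  have h1 := pCore_map_le (p := p) e.symm
  intro y hy
  have h2 : e.symm y ∈ Cfsg.pCore p Z := h1 ⟨y, hy, rfl⟩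
  exact ⟨e.symm y, h2, e.apply_symm_apply y⟩

/-- The local condition of the functor-form criterion. -/
def Loc (p : ℕ) (W : ∀ (Q : Type u) [Group Q], Subgroup Q) (Y : Type u) [Group Y] : Prop :=
  Subgroup.centralizer ((Cfsg.pCore p Y : Subgroup Y) : Set Y) ≤ Cfsg.pCore p Y →
    Cfsg.HasNormalPComplement p (Y ⧸ Cfsg.pCore p Y) →
    ∀ T : Sylow p Y, IsCoatom (T : Subgroup Y) →
      (Cfsg.inducedFunctor (G := Y) W (T : Subgroup Y)).Normal

set_option maxHeartbeats 1000000 in
theorem loc_of_equiv (hW : Cfsg.IsCharPFunctor.{u} p W) {Z Y : Type u} [Group Z] [Group Y]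
    [Finite Z] [Finite Y] (e : Z ≃* Y) (hZ : Loc p W Z) : Loc p W Y := by
  intro hcY hnY T hT
  have hcore := pCore_map_equiv (p := p) e
  haveI hnZc : (Cfsg.pCore p Z).Normal := pCore_normal p Z
  haveI hnYc : (Cfsg.pCore p Y).Normal := pCore_normal p Y
  -- (b)
  have hcZ : Subgroup.centralizer ((Cfsg.pCore p Z : Subgroup Z) : Set Z) ≤ Cfsg.pCore p Z := by
    intro z hz
    rw [Subgroup.mem_centralizer_iff] at hz
    have h1 : e z ∈ Subgroup.centralizer ((Cfsg.pCore p Y : Subgroup Y) : Set Y) := by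
      rw [Subgroup.mem_centralizer_iff]
      intro y hy
      rw [← hcore] at hy
      obtain ⟨z', hz', rfl⟩ := hy
      show e z' * e z = e z * e z'
      rw [← map_mul, ← map_mul, hz z' hz']
    have h2 := hcY h1
    rw [← hcore] at h2
    obtain ⟨z'', hz'', hzz⟩ := h2
    have : z'' = z := e.injective hzz
    rwa [← this]
  -- (c)
  have hnZ : Cfsg.HasNormalPComplement p (Z ⧸ Cfsg.pCore p Z) := by
    rw [hasNormalPComplement_iff_npc] at hnY ⊢
    exact npc_of_equiv (QuotientGroup.congr (Cfsg.pCore p Z) (Cfsg.pCore p Y) e hcore).symm hnY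
  -- (d)
  set T'' : Subgroup Z := (T : Subgroup Y).map e.symm.toMonoidHom with hT''
  have hcard : Nat.card T'' = p ^ (Nat.card Z).factorization p := by
    rw [hT'', Subgroup.card_map_of_injective e.symm.injective, T.card_eq_multiplicity,
      Nat.card_congr e.toEquiv]
  have hTmap : T''.map e.toMonoidHom = (T : Subgroup Y) := by
    rw [hT'', Subgroup.map_map]
    ext y
    simp
  -- (e)
  have hco : IsCoatom T'' := by
    have := (OrderIso.isCoatom_iff (MulEquiv.mapSubgroup e.symm) (T : Subgroup Y)).2 hT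
    exact this
  have h3 := hZ hcZ hnZ (Sylow.ofCard T'' hcard) (by rw [Sylow.coe_ofCard]; exact hco)
  rw [Sylow.coe_ofCard] at h3
  have hT''p : IsPGroup p T'' := T.isPGroup'.map _
  have h4 := induced_map W hW e.toMonoidHom T'' hT''p e.injective.injOn
  rw [hTmap] at h4
  rw [h4]
  exact h3.map e.toMonoidHom e.surjective

/-- `Y` is a quotient of a subgroup of `X`. -/
def SubQ (Y X : Type u) [Group Y] [Group X] : Prop :=
  ∃ (M : Subgroup X) (f : ↥M →* Y), Function.Surjective f

/-- The class of groups all of whose finite subquotients satisfy the local condition. -/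
def locClass (p : ℕ) (W : ∀ (Q : Type u) [Group Q], Subgroup Q) : GClass.{u} where
  mem := fun X _ => ∀ (Y : Type u) [Group Y] [Finite Y], SubQ Y X → Loc p W Y
  sub := fun X _ M h Y _ _ hY => by
    obtain ⟨M', f, hf⟩ := hY
    apply h Y
    refine ⟨M'.map M.subtype,
      f.comp (M'.equivMapOfInjective M.subtype M.subtype_injective).symm.toMonoidHom, ?_⟩
    exact hf.comp (MulEquiv.surjective _)
  quot := fun X _ N _ h Y _ _ hY => by
    obtain ⟨M', f, hf⟩ := hY
    apply h Y
    refine ⟨M'.comap (QuotientGroup.mk' N), f.comp ((QuotientGroup.mk' N).subgroupComap M'), ?_⟩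
    exact hf.comp (MonoidHom.subgroupComap_surjective_of_surjective _ _
      (QuotientGroup.mk'_surjective N))

end

end Cfsg.Agent.Lib.Lead_Ind
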