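import Mathlib
import Cfsg.Prelude.Def_ConjugacyFunctors
import Cfsg.Agent.Lib.Lead_Ind
import Cfsg.Agent.Lib.Lead_FPF
import Cfsg.Agent.Lib.Lead_PStable
import Cfsg.Agent.Lib.Helper7_PFrattini
import Cfsg.Agent.Lib.Helper7_Conj

/-!
# Control of transfer in all sections gives a normal subgroup of index `p`
-/

namespace Cfsg.Agent.Lib.Lead_CT

open Cfsg.Agent.Lib.Helper7_NPC Cfsg.Agent.Lib.Helper4_PCore Cfsg.Agent.Lib.Lead_GT1
  Cfsg.Agent.Lib.Lead_GTb Cfsg.Agent.Lib.Lead_Ind

universe u

/-- The class of groups all of whose finite subquotients have a given property. -/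
def sqClass (P : ∀ (Y : Type u) [Group Y], Prop) : GClass.{u} where
  mem := fun X _ => ∀ (Y : Type u) [Group Y] [Finite Y], SubQ Y X → P Y
  sub := fun X _ M h Y _ _ hY => by
    obtain ⟨M', f, hf⟩ := hY
    apply h Y
    refine ⟨M'.map M.subtype,
      f.comp (M'.equivMapOfInjective M.subtype M.subtype_injective).symm.toMonoidHom, ?_⟩
    exact hf.comp (MulEquiv.surjective _)
  quot := fun X _ N _ h Y _ _ hY => by
    obtain ⟨M', f, hf⟩ := hY
    apply h Y
    refine ⟨M'.comap (QuotientGroup.mk' N), f.comp ((QuotientGroup.mk' N).subgroupComap M'), ?_⟩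
    exact hf.comp (MonoidHom.subgroupComap_surjective_of_surjective _ _
      (QuotientGroup.mk'_surjective N))

theorem subQ_self (X : Type u) [Group X] : SubQ X X :=
  ⟨⊤, (Subgroup.topEquiv : ↥(⊤ : Subgroup X) ≃* X).toMonoidHom,
    (Subgroup.topEquiv : ↥(⊤ : Subgroup X) ≃* X).surjective⟩

section
variable {p : ℕ} [Fact p.Prime] (W : ∀ (Q : Type u) [Group Q], Subgroup Q)

/-- The transfer condition at all Sylow subgroups. -/
def CT (p : ℕ) (W : ∀ (Q : Type u) [Group Q], Subgroup Q) (Y : Type u) [Group Y] : Prop :=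
  ∀ S : Sylow p Y, (S : Subgroup Y) ≤ commutator Y →
    (S : Subgroup Y) ≤
      ⁅Subgroup.normalizer ((Cfsg.inducedFunctor W (S : Subgroup Y) : Subgroup Y) : Set Y),
        Subgroup.normalizer ((Cfsg.inducedFunctor W (S : Subgroup Y) : Subgroup Y) : Set Y)⁆

theorem le_comm_map (hW : Cfsg.IsCharPFunctor.{u} p W) {Z Y : Type u} [Group Z] [Group Y]
    [Finite Z] (e : Z ≃* Y) (T : Subgroup Z) (hT : IsPGroup p T)
    (h : T ≤ ⁅Subgroup.normalizer ((Cfsg.inducedFunctor W T : Subgroup Z) : Set Z),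
        Subgroup.normalizer ((Cfsg.inducedFunctor W T : Subgroup Z) : Set Z)⁆) :
    T.map e.toMonoidHom ≤
      ⁅Subgroup.normalizer ((Cfsg.inducedFunctor W (T.map e.toMonoidHom) : Subgroup Y) : Set Y),
        Subgroup.normalizer ((Cfsg.inducedFunctor W (T.map e.toMonoidHom) : Subgroup Y) : Set Y)⁆ := by
  rw [induced_map W hW e.toMonoidHom T hT e.injective.injOn,
    ← Subgroup.map_equiv_normalizer_eq, ← Subgroup.map_commutator]
  exact Subgroup.map_mono h

theorem map_commutator_equiv {Z Y : Type u} [Group Z] [Group Y] (e : Z ≃* Y) :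
    (commutator Z).map e.toMonoidHom = commutator Y := by
  rw [commutator_def, commutator_def, Subgroup.map_commutator,
    Subgroup.map_top_of_surjective _ e.surjective]

theorem ct_of_equiv (hW : Cfsg.IsCharPFunctor.{u} p W) {Z Y : Type u} [Group Z] [Group Y]
    [Finite Z] [Finite Y] (e : Z ≃* Y) (hZ : CT p W Z) : CT p W Y := by
  intro S hS
  set T'' : Subgroup Z := (S : Subgroup Y).map e.symm.toMonoidHom with hT''
  have hcard : Nat.card T'' = p ^ (Nat.card Z).factorization p := by
    rw [hT'', Subgroup.card_map_of_injective e.symm.injective, S.card_eq_multiplicity,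
      Nat.card_congr e.toEquiv]
  have hTmap : T''.map e.toMonoidHom = (S : Subgroup Y) := by
    rw [hT'', Subgroup.map_map]
    ext y
    simp
  have hT''p : IsPGroup p T'' := S.isPGroup'.map _
  have hle : T'' ≤ commutator Z := by
    rw [← map_commutator_equiv e.symm]
    exact Subgroup.map_mono hS
  have h1 := hZ (Sylow.ofCard T'' hcard) (by rw [Sylow.coe_ofCard]; exact hle)
  rw [Sylow.coe_ofCard] at h1
  have h2 := le_comm_map W hW e T'' hT''p h1
  rwa [hTmap] at h2

theorem ct_of_controls (hW : Cfsg.IsCharPFunctor.{u} p W) {Y : Type u} [Group Y] [Finite Y]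
    (h : Cfsg.ControlsTransferIn p (Cfsg.inducedFunctor (G := Y) W) ⊤) : CT p W Y := by
  obtain ⟨T, -, hTp, hidx, heq⟩ := h
  rw [Subgroup.relIndex_top_right] at hidx
  rw [top_inf_eq] at heq
  intro S hS
  obtain ⟨g, hg⟩ := MulAction.exists_smul_eq Y (hTp.toSylow hidx) S
  have hcoe : (S : Subgroup Y) = T.map (MulAut.conj g).toMonoidHom := by
    rw [← hg, Sylow.coe_subgroup_smul, IsPGroup.toSylow_coe]
    rfl
  have hTle : T ≤ commutator Y := by
    intro t ht
    have h1 : g * t * g⁻¹ ∈ (S : Subgroup Y) := by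
      rw [hcoe]
      exact ⟨t, ht, by simp⟩
    have h2 := hS h1
    have h3 := (inferInstance : (commutator Y).Normal).conj_mem _ h2 g⁻¹
    have h4 : g⁻¹ * (g * t * g⁻¹) * g⁻¹⁻¹ = t := by group
    rwa [h4] at h3
  have h5 : T ≤ ⁅Subgroup.normalizer ((Cfsg.inducedFunctor W T : Subgroup Y) : Set Y),
      Subgroup.normalizer ((Cfsg.inducedFunctor W T : Subgroup Y) : Set Y)⁆ := by
    have h6 : T ≤ T ⊓ ⁅(⊤ : Subgroup Y), ⊤⁆ := le_inf le_rfl (by rw [← commutator_def]; exact hTle)
    rw [heq] at h6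
    exact h6.trans inf_le_right
  have h7 := le_comm_map W hW (MulAut.conj g) T hTp h5
  rw [hcoe]
  exact h7

end

section
variable {p : ℕ} [Fact p.Prime]

/-- With a normal `p`-complement and nontrivial Sylow subgroup, the Sylow subgroup is not in the
derived subgroup. -/
theorem not_le_commutator_of_npc {X : Type u} [Group X] [Finite X] (S : Sylow p X)
    (hS : (S : Subgroup X) ≠ ⊥) (h : NPC p X) : ¬ (S : Subgroup X) ≤ commutator X := by
  obtain ⟨K, hKn, hKc, k, hk⟩ := h
  intro hle
  have hc := NPC.isComplement' hKc hk S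
  have hsup := hc.sup_eq_top
  have hπ : Function.Surjective (QuotientGroup.mk' K) := QuotientGroup.mk'_surjective K
  have h1 : (S : Subgroup X).map (QuotientGroup.mk' K) = ⊤ := by
    have h2 := congrArg (Subgroup.map (QuotientGroup.mk' K)) hsup
    rw [Subgroup.map_sup, Subgroup.map_top_of_surjective _ hπ] at h2
    have h3 : K.map (QuotientGroup.mk' K) = ⊥ := by
      rw [Subgroup.map_eq_bot_iff, QuotientGroup.ker_mk']
    rwa [h3, bot_sup_eq] at h2
  have h4 : (commutator X).map (QuotientGroup.mk' K) = commutator (X ⧸ K) := by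
    rw [commutator_def, commutator_def, Subgroup.map_commutator,
      Subgroup.map_top_of_surjective _ hπ]
  have h5 : commutator (X ⧸ K) = ⊤ := by
    rw [← h4, eq_top_iff, ← h1]
    exact Subgroup.map_mono hle
  have hpg : IsPGroup p (X ⧸ K) := by
    apply IsPGroup.of_card (n := k)
    rw [← hk]
    rfl
  haveI : Nontrivial (X ⧸ K) := by
    by_contra hnt
    rw [not_nontrivial_iff_subsingleton] at hnt
    have h6 : (⊤ : Subgroup (X ⧸ K)) = ⊥ := Subsingleton.elim _ _
    rw [← h1] at h6
    rw [Subgroup.map_eq_bot_iff, QuotientGroup.ker_mk'] at h6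
    have h7 : (S : Subgroup X) ⊓ K = ⊥ := by
      have := hc.symm.disjoint
      exact this.eq_bot
    apply hS
    rw [← h7]
    exact le_antisymm (le_inf le_rfl h6) inf_le_left
  haveI := hpg.isNilpotent
  have h8 := Group.IsSolvable.commutator_lt_top_of_nontrivial (X ⧸ K)
  exact h8.ne h5

/-- If a Sylow `p`-subgroup is not inside the derived subgroup, there is a normal subgroup of
index `p`. -/
theorem exists_index_p {X : Type u} [Group X] [Finite X] (S : Sylow p X)
    (hS : ¬ (S : Subgroup X) ≤ commutator X) : ∃ N : Subgroup X, N.Normal ∧ N.index = p := by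
  have hp : p.Prime := Fact.out
  obtain ⟨K, hKn, hKc, k, hk⟩ := Cfsg.Agent.Lib.Lead_FPF.npc_of_nilpotent (G := Abelianization X) p
  have hπ : Function.Surjective (QuotientGroup.mk' (commutator X)) :=
    QuotientGroup.mk'_surjective _
  have hpg : IsPGroup p (Abelianization X ⧸ K) := by
    apply IsPGroup.of_card (n := k)
    rw [← hk]
    rfl
  have hk0 : k ≠ 0 := by
    rintro rfl
    rw [pow_zero, Subgroup.index_eq_one] at hk
    obtain ⟨s, hs, hsn⟩ := SetLike.not_le_iff_exists.1 hS
    set P := (S : Subgroup X).map (QuotientGroup.mk' (commutator X)) with hP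
    have hPp : IsPGroup p P := S.isPGroup'.map _
    have hPne : P ≠ ⊥ := by
      intro h0
      have h1 : QuotientGroup.mk' (commutator X) s ∈ P := ⟨s, hs, rfl⟩
      rw [h0, Subgroup.mem_bot, QuotientGroup.mk'_apply, QuotientGroup.eq_one_iff] at h1
      exact hsn h1
    obtain ⟨j, hj⟩ := IsPGroup.iff_card.1 hPp
    have hj0 : j ≠ 0 := by
      rintro rfl
      rw [pow_zero] at hj
      exact hPne (Subgroup.card_eq_one.1 hj)
    have h2 : p ∣ Nat.card P := by rw [hj]; exact dvd_pow_self p hj0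
    have h3 : p ∣ Nat.card K := by
      rw [hk, Subgroup.card_top]
      exact h2.trans (Subgroup.card_subgroup_dvd_card P)
    exact hp.one_lt.ne' (Nat.eq_one_of_dvd_coprimes hKc.symm dvd_rfl h3 |>.symm ▸ rfl)
  haveI : Nontrivial (Abelianization X ⧸ K) := by
    rw [← Finite.one_lt_card_iff_nontrivial]
    have : Nat.card (Abelianization X ⧸ K) = p ^ k := by rw [← hk]; rfl
    rw [this]
    exact Nat.one_lt_pow hk0 hp.one_lt
  obtain ⟨M, hM, -⟩ := Cfsg.Agent.Lib.Helper7_Conj.exists_coatom_ge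
    (⊥ : Subgroup (Abelianization X ⧸ K)) bot_ne_top
  obtain ⟨hMn, hMi⟩ := Cfsg.Agent.Lib.Helper7_PFrattini.coatom_normal_index hpg M hM
  refine ⟨(M.comap (QuotientGroup.mk' K)).comap (QuotientGroup.mk' (commutator X)),
    (hMn.comap _).comap _, ?_⟩
  exact (Subgroup.index_comap_of_surjective _ hπ).trans
    ((Subgroup.index_comap_of_surjective _ (QuotientGroup.mk'_surjective K)).trans hMi)

end

end Cfsg.Agent.Lib.Lead_CT
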