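import Mathlib
import Cfsg.Agent.Lib.Lead_CT

/-!
# Control of transfer in all sections: the induction
-/

namespace Cfsg.Agent.Lib.Lead_CT2

open Cfsg.Agent.Lib.Helper7_NPC Cfsg.Agent.Lib.Helper4_PCore Cfsg.Agent.Lib.Lead_GT1
  Cfsg.Agent.Lib.Lead_GTb Cfsg.Agent.Lib.Lead_Ind Cfsg.Agent.Lib.Lead_CT

universe u

section
variable {p : ℕ} [Fact p.Prime]

/-- An element of `N` normalizing `S.subgroupOf N` normalizes `S` (for `S ≤ N`). -/
theorem coe_mem_normalizer {X : Type u} [Group X] {N S : Subgroup X} (hSN : S ≤ N) (h : ↥N)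
    (hh : h ∈ Subgroup.normalizer ((S.subgroupOf N : Subgroup ↥N) : Set ↥N)) :
    (h : X) ∈ Subgroup.normalizer (S : Set X) := by
  rw [Subgroup.mem_normalizer_iff] at hh ⊢
  intro x
  constructor
  · intro hx
    have := (hh ⟨x, hSN hx⟩).1 (by rw [Subgroup.mem_subgroupOf]; exact hx)
    rw [Subgroup.mem_subgroupOf] at this
    exact this
  · intro hx
    have hxN : x ∈ N := by
      have h1 : (h : X) * x * (h : X)⁻¹ ∈ N := hSN hx
      have h2 := N.mul_mem (N.mul_mem (N.inv_mem h.2) h1) h.2
      have h3 : (h : X)⁻¹ * ((h : X) * x * (h : X)⁻¹) * (h : X) = x := by group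
      rwa [h3] at h2
    have := (hh ⟨x, hxN⟩).2 (by rw [Subgroup.mem_subgroupOf]; exact hx)
    rw [Subgroup.mem_subgroupOf] at this
    exact this

variable (W : ∀ (Q : Type u) [Group Q], Subgroup Q)

set_option maxHeartbeats 1600000 in
/-- The induction. -/
theorem main_ct (hW : Cfsg.IsCharPFunctor.{u} p W) : ∀ n : ℕ, ∀ (X : Type u) [Group X] [Finite X],
    Nat.card X ≤ n → (sqClass (CT p W)).mem X → ∀ S : Sylow p X, (S : Subgroup X) ≠ ⊥ →
    (∀ g ∈ Subgroup.normalizer ((S : Subgroup X) : Set X), (orderOf g).Coprime p →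
      g ∈ Subgroup.centralizer ((S : Subgroup X) : Set X)) →
    ¬ (S : Subgroup X) ≤ commutator X := by
  intro n
  induction n with
  | zero =>
    intro X _ _ hcard
    exact absurd hcard (by have := Nat.card_pos (α := X); omega)
  | succ n ih =>
    intro X _ _ hcard hmem S hS hN hle
    have hp : p.Prime := Fact.out
    have hCT : CT p W X := hmem X (subQ_self X)
    have h1 := hCT S hle
    set W₀ : Subgroup X := Cfsg.inducedFunctor W (S : Subgroup X) with hW₀
    set N : Subgroup X := Subgroup.normalizer (W₀ : Set X) with hNdef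
    have hW₀S : W₀ ≤ (S : Subgroup X) := (indFun W hW).le X _
    have hW₀ne : W₀ ≠ ⊥ := (indFun W hW).ne_bot X _ S.isPGroup' hS
    have hNSN : Subgroup.normalizer ((S : Subgroup X) : Set X) ≤ N :=
      W_char (indFun W hW) (S : Subgroup X) S.isPGroup'
    have hSN : (S : Subgroup X) ≤ N := Subgroup.le_normalizer.trans hNSN
    -- the Sylow subgroup of `N`
    set S_L : Sylow p ↥N := S.subtype hSN with hS_L
    have hS_Lcoe : (S_L : Subgroup ↥N) = (S : Subgroup X).subgroupOf N := Sylow.coe_subtype S hSN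
    have hS_Lle : (S_L : Subgroup ↥N) ≤ commutator ↥N := by
      intro x hx
      rw [hS_Lcoe, Subgroup.mem_subgroupOf] at hx
      have h2 := h1 hx
      rw [← Subgroup.map_subtype_commutator] at h2
      obtain ⟨y, hy, hyx⟩ := h2
      have : y = x := Subtype.ext hyx
      rwa [← this]
    have hS_Lne : (S_L : Subgroup ↥N) ≠ ⊥ := by
      intro h0
      apply hS
      rw [eq_bot_iff]
      intro x hx
      have h2 : (⟨x, hSN hx⟩ : ↥N) ∈ (S_L : Subgroup ↥N) := by
        rw [hS_Lcoe, Subgroup.mem_subgroupOf]; exact hx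
      rw [h0, Subgroup.mem_bot] at h2
      rw [Subgroup.mem_bot]
      exact congrArg Subtype.val h2
    by_cases hWS : W₀ = (S : Subgroup X)
    · -- `N = N_X(S)`
      have hF : FrobHyp p ↥N := by
        apply frobHyp_of_sylow S_L
        intro Q' hQ' g hg hcop
        have h2 : (g : X) ∈ Subgroup.normalizer ((S : Subgroup X) : Set X) := by
          have h20 : (g : X) ∈ Subgroup.normalizer (W₀ : Set X) := g.2
          rwa [hWS] at h20
        have h3 := hN (g : X) h2 (by rw [Subgroup.orderOf_coe]; exact hcop)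
        rw [Subgroup.mem_centralizer_iff] at h3 ⊢
        intro y hy
        have h4 := hQ' hy
        rw [hS_Lcoe, Subgroup.mem_subgroupOf] at h4
        exact Subtype.ext (h3 (y : X) h4)
      exact not_le_commutator_of_npc S_L hS_Lne (npc_of_frobHyp hF) hS_Lle
    · -- pass to `N / W₀`
      set W_L : Subgroup ↥N := W₀.subgroupOf N with hW_L
      haveI hW_Ln : W_L.Normal := Subgroup.normal_in_normalizer
      have hW_LS : W_L ≤ (S_L : Subgroup ↥N) := by
        rw [hS_Lcoe]
        intro x hx
        rw [Subgroup.mem_subgroupOf] at hx ⊢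
        exact hW₀S hx
      have hπ : Function.Surjective (QuotientGroup.mk' W_L) := QuotientGroup.mk'_surjective W_L
      set S_Q : Sylow p (↥N ⧸ W_L) := Sylow.mapSurjective hπ S_L with hS_Q
      have hS_Qcoe : (S_Q : Subgroup (↥N ⧸ W_L)) =
          (S_L : Subgroup ↥N).map (QuotientGroup.mk' W_L) := Sylow.coe_mapSurjective hπ S_L
      -- cardinality
      have hcardQ : Nat.card (↥N ⧸ W_L) ≤ n := by
        have h2 : Nat.card (↥N ⧸ W_L) * Nat.card W_L = Nat.card ↥N := by
          have := Subgroup.card_mul_index W_L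
          rw [Subgroup.index_eq_card] at this
          rw [mul_comm]; exact this
        have h3 : 2 ≤ Nat.card W_L := by
          have h4 : W_L ≠ ⊥ := by
            intro h0
            apply hW₀ne
            rw [eq_bot_iff]
            intro x hx
            have h5 : (⟨x, hSN (hW₀S hx)⟩ : ↥N) ∈ W_L := by
              rw [hW_L, Subgroup.mem_subgroupOf]; exact hx
            rw [h0, Subgroup.mem_bot] at h5
            rw [Subgroup.mem_bot]
            exact congrArg Subtype.val h5
          have := (Subgroup.one_lt_card_iff_ne_bot W_L).2 h4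
          omega
        have h6 : Nat.card ↥N ≤ Nat.card X := Nat.card_le_card_of_injective _ N.subtype_injective
        have h7 : 0 < Nat.card (↥N ⧸ W_L) := Nat.card_pos
        nlinarith
      have hmemQ : (sqClass (CT p W)).mem (↥N ⧸ W_L) :=
        (sqClass (CT p W)).quot ↥N W_L ((sqClass (CT p W)).sub X N hmem)
      have hS_Qne : (S_Q : Subgroup (↥N ⧸ W_L)) ≠ ⊥ := by
        intro h0
        rw [hS_Qcoe, Subgroup.map_eq_bot_iff, QuotientGroup.ker_mk'] at h0
        apply hWS
        apply le_antisymm hW₀S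
        intro x hx
        have h2 : (⟨x, hSN hx⟩ : ↥N) ∈ (S_L : Subgroup ↥N) := by
          rw [hS_Lcoe, Subgroup.mem_subgroupOf]; exact hx
        have h3 := h0 h2
        rw [hW_L, Subgroup.mem_subgroupOf] at h3
        exact h3
      have hcomap : (S_Q : Subgroup (↥N ⧸ W_L)).comap (QuotientGroup.mk' W_L) =
          (S_L : Subgroup ↥N) := by
        rw [hS_Qcoe, Subgroup.comap_map_eq, QuotientGroup.ker_mk', sup_eq_left.2 hW_LS]
      have hNQ : ∀ g ∈ Subgroup.normalizer ((S_Q : Subgroup (↥N ⧸ W_L)) : Set (↥N ⧸ W_L)),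
          (orderOf g).Coprime p →
          g ∈ Subgroup.centralizer ((S_Q : Subgroup (↥N ⧸ W_L)) : Set (↥N ⧸ W_L)) := by
        intro gb hgb hcop
        obtain ⟨g, rfl⟩ := hπ gb
        have hgn : g ∈ Subgroup.normalizer ((S_L : Subgroup ↥N) : Set ↥N) := by
          have h2 : g ∈ (Subgroup.normalizer
              ((S_Q : Subgroup (↥N ⧸ W_L)) : Set (↥N ⧸ W_L))).comap (QuotientGroup.mk' W_L) := hgb
          have h3 := Subgroup.le_normalizer_comap (QuotientGroup.mk' W_L) h2
          rwa [hcomap] at h3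
        obtain ⟨g₁, hg₁, g₂, hg₂, hgg, ⟨k, hk⟩, hcop₂⟩ :=
          Cfsg.Agent.Lib.Lead_PStable.exists_p_decomp p g
        -- the image of `g₁` is trivial
        have h4 : QuotientGroup.mk' W_L g₁ = 1 := by
          obtain ⟨z, rfl⟩ := Subgroup.mem_zpowers_iff.1 hg₁
          have h5 : orderOf (QuotientGroup.mk' W_L (g ^ z)) ∣ orderOf (QuotientGroup.mk' W_L g) := by
            rw [map_zpow]
            exact orderOf_dvd_of_mem_zpowers (Subgroup.zpow_mem_zpowers _ z)
          have h6 : orderOf (QuotientGroup.mk' W_L (g ^ z)) ∣ p ^ k := by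
            apply orderOf_dvd_of_pow_eq_one
            rw [← map_pow, hk, map_one]
          have h7 : orderOf (QuotientGroup.mk' W_L (g ^ z)) = 1 :=
            Nat.eq_one_of_dvd_coprimes (hcop.pow_right k) h5 h6
          exact orderOf_eq_one_iff.1 h7
        have h8 : QuotientGroup.mk' W_L g = QuotientGroup.mk' W_L g₂ := by
          rw [hgg, map_mul, h4, one_mul]
        have hg₂n : g₂ ∈ Subgroup.normalizer ((S_L : Subgroup ↥N) : Set ↥N) := by
          have : Subgroup.zpowers g ≤ Subgroup.normalizer ((S_L : Subgroup ↥N) : Set ↥N) := by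
            rw [Subgroup.zpowers_le]; exact hgn
          exact this hg₂
        rw [hS_Lcoe] at hg₂n
        have h9 := coe_mem_normalizer hSN g₂ hg₂n
        have h10 := hN (g₂ : X) h9 (by rw [Subgroup.orderOf_coe]; exact hcop₂)
        rw [h8, Subgroup.mem_centralizer_iff]
        intro yb hyb
        have hyb' : yb ∈ (S_Q : Subgroup (↥N ⧸ W_L)) := hyb
        rw [hS_Qcoe] at hyb'
        obtain ⟨y, hy, rfl⟩ := hyb'
        rw [hS_Lcoe, SetLike.mem_coe, Subgroup.mem_subgroupOf] at hy
        rw [Subgroup.mem_centralizer_iff] at h10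
        have h11 : y * g₂ = g₂ * y := Subtype.ext (h10 (y : X) hy)
        rw [← map_mul, ← map_mul, h11]
      have h12 := ih (↥N ⧸ W_L) hcardQ hmemQ S_Q hS_Qne hNQ
      apply h12
      rw [hS_Qcoe]
      have h13 : (commutator ↥N).map (QuotientGroup.mk' W_L) = commutator (↥N ⧸ W_L) := by
        rw [commutator_def, commutator_def, Subgroup.map_commutator,
          Subgroup.map_top_of_surjective _ hπ]
      rw [← h13]
      exact Subgroup.map_mono hS_Lle

end

end Cfsg.Agent.Lib.Lead_CT2
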