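import Mathlib
import Cfsg.Agent.Lib.Lead_SZ
import Cfsg.Agent.Lib.Lead_Schmidt
import Cfsg.Agent.Lib.Lead_Coprime

/-! Carter subgroups of finite solvable groups. -/

namespace Cfsg.Agent.Lib.Lead_Carter

open scoped Pointwise
open Cfsg.Agent.Lib.Lead_SZ Cfsg.Agent.Lib.Lead_Schmidt Cfsg.Agent.Lib.Lead_Coprime

variable {G : Type*} [Group G]

/-- Carter subgroups: nilpotent and self-normalizing -/
def IsCarter (C : Subgroup G) : Prop :=
  Group.IsNilpotent C ∧ Subgroup.normalizer (C : Set G) = C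

/-- the conjugacy property -/
def Cj (G : Type*) [Group G] : Prop :=
  ∀ C D : Subgroup G, IsCarter C → IsCarter D → ∃ g : G, MulAut.conj g • C = D

theorem normalizer_conj (g : G) (C : Subgroup G) :
    Subgroup.normalizer ((MulAut.conj g • C : Subgroup G) : Set G) =
      MulAut.conj g • Subgroup.normalizer (C : Set G) := by
  rw [Subgroup.pointwise_smul_def, Subgroup.pointwise_smul_def]
  exact (Subgroup.map_equiv_normalizer_eq C (MulAut.conj g)).symm

theorem IsCarter.conj {C : Subgroup G} (h : IsCarter C) (g : G) : IsCarter (MulAut.conj g • C) := by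
  refine ⟨?_, ?_⟩
  · haveI := h.1
    exact nilpotent_of_mulEquiv (Subgroup.equivSMul (MulAut.conj g) C)
  · rw [normalizer_conj, h.2]

theorem IsCarter.eq_top [Finite G] {C : Subgroup G} (h : IsCarter C) (hG : Group.IsNilpotent G) :
    C = ⊤ := by
  by_contra hne
  have := normalizerCondition_of_isNilpotent C (lt_top_iff_ne_top.mpr hne)
  rw [h.2] at this
  exact lt_irrefl _ this

theorem IsCarter.eq_of_le [Finite G] {C D : Subgroup G} (hC : Group.IsNilpotent C)
    (hD : Subgroup.normalizer (D : Set G) = D) (h : D ≤ C) : D = C := by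
  by_contra hne
  obtain ⟨x, -, hx1, hx2⟩ := exists_mem_normalizer_not_mem hC (lt_of_le_of_ne h hne)
  rw [hD] at hx1
  exact hx2 hx1

theorem IsCarter.subgroupOf {C L : Subgroup G} (h : IsCarter C) (hCL : C ≤ L) :
    IsCarter (C.subgroupOf L) := by
  refine ⟨?_, ?_⟩
  · haveI := h.1
    exact nilpotent_of_mulEquiv (Subgroup.subgroupOfEquivOfLe hCL).symm
  · rw [← Subgroup.subgroupOf_normalizer_eq hCL, h.2]

/-- images of Carter subgroups in quotients are Carter subgroups, given conjugacy in proper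
subgroups -/
theorem IsCarter.map_mk [Finite G] (hcj : ∀ L : Subgroup G, L ≠ ⊤ → Cj L) (N : Subgroup G)
    [N.Normal] {C : Subgroup G} (h : IsCarter C) : IsCarter (C.map (QuotientGroup.mk' N)) := by
  refine ⟨?_, ?_⟩
  · haveI := h.1
    exact nilpotent_of_surjective ((QuotientGroup.mk' N).subgroupMap C)
      ((QuotientGroup.mk' N).subgroupMap_surjective C)
  · apply le_antisymm _ Subgroup.le_normalizer
    intro y hy
    obtain ⟨x, rfl⟩ := QuotientGroup.mk'_surjective N y
    obtain ⟨L, hL⟩ : ∃ L : Subgroup G, L = C ⊔ N := ⟨_, rfl⟩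
    have hLcomap : L = (C.map (QuotientGroup.mk' N)).comap (QuotientGroup.mk' N) := by
      rw [hL, Subgroup.comap_map_eq, QuotientGroup.ker_mk']
    have hCL : C ≤ L := hL ▸ le_sup_left
    have hmapL : L.map (QuotientGroup.mk' N) = C.map (QuotientGroup.mk' N) := by
      rw [hLcomap]
      exact Subgroup.map_comap_eq_self_of_surjective (QuotientGroup.mk'_surjective N) _
    have hxL : x ∈ Subgroup.normalizer (L : Set G) := by
      rw [hLcomap]
      exact Subgroup.le_normalizer_comap _ (Subgroup.mem_comap.mpr hy)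
    by_cases hLtop : L = ⊤
    · rw [← hmapL, hLtop]
      exact Subgroup.mem_map_of_mem _ (Subgroup.mem_top x)
    · have hC'L : MulAut.conj x • C ≤ L := by
        intro z hz
        rw [mem_conj_smul] at hz
        have h1 := hCL hz
        have h2 := (Subgroup.mem_normalizer_iff.mp hxL (x⁻¹ * z * x)).mp h1
        have e : x * (x⁻¹ * z * x) * x⁻¹ = z := by group
        rwa [e] at h2
      obtain ⟨l, hl⟩ := hcj L hLtop _ _ (h.subgroupOf hCL) ((h.conj x).subgroupOf hC'L)
      have hconj := conj_of_subgroupOf L l C (MulAut.conj x • C) hCL hC'L hl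
      -- l⁻¹ x normalizes C
      have hmem : (l : G)⁻¹ * x ∈ Subgroup.normalizer (C : Set G) := by
        rw [Subgroup.mem_normalizer_iff_map_conj_eq]
        have : MulAut.conj ((l : G)⁻¹ * x) • C = C := by
          rw [map_mul, mul_smul, ← hconj, map_inv, inv_smul_smul]
        rw [Subgroup.pointwise_smul_def] at this
        exact this
      rw [h.2] at hmem
      have hxL' : x ∈ L := by
        have : x = (l : G) * ((l : G)⁻¹ * x) := by group
        rw [this]
        exact L.mul_mem l.2 (hCL hmem)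
      rw [← hmapL]
      exact Subgroup.mem_map_of_mem _ hxL'


/-- below any nontrivial normal subgroup there is a minimal normal subgroup -/
theorem exists_minimal_normal_le [Finite G] : ∀ (n : ℕ) (N : Subgroup G), N.Normal → N ≠ ⊥ →
    Nat.card N = n → ∃ M : Subgroup G, M.Normal ∧ M ≠ ⊥ ∧ M ≤ N ∧
      ∀ L : Subgroup G, L.Normal → L ≤ M → L = ⊥ ∨ L = M := by
  intro n
  induction n using Nat.strong_induction_on with
  | _ n ih =>
    intro N hN hNbot hn
    by_cases hmin : ∀ L : Subgroup G, L.Normal → L ≤ N → L = ⊥ ∨ L = N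
    · exact ⟨N, hN, hNbot, le_rfl, hmin⟩
    · push_neg at hmin
      obtain ⟨L, hL, hLN, hLbot, hLne⟩ := hmin
      have hlt : Nat.card L < n := hn ▸ card_lt (lt_of_le_of_ne hLN hLne)
      obtain ⟨M, hM1, hM2, hM3, hM4⟩ := ih _ hlt L hL hLbot rfl
      exact ⟨M, hM1, hM2, hM3.trans hLN, hM4⟩

/-- a minimal normal subgroup of a solvable group is abelian -/
theorem exists_minimal_normal [Finite G] [Group.IsSolvable G] [Nontrivial G] :
    ∃ N : Subgroup G, N.Normal ∧ N ≠ ⊥ ∧ (∀ a ∈ N, ∀ b ∈ N, a * b = b * a) ∧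
      ∀ M : Subgroup G, M.Normal → M ≤ N → M = ⊥ ∨ M = N := by
  obtain ⟨N, hN, hNbot, -, hmin⟩ := exists_minimal_normal_le (G := G) _ ⊤ inferInstance
    (by exact top_ne_bot) rfl
  refine ⟨N, hN, hNbot, ?_, hmin⟩
  have hlt := IsSolvable.commutator_lt_of_ne_bot hNbot
  haveI := hN
  have hnorm : (⁅N, N⁆ : Subgroup G).Normal := Subgroup.commutator_normal N N
  rcases hmin _ hnorm hlt.le with h | h
  · intro a ha b hb
    have := Subgroup.commutator_eq_bot_iff_le_centralizer.mp h
    exact (Subgroup.mem_centralizer_iff.mp (this ha) b hb).symm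
  · exact absurd h hlt.ne

/-- a subgroup normalized by `C` and `N` with `C ⊔ N = ⊤` is normal -/
theorem normal_of_sup_eq_top {C N X : Subgroup G} (hCN : C ⊔ N = ⊤)
    (hC : C ≤ Subgroup.normalizer (X : Set G)) (hN : N ≤ Subgroup.normalizer (X : Set G)) :
    X.Normal := by
  rw [← Subgroup.normalizer_eq_top_iff, eq_top_iff, ← hCN]
  exact sup_le hC hN

theorem inf_normal_of_sup_eq_top {C N : Subgroup G} [N.Normal] (hCN : C ⊔ N = ⊤)
    (hNab : ∀ a ∈ N, ∀ b ∈ N, a * b = b * a) : (C ⊓ N).Normal := by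
  apply normal_of_sup_eq_top hCN
  · intro c hc
    apply mem_normalizer_of_conj_mem
    · intro x hx
      obtain ⟨hx1, hx2⟩ := Subgroup.mem_inf.mp hx
      exact Subgroup.mem_inf.mpr ⟨C.mul_mem (C.mul_mem hc hx1) (C.inv_mem hc),
        (inferInstance : N.Normal).conj_mem _ hx2 c⟩
    · intro x hx
      obtain ⟨hx1, hx2⟩ := Subgroup.mem_inf.mp hx
      refine Subgroup.mem_inf.mpr ⟨C.mul_mem (C.mul_mem (C.inv_mem hc) hx1) hc, ?_⟩
      have := (inferInstance : N.Normal).conj_mem _ hx2 c⁻¹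
      simpa using this
  · intro n hn
    apply mem_normalizer_of_conj_mem
    · intro x hx
      have hx2 := (Subgroup.mem_inf.mp hx).2
      have : n * x * n⁻¹ = x := by rw [hNab n hn x hx2, mul_inv_cancel_right]
      rw [this]; exact hx
    · intro x hx
      have hx2 := (Subgroup.mem_inf.mp hx).2
      have : n⁻¹ * x * n = x := by rw [mul_assoc, hNab x hx2 n hn, inv_mul_cancel_left]
      rw [this]; exact hx

theorem inf_centralizer_normal_of_sup_eq_top {C N : Subgroup G} [N.Normal] (hCN : C ⊔ N = ⊤)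
    (hNab : ∀ a ∈ N, ∀ b ∈ N, a * b = b * a) {z : G} (hz : ∀ c ∈ C, c * z = z * c) :
    (N ⊓ Subgroup.centralizer {z}).Normal := by
  have key : ∀ c : G, c * z = z * c → ∀ x ∈ N ⊓ Subgroup.centralizer {z},
      c * x * c⁻¹ ∈ N ⊓ Subgroup.centralizer {z} := by
    intro c hcz x hx
    obtain ⟨hx1, hx2⟩ := Subgroup.mem_inf.mp hx
    refine Subgroup.mem_inf.mpr ⟨(inferInstance : N.Normal).conj_mem _ hx1 c, ?_⟩
    rw [Subgroup.mem_centralizer_iff] at hx2 ⊢
    intro y hy
    rw [Set.mem_singleton_iff] at hy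
    subst hy
    have hxy := hx2 y rfl
    have hcz' : c⁻¹ * y = y * c⁻¹ := by
      have := congrArg (fun w => c⁻¹ * w * c⁻¹) hcz
      simp only [mul_assoc, inv_mul_cancel_left, mul_inv_cancel, mul_one] at this
      exact this.symm
    calc y * (c * x * c⁻¹) = (y * c) * x * c⁻¹ := by group
      _ = (c * y) * x * c⁻¹ := by rw [hcz]
      _ = c * (y * x) * c⁻¹ := by group
      _ = c * (x * y) * c⁻¹ := by rw [hxy]
      _ = c * x * (y * c⁻¹) := by group
      _ = c * x * (c⁻¹ * y) := by rw [hcz']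
      _ = c * x * c⁻¹ * y := by group
  apply normal_of_sup_eq_top hCN
  · intro c hc
    apply mem_normalizer_of_conj_mem
    · exact key c (hz c hc)
    · intro x hx
      have hcz' : c⁻¹ * z = z * c⁻¹ := by
        have := congrArg (fun w => c⁻¹ * w * c⁻¹) (hz c hc)
        simp only [mul_assoc, inv_mul_cancel_left, mul_inv_cancel, mul_one] at this
        exact this.symm
      have := key c⁻¹ hcz' x hx
      simpa using this
  · intro n hn
    apply mem_normalizer_of_conj_mem
    · intro x hx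
      have hx2 := (Subgroup.mem_inf.mp hx).1
      have : n * x * n⁻¹ = x := by rw [hNab n hn x hx2, mul_inv_cancel_right]
      rw [this]; exact hx
    · intro x hx
      have hx2 := (Subgroup.mem_inf.mp hx).1
      have : n⁻¹ * x * n = x := by rw [mul_assoc, hNab x hx2 n hn, inv_mul_cancel_left]
      rw [this]; exact hx


/-- two complements `C`, `D` of a normal subgroup `N`; a central element `z` of `C` without fixed
points on `N`: then `C` and `D` are conjugate -/
theorem conj_of_central_fpf [Finite G] {N C D : Subgroup G} [N.Normal]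
    (hC : Subgroup.IsComplement' N C) (hD : Subgroup.IsComplement' N D) {z : G} (hzC : z ∈ C)
    (hzc : ∀ c ∈ C, c * z = z * c) (hfix : N ⊓ Subgroup.centralizer {z} = ⊥) :
    ∃ n : G, MulAut.conj n • D = C := by
  have hNn : N.Normal := inferInstance
  obtain ⟨m₁, hm₁, d₁, hd₁, hz⟩ := exists_mul_of_complement hD z
  -- the map ψ(n) = z n⁻¹ z⁻¹ n on N is injective, hence surjective
  let ψ : N → N := fun n => ⟨z * (n : G)⁻¹ * z⁻¹ * n,
    N.mul_mem (hNn.conj_mem _ (N.inv_mem n.2) z) n.2⟩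
  have hinj : Function.Injective ψ := by
    intro n n' h
    have h1 : z * (n : G)⁻¹ * z⁻¹ * n = z * (n' : G)⁻¹ * z⁻¹ * n' := congrArg Subtype.val h
    have h2 : ((n' : G) * (n : G)⁻¹) ∈ N ⊓ Subgroup.centralizer {z} := by
      refine Subgroup.mem_inf.mpr ⟨N.mul_mem n'.2 (N.inv_mem n.2), ?_⟩
      rw [Subgroup.mem_centralizer_iff]
      intro y hy
      rw [Set.mem_singleton_iff] at hy
      subst hy
      have h3 : (n : G)⁻¹ * y⁻¹ * n = (n' : G)⁻¹ * y⁻¹ * n' := by
        have := congrArg (fun w => y⁻¹ * w) h1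
        simpa [mul_assoc] using this
      have e1 : (n : G)⁻¹ * y * n = ((n : G)⁻¹ * y⁻¹ * n)⁻¹ := by group
      have e2 : (n' : G)⁻¹ * y * n' = ((n' : G)⁻¹ * y⁻¹ * n')⁻¹ := by group
      have h4 : (n' : G)⁻¹ * y * n' = (n : G)⁻¹ * y * n := by rw [e1, e2, h3]
      calc y * ((n' : G) * (n : G)⁻¹) = (n' : G) * ((n' : G)⁻¹ * y * n') * (n : G)⁻¹ := by group
        _ = (n' : G) * ((n : G)⁻¹ * y * n) * (n : G)⁻¹ := by rw [h4]
        _ = (n' : G) * (n : G)⁻¹ * y := by group
    rw [hfix, Subgroup.mem_bot] at h2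
    apply Subtype.ext
    have := congrArg (fun w => w * (n : G)) h2
    simpa using this.symm
  obtain ⟨n₀, hn₀⟩ := (Finite.injective_iff_surjective.mp hinj) ⟨m₁, hm₁⟩
  have hn₀' : z * (n₀ : G)⁻¹ * z⁻¹ * n₀ = m₁ := congrArg Subtype.val hn₀
  -- z lies in the conjugate D' of D
  have hzD' : (n₀ : G)⁻¹ * z * n₀ ∈ D := by
    have : (n₀ : G)⁻¹ * z * n₀ = d₁ := by
      have h1 : d₁ = m₁⁻¹ * z := by rw [hz]; group
      rw [h1, ← hn₀']; group
    rw [this]; exact hd₁
  refine ⟨n₀, ?_⟩
  symm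
  apply eq_of_le_of_card_eq
  · intro c hc
    rw [mem_conj_smul]
    -- decompose n₀⁻¹ c n₀ = m₂ d₂
    obtain ⟨m₂, hm₂, d₂, hd₂, hcd⟩ := exists_mul_of_complement hD ((n₀ : G)⁻¹ * c * n₀)
    -- z' = n₀⁻¹ z n₀ ∈ D commutes with n₀⁻¹ c n₀
    obtain ⟨z', hz'⟩ : ∃ z' : G, z' = (n₀ : G)⁻¹ * z * n₀ := ⟨_, rfl⟩
    have hcomm : z' * ((n₀ : G)⁻¹ * c * n₀) = ((n₀ : G)⁻¹ * c * n₀) * z' := by
      rw [hz']
      have := hzc c hc
      calc (n₀ : G)⁻¹ * z * n₀ * ((n₀ : G)⁻¹ * c * n₀) = (n₀ : G)⁻¹ * (z * c) * n₀ := by group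
        _ = (n₀ : G)⁻¹ * (c * z) * n₀ := by rw [this]
        _ = (n₀ : G)⁻¹ * c * n₀ * ((n₀ : G)⁻¹ * z * n₀) := by group
    have hz'D : z' ∈ D := hz' ▸ hzD'
    have h1 : z' * (m₂ * d₂) * z'⁻¹ = m₂ * d₂ := by
      rw [← hcd, hcomm]; group
    have h3 : z' * m₂ * z'⁻¹ = m₂ * d₂ * (z' * d₂ * z'⁻¹)⁻¹ := by
      calc z' * m₂ * z'⁻¹ = (z' * (m₂ * d₂) * z'⁻¹) * (z' * d₂ * z'⁻¹)⁻¹ := by group
        _ = m₂ * d₂ * (z' * d₂ * z'⁻¹)⁻¹ := by rw [h1]
    have hmem : m₂⁻¹ * (z' * m₂ * z'⁻¹) ∈ N ⊓ D := by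
      refine Subgroup.mem_inf.mpr ⟨N.mul_mem (N.inv_mem hm₂) (hNn.conj_mem _ hm₂ z'), ?_⟩
      have : m₂⁻¹ * (z' * m₂ * z'⁻¹) = d₂ * (z' * d₂ * z'⁻¹)⁻¹ := by
        rw [h3]; group
      rw [this]
      exact D.mul_mem hd₂ (D.inv_mem (D.mul_mem (D.mul_mem hz'D hd₂) (D.inv_mem hz'D)))
    rw [hD.disjoint.eq_bot, Subgroup.mem_bot] at hmem
    -- so m₂ commutes with z', hence n₀ m₂ n₀⁻¹ commutes with z
    have h4 : z' * m₂ = m₂ * z' := by
      have := congrArg (fun w => m₂ * w * z') hmem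
      simpa [mul_assoc] using this
    have h5 : (n₀ : G) * m₂ * (n₀ : G)⁻¹ ∈ N ⊓ Subgroup.centralizer {z} := by
      refine Subgroup.mem_inf.mpr ⟨hNn.conj_mem _ hm₂ _, ?_⟩
      rw [Subgroup.mem_centralizer_iff]
      intro y hy
      rw [Set.mem_singleton_iff] at hy
      subst hy
      have e1 : y = (n₀ : G) * z' * (n₀ : G)⁻¹ := by rw [hz']; group
      calc y * ((n₀ : G) * m₂ * (n₀ : G)⁻¹)
          = (n₀ : G) * (z' * m₂) * (n₀ : G)⁻¹ := by rw [e1]; group
        _ = (n₀ : G) * (m₂ * z') * (n₀ : G)⁻¹ := by rw [h4]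
        _ = (n₀ : G) * m₂ * (n₀ : G)⁻¹ * y := by rw [e1]; group
    rw [hfix, Subgroup.mem_bot] at h5
    have hm1 : m₂ = 1 := by
      have := congrArg (fun w => (n₀ : G)⁻¹ * w * (n₀ : G)) h5
      simpa [mul_assoc] using this
    rw [hcd, hm1, one_mul]
    exact hd₂
  · rw [card_conj_smul]
    have e0 := hC.card_mul
    have e1 := hD.card_mul
    have hK0 : 0 < Nat.card N := Nat.card_pos
    exact Nat.eq_of_mul_eq_mul_left hK0 (e0.trans e1.symm)


theorem map_conj_smul {H : Type*} [Group H] (f : G →* H) (g : G) (C : Subgroup G) :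
    (MulAut.conj g • C).map f = MulAut.conj (f g) • C.map f := by
  ext x
  rw [mem_conj_smul]
  constructor
  · rintro ⟨c, hc, rfl⟩
    rw [SetLike.mem_coe, mem_conj_smul] at hc
    exact ⟨g⁻¹ * c * g, hc, by simp⟩
  · rintro ⟨c₀, hc₀, hx⟩
    refine ⟨g * c₀ * g⁻¹, ?_, ?_⟩
    · rw [SetLike.mem_coe, mem_conj_smul]
      have : g⁻¹ * (g * c₀ * g⁻¹) * g = c₀ := by group
      rw [this]; exact hc₀
    · rw [map_mul, map_mul, map_inv, hx]; group

/-- lifting conjugacy from a quotient -/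
theorem exists_conj_sup_eq [Finite G] (hcj : ∀ L : Subgroup G, L ≠ ⊤ → Cj L) (N : Subgroup G)
    [N.Normal] (hq : Cj (G ⧸ N)) {C D : Subgroup G} (hC : IsCarter C) (hD : IsCarter D) :
    ∃ g : G, MulAut.conj g • C ⊔ N = D ⊔ N := by
  obtain ⟨y, hy⟩ := hq _ _ (hC.map_mk hcj N) (hD.map_mk hcj N)
  obtain ⟨g, rfl⟩ := QuotientGroup.mk'_surjective N y
  refine ⟨g, ?_⟩
  have h1 := map_conj_smul (QuotientGroup.mk' N) g C
  have h2 := congrArg (Subgroup.comap (QuotientGroup.mk' N)) (h1.trans hy)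
  rwa [Subgroup.comap_map_eq, Subgroup.comap_map_eq, QuotientGroup.ker_mk'] at h2

theorem card_quotient_lt [Finite G] {N : Subgroup G} [N.Normal] (hN : N ≠ ⊥) :
    Nat.card (G ⧸ N) < Nat.card G := by
  rw [← Subgroup.index_eq_card, ← N.card_mul_index]
  have h1 : 1 < Nat.card N := N.one_lt_card_iff_ne_bot.mpr hN
  have h2 : 0 < N.index := Nat.pos_of_ne_zero Subgroup.index_ne_zero_of_finite
  nlinarith

theorem card_lt_of_ne_top [Finite G] {L : Subgroup G} (hL : L ≠ ⊤) : Nat.card L < Nat.card G := by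
  have := card_lt (lt_top_iff_ne_top.mpr hL)
  rwa [Subgroup.card_top] at this

/-- a coatom containing `N` with `G ⧸ N` nilpotent is normal -/
theorem coatom_normal_of_quotient_nilpotent [Finite G] {N M : Subgroup G} [N.Normal]
    (hq : Group.IsNilpotent (G ⧸ N)) (hM : IsCoatom M) (hNM : N ≤ M) : M.Normal := by
  haveI := hq
  have hcomap : (M.map (QuotientGroup.mk' N)).comap (QuotientGroup.mk' N) = M := by
    rw [Subgroup.comap_map_eq, QuotientGroup.ker_mk']
    exact sup_eq_left.mpr hNM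
  have hne : M.map (QuotientGroup.mk' N) ≠ ⊤ := by
    intro h
    rw [h, Subgroup.comap_top] at hcomap
    exact hM.1 hcomap.symm
  have hlt := normalizerCondition_of_isNilpotent _ (lt_top_iff_ne_top.mpr hne)
  obtain ⟨y, hy1, hy2⟩ := SetLike.exists_of_lt hlt
  obtain ⟨x, rfl⟩ := QuotientGroup.mk'_surjective N y
  have hx1 : x ∈ Subgroup.normalizer (M : Set G) := by
    have := Subgroup.le_normalizer_comap (H := M.map (QuotientGroup.mk' N)) (QuotientGroup.mk' N)
      (Subgroup.mem_comap.mpr hy1)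
    rwa [hcomap] at this
  have hx2 : x ∉ M := fun h => hy2 (Subgroup.mem_map_of_mem _ h)
  have hlt' : M < Subgroup.normalizer (M : Set G) :=
    lt_of_le_of_ne Subgroup.le_normalizer (fun h => hx2 (h ▸ hx1))
  exact Subgroup.normalizer_eq_top_iff.mp (hM.2 _ hlt')


theorem isCarter_top_of_nilpotent (hnil : Group.IsNilpotent G) : IsCarter (⊤ : Subgroup G) := by
  refine ⟨?_, ?_⟩
  · haveI := hnil
    exact nilpotent_of_mulEquiv Subgroup.topEquiv.symm
  · exact Subgroup.normalizer_eq_top_iff.mpr inferInstance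

theorem nilpotent_of_top_nilpotent (h : Group.IsNilpotent (⊤ : Subgroup G)) :
    Group.IsNilpotent G := by
  haveI := h
  exact nilpotent_of_mulEquiv Subgroup.topEquiv

/-- existence when `G ⧸ N` is nilpotent but `G` is not -/
theorem exists_carter_of_quotient_nilpotent [Finite G] {N : Subgroup G} [N.Normal]
    (hNab : ∀ a ∈ N, ∀ b ∈ N, a * b = b * a)
    (hNmin : ∀ M : Subgroup G, M.Normal → M ≤ N → M = ⊥ ∨ M = N)
    (hq : Group.IsNilpotent (G ⧸ N)) (hnil : ¬ Group.IsNilpotent G) :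
    ∃ C : Subgroup G, IsCarter C := by
  have : ¬ ∀ H : Subgroup G, IsCoatom H → H.Normal :=
    fun h => hnil ((Group.isNilpotent_of_finite_tfae.out 0 2 rfl rfl).mpr h)
  push_neg at this
  obtain ⟨M, hM, hMn⟩ := this
  have hNM : ¬ N ≤ M := fun hle => hMn (coatom_normal_of_quotient_nilpotent hq hM hle)
  have hsup : M ⊔ N = ⊤ :=
    hM.2 _ (lt_of_le_of_ne le_sup_left (fun h => hNM (h ▸ le_sup_right)))
  have hinf : M ⊓ N = ⊥ := by
    have hn : (M ⊓ N).Normal := inf_normal_of_sup_eq_top hsup hNab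
    rcases hNmin _ hn inf_le_right with h | h
    · exact h
    · exact absurd (h ▸ inf_le_left) hNM
  refine ⟨M, ?_, ?_⟩
  · haveI := hq
    apply isNilpotent_of_ker_le_center ((QuotientGroup.mk' N).comp M.subtype)
    · intro x hx
      rw [MonoidHom.mem_ker, MonoidHom.comp_apply, QuotientGroup.mk'_apply,
        QuotientGroup.eq_one_iff] at hx
      have : (x : G) ∈ M ⊓ N := Subgroup.mem_inf.mpr ⟨x.2, hx⟩
      rw [hinf, Subgroup.mem_bot] at this
      have hx1 : x = 1 := Subtype.ext this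
      rw [hx1]; exact Subgroup.one_mem _
  · rcases eq_or_lt_of_le (Subgroup.le_normalizer (H := M)) with e | e
    · exact e.symm
    · exact absurd (Subgroup.normalizer_eq_top_iff.mp (hM.2 _ e)) hMn


/-- a Carter subgroup of the preimage `K` of a Carter subgroup of `G ⧸ N` is a Carter subgroup
of `G` -/
theorem isCarter_map_of_preimage [Finite G] {N : Subgroup G} [N.Normal]
    {Cq : Subgroup (G ⧸ N)} (hCq : IsCarter Cq) {K : Subgroup G}
    (hK : K = Cq.comap (QuotientGroup.mk' N))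
    (hcjK : ∀ L : Subgroup K, L ≠ ⊤ → Cj L) {C₀ : Subgroup K} (hC₀ : IsCarter C₀) :
    IsCarter (C₀.map K.subtype) := by
  have hsurj := QuotientGroup.mk'_surjective N
  have hNK : N ≤ K := by
    rw [hK]
    intro x hx
    rw [Subgroup.mem_comap]
    have : (QuotientGroup.mk' N) x = 1 := (QuotientGroup.eq_one_iff x).mpr hx
    rw [this]; exact Cq.one_mem
  have hmapK : K.map (QuotientGroup.mk' N) = Cq := by
    rw [hK]; exact Subgroup.map_comap_eq_self_of_surjective hsurj Cq
  obtain ⟨f, hf⟩ : ∃ f : K →* G ⧸ N, f = (QuotientGroup.mk' N).comp K.subtype := ⟨_, rfl⟩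
  have hrange : f.range = Cq := by
    rw [hf, ← MonoidHom.map_range, Subgroup.range_subtype, hmapK]
  have hqnil : Group.IsNilpotent (K ⧸ f.ker) := by
    haveI : Group.IsNilpotent f.range := hrange.symm ▸ hCq.1
    exact nilpotent_of_mulEquiv (QuotientGroup.quotientKerEquivRange f).symm
  have himg := (hC₀.map_mk hcjK f.ker).eq_top hqnil
  have hsup : C₀ ⊔ f.ker = ⊤ := by
    have := congrArg (Subgroup.comap (QuotientGroup.mk' f.ker)) himg
    rwa [Subgroup.comap_map_eq, QuotientGroup.ker_mk', Subgroup.comap_top] at this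
  obtain ⟨C, hC⟩ : ∃ C : Subgroup G, C = C₀.map K.subtype := ⟨_, rfl⟩
  rw [← hC]
  have hCK : C ≤ K := by
    rw [hC]; rintro _ ⟨y, -, rfl⟩; exact y.2
  have hCsub : C.subgroupOf K = C₀ := by
    rw [hC]
    exact Subgroup.comap_map_eq_self_of_injective K.subtype_injective C₀
  have hCN : C ⊔ N = K := by
    apply le_antisymm (sup_le hCK hNK)
    intro k hk
    have hmem : (⟨k, hk⟩ : K) ∈ C₀ ⊔ f.ker := by rw [hsup]; trivial
    rw [← SetLike.mem_coe, Subgroup.mul_normal] at hmem
    obtain ⟨c₀, hc₀, m, hm, hcm⟩ := Set.mem_mul.mp hmem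
    have hk' : k = (c₀ : G) * (m : G) := by
      have := congrArg Subtype.val hcm
      exact this.symm
    rw [hk']
    refine Subgroup.mul_mem_sup ?_ ?_
    · rw [hC]; exact ⟨c₀, hc₀, rfl⟩
    · have hm' : f m = 1 := hm
      rw [hf, MonoidHom.comp_apply, QuotientGroup.mk'_apply, QuotientGroup.eq_one_iff] at hm'
      exact hm'
  refine ⟨?_, ?_⟩
  · haveI := hC₀.1
    rw [hC]
    exact nilpotent_of_mulEquiv (Subgroup.equivMapOfInjective C₀ K.subtype K.subtype_injective)
  · apply le_antisymm _ Subgroup.le_normalizer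
    intro x hx
    -- x normalizes K
    have hxK : x ∈ Subgroup.normalizer (K : Set G) := by
      rw [Subgroup.mem_normalizer_iff_map_conj_eq] at hx ⊢
      rw [← hCN, Subgroup.map_sup, hx]
      congr 1
      have := (inferInstance : N.Normal)
      have h2 : x ∈ Subgroup.normalizer (N : Set G) := by
        rw [Subgroup.normalizer_eq_top_iff.mpr this]; trivial
      exact (Subgroup.mem_normalizer_iff_map_conj_eq.mp h2)
    have hxq : (QuotientGroup.mk' N) x ∈ Cq := by
      have h1 := Subgroup.le_normalizer_map (H := K) (QuotientGroup.mk' N)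
        (Subgroup.mem_map_of_mem _ hxK)
      rw [hmapK, hCq.2] at h1
      exact h1
    have hxK' : x ∈ K := by rw [hK]; exact Subgroup.mem_comap.mpr hxq
    have h3 : (⟨x, hxK'⟩ : K) ∈ (Subgroup.normalizer (C : Set G)).subgroupOf K :=
      Subgroup.mem_subgroupOf.mpr hx
    rw [Subgroup.subgroupOf_normalizer_eq hCK, hCsub, hC₀.2] at h3
    rw [hC]
    exact ⟨⟨x, hxK'⟩, h3, rfl⟩


/-- the conjugacy step when `G = C ⊔ N = D ⊔ N` -/
theorem conj_of_sup_eq_top [Finite G] (hnil : ¬ Group.IsNilpotent G)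
    (hcj : ∀ L : Subgroup G, L ≠ ⊤ → Cj L)
    (hcjq : ∀ Z : Subgroup G, ∀ _ : Z.Normal, Z ≠ ⊥ → Cj (G ⧸ Z))
    {N : Subgroup G} [N.Normal] (hNab : ∀ a ∈ N, ∀ b ∈ N, a * b = b * a)
    (hNmin : ∀ M : Subgroup G, M.Normal → M ≤ N → M = ⊥ ∨ M = N)
    {C D : Subgroup G} (hC : IsCarter C) (hD : IsCarter D)
    (hCtop : C ⊔ N = ⊤) (hDtop : D ⊔ N = ⊤) : ∃ g : G, MulAut.conj g • C = D := by
  have hne : ∀ X : Subgroup G, IsCarter X → X ≠ ⊤ := by
    intro X hX h
    apply hnil
    apply nilpotent_of_top_nilpotent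
    rw [← h]; exact hX.1
  have hinf : ∀ X : Subgroup G, IsCarter X → X ⊔ N = ⊤ → X ⊓ N = ⊥ := by
    intro X hX hXN
    have hn : (X ⊓ N).Normal := inf_normal_of_sup_eq_top hXN hNab
    rcases hNmin _ hn inf_le_right with h | h
    · exact h
    · exfalso; apply hne X hX
      rw [← hXN]; exact (sup_eq_left.mpr (h ▸ inf_le_left)).symm
  have hcompl : ∀ X : Subgroup G, IsCarter X → X ⊔ N = ⊤ → Subgroup.IsComplement' N X := by
    intro X hX hXN
    apply Subgroup.isComplement'_of_disjoint_and_mul_eq_univ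
    · rw [disjoint_iff, inf_comm]; exact hinf X hX hXN
    · rw [← Subgroup.normal_mul, sup_comm, hXN]; rfl
  have hcC := hcompl C hC hCtop
  have hcD := hcompl D hD hDtop
  haveI := hC.1
  haveI : Nontrivial C := by
    rw [Subgroup.nontrivial_iff_ne_bot]
    intro h
    rw [h, bot_sup_eq] at hCtop
    apply hnil
    rw [hCtop] at hNab
    letI : CommGroup G := { (inferInstance : Group G) with
      mul_comm := fun a b => hNab a (Subgroup.mem_top a) b (Subgroup.mem_top b) }
    infer_instance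
  have hZ := Group.IsNilpotent.center_ne_bot (G := C)
  by_cases hcase : ∃ z ∈ C, (∀ c ∈ C, c * z = z * c) ∧ N ⊓ Subgroup.centralizer {z} = ⊥
  · obtain ⟨z, hzC, hzc, hfix⟩ := hcase
    obtain ⟨m, hm⟩ := conj_of_central_fpf hcC hcD hzC hzc hfix
    exact ⟨m⁻¹, by rw [← hm, map_inv, inv_smul_smul]⟩
  · push_neg at hcase
    obtain ⟨Z, hZdef⟩ : ∃ Z : Subgroup G, Z = (Subgroup.center C).map C.subtype := ⟨_, rfl⟩
    have hZC : Z ≤ C := by
      rw [hZdef]; rintro _ ⟨y, -, rfl⟩; exact y.2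
    have hZcent : Z ≤ Subgroup.center G := by
      intro z hz
      rw [hZdef] at hz
      obtain ⟨z₀, hz₀, rfl⟩ := hz
      have hzc : ∀ c ∈ C, c * (z₀ : G) = (z₀ : G) * c := by
        intro c hc
        have := Subgroup.mem_center_iff.mp hz₀ ⟨c, hc⟩
        exact congrArg Subtype.val this
      have hne' := hcase (z₀ : G) z₀.2 hzc
      have hn : (N ⊓ Subgroup.centralizer {(z₀ : G)}).Normal :=
        inf_centralizer_normal_of_sup_eq_top hCtop hNab hzc
      have hNz : N ≤ Subgroup.centralizer {(z₀ : G)} := by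
        rcases hNmin _ hn inf_le_left with h | h
        · exact absurd h hne'
        · exact h ▸ inf_le_right
      have htop : Subgroup.centralizer {(z₀ : G)} = ⊤ := by
        rw [eq_top_iff, ← hCtop]
        refine sup_le ?_ hNz
        intro c hc
        rw [Subgroup.mem_centralizer_iff]
        intro y hy
        rw [Set.mem_singleton_iff] at hy
        subst hy
        exact (hzc c hc).symm
      rw [Subgroup.mem_center_iff]
      intro g
      have hg : g ∈ Subgroup.centralizer {(z₀ : G)} := htop ▸ Subgroup.mem_top g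
      exact (Subgroup.mem_centralizer_iff.mp hg _ rfl).symm
    have hZnormal : Z.Normal := by
      constructor
      intro z hz g
      have := Subgroup.mem_center_iff.mp (hZcent hz) g
      have e : g * z * g⁻¹ = z := by rw [this, mul_inv_cancel_right]
      rw [e]; exact hz
    have hZbot : Z ≠ ⊥ := by
      intro h
      apply hZ
      rw [hZdef] at h
      exact (Subgroup.map_eq_bot_iff_of_injective _ C.subtype_injective).mp h
    haveI := hZnormal
    obtain ⟨g₂, hg₂⟩ := exists_conj_sup_eq hcj Z (hcjq Z hZnormal hZbot) hC hD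
    have hZle : Z ≤ MulAut.conj g₂ • C := by
      intro z hz
      rw [mem_conj_smul]
      have := Subgroup.mem_center_iff.mp (hZcent hz) g₂
      have e : g₂⁻¹ * z * g₂ = z := by rw [mul_assoc, ← this, inv_mul_cancel_left]
      rw [e]; exact hZC hz
    have hDle : D ≤ MulAut.conj g₂ • C := by
      have : MulAut.conj g₂ • C = D ⊔ Z := by rw [← hg₂]; exact (sup_eq_left.mpr hZle).symm
      rw [this]; exact le_sup_left
    exact ⟨g₂, (IsCarter.eq_of_le (hC.conj g₂).1 hD.2 hDle).symm⟩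

/-- Carter subgroups: existence and conjugacy, by induction on the order. -/
theorem carter_main.{u} : ∀ (n : ℕ) (G : Type u) [Group G] [Finite G] [Group.IsSolvable G],
    Nat.card G = n → (∃ C : Subgroup G, IsCarter C) ∧ Cj G := by
  intro n
  induction n using Nat.strong_induction_on with
  | _ n ih =>
    intro G _ _ _ hn
    have hcj : ∀ L : Subgroup G, L ≠ ⊤ → Cj L := by
      intro L hL
      exact (ih (Nat.card L) (hn ▸ card_lt_of_ne_top hL) L rfl).2
    by_cases hnil : Group.IsNilpotent G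
    · refine ⟨⟨⊤, isCarter_top_of_nilpotent hnil⟩, ?_⟩
      intro C D hC hD
      exact ⟨1, by rw [hC.eq_top hnil, hD.eq_top hnil, map_one, one_smul]⟩
    · haveI : Nontrivial G := by
        by_contra h
        rw [not_nontrivial_iff_subsingleton] at h
        exact hnil inferInstance
      obtain ⟨N, hN, hNbot, hNab, hNmin⟩ := exists_minimal_normal (G := G)
      haveI := hN
      have hcjq : ∀ Z : Subgroup G, ∀ _ : Z.Normal, Z ≠ ⊥ → Cj (G ⧸ Z) := by
        intro Z hZ hZbot
        haveI := hZ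
        exact (ih _ (hn ▸ card_quotient_lt hZbot) (G ⧸ Z) rfl).2
      obtain ⟨⟨Cq, hCq⟩, -⟩ := ih _ (hn ▸ card_quotient_lt hNbot) (G ⧸ N) rfl
      constructor
      · -- existence
        obtain ⟨K, hK⟩ : ∃ K : Subgroup G, K = Cq.comap (QuotientGroup.mk' N) := ⟨_, rfl⟩
        by_cases hKtop : K = ⊤
        · have hCqtop : Cq = ⊤ := by
            have := congrArg (Subgroup.map (QuotientGroup.mk' N)) hK
            rw [Subgroup.map_comap_eq_self_of_surjective (QuotientGroup.mk'_surjective N), hKtop,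
              Subgroup.map_top_of_surjective _ (QuotientGroup.mk'_surjective N)] at this
            exact this.symm
          have hqnil : Group.IsNilpotent (G ⧸ N) := by
            apply nilpotent_of_top_nilpotent
            rw [← hCqtop]; exact hCq.1
          exact exists_carter_of_quotient_nilpotent hNab hNmin hqnil hnil
        · have hcardK : Nat.card K < n := hn ▸ card_lt_of_ne_top hKtop
          obtain ⟨⟨C₀, hC₀⟩, -⟩ := ih _ hcardK K rfl
          have hcjK : ∀ L : Subgroup K, L ≠ ⊤ → Cj L := by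
            intro L hL
            exact (ih (Nat.card L) (lt_trans (card_lt_of_ne_top hL) hcardK) L rfl).2
          exact ⟨_, isCarter_map_of_preimage hCq hK hcjK hC₀⟩
      · -- conjugacy
        intro C D hC hD
        obtain ⟨g, hg⟩ := exists_conj_sup_eq hcj N (hcjq N hN hNbot) hC hD
        obtain ⟨C', hC'def⟩ : ∃ C' : Subgroup G, C' = MulAut.conj g • C := ⟨_, rfl⟩
        have hC' : IsCarter C' := hC'def ▸ hC.conj g
        rw [← hC'def] at hg
        suffices h : ∃ g' : G, MulAut.conj g' • C' = D by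
          obtain ⟨g', hg'⟩ := h
          exact ⟨g' * g, by rw [map_mul, mul_smul, ← hC'def, hg']⟩
        by_cases hKtop : D ⊔ N = ⊤
        · exact conj_of_sup_eq_top hnil hcj hcjq hNab hNmin hC' hD (hg.trans hKtop) hKtop
        · have hC'K : C' ≤ D ⊔ N := hg ▸ le_sup_left
          have hDK : D ≤ D ⊔ N := le_sup_left
          obtain ⟨k, hk⟩ := hcj _ hKtop _ _ (hC'.subgroupOf hC'K) (hD.subgroupOf hDK)
          exact ⟨k, conj_of_subgroupOf _ k C' D hC'K hDK hk⟩

end Cfsg.Agent.Lib.Lead_Carter
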