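import Mathlib
import Cfsg.Prelude.Def_SolvableStructure
import Cfsg.Agent.Lib.Lead_SZ
import Cfsg.Agent.Lib.Lead_Coprime
import Cfsg.Agent.Lib.Lead_Hall

/-! Hall complement systems and system normalizers. -/

namespace Cfsg.Agent.Lib.Lead_SysNorm

open Cfsg Cfsg.Agent.Lib.Lead_SZ Cfsg.Agent.Lib.Lead_Coprime
open scoped Pointwise

variable {G : Type*} [Group G]

theorem card_mul_pow [Finite G] {K : Nat.Primes → Subgroup G} (hK : IsComplementSystem K)
    (p : Nat.Primes) : Nat.card (K p) * (p : ℕ) ^ (Nat.card G).factorization p = Nat.card G := by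
  rw [← hK p]; exact (K p).card_mul_index

/-- the order of a `p`-complement is prime to `p` -/
theorem not_dvd_card [Finite G] {K : Nat.Primes → Subgroup G} (hK : IsComplementSystem K)
    (p : Nat.Primes) : ¬ (p : ℕ) ∣ Nat.card (K p) := by
  intro hdvd
  have h1 := card_mul_pow hK p
  have h2 : (p : ℕ) ^ ((Nat.card G).factorization p + 1) ∣ Nat.card G := by
    obtain ⟨v, hv⟩ : ∃ v, v = (Nat.card G).factorization p := ⟨_, rfl⟩
    rw [← hv] at h1 ⊢
    obtain ⟨c, hc⟩ := hdvd
    refine ⟨c, ?_⟩
    rw [← h1, hc, pow_succ]; ring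
  exact Nat.pow_succ_factorization_not_dvd Nat.card_pos.ne' p.2 h2

theorem systemNormalizer_le (K : Nat.Primes → Subgroup G) (p : Nat.Primes) :
    systemNormalizer K ≤ Subgroup.normalizer (K p : Set G) :=
  iInf_le _ p

/-- an element lying in all members of a complement system is trivial -/
theorem eq_one_of_forall_mem [Finite G] {K : Nat.Primes → Subgroup G} (hK : IsComplementSystem K)
    {x : G} (hx : ∀ p : Nat.Primes, (p : ℕ) ∣ Nat.card G → x ∈ K p) : x = 1 := by
  by_contra hne
  have h1 : orderOf x ≠ 1 := fun h => hne (orderOf_eq_one_iff.mp h)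
  obtain ⟨r, hr, hrx⟩ := Nat.exists_prime_and_dvd h1
  have hrG : r ∣ Nat.card G := hrx.trans (orderOf_dvd_natCard x)
  have hxr := hx ⟨r, hr⟩ hrG
  have h2 : orderOf x ∣ Nat.card (K ⟨r, hr⟩) := by
    have := orderOf_dvd_natCard (⟨x, hxr⟩ : K ⟨r, hr⟩)
    rwa [Subgroup.orderOf_mk] at this
  exact not_dvd_card hK ⟨r, hr⟩ (hrx.trans h2)

/-- the system normalizer of a complement system is nilpotent -/
theorem systemNormalizer_nilpotent [Finite G] {K : Nat.Primes → Subgroup G}
    (hK : IsComplementSystem K) : Group.IsNilpotent (systemNormalizer K) := by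
  classical
  obtain ⟨D, hD⟩ : ∃ D : Subgroup G, D = systemNormalizer K := ⟨_, rfl⟩
  rw [← hD]
  have hDle : ∀ p : Nat.Primes, D ≤ Subgroup.normalizer (K p : Set G) :=
    fun p => hD ▸ systemNormalizer_le K p
  let ι := {p : Nat.Primes // (p : ℕ) ∣ Nat.card G}
  haveI : Finite ι := by
    have : Function.Injective (fun p : ι => (⟨(p.1 : ℕ), Nat.lt_succ_of_le
        (Nat.le_of_dvd Nat.card_pos p.2)⟩ : Fin (Nat.card G + 1))) := by
      intro p q h
      have : (p.1 : ℕ) = (q.1 : ℕ) := congrArg Fin.val h
      exact Subtype.ext (Subtype.ext this)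
    exact Finite.of_injective _ this
  let N : ι → Subgroup D := fun p => (K p.1).subgroupOf D
  haveI hNn : ∀ p : ι, (N p).Normal := fun p =>
    Subgroup.normal_subgroupOf_of_le_normalizer (hDle p.1)
  have hNp : ∀ p : ι, IsPGroup (p.1 : ℕ) (D ⧸ N p) := by
    intro p
    haveI : Fact (p.1 : ℕ).Prime := ⟨p.1.2⟩
    have h1 : Nat.card (D ⧸ N p) = (K p.1).relIndex D := by
      rw [← Subgroup.index_eq_card]; rfl
    have h2 : (K p.1).relIndex D ∣ (K p.1).index := by
      rw [← relIndex_sup_of_le_normalizer D (K p.1) (hDle p.1)]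
      exact Subgroup.relIndex_dvd_index_of_le le_sup_right
    rw [hK p.1] at h2
    obtain ⟨m, -, hm⟩ := (Nat.dvd_prime_pow p.1.2).mp h2
    exact IsPGroup.of_card (h1.trans hm)
  haveI : ∀ p : ι, Group.IsNilpotent (D ⧸ N p) := fun p => by
    haveI : Fact (p.1 : ℕ).Prime := ⟨p.1.2⟩
    exact (hNp p).isNilpotent
  haveI : Fintype ι := Fintype.ofFinite ι
  have hpi : Group.IsNilpotent (∀ p : ι, D ⧸ N p) := isNilpotent_pi
  let φ : D →* (∀ p : ι, D ⧸ N p) := MonoidHom.pi (fun p => QuotientGroup.mk' (N p))
  haveI := hpi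
  apply isNilpotent_of_ker_le_center φ
  intro x hx
  have hx1 : ∀ p : ι, (x : G) ∈ K p.1 := by
    intro p
    have : φ x p = 1 := by rw [MonoidHom.mem_ker.mp hx]; rfl
    have h2 : x ∈ N p := (QuotientGroup.eq_one_iff x).mp this
    exact Subgroup.mem_subgroupOf.mp h2
  have hx2 : (x : G) = 1 := eq_one_of_forall_mem hK (fun p hp => hx1 ⟨p, hp⟩)
  have : x = 1 := Subtype.ext hx2
  rw [this]; exact Subgroup.one_mem _


theorem index_inf_of_coprime [Finite G] (H K : Subgroup G)
    (h : H.index.Coprime K.index) : (H ⊓ K).index = H.index * K.index := by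
  have h1 : H.index ∣ (H ⊓ K).index := Subgroup.index_dvd_of_le inf_le_left
  have h2 : K.index ∣ (H ⊓ K).index := Subgroup.index_dvd_of_le inf_le_right
  have h3 := h.mul_dvd_of_dvd_of_dvd h1 h2
  have h4 := Subgroup.index_inf_le (H := H) (K := K)
  have h5 : (H ⊓ K).index ≠ 0 := Subgroup.index_ne_zero_of_finite
  exact le_antisymm h4 (Nat.le_of_dvd (Nat.pos_of_ne_zero h5) h3)

/-- subgroups of coprime indices factorize the group -/
theorem exists_mul_of_coprime_index [Finite G] (A B : Subgroup G)
    (h : A.index.Coprime B.index) (g : G) : ∃ a ∈ A, ∃ b ∈ B, g = a * b := by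
  classical
  have hrel : B.relIndex A = B.index := by
    have h1 := index_inf_of_coprime A B h
    have h2 := Subgroup.relIndex_mul_index (inf_le_left : A ⊓ B ≤ A)
    rw [h1, Subgroup.inf_relIndex_left, mul_comm] at h2
    have hA0 : 0 < A.index := Nat.pos_of_ne_zero Subgroup.index_ne_zero_of_finite
    exact Nat.eq_of_mul_eq_mul_left hA0 h2
  have hstab : MulAction.stabilizer A ((1 : G) : G ⧸ B) = B.subgroupOf A := by
    ext a
    rw [MulAction.mem_stabilizer_iff, Subgroup.mem_subgroupOf]
    have : a • ((1 : G) : G ⧸ B) = (((a : G) * 1 : G) : G ⧸ B) := rfl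
    rw [this, mul_one, eq_comm, QuotientGroup.eq, inv_one, one_mul]
  have horb : (MulAction.orbit A ((1 : G) : G ⧸ B)).ncard = Nat.card (G ⧸ B) := by
    rw [← MulAction.index_stabilizer, hstab, ← Subgroup.relIndex, hrel, Subgroup.index_eq_card]
  have huniv : MulAction.orbit A ((1 : G) : G ⧸ B) = Set.univ := by
    apply Set.eq_of_subset_of_ncard_le (Set.subset_univ _)
    rw [horb, Set.ncard_univ]
  have hg : (g : G ⧸ B) ∈ MulAction.orbit A ((1 : G) : G ⧸ B) := by rw [huniv]; trivial
  obtain ⟨a, ha⟩ := hg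
  have ha' : (((a : G) * 1 : G) : G ⧸ B) = (g : G ⧸ B) := ha
  rw [mul_one, QuotientGroup.eq] at ha'
  exact ⟨a, a.2, _, ha', by group⟩

/-- the intersection of the complements over a finite set of primes -/
theorem index_iInf_finset [Finite G] {L : Nat.Primes → Subgroup G} (hL : IsComplementSystem L)
    (T : Finset Nat.Primes) :
    (⨅ p ∈ T, L p).index = ∏ p ∈ T, (p : ℕ) ^ (Nat.card G).factorization p := by
  classical
  induction T using Finset.induction_on with
  | empty => simp
  | insert a T ha ih =>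
    rw [Finset.iInf_insert, Finset.prod_insert ha]
    have hcop : (L a).index.Coprime (⨅ p ∈ T, L p).index := by
      rw [ih, hL a]
      apply Nat.Coprime.prod_right
      intro p hp
      apply Nat.Coprime.pow
      rw [Nat.coprime_primes a.2 p.2]
      intro h
      apply ha
      have : a = p := Subtype.ext h
      rw [this]; exact hp
    rw [index_inf_of_coprime _ _ hcop, ih, hL a]

/-- Hall complement systems are conjugate, over any finite set of primes -/
theorem exists_conj_finset [Finite G] [Group.IsSolvable G] {K L : Nat.Primes → Subgroup G}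
    (hK : IsComplementSystem K) (hL : IsComplementSystem L) (T : Finset Nat.Primes) :
    ∃ g : G, ∀ p ∈ T, MulAut.conj g • K p = L p := by
  classical
  induction T using Finset.induction_on with
  | empty => exact ⟨1, by simp⟩
  | insert q T hq ih =>
    obtain ⟨g', hg'⟩ := ih
    obtain ⟨K', hK'⟩ : ∃ K' : Subgroup G, K' = MulAut.conj g' • K q := ⟨_, rfl⟩
    obtain ⟨v, hv⟩ : ∃ v, v = (Nat.card G).factorization q := ⟨_, rfl⟩
    have hcard : ∀ {M : Nat.Primes → Subgroup G}, IsComplementSystem M →
        Nat.card (M q) = Nat.card (L q) := by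
      intro M hM
      have h1 := card_mul_pow hM q
      have h2 := card_mul_pow hL q
      have hpos : 0 < (q : ℕ) ^ (Nat.card G).factorization q := pow_pos q.2.pos _
      exact Nat.eq_of_mul_eq_mul_right hpos (h1.trans h2.symm)
    have hcardK' : Nat.card K' = Nat.card (L q) := by
      rw [hK', card_conj_smul]; exact hcard hK
    have hmul : Nat.card G = Nat.card (L q) * (q : ℕ) ^ (Nat.card G).factorization q :=
      (card_mul_pow hL q).symm
    have hcop : (Nat.card (L q)).Coprime ((q : ℕ) ^ (Nat.card G).factorization q) := by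
      apply Nat.Coprime.pow_right
      exact (Nat.Prime.coprime_iff_not_dvd q.2).mpr (not_dvd_card hL q) |>.symm
    obtain ⟨x, hx⟩ := (Cfsg.Agent.Lib.Lead_Hall.hall G _ _ hmul hcop).2.1 K' (L q) hcardK' rfl
    -- factorize x⁻¹ = h * n
    have hidx : (⨅ p ∈ T, L p).index.Coprime (Subgroup.normalizer ((L q : Subgroup G) : Set G)).index := by
      have h1 : (Subgroup.normalizer ((L q : Subgroup G) : Set G)).index ∣ (q : ℕ) ^ (Nat.card G).factorization q := by
        rw [← hL q]; exact Subgroup.index_dvd_of_le Subgroup.le_normalizer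
      refine Nat.Coprime.coprime_dvd_right h1 ?_
      rw [index_iInf_finset hL]
      apply Nat.Coprime.prod_left
      intro p hp
      apply Nat.Coprime.pow
      rw [Nat.coprime_primes p.2 q.2]
      intro h
      apply hq
      have : p = q := Subtype.ext h
      rw [← this]; exact hp
    obtain ⟨h, hh, n, hn, hxn⟩ := exists_mul_of_coprime_index _ _ hidx x⁻¹
    refine ⟨h⁻¹ * g', ?_⟩
    intro p hp
    rw [Finset.mem_insert] at hp
    rcases hp with rfl | hp
    · -- the new prime
      rw [map_mul, mul_smul, ← hK']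
      have h1 : K' = MulAut.conj x⁻¹ • L p := by rw [← hx, map_inv, inv_smul_smul]
      have h2 : MulAut.conj n • L p = L p := by
        have := (Subgroup.mem_normalizer_iff_map_conj_eq.mp hn)
        rw [Subgroup.pointwise_smul_def]; exact this
      rw [h1, hxn, map_mul, mul_smul, h2, map_inv, inv_smul_smul]
    · rw [map_mul, mul_smul, hg' p hp]
      have hhp : h ∈ L p := by
        have := (Subgroup.mem_iInf.mp hh) p
        exact (Subgroup.mem_iInf.mp this) hp
      exact Subgroup.conj_smul_eq_self_of_mem (Subgroup.inv_mem _ hhp)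

/-- Hall complement systems are conjugate -/
theorem exists_conj [Finite G] [Group.IsSolvable G] {K L : Nat.Primes → Subgroup G}
    (hK : IsComplementSystem K) (hL : IsComplementSystem L) :
    ∃ g : G, ∀ p : Nat.Primes, MulAut.conj g • K p = L p := by
  classical
  have hfin : {p : Nat.Primes | (p : ℕ) ∣ Nat.card G}.Finite := by
    have : Function.Injective (fun p : {p : Nat.Primes | (p : ℕ) ∣ Nat.card G} =>
        (⟨(p.1 : ℕ), Nat.lt_succ_of_le (Nat.le_of_dvd Nat.card_pos p.2)⟩ : Fin (Nat.card G + 1))) := by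
      intro p q h
      have : (p.1 : ℕ) = (q.1 : ℕ) := congrArg Fin.val h
      exact Subtype.ext (Subtype.ext this)
    exact Set.finite_coe_iff.mp (Finite.of_injective _ this)
  obtain ⟨g, hg⟩ := exists_conj_finset hK hL hfin.toFinset
  refine ⟨g, fun p => ?_⟩
  by_cases hp : (p : ℕ) ∣ Nat.card G
  · exact hg p (hfin.mem_toFinset.mpr hp)
  · have htop : ∀ {M : Nat.Primes → Subgroup G}, IsComplementSystem M → M p = ⊤ := by
      intro M hM
      have := hM p
      rw [Nat.factorization_eq_zero_of_not_dvd hp, pow_zero] at this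
      exact Subgroup.index_eq_one.mp this
    rw [htop hK, htop hL]
    rw [eq_top_iff]
    intro x _
    rw [mem_conj_smul]
    trivial


/-- for `N` normal, `|N : N ⊓ H|` divides `|G : H|` -/
theorem relIndex_dvd_index_of_normal_right [Finite G] (H N : Subgroup G) [N.Normal] :
    H.relIndex N ∣ H.index := by
  have ha := Subgroup.relIndex_mul_index (inf_le_left : H ⊓ N ≤ H)
  have hb := Subgroup.relIndex_mul_index (inf_le_right : H ⊓ N ≤ N)
  rw [Subgroup.inf_relIndex_left] at ha
  rw [Subgroup.inf_relIndex_right] at hb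
  obtain ⟨c, hc⟩ := Subgroup.relIndex_dvd_index_of_normal (H := N) (K := H)
  have h0 : 0 < N.relIndex H := Nat.pos_of_ne_zero Subgroup.index_ne_zero_of_finite
  refine ⟨c, ?_⟩
  have : N.relIndex H * H.index = N.relIndex H * (H.relIndex N * c) := by
    rw [ha, ← hb, hc]; ring
  exact Nat.eq_of_mul_eq_mul_left h0 this

theorem isComplementSystem_conj {K : Nat.Primes → Subgroup G} (hK : IsComplementSystem K) (y : G) :
    IsComplementSystem (fun p => MulAut.conj y • K p) := by
  intro p
  show (MulAut.conj y • K p).index = _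
  rw [Subgroup.pointwise_smul_def]
  exact (Subgroup.index_map_equiv (K p) (MulAut.conj y)).trans (hK p)

/-- factorization inside a normal subgroup -/
theorem exists_mul_of_coprime_index_in [Finite G] (N A B : Subgroup G) [N.Normal]
    (h : A.index.Coprime B.index) {g : G} (hg : g ∈ N) :
    ∃ a ∈ A ⊓ N, ∃ b ∈ B ⊓ N, g = a * b := by
  have hcop : (A.subgroupOf N).index.Coprime (B.subgroupOf N).index := by
    have h1 : (A.subgroupOf N).index ∣ A.index := relIndex_dvd_index_of_normal_right A N
    have h2 : (B.subgroupOf N).index ∣ B.index := relIndex_dvd_index_of_normal_right B N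
    exact Nat.Coprime.coprime_dvd_left h1 (Nat.Coprime.coprime_dvd_right h2 h)
  obtain ⟨a, ha, b, hb, e⟩ := exists_mul_of_coprime_index _ _ hcop (⟨g, hg⟩ : N)
  refine ⟨a, Subgroup.mem_inf.mpr ⟨Subgroup.mem_subgroupOf.mp ha, a.2⟩, b,
    Subgroup.mem_inf.mpr ⟨Subgroup.mem_subgroupOf.mp hb, b.2⟩, ?_⟩
  exact congrArg Subtype.val e


/-- complement systems with the same images modulo `N` are conjugate under `N` (finite set of
primes) -/
theorem exists_conj_in_normal_finset [Finite G] [Group.IsSolvable G] (N : Subgroup G) [N.Normal]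
    {K L : Nat.Primes → Subgroup G} (hK : IsComplementSystem K) (hL : IsComplementSystem L)
    (hKL : ∀ p, K p ⊔ N = L p ⊔ N) (T : Finset Nat.Primes) :
    ∃ n ∈ N, ∀ p ∈ T, MulAut.conj n • K p = L p := by
  classical
  induction T using Finset.induction_on with
  | empty => exact ⟨1, N.one_mem, by simp⟩
  | insert q T hq ih =>
    obtain ⟨n', hn'N, hn'⟩ := ih
    obtain ⟨K', hK'⟩ : ∃ K' : Subgroup G, K' = MulAut.conj n' • K q := ⟨_, rfl⟩
    obtain ⟨Hq, hHq⟩ : ∃ Hq : Subgroup G, Hq = L q ⊔ N := ⟨_, rfl⟩
    have hLH : L q ≤ Hq := hHq ▸ le_sup_left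
    have hK'H : K' ≤ Hq := by
      rw [hK', hHq, ← hKL q]
      have h1 : n' ∈ K q ⊔ N := Subgroup.mem_sup_right hn'N
      have h2 := Subgroup.conj_smul_eq_self_of_mem h1
      rw [← h2]
      exact Subgroup.pointwise_smul_le_pointwise_smul_iff.mpr le_sup_left
    have hcard : ∀ {M : Nat.Primes → Subgroup G}, IsComplementSystem M →
        Nat.card (M q) = Nat.card (L q) := by
      intro M hM
      have h1 := card_mul_pow hM q
      have h2 := card_mul_pow hL q
      have hpos : 0 < (q : ℕ) ^ (Nat.card G).factorization q := pow_pos q.2.pos _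
      exact Nat.eq_of_mul_eq_mul_right hpos (h1.trans h2.symm)
    have hcardK' : Nat.card K' = Nat.card (L q) := by
      rw [hK', card_conj_smul]; exact hcard hK
    -- conjugacy inside Hq
    have hrel : (L q).relIndex Hq ∣ (q : ℕ) ^ (Nat.card G).factorization q := by
      rw [← hL q]; exact Subgroup.relIndex_dvd_index_of_le hLH
    obtain ⟨j, -, hj⟩ := (Nat.dvd_prime_pow q.2).mp hrel
    have hmul : Nat.card Hq = Nat.card (L q) * (q : ℕ) ^ j := by
      rw [← hj, ← card_subgroupOf_of_le hLH]
      exact ((L q).subgroupOf Hq).card_mul_index.symm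
    have hcop : (Nat.card (L q)).Coprime ((q : ℕ) ^ j) := by
      apply Nat.Coprime.pow_right
      exact (Nat.Prime.coprime_iff_not_dvd q.2).mpr (not_dvd_card hL q) |>.symm
    obtain ⟨x, hx⟩ := (Cfsg.Agent.Lib.Lead_Hall.hall Hq _ _ hmul hcop).2.1
      (K'.subgroupOf Hq) ((L q).subgroupOf Hq)
      (by rw [card_subgroupOf_of_le hK'H, hcardK']) (card_subgroupOf_of_le hLH)
    have hx' := conj_of_subgroupOf Hq x K' (L q) hK'H hLH hx
    -- x⁻¹ = n₂ * l
    have hxinv : (x : G)⁻¹ ∈ N ⊔ L q := by
      rw [sup_comm, ← hHq]; exact Hq.inv_mem x.2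
    rw [← SetLike.mem_coe, Subgroup.normal_mul] at hxinv
    obtain ⟨n₂, hn₂, l, hl, hnl⟩ := Set.mem_mul.mp hxinv
    have hK'eq : K' = MulAut.conj n₂ • L q := by
      have h1 : K' = MulAut.conj (x : G)⁻¹ • L q := by rw [← hx', map_inv, inv_smul_smul]
      rw [h1, ← hnl, map_mul, mul_smul, Subgroup.conj_smul_eq_self_of_mem hl]
    -- factorize n₂ = h * m
    have hidx : (⨅ p ∈ T, L p).index.Coprime (Subgroup.normalizer ((L q : Subgroup G) : Set G)).index := by
      have h1 : (Subgroup.normalizer ((L q : Subgroup G) : Set G)).index ∣ (q : ℕ) ^ (Nat.card G).factorization q := by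
        rw [← hL q]; exact Subgroup.index_dvd_of_le Subgroup.le_normalizer
      refine Nat.Coprime.coprime_dvd_right h1 ?_
      rw [index_iInf_finset hL]
      apply Nat.Coprime.prod_left
      intro p hp
      apply Nat.Coprime.pow
      rw [Nat.coprime_primes p.2 q.2]
      intro h
      apply hq
      have : p = q := Subtype.ext h
      rw [← this]; exact hp
    obtain ⟨h, hh, m, hm, hhm⟩ := exists_mul_of_coprime_index_in N _ _ hidx hn₂
    obtain ⟨hh1, hh2⟩ := Subgroup.mem_inf.mp hh
    obtain ⟨hm1, hm2⟩ := Subgroup.mem_inf.mp hm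
    refine ⟨h⁻¹ * n', N.mul_mem (N.inv_mem hh2) hn'N, ?_⟩
    intro p hp
    rw [Finset.mem_insert] at hp
    rcases hp with rfl | hp
    · rw [map_mul, mul_smul, ← hK', hK'eq, hhm]
      have h2 : MulAut.conj m • L p = L p := by
        have := (Subgroup.mem_normalizer_iff_map_conj_eq.mp hm1)
        rw [Subgroup.pointwise_smul_def]; exact this
      rw [map_mul, mul_smul, h2, map_inv, inv_smul_smul]
    · rw [map_mul, mul_smul, hn' p hp]
      have hhp : h ∈ L p := by
        have := (Subgroup.mem_iInf.mp hh1) p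
        exact (Subgroup.mem_iInf.mp this) hp
      exact Subgroup.conj_smul_eq_self_of_mem (Subgroup.inv_mem _ hhp)

theorem finite_primes_dvd [Finite G] : {p : Nat.Primes | (p : ℕ) ∣ Nat.card G}.Finite := by
  have : Function.Injective (fun p : {p : Nat.Primes | (p : ℕ) ∣ Nat.card G} =>
      (⟨(p.1 : ℕ), Nat.lt_succ_of_le (Nat.le_of_dvd Nat.card_pos p.2)⟩ : Fin (Nat.card G + 1))) := by
    intro p q h
    have : (p.1 : ℕ) = (q.1 : ℕ) := congrArg Fin.val h
    exact Subtype.ext (Subtype.ext this)
  exact Set.finite_coe_iff.mp (Finite.of_injective _ this)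

theorem eq_top_of_not_dvd [Finite G] {M : Nat.Primes → Subgroup G} (hM : IsComplementSystem M)
    {p : Nat.Primes} (hp : ¬ (p : ℕ) ∣ Nat.card G) : M p = ⊤ := by
  have := hM p
  rw [Nat.factorization_eq_zero_of_not_dvd hp, pow_zero] at this
  exact Subgroup.index_eq_one.mp this

theorem conj_smul_top (g : G) : MulAut.conj g • (⊤ : Subgroup G) = ⊤ := by
  rw [eq_top_iff]
  intro x _
  rw [mem_conj_smul]
  trivial

/-- complement systems with the same images modulo `N` are conjugate under `N` -/
theorem exists_conj_in_normal [Finite G] [Group.IsSolvable G] (N : Subgroup G) [N.Normal]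
    {K L : Nat.Primes → Subgroup G} (hK : IsComplementSystem K) (hL : IsComplementSystem L)
    (hKL : ∀ p, K p ⊔ N = L p ⊔ N) :
    ∃ n ∈ N, ∀ p : Nat.Primes, MulAut.conj n • K p = L p := by
  classical
  have hfin := finite_primes_dvd (G := G)
  obtain ⟨n, hn, hg⟩ := exists_conj_in_normal_finset N hK hL hKL hfin.toFinset
  refine ⟨n, hn, fun p => ?_⟩
  by_cases hp : (p : ℕ) ∣ Nat.card G
  · exact hg p (hfin.mem_toFinset.mpr hp)
  · rw [eq_top_of_not_dvd hK hp, eq_top_of_not_dvd hL hp]
    exact conj_smul_top n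


/-- images of a complement system form a complement system -/
theorem isComplementSystem_map [Finite G] {K : Nat.Primes → Subgroup G}
    (hK : IsComplementSystem K) (N : Subgroup G) [N.Normal] :
    IsComplementSystem (fun p => (K p).map (QuotientGroup.mk' N)) := by
  intro p
  show ((K p).map (QuotientGroup.mk' N)).index = _
  have h1 : ((K p).map (QuotientGroup.mk' N)).index ∣ (p : ℕ) ^ (Nat.card G).factorization p := by
    rw [← hK p]
    exact Subgroup.index_map_dvd (K p) (QuotientGroup.mk'_surjective N)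
  obtain ⟨j, -, hj⟩ := (Nat.dvd_prime_pow p.2).mp h1
  have h2 : ¬ (p : ℕ) ∣ Nat.card ((K p).map (QuotientGroup.mk' N)) := by
    intro hd
    apply not_dvd_card hK p
    rw [← card_map_mul N (K p)]
    exact Dvd.dvd.mul_right hd _
  have hcard := ((K p).map (QuotientGroup.mk' N)).card_mul_index
  rw [hj] at hcard ⊢
  congr 1
  rw [← hcard, Nat.factorization_mul Nat.card_pos.ne' (pow_ne_zero _ p.2.ne_zero)]
  simp only [Finsupp.coe_add, Pi.add_apply]
  rw [Nat.factorization_eq_zero_of_not_dvd h2, zero_add, p.2.factorization_pow]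
  simp

/-- the system normalizer of the image system is the image of the system normalizer -/
theorem systemNormalizer_map [Finite G] [Group.IsSolvable G] {K : Nat.Primes → Subgroup G}
    (hK : IsComplementSystem K) (N : Subgroup G) [N.Normal] :
    systemNormalizer (fun p => (K p).map (QuotientGroup.mk' N)) =
      (systemNormalizer K).map (QuotientGroup.mk' N) := by
  apply le_antisymm
  · intro y hy
    obtain ⟨x, rfl⟩ := QuotientGroup.mk'_surjective N y
    have hx : ∀ p : Nat.Primes, x ∈ Subgroup.normalizer ((K p ⊔ N : Subgroup G) : Set G) := by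
      intro p
      have h1 : (QuotientGroup.mk' N) x ∈
          Subgroup.normalizer (((K p).map (QuotientGroup.mk' N) : Subgroup (G ⧸ N)) : Set (G ⧸ N)) :=
        (Subgroup.mem_iInf.mp hy) p
      have h2 := Subgroup.le_normalizer_comap (H := (K p).map (QuotientGroup.mk' N))
        (QuotientGroup.mk' N) (Subgroup.mem_comap.mpr h1)
      rwa [Subgroup.comap_map_eq, QuotientGroup.ker_mk'] at h2
    have hsys := isComplementSystem_conj hK x
    have hKL : ∀ p, (fun p => MulAut.conj x • K p) p ⊔ N = K p ⊔ N := by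
      intro p
      have h1 := Subgroup.mem_normalizer_iff_map_conj_eq.mp (hx p)
      have hNn : MulAut.conj x • N = N := by
        have : x ∈ Subgroup.normalizer (N : Set G) := by
          rw [Subgroup.normalizer_eq_top_iff.mpr inferInstance]; trivial
        have := Subgroup.mem_normalizer_iff_map_conj_eq.mp this
        rw [Subgroup.pointwise_smul_def]; exact this
      show MulAut.conj x • K p ⊔ N = K p ⊔ N
      conv_lhs => rw [← hNn]
      rw [← Subgroup.smul_sup, Subgroup.pointwise_smul_def]
      exact h1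
    obtain ⟨n, hn, hconj⟩ := exists_conj_in_normal N hsys hK hKL
    refine ⟨n * x, ?_, ?_⟩
    · rw [SetLike.mem_coe]
      apply Subgroup.mem_iInf.mpr
      intro p
      rw [Subgroup.mem_normalizer_iff_map_conj_eq]
      have h3 : MulAut.conj n • (MulAut.conj x • K p) = K p := hconj p
      rw [← mul_smul, ← map_mul, Subgroup.pointwise_smul_def] at h3
      exact h3
    · rw [map_mul]
      have : (QuotientGroup.mk' N) n = 1 := (QuotientGroup.eq_one_iff n).mpr hn
      rw [this, one_mul]
  · rintro _ ⟨x, hx, rfl⟩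
    apply Subgroup.mem_iInf.mpr
    intro p
    exact Subgroup.le_normalizer_map (H := K p) (QuotientGroup.mk' N)
      (Subgroup.mem_map_of_mem _ ((Subgroup.mem_iInf.mp hx) p))


/-- the normal closure of a system normalizer is the whole group -/
theorem normalClosure_systemNormalizer [Finite G] [Group.IsSolvable G]
    {K : Nat.Primes → Subgroup G} (hK : IsComplementSystem K) :
    Subgroup.normalClosure ((systemNormalizer K : Subgroup G) : Set G) = ⊤ := by
  by_contra hne
  obtain ⟨M, hM⟩ : ∃ M : Subgroup G,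
      M = Subgroup.normalClosure ((systemNormalizer K : Subgroup G) : Set G) := ⟨_, rfl⟩
  rw [← hM] at hne
  haveI hMn : M.Normal := hM ▸ Subgroup.normalClosure_normal
  have hDM : systemNormalizer K ≤ M := hM ▸ Subgroup.le_normalClosure
  haveI : Nontrivial (G ⧸ M) := by
    rw [← not_subsingleton_iff_nontrivial]
    intro h
    apply hne
    exact QuotientGroup.subsingleton_iff.mp h
  -- first quotient
  have h1 : systemNormalizer (fun p => (K p).map (QuotientGroup.mk' M)) = ⊥ := by
    rw [systemNormalizer_map hK M, eq_bot_iff]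
    rintro _ ⟨x, hx, rfl⟩
    rw [Subgroup.mem_bot]
    exact (QuotientGroup.eq_one_iff x).mpr (hDM hx)
  have hK1 := isComplementSystem_map hK M
  -- second quotient: the abelianization
  have h2 := systemNormalizer_map hK1 (commutator (G ⧸ M))
  rw [h1, Subgroup.map_bot] at h2
  have h3 : systemNormalizer (fun p => ((fun p => (K p).map (QuotientGroup.mk' M)) p).map
      (QuotientGroup.mk' (commutator (G ⧸ M)))) = ⊤ := by
    unfold systemNormalizer
    rw [eq_top_iff]
    intro x _
    apply Subgroup.mem_iInf.mpr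
    intro p
    have hcomm' : ∀ a b : Abelianization (G ⧸ M), a * b = b * a := fun a b => mul_comm a b
    have hcomm : ∀ a b : (G ⧸ M) ⧸ commutator (G ⧸ M), a * b = b * a := hcomm'
    rw [Subgroup.mem_normalizer_iff]
    intro y
    have : x * y * x⁻¹ = y := by rw [hcomm x y, mul_inv_cancel_right]
    rw [this]
  rw [h3] at h2
  have h4 : commutator (G ⧸ M) = ⊤ := by
    rw [← QuotientGroup.subsingleton_iff]
    constructor
    intro a b
    have ha : a ∈ (⊤ : Subgroup ((G ⧸ M) ⧸ commutator (G ⧸ M))) := Subgroup.mem_top a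
    have hb : b ∈ (⊤ : Subgroup ((G ⧸ M) ⧸ commutator (G ⧸ M))) := Subgroup.mem_top b
    rw [h2, Subgroup.mem_bot] at ha hb
    rw [ha, hb]
  exact (IsSolvable.commutator_lt_top_of_nontrivial (G := G ⧸ M)).ne h4

end Cfsg.Agent.Lib.Lead_SysNorm
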