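import Mathlib
import Cfsg.Prelude.Def_SolvableStructure
import Cfsg.Agent.Lib.Lead_SZ
import Cfsg.Agent.Lib.Lead_Coprime
import Cfsg.Agent.Lib.Lead_SysNorm
import Cfsg.Agent.Lib.Lead_Carter
import Cfsg.Agent.Lib.Lead_Hall
import Cfsg.Agent.Lib.Helper1_MinNormal
import Cfsg.Agent.Lib.Helper1_Card
import Cfsg.Agent.Lib.Helper2_HallConverse

/-! Carter subgroups contain system normalizers. -/

namespace Cfsg.Agent.Lib.Lead_CarterSN

open Cfsg Cfsg.Agent.Lib.Lead_SZ Cfsg.Agent.Lib.Lead_SysNorm Cfsg.Agent.Lib.Lead_Carter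
open Cfsg.Agent.Lib.Lead_Coprime
open scoped Pointwise

universe u
variable {G : Type*} [Group G]

/-- the complement system `K` reduces into `C` -/
def Red (K : Nat.Primes → Subgroup G) (C : Subgroup G) : Prop :=
  ∀ q : Nat.Primes, ∃ j : ℕ, (K q).relIndex C = (q : ℕ) ^ j

theorem relIndex_map_dvd {H : Type*} [Group H] (f : G →* H) (A C : Subgroup G) :
    (A.map f).relIndex (C.map f) ∣ A.relIndex C := by
  rw [← Subgroup.relIndex_comap, Subgroup.comap_map_eq]
  exact Subgroup.relIndex_dvd_of_le_left C le_sup_left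

theorem index_eq_of_pow [Finite G] {q : ℕ} (hq : q.Prime) {H : Subgroup G} {j : ℕ}
    (h1 : H.index = q ^ j) (h2 : ¬ q ∣ Nat.card H) :
    H.index = q ^ (Nat.card G).factorization q := by
  have hcard := H.card_mul_index
  rw [h1] at hcard ⊢
  congr 1
  rw [← hcard, Nat.factorization_mul Nat.card_pos.ne' (pow_ne_zero _ hq.ne_zero)]
  simp only [Finsupp.coe_add, Pi.add_apply]
  rw [Nat.factorization_eq_zero_of_not_dvd h2, zero_add, hq.factorization_pow]
  simp

theorem relIndex_sup_normal [Finite G] (H N : Subgroup G) [N.Normal] :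
    H.relIndex (H ⊔ N) = H.relIndex N := by
  have h1 := Subgroup.relIndex_mul_relIndex (H ⊓ N) H (H ⊔ N) inf_le_left le_sup_left
  have h2 := Subgroup.relIndex_mul_relIndex (H ⊓ N) N (H ⊔ N) inf_le_right le_sup_right
  rw [Subgroup.inf_relIndex_left] at h1
  rw [Subgroup.inf_relIndex_right, Subgroup.relIndex_sup_right] at h2
  have h0 : 0 < N.relIndex H := Nat.pos_of_ne_zero Subgroup.index_ne_zero_of_finite
  have : N.relIndex H * H.relIndex (H ⊔ N) = N.relIndex H * H.relIndex N := by
    rw [h1, ← h2, mul_comm]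
  exact Nat.eq_of_mul_eq_mul_left h0 this

/-- a subgroup of order prime to the index of a normal subgroup lies in it -/
theorem le_of_coprime_card_index_normal [Finite G] (N K : Subgroup G) [N.Normal]
    (h : (Nat.card K).Coprime N.index) : K ≤ N := by
  have h1 := card_map_mul N K
  have h2 : Nat.card (K.map (QuotientGroup.mk' N)) ∣ Nat.card K := ⟨_, h1.symm⟩
  have h3 : Nat.card (K.map (QuotientGroup.mk' N)) ∣ N.index := by
    rw [Subgroup.index_eq_card]; exact Subgroup.card_subgroup_dvd_card _
  have h4 : Nat.card (K.map (QuotientGroup.mk' N)) = 1 := Nat.eq_one_of_dvd_coprimes h h2 h3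
  have h5 : K.map (QuotientGroup.mk' N) = ⊥ := Subgroup.card_eq_one.mp h4
  intro x hx
  have : QuotientGroup.mk' N x ∈ K.map (QuotientGroup.mk' N) := Subgroup.mem_map_of_mem _ hx
  rw [h5, Subgroup.mem_bot] at this
  exact (QuotientGroup.eq_one_iff x).mp this

/-- Hall subgroups of nilpotent groups are normal -/
theorem hall_normal_of_nilpotent [Finite G] (hG : Group.IsNilpotent G) (H : Subgroup G)
    (hH : (Nat.card H).Coprime H.index) : H.Normal := by
  rw [← Subgroup.normalizer_eq_top_iff]
  by_contra hne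
  obtain ⟨L, hL⟩ : ∃ L : Subgroup G, L = Subgroup.normalizer (H : Set G) := ⟨_, rfl⟩
  rw [← hL] at hne
  have hlt := normalizerCondition_of_isNilpotent L (lt_top_iff_ne_top.mpr hne)
  obtain ⟨x, hx, hxL⟩ := SetLike.exists_of_lt hlt
  apply hxL
  rw [hL, conj_smul_le_normalizer]
  have hHL : H ≤ L := hL ▸ Subgroup.le_normalizer
  have hxHL : MulAut.conj x • H ≤ L := by
    have : MulAut.conj x • L = L := conj_smul_le_normalizer.mp hx
    rw [← this]; exact conj_smul_mono x hHL
  haveI : (H.subgroupOf L).Normal := by rw [hL]; exact Subgroup.normal_in_normalizer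
  have hle : (MulAut.conj x • H).subgroupOf L ≤ H.subgroupOf L := by
    apply le_of_coprime_card_index_normal
    rw [card_subgroupOf_of_le hxHL, card_conj_smul]
    show (Nat.card H).Coprime (H.relIndex L)
    exact Nat.Coprime.coprime_dvd_right (Subgroup.relIndex_dvd_index_of_le hHL) hH
  have hle' : MulAut.conj x • H ≤ H := by
    intro y hy
    exact Subgroup.mem_subgroupOf.mp
      (hle (show (⟨y, hxHL hy⟩ : L) ∈ _ from Subgroup.mem_subgroupOf.mpr hy))
  exact eq_of_le_of_card_eq hle' (card_conj_smul x H)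


set_option maxHeartbeats 1600000 in
/-- if the complement system `K` reduces into the Carter subgroup `C` then the system normalizer
of `K` lies in `C` -/
theorem main.{v} : ∀ (n : ℕ) (G : Type v) [Group G] [Finite G] [Group.IsSolvable G],
    Nat.card G = n → ∀ (C : Subgroup G) (K : Nat.Primes → Subgroup G), IsCarter C →
    IsComplementSystem K → Red K C → systemNormalizer K ≤ C := by
  intro n
  induction n using Nat.strong_induction_on with
  | _ n ih =>
  intro G _ _ _ hn C K hC hK hred
  by_cases hnil : Group.IsNilpotent G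
  · rw [hC.eq_top hnil]; exact le_top
  haveI : Nontrivial G := by
    by_contra h
    rw [not_nontrivial_iff_subsingleton] at h
    exact hnil inferInstance
  obtain ⟨N, hN, hNbot, hNab, hNmin⟩ := exists_minimal_normal (G := G)
  haveI := hN
  obtain ⟨p, d, hp, hd, hNcard⟩ :=
    Cfsg.Agent.Lib.Helper1_MinNormal.exists_card_eq_prime_pow N hNbot hNmin
  have hcj : ∀ L : Subgroup G, L ≠ ⊤ → Cj L := fun L _ => (carter_main _ L rfl).2
  -- the quotient
  have hCb : IsCarter (C.map (QuotientGroup.mk' N)) := hC.map_mk hcj N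
  have hKb := isComplementSystem_map hK N
  have hDb := systemNormalizer_map hK N
  have hredb : Red (fun q => (K q).map (QuotientGroup.mk' N)) (C.map (QuotientGroup.mk' N)) := by
    intro q
    obtain ⟨j, hj⟩ := hred q
    have := relIndex_map_dvd (QuotientGroup.mk' N) (K q) C
    rw [hj] at this
    obtain ⟨i, -, hi⟩ := (Nat.dvd_prime_pow q.2).mp this
    exact ⟨i, hi⟩
  have hIH := ih _ (hn ▸ card_quotient_lt hNbot) (G ⧸ N) rfl _ _ hCb hKb hredb
  rw [hDb] at hIH
  have hDM : systemNormalizer K ≤ C ⊔ N := by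
    have := Subgroup.comap_mono (f := QuotientGroup.mk' N) hIH
    rw [Subgroup.comap_map_eq, Subgroup.comap_map_eq, QuotientGroup.ker_mk'] at this
    exact le_sup_left.trans this
  by_cases hCN : C ⊔ N = ⊤
  · haveI hCNn : (C ⊓ N).Normal := inf_normal_of_sup_eq_top hCN hNab
    rcases hNmin _ hCNn inf_le_right with h | h
    swap
    · have h1 : N ≤ C := by rw [← h]; exact inf_le_left
      have h2 : C = ⊤ := by rw [← hCN]; exact (sup_eq_left.mpr h1).symm
      rw [h2]; exact le_top
    obtain ⟨P, hP⟩ : ∃ P : Nat.Primes, (P : ℕ) = p := ⟨⟨p, hp⟩, rfl⟩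
    have hcardG : Nat.card G = Nat.card C * Nat.card N := by
      have := Cfsg.Agent.Lib.Helper1_Card.card_sup_mul_card_inf_of_normal C N
      rw [hCN, h, Subgroup.card_top, Subgroup.card_bot, mul_one] at this
      exact this
    obtain ⟨j, hj⟩ := hred P
    have hnd : ¬ (P : ℕ) ∣ Nat.card (K P) := not_dvd_card hK P
    have hKPC : K P ≤ C := by
      have h1 := card_mul_pow hK P
      have h2 : Nat.card (K P ⊓ C : Subgroup G) * (P : ℕ) ^ j = Nat.card C := by
        have h3 := Subgroup.card_mul_index ((K P).subgroupOf C)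
        have h4 : Nat.card ((K P).subgroupOf C) = Nat.card (K P ⊓ C : Subgroup G) := by
          rw [← Subgroup.inf_subgroupOf_right (K P) C]
          exact card_subgroupOf_of_le inf_le_right
        rw [h4] at h3
        rw [← hj]; exact h3
      have h5 : Nat.card (K P) ∣ Nat.card (K P ⊓ C : Subgroup G) * (P : ℕ) ^ (j + d) := by
        refine ⟨(P : ℕ) ^ (Nat.card G).factorization P, ?_⟩
        rw [h1, hcardG, ← h2, hNcard, hP, pow_add]; ring
      have hcop : (Nat.card (K P)).Coprime ((P : ℕ) ^ (j + d)) :=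
        ((Nat.Prime.coprime_iff_not_dvd P.2).mpr hnd).symm.pow_right (j + d)
      have h6 : Nat.card (K P) ∣ Nat.card (K P ⊓ C : Subgroup G) :=
        hcop.dvd_of_dvd_mul_right h5
      have h7 : Nat.card (K P ⊓ C : Subgroup G) ∣ Nat.card (K P) :=
        Subgroup.card_dvd_of_le inf_le_left
      have h8 : (K P ⊓ C : Subgroup G) = K P :=
        eq_of_le_of_card_eq inf_le_left (Nat.dvd_antisymm h7 h6)
      rw [← h8]; exact inf_le_right
    have hCnorm : C ≤ Subgroup.normalizer (K P : Set G) := by
      haveI hnor : ((K P).subgroupOf C).Normal := by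
        apply hall_normal_of_nilpotent hC.1
        rw [card_subgroupOf_of_le hKPC]
        show (Nat.card (K P)).Coprime ((K P).relIndex C)
        rw [hj]
        exact ((Nat.Prime.coprime_iff_not_dvd P.2).mpr hnd).symm.pow_right j
      intro c hc
      apply mem_normalizer_of_conj_mem
      · intro k hk
        have := hnor.conj_mem ⟨k, hKPC hk⟩ (Subgroup.mem_subgroupOf.mpr hk) ⟨c, hc⟩
        exact Subgroup.mem_subgroupOf.mp this
      · intro k hk
        have := hnor.conj_mem ⟨k, hKPC hk⟩ (Subgroup.mem_subgroupOf.mpr hk) ⟨c⁻¹, C.inv_mem hc⟩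
        have h2 := Subgroup.mem_subgroupOf.mp this
        simpa using h2
    obtain ⟨N₂, hN₂⟩ : ∃ N₂ : Subgroup G, N₂ = N ⊓ Subgroup.normalizer (K P : Set G) := ⟨_, rfl⟩
    have hN₂n : N₂.Normal := by
      rw [hN₂]
      apply normal_of_sup_eq_top hCN
      · intro c hc
        have key : ∀ c' ∈ C, ∀ x ∈ N ⊓ Subgroup.normalizer (K P : Set G),
            c' * x * c'⁻¹ ∈ N ⊓ Subgroup.normalizer (K P : Set G) := by
          intro c' hc' x hx
          obtain ⟨hx1, hx2⟩ := Subgroup.mem_inf.mp hx
          exact Subgroup.mem_inf.mpr ⟨hN.conj_mem _ hx1 c',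
            Subgroup.mul_mem _ (Subgroup.mul_mem _ (hCnorm hc') hx2)
              (Subgroup.inv_mem _ (hCnorm hc'))⟩
        apply mem_normalizer_of_conj_mem
        · exact key c hc
        · intro x hx
          have := key c⁻¹ (C.inv_mem hc) x hx
          simpa using this
      · intro m hm
        apply mem_normalizer_of_conj_mem
        · intro x hx
          have hx2 := (Subgroup.mem_inf.mp hx).1
          have : m * x * m⁻¹ = x := by rw [hNab m hm x hx2, mul_inv_cancel_right]
          rw [this]; exact hx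
        · intro x hx
          have hx2 := (Subgroup.mem_inf.mp hx).1
          have : m⁻¹ * x * m = x := by rw [mul_assoc, hNab x hx2 m hm, inv_mul_cancel_left]
          rw [this]; exact hx
    rcases hNmin _ hN₂n (hN₂ ▸ inf_le_left) with h' | h'
    · -- the normalizer of `K P` is `C`
      intro x hx
      have hxn : x ∈ Subgroup.normalizer (K P : Set G) := systemNormalizer_le K P hx
      have hxt : x ∈ ((C ⊔ N : Subgroup G) : Set G) := by rw [hCN]; trivial
      rw [Subgroup.mul_normal C N] at hxt
      obtain ⟨c, hc, m, hm, rfl⟩ := Set.mem_mul.mp hxt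
      have hmn : m ∈ Subgroup.normalizer (K P : Set G) := by
        have := Subgroup.mul_mem _ (Subgroup.inv_mem _ (hCnorm hc)) hxn
        rwa [inv_mul_cancel_left] at this
      have hm1 : m ∈ N₂ := by rw [hN₂]; exact Subgroup.mem_inf.mpr ⟨hm, hmn⟩
      rw [h', Subgroup.mem_bot] at hm1
      rw [hm1, mul_one]; exact hc
    · -- `K P` is normal: contradiction
      exfalso
      have hNle : N ≤ Subgroup.normalizer (K P : Set G) := by
        rw [← h', hN₂]; exact inf_le_right
      haveI hKPn : (K P).Normal := normal_of_sup_eq_top hCN hCnorm hNle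
      have hqcard : Nat.card (G ⧸ K P) = (P : ℕ) ^ (Nat.card G).factorization P := by
        rw [← Subgroup.index_eq_card]; exact hK P
      haveI : Fact (P : ℕ).Prime := ⟨P.2⟩
      have hqnil : Group.IsNilpotent (G ⧸ K P) := (IsPGroup.of_card hqcard).isNilpotent
      have hCq : IsCarter (C.map (QuotientGroup.mk' (K P))) := hC.map_mk hcj (K P)
      have h1 := hCq.eq_top hqnil
      have h2 := congrArg (Subgroup.comap (QuotientGroup.mk' (K P))) h1
      rw [Subgroup.comap_map_eq, QuotientGroup.ker_mk', Subgroup.comap_top,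
        sup_eq_left.mpr hKPC] at h2
      apply hNbot
      rw [← h, h2, top_inf_eq]
  · obtain ⟨M, hM⟩ : ∃ M : Subgroup G, M = C ⊔ N := ⟨_, rfl⟩
    rw [← hM] at hCN hDM
    have hCM : C ≤ M := hM ▸ le_sup_left
    have hNM : N ≤ M := hM ▸ le_sup_right
    have hcardM : Nat.card M < n := hn ▸ card_lt_of_ne_top hCN
    have hKM : IsComplementSystem (fun q => (K q).subgroupOf M) := by
      intro q
      show ((K q).subgroupOf M).index = _
      obtain ⟨j, hj⟩ := hred q
      have hpow : ∃ i, (K q).relIndex M = (q : ℕ) ^ i := by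
        obtain ⟨H, hH⟩ : ∃ H : Subgroup G, H = K q ⊓ M := ⟨_, rfl⟩
        have e0 : (K q).relIndex M = H.relIndex M := by rw [hH, Subgroup.inf_relIndex_right]
        have e1 := Subgroup.relIndex_mul_relIndex H (H ⊔ N) M le_sup_left
          (sup_le (hH ▸ inf_le_right) hNM)
        have e2 : H.relIndex (H ⊔ N) ∣ (q : ℕ) ^ (Nat.card G).factorization q := by
          rw [relIndex_sup_normal, ← hK q]
          have : H.relIndex N = (K q).relIndex N := by
            rw [hH, ← Subgroup.inf_relIndex_right (K q ⊓ M) N, inf_assoc, inf_of_le_right hNM,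
              Subgroup.inf_relIndex_right]
          rw [this]
          exact relIndex_dvd_index_of_normal_right (K q) N
        have e3 : (H ⊔ N).relIndex M ∣ (q : ℕ) ^ j := by
          have h1 : (K q ⊓ C) ⊔ N ≤ H ⊔ N :=
            sup_le_sup_right (hH ▸ inf_le_inf_left _ hCM) N
          have h2 := Subgroup.relIndex_dvd_of_le_left M h1
          have h3 := relIndex_map_dvd (QuotientGroup.mk' N) (K q ⊓ C) C
          rw [Subgroup.relIndex_map_map, QuotientGroup.ker_mk', Subgroup.inf_relIndex_right, hj,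
            ← hM] at h3
          exact h2.trans h3
        have e4 : (K q).relIndex M ∣ (q : ℕ) ^ ((Nat.card G).factorization q + j) := by
          rw [e0, ← e1, pow_add]; exact mul_dvd_mul e2 e3
        obtain ⟨i, -, hi⟩ := (Nat.dvd_prime_pow q.2).mp e4
        exact ⟨i, hi⟩
      obtain ⟨i, hi⟩ := hpow
      apply index_eq_of_pow q.2 (j := i)
      · exact hi
      · intro hdvd
        exact not_dvd_card hK q
          (hdvd.trans (Cfsg.Agent.Lib.Helper2_HallConverse.card_subgroupOf_dvd (K q) M))
    have hCM' : IsCarter (C.subgroupOf M) := hC.subgroupOf hCM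
    have hredM : Red (fun q => (K q).subgroupOf M) (C.subgroupOf M) := by
      intro q
      obtain ⟨j, hj⟩ := hred q
      refine ⟨j, ?_⟩
      show ((K q).subgroupOf M).relIndex (C.subgroupOf M) = _
      rw [Subgroup.relIndex_subgroupOf hCM, hj]
    have hIHM := ih _ hcardM M rfl _ _ hCM' hKM hredM
    intro x hx
    have hxM : x ∈ M := hDM hx
    have hmem : (⟨x, hxM⟩ : M) ∈ systemNormalizer (fun q => (K q).subgroupOf M) := by
      apply Subgroup.mem_iInf.mpr
      intro q
      have hxq : x ∈ Subgroup.normalizer (K q : Set G) := systemNormalizer_le K q hx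
      rw [Subgroup.mem_normalizer_iff] at hxq ⊢
      intro h
      rw [Subgroup.mem_subgroupOf, Subgroup.mem_subgroupOf]
      exact hxq h.1
    exact Subgroup.mem_subgroupOf.mp (hIHM hmem)

/-- there is a complement system reducing into a given subgroup -/
theorem exists_red [Finite G] [Group.IsSolvable G] (C : Subgroup G) :
    ∃ K : Nat.Primes → Subgroup G, IsComplementSystem K ∧ Red K C := by
  have h : ∀ q : Nat.Primes, ∃ H : Subgroup G,
      H.index = (q : ℕ) ^ (Nat.card G).factorization q ∧
        ∃ j : ℕ, H.relIndex C = (q : ℕ) ^ j := by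
    intro q
    obtain ⟨vC, hvC⟩ : ∃ v, v = (Nat.card C).factorization q := ⟨_, rfl⟩
    have hneC : Nat.card C ≠ 0 := Nat.card_pos.ne'
    have h1 : Nat.card C = (Nat.card C / (q : ℕ) ^ vC) * (q : ℕ) ^ vC := by
      rw [hvC, mul_comm]; exact (Nat.ordProj_mul_ordCompl_eq_self (Nat.card C) q).symm
    have h2 : (Nat.card C / (q : ℕ) ^ vC).Coprime ((q : ℕ) ^ vC) := by
      rw [hvC]; exact ((Nat.coprime_ordCompl q.2 hneC).symm).pow_right _
    have hposC : 0 < Nat.card C / (q : ℕ) ^ vC := by
      rcases Nat.eq_zero_or_pos (Nat.card C / (q : ℕ) ^ vC) with h | h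
      · rw [h, zero_mul] at h1; exact absurd h1 hneC
      · exact h
    obtain ⟨⟨A₀, hA₀⟩, -, -⟩ := Cfsg.Agent.Lib.Lead_Hall.hall C _ _ h1 h2
    obtain ⟨A, hA⟩ : ∃ A : Subgroup G, A = A₀.map C.subtype := ⟨_, rfl⟩
    have hAcard : Nat.card A = Nat.card C / (q : ℕ) ^ vC := by
      rw [hA, Subgroup.card_map_of_injective C.subtype_injective, hA₀]
    have hAC : A ≤ C := hA ▸ Subgroup.map_subtype_le _
    have hArel : A.relIndex C = (q : ℕ) ^ vC := by
      have e1 := Subgroup.relIndex_mul_index hAC
      have e2 : A.index = A₀.index * C.index := by rw [hA]; exact Subgroup.index_map_subtype A₀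
      have e3 : A₀.index = (q : ℕ) ^ vC := by
        have := Subgroup.card_mul_index A₀
        rw [hA₀] at this
        exact Nat.eq_of_mul_eq_mul_left hposC (this.trans h1)
      rw [e2, e3] at e1
      exact Nat.eq_of_mul_eq_mul_right (Nat.pos_of_ne_zero Subgroup.index_ne_zero_of_finite) e1
    obtain ⟨vG, hvG⟩ : ∃ v, v = (Nat.card G).factorization q := ⟨_, rfl⟩
    have hneG : Nat.card G ≠ 0 := Nat.card_pos.ne'
    have g1 : Nat.card G = (Nat.card G / (q : ℕ) ^ vG) * (q : ℕ) ^ vG := by
      rw [hvG, mul_comm]; exact (Nat.ordProj_mul_ordCompl_eq_self (Nat.card G) q).symm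
    have g2 : (Nat.card G / (q : ℕ) ^ vG).Coprime ((q : ℕ) ^ vG) := by
      rw [hvG]; exact ((Nat.coprime_ordCompl q.2 hneG).symm).pow_right _
    have hposG : 0 < Nat.card G / (q : ℕ) ^ vG := by
      rcases Nat.eq_zero_or_pos (Nat.card G / (q : ℕ) ^ vG) with h | h
      · rw [h, zero_mul] at g1; exact absurd g1 hneG
      · exact h
    obtain ⟨-, -, hdom⟩ := Cfsg.Agent.Lib.Lead_Hall.hall G _ _ g1 g2
    have hAcop : (Nat.card A).Coprime ((q : ℕ) ^ vG) := by
      rw [hAcard, hvC]
      exact ((Nat.coprime_ordCompl q.2 hneC).symm).pow_right _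
    obtain ⟨H, hHcard, hAH⟩ := hdom A hAcop
    refine ⟨H, ?_, ?_⟩
    · rw [← hvG]
      have h3 := Subgroup.card_mul_index H
      rw [hHcard] at h3
      exact Nat.eq_of_mul_eq_mul_left hposG (h3.trans g1)
    · have := Subgroup.relIndex_dvd_of_le_left C hAH
      rw [hArel] at this
      obtain ⟨i, -, hi⟩ := (Nat.dvd_prime_pow q.2).mp this
      exact ⟨i, hi⟩
  exact ⟨fun q => (h q).choose, fun q => (h q).choose_spec.1, fun q => (h q).choose_spec.2⟩

end Cfsg.Agent.Lib.Lead_CarterSN
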