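import Mathlib
import Cfsg.Prelude.Def_Characters

/-! Eigenvalue description of character values. -/

namespace Cfsg.Agent.Lib.Lead_Char

open Polynomial

variable {G : Type*} [Group G] {V : Type*} [AddCommGroup V] [Module ℂ V]
  [FiniteDimensional ℂ V]

/-- Eigenvalues of `ρ g` are roots of unity. -/
theorem pow_orderOf_eq_one_of_root (ρ : Representation ℂ G V) (g : G) (μ : ℂ)
    (hμ : μ ∈ (LinearMap.charpoly (ρ g)).roots) : μ ^ orderOf g = 1 := by
  have hroot : (LinearMap.charpoly (ρ g)).IsRoot μ := (Polynomial.mem_roots'.mp hμ).2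
  have hev : Module.End.HasEigenvalue (ρ g) μ :=
    (Module.End.hasEigenvalue_iff_isRoot_charpoly (ρ g) μ).mpr hroot
  obtain ⟨v, hv⟩ := hev.exists_hasEigenvector
  have h1 : ∀ n : ℕ, ((ρ g) ^ n) v = μ ^ n • v := by
    intro n
    induction n with
    | zero => simp
    | succ n ih =>
      rw [pow_succ, Module.End.mul_apply, hv.apply_eq_smul, map_smul, ih, smul_smul, pow_succ,
        mul_comm]
  have h2 : (ρ g) ^ orderOf g = 1 := by
    rw [← map_pow, pow_orderOf_eq_one, map_one]
  have h3 := h1 (orderOf g)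
  rw [h2, Module.End.one_apply] at h3
  have h4 : (μ ^ orderOf g - 1) • v = 0 := by
    rw [sub_smul, one_smul, ← h3, sub_self]
  rcases smul_eq_zero.mp h4 with h | h
  · exact sub_eq_zero.mp h
  · exact absurd h hv.2

theorem character_eq_sum_roots (ρ : Representation ℂ G V) (g : G) :
    ρ.character g = (LinearMap.charpoly (ρ g)).roots.sum :=
  Module.End.trace_eq_sum_roots_charpoly_of_splits (IsAlgClosed.splits _)

theorem card_roots_charpoly (ρ : Representation ℂ G V) (g : G) :
    Multiset.card (LinearMap.charpoly (ρ g)).roots = Module.finrank ℂ V := by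
  rw [← LinearMap.charpoly_natDegree (ρ g)]
  exact IsAlgClosed.card_roots_eq_natDegree

/-- If all eigenvalues of `ρ g` equal `1`, then `ρ g = 1` (finite order ⇒ semisimple). -/
theorem eq_one_of_roots_eq_one [Finite G] (ρ : Representation ℂ G V) (g : G)
    (h : ∀ μ ∈ (LinearMap.charpoly (ρ g)).roots, μ = 1) : ρ g = 1 := by
  set f := ρ g with hf
  have hn : 0 < orderOf g := orderOf_pos g
  have hfn : f ^ orderOf g = 1 := by rw [hf, ← map_pow, pow_orderOf_eq_one, map_one]
  -- charpoly = (X - 1)^d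
  have hcp : LinearMap.charpoly f = (X - C (1 : ℂ)) ^ Multiset.card (LinearMap.charpoly f).roots := by
    have h1 := (IsAlgClosed.splits (LinearMap.charpoly f)).eq_prod_roots_of_monic
      (LinearMap.charpoly_monic f)
    have h2 : (LinearMap.charpoly f).roots
        = Multiset.replicate (Multiset.card (LinearMap.charpoly f).roots) 1 :=
      Multiset.eq_replicate.mpr ⟨rfl, h⟩
    conv_lhs => rw [h1]
    rw [h2]
    simp
  have ha1 : aeval f ((X - C (1 : ℂ)) ^ Multiset.card (LinearMap.charpoly f).roots) = 0 := by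
    rw [← hcp]; exact LinearMap.aeval_self_charpoly f
  have ha2 : aeval f (X ^ orderOf g - C (1 : ℂ)) = 0 := by
    simp [hfn]
  have hd1 := minpoly.dvd ℂ f ha1
  have hd2 := minpoly.dvd ℂ f ha2
  have hsep : (X ^ orderOf g - C (1 : ℂ)).Separable :=
    Polynomial.separable_X_pow_sub_C 1 (by exact_mod_cast hn.ne') one_ne_zero
  have hsq : Squarefree (minpoly ℂ f) := hsep.squarefree.squarefree_of_dvd hd2
  have hd3 : minpoly ℂ f ∣ X - C (1 : ℂ) := hsq.isRadical _ _ hd1
  obtain ⟨q, hq⟩ := hd3
  have h3 : aeval f (X - C (1 : ℂ)) = 0 := by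
    rw [hq, map_mul, minpoly.aeval, zero_mul]
  simp at h3
  exact sub_eq_zero.mp h3

/-- A multiset of unit complex numbers summing to its cardinality consists of ones. -/
theorem all_eq_one_of_sum_eq_card (s : Multiset ℂ) (hnorm : ∀ μ ∈ s, ‖μ‖ = 1)
    (hsum : s.sum = (Multiset.card s : ℂ)) : ∀ μ ∈ s, μ = 1 := by
  have hre : (s.map Complex.re).sum = (Multiset.card s : ℝ) := by
    have := congrArg Complex.re hsum
    rw [Complex.natCast_re] at this
    rw [← this]
    exact (map_multiset_sum Complex.reAddGroupHom s).symm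
  have hzero : (s.map (fun μ => 1 - μ.re)).sum = 0 := by
    rw [Multiset.sum_map_sub, Multiset.map_const', Multiset.sum_replicate, hre]
    simp
  have hnn : ∀ x ∈ s.map (fun μ => 1 - μ.re), 0 ≤ x := by
    intro x hx
    obtain ⟨μ, hμ, rfl⟩ := Multiset.mem_map.mp hx
    have := Complex.re_le_norm μ
    rw [hnorm μ hμ] at this
    linarith
  intro μ hμ
  have h1 : 1 - μ.re ≤ 0 := by
    rw [← hzero]
    exact Multiset.single_le_sum hnn _ (Multiset.mem_map_of_mem _ hμ)
  have h2 : μ.re ≤ 1 := by
    have := Complex.re_le_norm μ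
    rwa [hnorm μ hμ] at this
  have hre1 : μ.re = 1 := le_antisymm h2 (by linarith)
  have h3 : ‖μ‖ ^ 2 = μ.re * μ.re + μ.im * μ.im := by
    rw [Complex.sq_norm, Complex.normSq_apply]
  rw [hnorm μ hμ, hre1] at h3
  have him : μ.im = 0 := by nlinarith
  exact Complex.ext (by simpa using hre1) (by simpa using him)

/-- An endomorphism of finite order all of whose eigenvalues equal `ω` is `ω • 1`. -/
theorem eq_smul_one_of_roots_eq (f : Module.End ℂ V) (n : ℕ) (hn : 0 < n) (hfn : f ^ n = 1)
    (ω : ℂ) (h : ∀ μ ∈ (LinearMap.charpoly f).roots, μ = ω) : f = ω • (1 : Module.End ℂ V) := by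
  have hcp : LinearMap.charpoly f = (X - C ω) ^ Multiset.card (LinearMap.charpoly f).roots := by
    have h1 := (IsAlgClosed.splits (LinearMap.charpoly f)).eq_prod_roots_of_monic
      (LinearMap.charpoly_monic f)
    have h2 : (LinearMap.charpoly f).roots
        = Multiset.replicate (Multiset.card (LinearMap.charpoly f).roots) ω :=
      Multiset.eq_replicate.mpr ⟨rfl, h⟩
    conv_lhs => rw [h1]
    rw [h2]
    simp
  have ha1 : aeval f ((X - C ω) ^ Multiset.card (LinearMap.charpoly f).roots) = 0 := by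
    rw [← hcp]; exact LinearMap.aeval_self_charpoly f
  have ha2 : aeval f (X ^ n - C (1 : ℂ)) = 0 := by
    simp [hfn]
  have hd1 := minpoly.dvd ℂ f ha1
  have hd2 := minpoly.dvd ℂ f ha2
  have hsep : (X ^ n - C (1 : ℂ)).Separable :=
    Polynomial.separable_X_pow_sub_C 1 (by exact_mod_cast hn.ne') one_ne_zero
  have hsq : Squarefree (minpoly ℂ f) := hsep.squarefree.squarefree_of_dvd hd2
  have hd3 : minpoly ℂ f ∣ X - C ω := hsq.isRadical _ _ hd1
  obtain ⟨q, hq⟩ := hd3
  have h3 : aeval f (X - C ω) = 0 := by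
    rw [hq, map_mul, minpoly.aeval, zero_mul]
  simp at h3
  rw [sub_eq_zero] at h3
  rw [h3]
  ext v
  simp [Algebra.algebraMap_eq_smul_one]

end Cfsg.Agent.Lib.Lead_Char
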