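import Mathlib

/-! Sizes of conjugacy classes. -/

set_option autoImplicit false

namespace Cfsg.Agent.Lib.Lead_Class

open Classical in
/-- size of a conjugacy class -/
theorem card_class_mul_card_centralizer {G : Type*} [Group G] [Finite G] (g : G) :
    Nat.card {x : G // IsConj g x} * Nat.card (Subgroup.centralizer ({g} : Set G)) = Nat.card G := by
  haveI := Fintype.ofFinite G
  have h1 : Nat.card {x : G // IsConj g x} = Nat.card (MulAction.orbit (ConjAct G) g) := by
    apply Nat.card_congr
    refine Equiv.subtypeEquivRight ?_
    intro x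
    rw [ConjAct.mem_orbit_conjAct]
    exact isConj_comm
  have h2 := MulAction.card_orbit_mul_card_stabilizer_eq_card_group (ConjAct G) g
  rw [← Nat.card_eq_fintype_card, ← Nat.card_eq_fintype_card, ← Nat.card_eq_fintype_card] at h2
  rw [h1]
  have h3 : Nat.card (MulAction.stabilizer (ConjAct G) g)
      = Nat.card (Subgroup.centralizer ({g} : Set G)) := by
    rw [ConjAct.stabilizer_eq_centralizer]
    rfl
  have h4 : Nat.card (ConjAct G) = Nat.card G := rfl
  rw [← h3, ← h4]
  exact h2

end Cfsg.Agent.Lib.Lead_Class
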