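import Mathlib
import Cfsg.Agent.Lib.Lead_CtrlFus3

/-!
# Control of strong fusion inherited from a normal subgroup: the subgroup `W`
-/

set_option autoImplicit false

namespace Cfsg.Agent.Lib.Lead_CtrlFus4

open Cfsg.Agent.Lib.Lead_RelSyl Cfsg.Agent.Lib.Lead_CtrlFus2 Cfsg.Agent.Lib.Lead_CtrlFus3

section
variable {G : Type*} [Group G] [Finite G]

theorem normalizer_le_W (Q V W : Subgroup G)
    (hW : W = Subgroup.closure (⋃ x ∈ Subgroup.normalizer (Q : Set G),
      ((V.map (MulAut.conj x).toMonoidHom : Subgroup G) : Set G))) :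
    Subgroup.normalizer (Q : Set G) ≤ Subgroup.normalizer (W : Set G) := by
  have key : ∀ x ∈ Subgroup.normalizer (Q : Set G),
      ∀ s ∈ (⋃ x ∈ Subgroup.normalizer (Q : Set G),
        ((V.map (MulAut.conj x).toMonoidHom : Subgroup G) : Set G)),
      x * s * x⁻¹ ∈ Subgroup.closure (⋃ x ∈ Subgroup.normalizer (Q : Set G),
        ((V.map (MulAut.conj x).toMonoidHom : Subgroup G) : Set G)) := by
    intro x hx s hs
    simp only [Set.mem_iUnion] at hs
    obtain ⟨y, hy, v, hv, rfl⟩ := hs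
    apply Subgroup.subset_closure
    simp only [Set.mem_iUnion]
    refine ⟨x * y, Subgroup.mul_mem _ hx hy, v, hv, ?_⟩
    simp only [MulEquiv.coe_toMonoidHom, MulAut.conj_apply]; group
  intro x hx
  rw [hW]
  apply mem_normalizer_closure
  · exact key x hx
  · intro s hs
    have := key x⁻¹ (Subgroup.inv_mem _ hx) s hs
    rwa [inv_inv] at this

theorem ctl_W (N Q V W : Subgroup G) [hN : N.Normal] (hVQ : V ≤ Q) (hV : Ctl N Q V)
    (hW : W = Subgroup.closure (⋃ x ∈ Subgroup.normalizer (Q : Set G),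
      ((V.map (MulAut.conj x).toMonoidHom : Subgroup G) : Set G))) :
    Ctl N Q W := by
  classical
  set F : ↥(Subgroup.normalizer (Q : Set G)) → Subgroup G :=
    fun x => V.map (MulAut.conj (x : G)).toMonoidHom with hF
  set 𝒮 : Finset (Subgroup G) := (Set.finite_range F).toFinset with h𝒮
  have hmem : ∀ V', V' ∈ 𝒮 ↔ ∃ x ∈ Subgroup.normalizer (Q : Set G),
      V' = V.map (MulAut.conj x).toMonoidHom := by
    intro V'
    rw [h𝒮, Set.Finite.mem_toFinset]
    constructor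
    · rintro ⟨x, rfl⟩
      exact ⟨x, x.2, rfl⟩
    · rintro ⟨x, hx, rfl⟩
      exact ⟨⟨x, hx⟩, rfl⟩
  have h𝒮prop : ∀ V' ∈ 𝒮, V' ≤ Q ∧ Ctl N Q V' := by
    intro V' hV'
    obtain ⟨x, hx, rfl⟩ := (hmem V').1 hV'
    refine ⟨?_, ctl_conj N Q V x hx hV⟩
    rintro _ ⟨v, hv, rfl⟩
    exact (Subgroup.mem_normalizer_iff.mp hx v).1 (hVQ hv)
  intro A hA n hn hAn
  obtain ⟨h, hh, hall, c, hc, e⟩ := ctl_finset N Q 𝒮 h𝒮prop A hA n hn hAn
  refine ⟨h, ⟨hh, ?_⟩, c, hc, e⟩
  have key : ∀ h : G, (∀ V' ∈ 𝒮, h ∈ Subgroup.normalizer (V' : Set G)) →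
      ∀ s ∈ (⋃ x ∈ Subgroup.normalizer (Q : Set G),
        ((V.map (MulAut.conj x).toMonoidHom : Subgroup G) : Set G)),
      h * s * h⁻¹ ∈ Subgroup.closure (⋃ x ∈ Subgroup.normalizer (Q : Set G),
        ((V.map (MulAut.conj x).toMonoidHom : Subgroup G) : Set G)) := by
    intro h hall s hs
    simp only [Set.mem_iUnion] at hs
    obtain ⟨y, hy, hs⟩ := hs
    apply Subgroup.subset_closure
    simp only [Set.mem_iUnion]
    refine ⟨y, hy, ?_⟩
    have hn := hall _ ((hmem _).2 ⟨y, hy, rfl⟩)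
    exact (Subgroup.mem_normalizer_iff.mp hn s).1 hs
  rw [hW]
  apply mem_normalizer_closure
  · exact key h hall
  · intro s hs
    have := key h⁻¹ (fun V' hV' => Subgroup.inv_mem _ (hall V' hV')) s hs
    rwa [inv_inv] at this

end

end Cfsg.Agent.Lib.Lead_CtrlFus4
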