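import Mathlib
import Cfsg.Agent.Lib.Lead_CtrlFus4

/-!
# Control of strong fusion inherited from a normal subgroup: the main covering argument
-/

set_option autoImplicit false

namespace Cfsg.Agent.Lib.Lead_CtrlFus5

open Cfsg.Agent.Lib.Lead_RelSyl Cfsg.Agent.Lib.Lead_CtrlFus2 Cfsg.Agent.Lib.Lead_CtrlFus3
  Cfsg.Agent.Lib.Lead_CtrlFus

section
variable {G : Type*} [Group G] [Finite G] {p : ℕ} [Fact p.Prime]

set_option maxHeartbeats 1600000 in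
/-- The normalizer of every tame subgroup `R` of `P` is covered by `C_G(R) N_G(W)`. -/
theorem tame_cover (N : Subgroup G) [hN : N.Normal] (P : Sylow p G) (W : Subgroup G)
    (hNQ : Subgroup.normalizer ((((P : Subgroup G) ⊓ N : Subgroup G)) : Set G) ≤
      Subgroup.normalizer (W : Set G))
    (hctl : Ctl N ((P : Subgroup G) ⊓ N) W) :
    ∀ m : ℕ, ∀ R : Subgroup G, R ≤ (P : Subgroup G) →
      Nat.card (P : Subgroup G) - Nat.card R = m →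
      ¬ p ∣ ((P : Subgroup G) ⊓ Subgroup.normalizer (R : Set G)).relIndex
        (Subgroup.normalizer (R : Set G)) →
      Subgroup.normalizer (R : Set G) ≤ cov R (Subgroup.normalizer (W : Set G)) := by
  intro m
  induction m using Nat.strong_induction_on with
  | _ m ih =>
  intro R hRP hm hT
  set H := Subgroup.normalizer (W : Set G) with hH
  set Q := (P : Subgroup G) ⊓ N with hQ
  set 𝔑 := Subgroup.normalizer (R : Set G) with h𝔑
  set T := (P : Subgroup G) ⊓ 𝔑 with hTdef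
  have hPp : IsPGroup p (P : Subgroup G) := P.isPGroup'
  have hPQ : (P : Subgroup G) ≤ Subgroup.normalizer (Q : Set G) := by
    intro g hg
    apply mem_normalizer_of_conj_mem
    intro u hu
    exact ⟨Subgroup.mul_mem _ (Subgroup.mul_mem _ hg hu.1) (Subgroup.inv_mem _ hg),
      hN.conj_mem u hu.2 g⟩
  have hPH : (P : Subgroup G) ≤ H := hPQ.trans hNQ
  have hRcard : ∀ R' : Subgroup G, R' ≤ (P : Subgroup G) →
      Nat.card R' ≤ Nat.card (P : Subgroup G) := fun R' h => Subgroup.card_le_of_le h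
  -- control for bigger subgroups
  have hbig : ∀ R' : Subgroup G, R ≤ R' → R' ≤ (P : Subgroup G) → Nat.card R < Nat.card R' →
      Subgroup.normalizer (R' : Set G) ⊓ 𝔑 ≤ cov R H := by
    intro R' hRR' hR'P hlt x hx
    obtain ⟨hxR', hx𝔑⟩ := hx
    have htame : ∀ R'' : Subgroup G, R'' ≤ (P : Subgroup G) → Nat.card R + 1 ≤ Nat.card R'' →
        ¬ p ∣ ((P : Subgroup G) ⊓ Subgroup.normalizer (R'' : Set G)).relIndex
          (Subgroup.normalizer (R'' : Set G)) →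
        ∀ x ∈ Subgroup.normalizer (R'' : Set G),
          ∃ c ∈ Subgroup.centralizer (R'' : Set G), ∃ h ∈ H, x = c * h := by
      intro R'' hR''P hcard htame'' x hx
      have h1 := hRcard R'' hR''P
      have h2 := hRcard R hRP
      have := ih (Nat.card (P : Subgroup G) - Nat.card R'') (by omega) R'' hR''P rfl htame'' hx
      exact this.2
    have hx' : ∀ a ∈ R', x⁻¹ * a * x ∈ (P : Subgroup G) := by
      intro a ha
      have h1 := (Subgroup.mem_normalizer_iff.mp (Subgroup.inv_mem _ hxR') a).1 ha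
      rw [inv_inv] at h1
      exact hR'P h1
    obtain ⟨h, hh, hconj⟩ := ctrl_ge P H (Nat.card R + 1) htame R' hR'P hlt x hx'
    refine ⟨hx𝔑, x * h⁻¹, ?_, h, hh, by group⟩
    rw [Subgroup.mem_centralizer_iff]
    intro a ha
    have h1 := hconj a (hRR' ha)
    calc a * (x * h⁻¹) = x * (x⁻¹ * a * x) * h⁻¹ := by group
      _ = x * (h⁻¹ * a * h) * h⁻¹ := by rw [h1]
      _ = x * h⁻¹ * a := by group
  have hTcov : T ≤ cov R H := fun t ht => ⟨ht.2, 1, one_mem _, t, hPH ht.1, by simp⟩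
  have hCcov : Subgroup.centralizer (R : Set G) ≤ cov R H :=
    fun c hc => ⟨Subgroup.centralizer_le_normalizer _ hc, c, hc, 1, one_mem _, by simp⟩
  have hRT : R ≤ T := fun r hr => ⟨hRP hr, Subgroup.le_normalizer hr⟩
  have hRcov : R ≤ cov R H := hRT.trans hTcov
  by_cases hQR : Q ≤ R
  · -- `Q ≤ R`: the normalizer of `R` normalizes `Q`
    intro x hx
    have hRN : R ⊓ N = Q := le_antisymm (inf_le_inf_right N hRP) (le_inf hQR inf_le_right)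
    have hxQ : x ∈ Subgroup.normalizer (Q : Set G) := by
      rw [← hRN]
      apply mem_normalizer_of_conj_mem
      intro u hu
      exact ⟨(Subgroup.mem_normalizer_iff.mp hx u).1 hu.1, hN.conj_mem u hu.2 x⟩
    exact ⟨hx, 1, one_mem _, x, hNQ hxQ, by simp⟩
  -- the main case
  set R₀ := R ⊓ N with hR₀
  set Ĉ := N ⊓ Subgroup.centralizer (R₀ : Set G) with hĈ
  set L := N ⊓ 𝔑 with hL
  set St := Ĉ ⊓ 𝔑 with hSt
  have hTp : IsPGroup p T := hPp.to_le inf_le_left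
  have hRp : IsPGroup p R := hPp.to_le hRP
  have hR₀p : IsPGroup p R₀ := hRp.to_le inf_le_left
  have hR₀Q : R₀ ≤ Q := inf_le_inf_right N hRP
  -- things normalized by `𝔑`
  have hkR₀ : ∀ k ∈ 𝔑, k ∈ Subgroup.normalizer (R₀ : Set G) := by
    intro k hk
    apply mem_normalizer_of_conj_mem
    intro u hu
    exact ⟨(Subgroup.mem_normalizer_iff.mp hk u).1 hu.1, hN.conj_mem u hu.2 k⟩
  have hnĈ : ∀ k ∈ Subgroup.normalizer (R₀ : Set G), ∀ y ∈ Ĉ, k * y * k⁻¹ ∈ Ĉ := by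
    intro k hk y hy
    exact ⟨hN.conj_mem y hy.1 k, conj_mem_centralizer R₀ k y hk hy.2⟩
  have hkĈ : ∀ k ∈ 𝔑, ∀ y ∈ Ĉ, k * y * k⁻¹ ∈ Ĉ := fun k hk => hnĈ k (hkR₀ k hk)
  have hk𝔑 : ∀ k ∈ 𝔑, ∀ y ∈ 𝔑, k * y * k⁻¹ ∈ 𝔑 := fun k hk y hy =>
    Subgroup.mul_mem _ (Subgroup.mul_mem _ hk hy) (Subgroup.inv_mem _ hk)
  have hkL : ∀ k ∈ 𝔑, ∀ y ∈ L, k * y * k⁻¹ ∈ L := fun k hk y hy =>
    ⟨hN.conj_mem y hy.1 k, hk𝔑 k hk y hy.2⟩
  have hkSt : ∀ k ∈ 𝔑, ∀ y ∈ St, k * y * k⁻¹ ∈ St := fun k hk y hy =>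
    ⟨hkĈ k hk y hy.1, hk𝔑 k hk y hy.2⟩
  have hR𝔑 : R ≤ 𝔑 := Subgroup.le_normalizer
  -- `St ≤ cov`
  have hStcov : St ≤ cov R H := by
    intro e he
    have hU := not_dvd_inf_relIndex 𝔑 T St hTp hT inf_le_right hkSt
    have hpow : ∀ e ∈ St, ∃ k : ℕ, e ^ (p ^ k) ∈ Subgroup.centralizer (R : Set G) := by
      intro e he
      apply pow_mem_centralizer R R₀ hR₀p e he.1.2
      intro r hr
      refine ⟨?_, ?_⟩
      · exact Subgroup.mul_mem _ ((Subgroup.mem_normalizer_iff.mp he.2 r).1 hr)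
          (Subgroup.inv_mem _ hr)
      · have h1 : r * e⁻¹ * r⁻¹ ∈ N := hN.conj_mem _ (Subgroup.inv_mem _ he.1.1) r
        have e1 : e * r * e⁻¹ * r⁻¹ = e * (r * e⁻¹ * r⁻¹) := by group
        rw [e1]
        exact Subgroup.mul_mem _ he.1.1 h1
    obtain ⟨u, hu, c, hc, rfl⟩ := sylow_mul_cover St (T ⊓ St) (Subgroup.centralizer (R : Set G)) hU
      (fun e he c hc => conj_mem_centralizer R e c he.2 hc) hpow e he
    exact Subgroup.mul_mem _ (hTcov hu.1) (hCcov hc)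
  -- the subgroup `Y = St R`
  set Y := St ⊔ R with hY
  have hY𝔑 : Y ≤ 𝔑 := sup_le inf_le_right hR𝔑
  have hYcov : Y ≤ cov R H := sup_le hStcov hRcov
  have hkY : ∀ k ∈ 𝔑, ∀ y ∈ Y, k * y * k⁻¹ ∈ Y := by
    intro k hk y hy
    have hkn : k ∈ Subgroup.normalizer ((St ⊔ R : Subgroup G) : Set G) := by
      apply normalizer_sup
      · exact mem_normalizer_of_conj_mem _ _ (hkSt k hk)
      · exact hk
    exact (Subgroup.mem_normalizer_iff.mp hkn y).1 hy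
  have hRY : R ≤ Y := le_sup_right
  have hRTY : R ≤ T ⊓ Y := le_inf hRT hRY
  by_cases hRplus : T ⊓ Y = R
  swap
  · -- `T ∩ Y` is larger than `R`
    have hlt : Nat.card R < Nat.card ↥(T ⊓ Y) :=
      Cfsg.Agent.Lib.Lead_SZ.card_lt (lt_of_le_of_ne hRTY (Ne.symm hRplus))
    intro x hx
    obtain ⟨y, hy, hyx⟩ := frattini_rel 𝔑 T Y hTp hT hY𝔑 hkY x hx
    have h1 : y * x ∈ cov R H :=
      hbig (T ⊓ Y) hRTY (inf_le_left.trans inf_le_left) hlt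
        ⟨hyx, Subgroup.mul_mem _ (hY𝔑 hy) hx⟩
    have e : x = y⁻¹ * (y * x) := by group
    rw [e]
    exact Subgroup.mul_mem _ (Subgroup.inv_mem _ (hYcov hy)) h1
  -- `R` is a relative Sylow subgroup of `Y`
  have hRsylY : ¬ p ∣ R.relIndex Y := by
    have := not_dvd_inf_relIndex 𝔑 T Y hTp hT hY𝔑 hkY
    rwa [hRplus] at this
  -- `T ∩ L` is not contained in `R`
  have hT'R : ¬ T ⊓ L ≤ R := by
    intro hle
    have hUP : Q ⊔ R ≤ (P : Subgroup G) := sup_le inf_le_left hRP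
    have hlt : R < Q ⊔ R := by
      refine lt_of_le_of_ne le_sup_right ?_
      intro heq
      apply hQR
      rw [heq]
      exact le_sup_left
    obtain ⟨x, hxU, hxn, hxR⟩ := exists_normalizer_not_mem (Q ⊔ R) R (hPp.to_le hUP) hlt
    obtain ⟨q, hq, r, hr, rfl⟩ := mem_sup_of_normalizes Q R
      (fun b hb a ha => (Subgroup.mem_normalizer_iff.mp (hPQ (hRP hb)) a).1 ha) x hxU
    have hq𝔑 : q ∈ 𝔑 := by
      have e : q = q * r * r⁻¹ := by group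
      rw [e]
      exact Subgroup.mul_mem _ hxn (Subgroup.inv_mem _ (hR𝔑 hr))
    have hqR : q ∈ R := hle ⟨⟨hq.1, hq𝔑⟩, ⟨hq.2, hq𝔑⟩⟩
    exact hxR (Subgroup.mul_mem _ hqR hr)
  -- reduction to `L`
  have hLred : L ≤ cov R H → 𝔑 ≤ cov R H := by
    intro hLcov x hx
    obtain ⟨ℓ, hℓ, hℓx⟩ := frattini_rel 𝔑 T L hTp hT inf_le_right hkL x hx
    have hℓx𝔑 : ℓ * x ∈ 𝔑 := Subgroup.mul_mem _ hℓ.2 hx
    have hR₂ : R ≤ R ⊔ (T ⊓ L) := le_sup_left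
    have hR₂P : R ⊔ (T ⊓ L) ≤ (P : Subgroup G) := sup_le hRP (inf_le_left.trans inf_le_left)
    have hlt : Nat.card R < Nat.card ↥(R ⊔ (T ⊓ L)) := by
      apply Cfsg.Agent.Lib.Lead_SZ.card_lt
      refine lt_of_le_of_ne hR₂ ?_
      intro heq
      apply hT'R
      rw [heq]
      exact le_sup_right
    have h1 : ℓ * x ∈ cov R H :=
      hbig _ hR₂ hR₂P hlt ⟨normalizer_sup R (T ⊓ L) _ hℓx𝔑 hℓx, hℓx𝔑⟩
    have e : x = ℓ⁻¹ * (ℓ * x) := by group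
    rw [e]
    exact Subgroup.mul_mem _ (Subgroup.inv_mem _ (hLcov hℓ)) h1
  apply hLred
  -- `R` is a relative Sylow subgroup of `M = Ĉ R`
  have hRnĈ : ∀ b ∈ R, ∀ a ∈ Ĉ, b * a * b⁻¹ ∈ Ĉ := fun b hb => hkĈ b (hR𝔑 hb)
  set M := Ĉ ⊔ R with hM
  have hRM : R ≤ M := le_sup_right
  have hRsylM : ¬ p ∣ R.relIndex M := by
    intro hdvd
    obtain ⟨U, hUM, hUp, hRU⟩ := exists_pgroup_gt M R hRM hRp hdvd
    obtain ⟨x, hxU, hxn, hxR⟩ := exists_normalizer_not_mem U R hUp hRU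
    obtain ⟨c, hc, r, hr, rfl⟩ := mem_sup_of_normalizes Ĉ R hRnĈ x (hUM hxU)
    have hc𝔑 : c ∈ 𝔑 := by
      have e : c = c * r * r⁻¹ := by group
      rw [e]
      exact Subgroup.mul_mem _ hxn (Subgroup.inv_mem _ (hR𝔑 hr))
    have hxY : c * r ∈ Y := Subgroup.mul_mem _ (Subgroup.mem_sup_left ⟨hc, hc𝔑⟩)
      (Subgroup.mem_sup_right hr)
    set B := R ⊔ Subgroup.zpowers (c * r) with hB
    have hBU : B ≤ U := sup_le hRU.le (by rw [Subgroup.zpowers_le]; exact hxU)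
    have hBY : B ≤ Y := sup_le hRY (by rw [Subgroup.zpowers_le]; exact hxY)
    have hBR := rel_max Y R B hRp hRsylY hBY (hUp.to_le hBU) le_sup_left
    apply hxR
    rw [← hBR]
    exact Subgroup.mem_sup_right (Subgroup.mem_zpowers _)
  -- the subgroup `M_H`
  have hRnĈH : ∀ b ∈ R, ∀ a ∈ Ĉ ⊓ H, b * a * b⁻¹ ∈ Ĉ ⊓ H := fun b hb a ha =>
    ⟨hRnĈ b hb a ha.1, Subgroup.mul_mem _ (Subgroup.mul_mem _ (hPH (hRP hb)) ha.2)
      (Subgroup.inv_mem _ (hPH (hRP hb)))⟩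
  set MH := (Ĉ ⊓ H) ⊔ R with hMH
  have hRMH : R ≤ MH := le_sup_right
  have hMHM : MH ≤ M := sup_le (inf_le_left.trans le_sup_left) le_sup_right
  have hMHH : MH ≤ H := sup_le inf_le_right (hRP.trans hPH)
  have hRsylMH : ¬ p ∣ R.relIndex MH := by
    intro hdvd
    apply hRsylM
    rw [← Subgroup.relIndex_mul_relIndex R MH M hRMH hMHM]
    exact dvd_mul_of_dvd_left hdvd _
  have hMinfH : M ⊓ H ≤ MH := by
    intro x hx
    obtain ⟨c, hc, r, hr, rfl⟩ := mem_sup_of_normalizes Ĉ R hRnĈ x hx.1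
    have hrH : r ∈ H := hPH (hRP hr)
    have hcH : c ∈ H := by
      have e : c = c * r * r⁻¹ := by group
      rw [e]
      exact Subgroup.mul_mem _ hx.2 (Subgroup.inv_mem _ hrH)
    exact Subgroup.mul_mem _ (Subgroup.mem_sup_left ⟨hc, hcH⟩) (Subgroup.mem_sup_right hr)
  -- the elements of `L`
  intro ℓ hℓ
  have hℓR₀ : R₀.map (MulAut.conj ℓ).toMonoidHom ≤ Q := by
    rintro _ ⟨u, hu, rfl⟩
    exact hR₀Q ((Subgroup.mem_normalizer_iff.mp (hkR₀ ℓ hℓ.2) u).1 hu)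
  obtain ⟨h, hh, c, hc, e⟩ := hctl R₀ hR₀Q ℓ hℓ.1 hℓR₀
  have hcĈ : c ∈ Ĉ := hc
  have hhR₀ : h ∈ Subgroup.normalizer (R₀ : Set G) := by
    have e1 : h = ℓ * c⁻¹ := by rw [e]; group
    rw [e1]
    exact Subgroup.mul_mem _ (hkR₀ ℓ hℓ.2)
      (Subgroup.inv_mem _ (Subgroup.centralizer_le_normalizer _ hc.2))
  have hhĈ : ∀ y ∈ Ĉ, h * y * h⁻¹ ∈ Ĉ := hnĈ h hhR₀
  have hhĈ' : ∀ y ∈ Ĉ, h⁻¹ * y * h ∈ Ĉ := by
    intro y hy
    have := hnĈ h⁻¹ (Subgroup.inv_mem _ hhR₀) y hy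
    rwa [inv_inv] at this
  have hhM : h ∈ Subgroup.normalizer (M : Set G) := by
    have e1 : h = ℓ * c⁻¹ := by rw [e]; group
    rw [e1]
    refine Subgroup.mul_mem _ ?_ (Subgroup.inv_mem _ (Subgroup.le_normalizer
      (Subgroup.mem_sup_left hcĈ)))
    apply normalizer_sup
    · exact mem_normalizer_of_conj_mem _ _ (hkĈ ℓ hℓ.2)
    · exact hℓ.2
  set B := R.map (MulAut.conj h).toMonoidHom with hB
  have hBMH : B ≤ MH := by
    rintro _ ⟨r, hr, rfl⟩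
    apply hMinfH
    refine ⟨(Subgroup.mem_normalizer_iff.mp hhM r).1 (hRM hr), ?_⟩
    exact Subgroup.mul_mem _ (Subgroup.mul_mem _ hh.2 (hPH (hRP hr))) (Subgroup.inv_mem _ hh.2)
  obtain ⟨m', hm', hconj⟩ := exists_conj_le MH R B hRp hRsylMH hBMH (hRp.map _)
  obtain ⟨c₁, hc₁, r₁, hr₁, rfl⟩ := mem_sup_of_normalizes (Ĉ ⊓ H) R hRnĈH m' hm'
  set h₁ := c₁ * r₁ * h with hh₁
  have hh₁𝔑 : h₁ ∈ 𝔑 := by
    apply mem_normalizer_of_conj_mem
    intro r hr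
    have h1 : h * r * h⁻¹ ∈ B := ⟨r, hr, rfl⟩
    have h2 := hconj _ h1
    have e2 : h₁ * r * h₁⁻¹ = c₁ * r₁ * (h * r * h⁻¹) * (c₁ * r₁)⁻¹ := by rw [hh₁]; group
    rw [e2]; exact h2
  have hh₁H : h₁ ∈ H := Subgroup.mul_mem _ (hMHH hm') hh.2
  have hh₁cov : h₁ ∈ cov R H := ⟨hh₁𝔑, 1, one_mem _, h₁, hh₁H, by simp⟩
  -- the element `c₃`
  set c₃ := h₁⁻¹ * (r₁ * ℓ) with hc₃
  have hc₃𝔑 : c₃ ∈ 𝔑 := Subgroup.mul_mem _ (Subgroup.inv_mem _ hh₁𝔑)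
    (Subgroup.mul_mem _ (hR𝔑 hr₁) hℓ.2)
  have hc₃Ĉ : c₃ ∈ Ĉ := by
    have e3 : c₃ = (h⁻¹ * (r₁⁻¹ * c₁⁻¹ * r₁⁻¹⁻¹) * h) * c := by
      rw [hc₃, hh₁, e]; group
    rw [e3]
    refine Subgroup.mul_mem _ (hhĈ' _ ?_) hcĈ
    exact hRnĈ r₁⁻¹ (Subgroup.inv_mem _ hr₁) _ (Subgroup.inv_mem _ hc₁.1)
  have hc₃cov : c₃ ∈ cov R H := hStcov ⟨hc₃Ĉ, hc₃𝔑⟩
  have e4 : ℓ = r₁⁻¹ * (h₁ * c₃) := by rw [hc₃]; group
  rw [e4]
  exact Subgroup.mul_mem _ (Subgroup.inv_mem _ (hRcov hr₁)) (Subgroup.mul_mem _ hh₁cov hc₃cov)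

end

end Cfsg.Agent.Lib.Lead_CtrlFus5
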