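import Mathlib

/-!
# A ring identity for pairs of quadratic unipotent elements

If `a² = b² = 0` then `(1+a)(1+b)` has "central trace": we only use one instance of this, which
suffices to show that an odd-order central commutator of the two elements `x⁻¹y`, `yx⁻¹` is trivial.
-/

namespace Cfsg.Agent.Lib.Lead_OddQuad

section ring
variable {E : Type*} [Ring E]

theorem step0 (a b : E) (haa : a * a = 0) (hbb : b * b = 0) :
    (1 - a) * (1 + b) * ((1 + b) * (1 - a)) + (1 + a) * (1 - b) * ((1 - b) * (1 + a)) =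
    (1 + b) * (1 - a) * ((1 - a) * (1 + b)) + (1 - b) * (1 + a) * ((1 + a) * (1 - b)) := by
  have haa' : ∀ z, a * (a * z) = 0 := fun z => by rw [← mul_assoc, haa, zero_mul]
  have hbb' : ∀ z, b * (b * z) = 0 := fun z => by rw [← mul_assoc, hbb, zero_mul]
  simp only [mul_add, add_mul, mul_sub, sub_mul, mul_one, one_mul, mul_assoc, haa, hbb, haa', hbb',
    mul_zero, zero_mul, sub_zero, add_zero, zero_add]
  abel

theorem comm_inv_of_comm {Z Zi w : E} (hZZi : Z * Zi = 1) (hZiZ : Zi * Z = 1)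
    (h : Z * w = w * Z) : Zi * w = w * Zi := by
  calc Zi * w = Zi * w * (Z * Zi) := by rw [hZZi, mul_one]
    _ = Zi * (w * Z) * Zi := by noncomm_ring
    _ = Zi * (Z * w) * Zi := by rw [h]
    _ = (Zi * Z) * w * Zi := by noncomm_ring
    _ = w * Zi := by rw [hZiZ, one_mul]

theorem ring_key (p : ℕ) [Fact p.Prime] (hchar : (p : E) = 0)
    (a b Z Zi : E) (haa : a * a = 0) (hbb : b * b = 0)
    (hZa : Z * a = a * Z) (hZb : Z * b = b * Z) (hZZi : Z * Zi = 1) (hZiZ : Zi * Z = 1)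
    (m : ℕ) (hm : Odd m) (hmp : m.Coprime p) (hZm : Z ^ m = 1)
    (hrel : ((1 - a) * (1 + b)) * ((1 + b) * (1 - a)) =
      Z * (((1 + b) * (1 - a)) * ((1 - a) * (1 + b)))) : Z = 1 := by
  rcases subsingleton_or_nontrivial E with hsub | hnt
  · exact Subsingleton.elim _ _
  have hpp : p.Prime := Fact.out
  haveI hCh : CharP E p := (CharP.charP_iff_prime_eq_zero hpp).2 hchar
  have ha1 : (1 - a) * (1 + a) = 1 := by
    have : (1 - a) * (1 + a) = 1 - a * a := by noncomm_ring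
    rw [this, haa, sub_zero]
  have ha2 : (1 + a) * (1 - a) = 1 := by
    have : (1 + a) * (1 - a) = 1 - a * a := by noncomm_ring
    rw [this, haa, sub_zero]
  have hb1 : (1 - b) * (1 + b) = 1 := by
    have : (1 - b) * (1 + b) = 1 - b * b := by noncomm_ring
    rw [this, hbb, sub_zero]
  have hb2 : (1 + b) * (1 - b) = 1 := by
    have : (1 + b) * (1 - b) = 1 - b * b := by noncomm_ring
    rw [this, hbb, sub_zero]
  have h0 := step0 a b haa hbb
  obtain ⟨q1, hq1⟩ : ∃ q, q = (1 - a) * (1 + b) := ⟨_, rfl⟩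
  obtain ⟨q1i, hq1i⟩ : ∃ q, q = (1 - b) * (1 + a) := ⟨_, rfl⟩
  obtain ⟨q2, hq2⟩ : ∃ q, q = (1 + b) * (1 - a) := ⟨_, rfl⟩
  obtain ⟨q2i, hq2i⟩ : ∃ q, q = (1 + a) * (1 - b) := ⟨_, rfl⟩
  rw [← hq1, ← hq2] at hrel
  rw [← hq1, ← hq2, ← hq1i, ← hq2i] at h0
  have h11 : q1 * q1i = 1 := by
    rw [hq1, hq1i, mul_assoc, ← mul_assoc (1 + b), hb2, one_mul, ha1]
  have h11' : q1i * q1 = 1 := by
    rw [hq1, hq1i, mul_assoc, ← mul_assoc (1 + a), ha2, one_mul, hb1]
  have h22 : q2 * q2i = 1 := by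
    rw [hq2, hq2i, mul_assoc, ← mul_assoc (1 - a), ha1, one_mul, hb2]
  have h22' : q2i * q2 = 1 := by
    rw [hq2, hq2i, mul_assoc, ← mul_assoc (1 - b), hb1, one_mul, ha2]
  -- commutation
  have cZ1a : Z * (1 - a) = (1 - a) * Z := by rw [mul_sub, sub_mul, hZa, mul_one, one_mul]
  have cZ1b : Z * (1 + b) = (1 + b) * Z := by rw [mul_add, add_mul, hZb, mul_one, one_mul]
  have cZq1 : Z * q1 = q1 * Z := by
    rw [hq1, ← mul_assoc, cZ1a, mul_assoc, cZ1b, mul_assoc]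
  have cZq2 : Z * q2 = q2 * Z := by
    rw [hq2, ← mul_assoc, cZ1b, mul_assoc, cZ1a, mul_assoc]
  have cZiq1 : Zi * q1 = q1 * Zi := comm_inv_of_comm hZZi hZiZ cZq1
  obtain ⟨w, hw⟩ : ∃ w, w = q2 * q1 := ⟨_, rfl⟩
  obtain ⟨wi, hwi⟩ : ∃ w, w = q1i * q2i := ⟨_, rfl⟩
  obtain ⟨u, hu⟩ : ∃ u, u = q1 * q2 := ⟨_, rfl⟩
  obtain ⟨ui, hui⟩ : ∃ u, u = q2i * q1i := ⟨_, rfl⟩
  rw [← hw, ← hu] at hrel
  rw [← hu, ← hui, ← hw, ← hwi] at h0
  have hwwi : w * wi = 1 := by
    rw [hw, hwi, mul_assoc, ← mul_assoc q1, h11, one_mul, h22]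
  have hwiw : wi * w = 1 := by
    rw [hw, hwi, mul_assoc, ← mul_assoc q2i, h22', one_mul, h11']
  have huiu : ui * u = 1 := by
    rw [hu, hui, mul_assoc, ← mul_assoc q1i, h11', one_mul, h22']
  have cZw : Z * w = w * Z := by
    rw [hw, ← mul_assoc, cZq2, mul_assoc, cZq1, mul_assoc]
  have cZiw : Zi * w = w * Zi := comm_inv_of_comm hZZi hZiZ cZw
  -- `ui = wi * Zi`
  have hui' : ui = wi * Zi := by
    have h1 : u * (wi * Zi) = 1 := by
      rw [hrel]
      calc Z * w * (wi * Zi) = Z * (w * wi) * Zi := by noncomm_ring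
        _ = 1 := by rw [hwwi, mul_one, hZZi]
    calc ui = ui * (u * (wi * Zi)) := by rw [h1, mul_one]
      _ = (ui * u) * (wi * Zi) := by rw [mul_assoc]
      _ = wi * Zi := by rw [huiu, one_mul]
  -- (A)
  have hA : Z * w + wi * Zi = w + wi := by rw [← hrel, ← hui', h0]
  -- (B)
  have hB : Z * (w * w) + Zi = w * w + 1 := by
    have h1 : (Z * w + wi * Zi) * w = (w + wi) * w := by rw [hA]
    have h2 : (Z * w + wi * Zi) * w = Z * (w * w) + Zi := by
      calc (Z * w + wi * Zi) * w = Z * (w * w) + wi * (Zi * w) := by noncomm_ring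
        _ = Z * (w * w) + wi * (w * Zi) := by rw [cZiw]
        _ = Z * (w * w) + (wi * w) * Zi := by noncomm_ring
        _ = Z * (w * w) + Zi := by rw [hwiw, one_mul]
    have h3 : (w + wi) * w = w * w + 1 := by
      rw [add_mul, hwiw]
    rw [← h2, h1, h3]
  -- (E1)
  have hE1 : (Z - 1) * (w * w) = (Z - 1) * Zi := by
    have h1 : (Z - 1) * (w * w) = Z * (w * w) - w * w := by noncomm_ring
    have h2 : (Z - 1) * Zi = 1 - Zi := by rw [sub_mul, hZZi, one_mul]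
    rw [h1, h2]
    have h3 : Z * (w * w) = w * w + 1 - Zi := by rw [← hB]; abel
    rw [h3]; abel
  -- conjugation by q1
  have hconj : q1 * w * q1i = u := by
    rw [hw, hu]
    calc q1 * (q2 * q1) * q1i = q1 * q2 * (q1 * q1i) := by noncomm_ring
      _ = q1 * q2 := by rw [h11, mul_one]
  have huu : u * u = q1 * (w * w) * q1i := by
    rw [← hconj]
    calc q1 * w * q1i * (q1 * w * q1i) = q1 * w * (q1i * q1) * w * q1i := by noncomm_ring
      _ = q1 * (w * w) * q1i := by rw [h11', mul_one]; noncomm_ring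
  have cZ1q1 : (Z - 1) * q1 = q1 * (Z - 1) := by rw [sub_mul, mul_sub, cZq1, one_mul, mul_one]
  have hE1' : (Z - 1) * (u * u) = (Z - 1) * Zi := by
    rw [huu]
    calc (Z - 1) * (q1 * (w * w) * q1i) = ((Z - 1) * q1) * (w * w) * q1i := by noncomm_ring
      _ = q1 * ((Z - 1) * (w * w)) * q1i := by rw [cZ1q1]; noncomm_ring
      _ = q1 * ((Z - 1) * Zi) * q1i := by rw [hE1]
      _ = ((Z - 1) * q1) * Zi * q1i := by rw [cZ1q1]; noncomm_ring
      _ = (Z - 1) * (q1 * Zi) * q1i := by noncomm_ring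
      _ = (Z - 1) * (Zi * q1) * q1i := by rw [cZiq1]
      _ = (Z - 1) * Zi * (q1 * q1i) := by noncomm_ring
      _ = (Z - 1) * Zi := by rw [h11, mul_one]
  have huu2 : u * u = Z * Z * (w * w) := by
    rw [hrel]
    calc Z * w * (Z * w) = Z * (w * Z) * w := by noncomm_ring
      _ = Z * (Z * w) * w := by rw [cZw]
      _ = Z * Z * (w * w) := by noncomm_ring
  -- (E2)
  have hE2 : (Z - 1) * (Z * Z - 1) = 0 := by
    have h1 : ((Z - 1) * (Z * Z - 1)) * (w * w) = 0 := by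
      have : ((Z - 1) * (Z * Z - 1)) * (w * w) = (Z - 1) * (Z * Z * (w * w)) - (Z - 1) * (w * w) := by
        noncomm_ring
      rw [this, ← huu2, hE1', hE1, sub_self]
    have h2 : (w * w) * (wi * wi) = 1 := by
      calc (w * w) * (wi * wi) = w * (w * wi) * wi := by noncomm_ring
        _ = 1 := by rw [hwwi, mul_one, hwwi]
    calc (Z - 1) * (Z * Z - 1) = ((Z - 1) * (Z * Z - 1)) * ((w * w) * (wi * wi)) := by
          rw [h2, mul_one]
      _ = (((Z - 1) * (Z * Z - 1)) * (w * w)) * (wi * wi) := by noncomm_ring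
      _ = 0 := by rw [h1, zero_mul]
  -- `(Z - 1)² = 0`
  obtain ⟨j, hj⟩ := hm
  have hZpow : (Z * Z) ^ (j + 1) = Z := by
    rw [← pow_two, ← pow_mul]
    have : 2 * (j + 1) = m + 1 := by omega
    rw [this, pow_succ, hZm, one_mul]
  have hgeo : (Z * Z - 1) * ∑ i ∈ Finset.range (j + 1), (Z * Z) ^ i = Z - 1 := by
    rw [mul_geom_sum, hZpow]
  have hnn : (Z - 1) * (Z - 1) = 0 := by
    calc (Z - 1) * (Z - 1) = (Z - 1) * ((Z * Z - 1) * ∑ i ∈ Finset.range (j + 1), (Z * Z) ^ i) := by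
          rw [hgeo]
      _ = ((Z - 1) * (Z * Z - 1)) * ∑ i ∈ Finset.range (j + 1), (Z * Z) ^ i := by rw [mul_assoc]
      _ = 0 := by rw [hE2, zero_mul]
  -- `Z ^ p = 1`
  have hZp : Z ^ p = 1 := by
    have e : Z = 1 + (Z - 1) := by abel
    have hc : Commute (1 : E) (Z - 1) := Commute.one_left _
    rw [e, add_pow_char_of_commute p hc, one_pow]
    have : (Z - 1) ^ p = 0 := by
      apply pow_eq_zero_of_le hpp.two_le
      rw [pow_two, hnn]
    rw [this, add_zero]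
  have hg : Z ^ (m.gcd p) = 1 := pow_gcd_eq_one.2 ⟨hZm, hZp⟩
  rw [Nat.Coprime.gcd_eq_one hmp, pow_one] at hg
  exact hg

end ring

/-- Group-homomorphism form of the ring identity. -/
theorem rl {E : Type*} [Ring E] {Γ : Type*} [Group Γ] (ρ : Γ →* E) (p : ℕ) [Fact p.Prime]
    (hchar : (p : E) = 0) (x y ζ : Γ)
    (hquad : (ρ x - 1) * (ρ x - 1) = 0) (hquady : (ρ y - 1) * (ρ y - 1) = 0)
    (hζx : ζ * x = x * ζ) (hζy : ζ * y = y * ζ)
    (hrel : (x⁻¹ * y) * (y * x⁻¹) = ζ * ((y * x⁻¹) * (x⁻¹ * y)))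
    (m : ℕ) (hm : Odd m) (hmp : m.Coprime p) (hζm : ζ ^ m = 1) : ρ ζ = 1 := by
  have hinv : ∀ g : Γ, (ρ g - 1) * (ρ g - 1) = 0 → ρ g⁻¹ = 1 - (ρ g - 1) := by
    intro g hg
    have h1 : ρ g * ρ g⁻¹ = 1 := by rw [← map_mul, mul_inv_cancel, map_one]
    have h2 : (1 - (ρ g - 1)) * ρ g = 1 := by
      have : (1 - (ρ g - 1)) * ρ g = 1 - (ρ g - 1) * (ρ g - 1) := by noncomm_ring
      rw [this, hg, sub_zero]
    calc ρ g⁻¹ = ((1 - (ρ g - 1)) * ρ g) * ρ g⁻¹ := by rw [h2, one_mul]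
      _ = (1 - (ρ g - 1)) * (ρ g * ρ g⁻¹) := by rw [mul_assoc]
      _ = 1 - (ρ g - 1) := by rw [h1, mul_one]
  have hx1 : ρ x = 1 + (ρ x - 1) := by abel
  have hy1 : ρ y = 1 + (ρ y - 1) := by abel
  have hxi := hinv x hquad
  refine ring_key p hchar (ρ x - 1) (ρ y - 1) (ρ ζ) (ρ ζ⁻¹) hquad hquady ?_ ?_ ?_ ?_ m hm hmp ?_ ?_
  · rw [mul_sub, sub_mul, mul_one, one_mul, ← map_mul, ← map_mul, hζx]
  · rw [mul_sub, sub_mul, mul_one, one_mul, ← map_mul, ← map_mul, hζy]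
  · rw [← map_mul, mul_inv_cancel, map_one]
  · rw [← map_mul, inv_mul_cancel, map_one]
  · rw [← map_pow, hζm, map_one]
  · rw [← hxi, ← hy1]
    have := congrArg ρ hrel
    simpa only [map_mul] using this

end Cfsg.Agent.Lib.Lead_OddQuad
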