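import Mathlib
import Cfsg.Agent.Lib.Lead_OddQuad
import Cfsg.Agent.Lib.Lead_QuadRing
import Cfsg.Agent.Lib.Lead_PStab2

/-!
# A quadratic `p`-element normalizing an `r`-group (`p`, `r` odd, `r ≠ p`) centralizes it
-/

namespace Cfsg.Agent.Lib.Lead_OddQuad2

open Cfsg.Agent.Lib.Lead_OddQuad Cfsg.Agent.Lib.Lead_QuadRing
open scoped commutatorElement

section
variable {Γ : Type*} [Group Γ]

/-- Coprime action, elementwise. -/
theorem cop {p r : ℕ} [hp : Fact p.Prime] [hr : Fact r.Prime] (hrp : r ≠ p) (s g : Γ) (t k : ℕ)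
    (hs : s ^ (p ^ t) = 1) (hc : (s⁻¹ * g⁻¹ * s * g) ^ (r ^ k) = 1)
    (hcomm : s * (s⁻¹ * g⁻¹ * s * g) = (s⁻¹ * g⁻¹ * s * g) * s) : s⁻¹ * g⁻¹ * s * g = 1 := by
  obtain ⟨c, hcdef⟩ : ∃ c, c = s⁻¹ * g⁻¹ * s * g := ⟨_, rfl⟩
  rw [← hcdef] at hc hcomm ⊢
  have e1 : s * c = g⁻¹ * s * g := by rw [hcdef]; group
  have h1 : (s * c) ^ (p ^ t) = 1 := by
    rw [e1]
    have h2 : (g⁻¹ * s * g⁻¹⁻¹) ^ (p ^ t) = g⁻¹ * s ^ (p ^ t) * g⁻¹⁻¹ := conj_pow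
    rw [inv_inv] at h2
    rw [h2, hs]; group
  rw [(show Commute s c from hcomm).mul_pow, hs, one_mul] at h1
  have hcop : Nat.Coprime (p ^ t) (r ^ k) :=
    Nat.Coprime.pow _ _ ((Nat.coprime_primes hp.out hr.out).2 (Ne.symm hrp))
  have hg : c ^ (Nat.gcd (p ^ t) (r ^ k)) = 1 := pow_gcd_eq_one.2 ⟨h1, hc⟩
  rwa [hcop.gcd_eq_one, pow_one] at hg

/-- class two bilinearity, left. -/
theorem bl (R : Subgroup Γ) (hcen : ∀ z ∈ ⁅R, R⁆, ∀ g ∈ R, z * g = g * z) {u u' v : Γ}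
    (hu : u ∈ R) (hu' : u' ∈ R) (hv : v ∈ R) :
    (u * u') * v * (u * u')⁻¹ * v⁻¹ = (u * v * u⁻¹ * v⁻¹) * (u' * v * u'⁻¹ * v⁻¹) := by
  have hz : u' * v * u'⁻¹ * v⁻¹ ∈ ⁅R, R⁆ := by
    have := Subgroup.commutator_mem_commutator hu' hv
    rwa [commutatorElement_def] at this
  have hz2 : u * v * u⁻¹ * v⁻¹ ∈ R :=
    R.mul_mem (R.mul_mem (R.mul_mem hu hv) (R.inv_mem hu)) (R.inv_mem hv)
  obtain ⟨z, hzdef⟩ : ∃ z, z = u' * v * u'⁻¹ * v⁻¹ := ⟨_, rfl⟩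
  rw [← hzdef] at hz ⊢
  have h1 := hcen z hz u hu
  have h2 := hcen z hz _ hz2
  calc (u * u') * v * (u * u')⁻¹ * v⁻¹ = u * (u' * v * u'⁻¹ * v⁻¹) * u⁻¹ * (u * v * u⁻¹ * v⁻¹) := by
        group
    _ = (u * z) * u⁻¹ * (u * v * u⁻¹ * v⁻¹) := by rw [← hzdef]
    _ = (z * u) * u⁻¹ * (u * v * u⁻¹ * v⁻¹) := by rw [h1]
    _ = z * (u * v * u⁻¹ * v⁻¹) := by group
    _ = (u * v * u⁻¹ * v⁻¹) * z := h2

/-- class two bilinearity, right. -/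
theorem br (R : Subgroup Γ) (hcen : ∀ z ∈ ⁅R, R⁆, ∀ g ∈ R, z * g = g * z) {u v v' : Γ}
    (hu : u ∈ R) (hv : v ∈ R) (hv' : v' ∈ R) :
    u * (v * v') * u⁻¹ * (v * v')⁻¹ = (u * v * u⁻¹ * v⁻¹) * (u * v' * u⁻¹ * v'⁻¹) := by
  have hz : u * v' * u⁻¹ * v'⁻¹ ∈ ⁅R, R⁆ := by
    have := Subgroup.commutator_mem_commutator hu hv'
    rwa [commutatorElement_def] at this
  obtain ⟨z, hzdef⟩ : ∃ z, z = u * v' * u⁻¹ * v'⁻¹ := ⟨_, rfl⟩
  rw [← hzdef] at hz ⊢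
  have h1 := hcen z hz v hv
  calc u * (v * v') * u⁻¹ * (v * v')⁻¹ = (u * v * u⁻¹ * v⁻¹) * (v * (u * v' * u⁻¹ * v'⁻¹)) * v⁻¹ := by
        group
    _ = (u * v * u⁻¹ * v⁻¹) * (v * z) * v⁻¹ := by rw [← hzdef]
    _ = (u * v * u⁻¹ * v⁻¹) * (z * v) * v⁻¹ := by rw [h1]
    _ = (u * v * u⁻¹ * v⁻¹) * z := by group

/-- class two bilinearity, inverse on the right. -/
theorem binv (R : Subgroup Γ) (hcen : ∀ z ∈ ⁅R, R⁆, ∀ g ∈ R, z * g = g * z) {u v : Γ}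
    (hu : u ∈ R) (hv : v ∈ R) :
    u * v⁻¹ * u⁻¹ * v⁻¹⁻¹ = (u * v * u⁻¹ * v⁻¹)⁻¹ := by
  have h := br R hcen hu hv (R.inv_mem hv)
  rw [mul_inv_cancel] at h
  have h1 : u * 1 * u⁻¹ * (1 : Γ)⁻¹ = 1 := by group
  rw [h1] at h
  exact eq_inv_of_mul_eq_one_right h.symm

theorem map_conj_eq (x : Γ) (R : Subgroup Γ) (h1 : ∀ g ∈ R, x * g * x⁻¹ ∈ R)
    (h2 : ∀ g ∈ R, x⁻¹ * g * x ∈ R) : R.map (MulAut.conj x).toMonoidHom = R := by
  apply le_antisymm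
  · rintro _ ⟨g, hg, rfl⟩
    exact h1 g hg
  · intro g hg
    refine ⟨x⁻¹ * g * x, h2 g hg, ?_⟩
    show x * (x⁻¹ * g * x) * x⁻¹ = g
    group

theorem comm_conj_mem (x : Γ) (R : Subgroup Γ) (h1 : ∀ g ∈ R, x * g * x⁻¹ ∈ R)
    (h2 : ∀ g ∈ R, x⁻¹ * g * x ∈ R) : ∀ z ∈ ⁅R, R⁆, x * z * x⁻¹ ∈ ⁅R, R⁆ := by
  intro z hz
  have h : (MulAut.conj x).toMonoidHom z ∈ (⁅R, R⁆).map (MulAut.conj x).toMonoidHom := ⟨z, hz, rfl⟩
  rw [Subgroup.map_commutator, map_conj_eq x R h1 h2] at h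
  exact h

end

set_option maxHeartbeats 3200000 in
/-- Main theorem: a quadratic `p`-element normalizing an `r`-group centralizes it. -/
theorem main_M {E : Type*} [Ring E] {Γ : Type*} [Group Γ] [Finite Γ] (ρ : Γ →* E)
    (hρ : Function.Injective ρ) (p r : ℕ) [hp : Fact p.Prime] [hr : Fact r.Prime] (hp2 : p ≠ 2)
    (hr2 : r ≠ 2) (hrp : r ≠ p) (hchar : (p : E) = 0) (x : Γ) (t : ℕ) (hxt : x ^ (p ^ t) = 1)
    (hquad : (ρ x - 1) * (ρ x - 1) = 0) :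
    ∀ n : ℕ, ∀ R : Subgroup Γ, IsPGroup r R → Nat.card R = n →
      (∀ g ∈ R, x * g * x⁻¹ ∈ R) → (∀ g ∈ R, x⁻¹ * g * x ∈ R) → ∀ g ∈ R, x * g = g * x := by
  intro n
  induction n using Nat.strong_induction_on with
  | _ n ih =>
  intro R hRr hcard hi1 hi2
  have IH : ∀ R₁ : Subgroup Γ, R₁ ≤ R → R₁ ≠ R → (∀ g ∈ R₁, x * g * x⁻¹ ∈ R₁) →
      (∀ g ∈ R₁, x⁻¹ * g * x ∈ R₁) → ∀ g ∈ R₁, x * g = g * x := by
    intro R₁ hle hne h1 h2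
    have hlt : Nat.card R₁ < Nat.card R :=
      Cfsg.Agent.Lib.Lead_SZ.card_lt (lt_of_le_of_ne hle hne)
    exact ih (Nat.card R₁) (hcard ▸ hlt) R₁ (hRr.to_le hle) rfl h1 h2
  obtain ⟨k, hk⟩ := hRr.exists_card_eq
  have hpowR : ∀ g ∈ R, g ^ (r ^ k) = 1 := by
    intro g hg
    have h1 : (⟨g, hg⟩ : ↥R) ^ Nat.card ↥R = 1 := pow_card_eq_one'
    rw [hk] at h1
    simpa using congrArg Subtype.val h1
  have hrodd : Odd (r ^ k) := (hr.out.odd_of_ne_two hr2).pow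
  have hrcop : (r ^ k).Coprime p :=
    Nat.Coprime.pow_left _ ((Nat.coprime_primes hr.out hp.out).2 hrp)
  by_cases hab : ∀ g ∈ R, ∀ h ∈ R, g * h = h * g
  · have key := quad_comm ρ p hp2 hchar R
      (fun a ha b hb => by rw [← map_mul, ← map_mul, hab a ha b hb])
      (r ^ k) hrcop (fun g hg => by rw [← map_pow, hpowR g hg, map_one]) x hi1 hi2 hquad
    intro g hg
    exact hρ (by rw [map_mul, map_mul]; exact key g hg)
  -- the nonabelian case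
  have cm_mem : ∀ g ∈ R, x⁻¹ * g⁻¹ * x * g ∈ R := fun g hg =>
    R.mul_mem (hi2 g⁻¹ (R.inv_mem hg)) hg
  have hcop : ∀ g ∈ R, x * (x⁻¹ * g⁻¹ * x * g) = (x⁻¹ * g⁻¹ * x * g) * x → x * g = g * x := by
    intro g hg hc
    have h1 : x⁻¹ * g⁻¹ * x * g = 1 := cop hrp x g t k hxt (hpowR _ (cm_mem g hg)) hc
    calc x * g = g * x * (x⁻¹ * g⁻¹ * x * g) := by group
      _ = g * x := by rw [h1, mul_one]
  set M₀ : Subgroup Γ := Subgroup.closure {c | ∃ g ∈ R, c = x⁻¹ * g⁻¹ * x * g} with hM₀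
  have hM₀le : M₀ ≤ R := by
    rw [hM₀, Subgroup.closure_le]
    rintro _ ⟨g, hg, rfl⟩
    exact cm_mem g hg
  have hM₀i1 : ∀ z ∈ M₀, x * z * x⁻¹ ∈ M₀ := by
    apply Cfsg.Agent.Lib.Lead_Coprime.conj_mem_closure_of_forall
    rintro _ ⟨g, hg, rfl⟩
    apply Subgroup.subset_closure
    exact ⟨x * g * x⁻¹, hi1 g hg, by group⟩
  have hM₀i2 : ∀ z ∈ M₀, x⁻¹ * z * x ∈ M₀ := by
    have h := Cfsg.Agent.Lib.Lead_Coprime.conj_mem_closure_of_forall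
      (S := {c | ∃ g ∈ R, c = x⁻¹ * g⁻¹ * x * g}) (g := x⁻¹) (by
        rintro _ ⟨g, hg, rfl⟩
        apply Subgroup.subset_closure
        exact ⟨x⁻¹ * g * x, hi2 g hg, by group⟩)
    intro z hz
    have := h z hz
    rwa [inv_inv] at this
  by_cases hM : M₀ = R
  swap
  · have h1 := IH M₀ hM₀le hM hM₀i1 hM₀i2
    intro g hg
    exact hcop g hg (h1 _ (Subgroup.subset_closure ⟨g, hg, rfl⟩))
  -- the commutator subgroup
  have hR'le : ⁅R, R⁆ ≤ R := by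
    rw [Subgroup.commutator_le]
    intro a ha b hb
    rw [commutatorElement_def]
    exact R.mul_mem (R.mul_mem (R.mul_mem ha hb) (R.inv_mem ha)) (R.inv_mem hb)
  have hRne : R ≠ ⊥ := by
    rintro rfl
    apply hab
    intro g hg h hh
    rw [Subgroup.mem_bot] at hg hh
    rw [hg, hh]
  have hR'ne : ⁅R, R⁆ ≠ R := Cfsg.Agent.Lib.Lead_PStab2.comm_ne R R le_rfl hRr hRne
  have hR'i1 : ∀ z ∈ ⁅R, R⁆, x * z * x⁻¹ ∈ ⁅R, R⁆ := comm_conj_mem x R hi1 hi2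
  have hR'i2 : ∀ z ∈ ⁅R, R⁆, x⁻¹ * z * x ∈ ⁅R, R⁆ := by
    have h := comm_conj_mem x⁻¹ R (fun g hg => by rw [inv_inv]; exact hi2 g hg)
      (fun g hg => by rw [inv_inv]; exact hi1 g hg)
    intro z hz
    have := h z hz
    rwa [inv_inv] at this
  have hxR' := IH ⁅R, R⁆ hR'le hR'ne hR'i1 hR'i2
  -- class two
  have hcen : ∀ z ∈ ⁅R, R⁆, ∀ g ∈ R, z * g = g * z := by
    have hX : Subgroup.zpowers x ≤ Subgroup.centralizer ((⁅R, R⁆ : Subgroup Γ) : Set Γ) := by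
      rw [Subgroup.zpowers_le, Subgroup.mem_centralizer_iff]
      intro z hz
      exact (hxR' z hz).symm
    have h3 : ⁅⁅R, Subgroup.zpowers x⁆, ⁅R, R⁆⁆ = ⊥ := by
      apply Subgroup.commutator_commutator_eq_bot_of_rotate
      · have : ⁅Subgroup.zpowers x, ⁅R, R⁆⁆ = ⊥ :=
          Subgroup.commutator_eq_bot_iff_le_centralizer.2 hX
        rw [this]; exact Subgroup.commutator_bot_left _
      · have h1 : ⁅⁅R, R⁆, R⁆ ≤ ⁅R, R⁆ := by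
          rw [Subgroup.commutator_le]
          intro a ha b hb
          exact Subgroup.commutator_mem_commutator (hR'le ha) hb
        rw [eq_bot_iff]
        calc ⁅⁅⁅R, R⁆, R⁆, Subgroup.zpowers x⁆ ≤ ⁅⁅R, R⁆, Subgroup.zpowers x⁆ :=
              Subgroup.commutator_mono h1 le_rfl
          _ = ⁅Subgroup.zpowers x, ⁅R, R⁆⁆ := Subgroup.commutator_comm _ _
          _ = ⊥ := Subgroup.commutator_eq_bot_iff_le_centralizer.2 hX
    have hRX0 : M₀ ≤ ⁅R, Subgroup.zpowers x⁆ := by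
      rw [hM₀, Subgroup.closure_le]
      rintro _ ⟨g, hg, rfl⟩
      rw [Subgroup.commutator_comm]
      have := Subgroup.commutator_mem_commutator
        (Subgroup.inv_mem _ (Subgroup.mem_zpowers x)) (R.inv_mem hg)
      rw [commutatorElement_def, inv_inv, inv_inv] at this
      exact this
    have hRX : R ≤ ⁅R, Subgroup.zpowers x⁆ := fun g hg => hRX0 (by rw [hM]; exact hg)
    have h4 : ⁅R, ⁅R, R⁆⁆ = ⊥ := by
      rw [eq_bot_iff, ← h3]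
      exact Subgroup.commutator_mono hRX le_rfl
    intro z hz g hg
    have h5 := Subgroup.commutator_mem_commutator hg hz
    rw [h4, Subgroup.mem_bot, commutatorElement_def] at h5
    calc z * g = (g * z * g⁻¹ * z⁻¹)⁻¹ * (g * z) := by group
      _ = g * z := by rw [h5, inv_one, one_mul]
  have hβmem : ∀ u ∈ R, ∀ v ∈ R, u * v * u⁻¹ * v⁻¹ ∈ ⁅R, R⁆ := by
    intro u hu v hv
    have := Subgroup.commutator_mem_commutator hu hv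
    rwa [commutatorElement_def] at this
  -- (P1)
  have P1 : ∀ g ∈ R, (x⁻¹ * g⁻¹ * x * g) * (x * (x⁻¹ * g⁻¹ * x * g) * x⁻¹) =
      (x * (x⁻¹ * g⁻¹ * x * g) * x⁻¹) * (x⁻¹ * g⁻¹ * x * g) := by
    intro g hg
    obtain ⟨y, hy⟩ : ∃ y, y = g⁻¹ * x * g := ⟨_, rfl⟩
    obtain ⟨c, hc⟩ : ∃ c, c = x⁻¹ * g⁻¹ * x * g := ⟨_, rfl⟩
    obtain ⟨d, hd⟩ : ∃ d, d = x * c * x⁻¹ := ⟨_, rfl⟩
    have hcR : c ∈ R := hc ▸ cm_mem g hg
    have hdR : d ∈ R := hd ▸ hi1 c hcR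
    rw [← hc, ← hd]
    have hcy : c = x⁻¹ * y := by rw [hc, hy]; group
    have hdy : d = y * x⁻¹ := by rw [hd, hc, hy]; group
    obtain ⟨ζ, hζ⟩ : ∃ ζ, ζ = c * d * c⁻¹ * d⁻¹ := ⟨_, rfl⟩
    have hζR' : ζ ∈ ⁅R, R⁆ := hζ ▸ hβmem c hcR d hdR
    have hζx : ζ * x = x * ζ := (hxR' ζ hζR').symm
    have hζg : ζ * g = g * ζ := hcen ζ hζR' g hg
    have hζy : ζ * y = y * ζ := by
      rw [hy]
      exact ((Commute.inv_right (show Commute ζ g from hζg)).mul_right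
        (show Commute ζ x from hζx)).mul_right (show Commute ζ g from hζg)
    have hrel : (x⁻¹ * y) * (y * x⁻¹) = ζ * ((y * x⁻¹) * (x⁻¹ * y)) := by
      rw [← hcy, ← hdy, hζ]; group
    have hgg : ρ g * ρ g⁻¹ = 1 := by rw [← map_mul, mul_inv_cancel, map_one]
    have hgg' : ρ g⁻¹ * ρ g = 1 := by rw [← map_mul, inv_mul_cancel, map_one]
    have hquady : (ρ y - 1) * (ρ y - 1) = 0 := by
      have e : ρ y - 1 = ρ g⁻¹ * (ρ x - 1) * ρ g := by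
        rw [hy, map_mul, map_mul, mul_sub, sub_mul, mul_one, hgg']
      rw [e]
      calc ρ g⁻¹ * (ρ x - 1) * ρ g * (ρ g⁻¹ * (ρ x - 1) * ρ g)
          = ρ g⁻¹ * (ρ x - 1) * (ρ g * ρ g⁻¹) * (ρ x - 1) * ρ g := by noncomm_ring
        _ = ρ g⁻¹ * ((ρ x - 1) * (ρ x - 1)) * ρ g := by rw [hgg, mul_one]; noncomm_ring
        _ = 0 := by rw [hquad, mul_zero, zero_mul]
    have hζ1 : ρ ζ = 1 := rl ρ p hchar x y ζ hquad hquady hζx hζy hrel (r ^ k) hrodd hrcop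
      (hpowR ζ (hR'le hζR'))
    have hζ1' : ζ = 1 := hρ (by rw [hζ1, map_one])
    calc c * d = (c * d * c⁻¹ * d⁻¹) * (d * c) := by group
      _ = d * c := by rw [← hζ, hζ1', one_mul]
  -- every element of `R` is `cm g * z`
  have hform : ∀ w ∈ R, ∃ g ∈ R, ∃ z ∈ ⁅R, R⁆, w = (x⁻¹ * g⁻¹ * x * g) * z := by
    intro w hw
    have hw' : w ∈ M₀ := by rw [hM]; exact hw
    rw [hM₀] at hw'
    induction hw' using Subgroup.closure_induction with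
    | mem c hc =>
      obtain ⟨g, hg, rfl⟩ := hc
      exact ⟨g, hg, 1, Subgroup.one_mem _, (mul_one _).symm⟩
    | one => exact ⟨1, R.one_mem, 1, Subgroup.one_mem _, by group⟩
    | mul a b ha hb iha ihb =>
      have haR : a ∈ R := hM₀le (hM₀ ▸ ha)
      have hbR : b ∈ R := hM₀le (hM₀ ▸ hb)
      obtain ⟨g, hg, z, hz, hgz⟩ := iha haR
      obtain ⟨h, hh, z', hz', hhz⟩ := ihb hbR
      obtain ⟨z₀, hz₀⟩ : ∃ z₀, z₀ = (x⁻¹ * h⁻¹ * x * h)⁻¹ * g⁻¹ * (x⁻¹ * h⁻¹ * x * h) * g := ⟨_, rfl⟩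
      have hz₀R : z₀ ∈ ⁅R, R⁆ := by
        have := hβmem _ (R.inv_mem (cm_mem h hh)) _ (R.inv_mem hg)
        rw [inv_inv, inv_inv] at this
        exact hz₀ ▸ this
      refine ⟨h * g, R.mul_mem hh hg, z₀⁻¹ * z * z', ?_, ?_⟩
      · exact Subgroup.mul_mem _ (Subgroup.mul_mem _ (Subgroup.inv_mem _ hz₀R) hz) hz'
      · have hgen : (x⁻¹ * g⁻¹ * x * g) * (x⁻¹ * h⁻¹ * x * h) * z₀ = x⁻¹ * (h * g)⁻¹ * x * (h * g) := by
          rw [hz₀]; group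
        rw [hgz, hhz, ← hgen]
        calc (x⁻¹ * g⁻¹ * x * g) * z * ((x⁻¹ * h⁻¹ * x * h) * z')
            = (x⁻¹ * g⁻¹ * x * g) * (z * (x⁻¹ * h⁻¹ * x * h)) * z' := by group
          _ = (x⁻¹ * g⁻¹ * x * g) * ((x⁻¹ * h⁻¹ * x * h) * z) * z' := by
              rw [hcen z hz _ (cm_mem h hh)]
          _ = (x⁻¹ * g⁻¹ * x * g) * (x⁻¹ * h⁻¹ * x * h) * z₀ * (z₀⁻¹ * z * z') := by group
    | inv a ha iha =>
      have haR : a ∈ R := hM₀le (hM₀ ▸ ha)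
      obtain ⟨g, hg, z, hz, hgz⟩ := iha haR
      obtain ⟨g', hg'def⟩ : ∃ g', g' = g⁻¹ := ⟨_, rfl⟩
      have hg'R : g' ∈ R := hg'def ▸ R.inv_mem hg
      obtain ⟨z₁, hz₁⟩ : ∃ z₁, z₁ = (x⁻¹ * g'⁻¹ * x * g')⁻¹ * g' * (x⁻¹ * g'⁻¹ * x * g') * g'⁻¹ :=
        ⟨_, rfl⟩
      have hz₁R : z₁ ∈ ⁅R, R⁆ := by
        have := hβmem _ (R.inv_mem (cm_mem g' hg'R)) g' hg'R
        rw [inv_inv] at this
        exact hz₁ ▸ this
      refine ⟨g', hg'R, z⁻¹ * z₁, Subgroup.mul_mem _ (Subgroup.inv_mem _ hz) hz₁R, ?_⟩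
      have hgen : (x⁻¹ * g⁻¹ * x * g)⁻¹ = (x⁻¹ * g'⁻¹ * x * g') * z₁ := by
        rw [hz₁, hg'def]; group
      rw [hgz, mul_inv_rev, hgen]
      have h1 := hcen z⁻¹ (Subgroup.inv_mem _ hz) _ (cm_mem g' hg'R)
      calc z⁻¹ * ((x⁻¹ * g'⁻¹ * x * g') * z₁) = (z⁻¹ * (x⁻¹ * g'⁻¹ * x * g')) * z₁ := by group
        _ = ((x⁻¹ * g'⁻¹ * x * g') * z⁻¹) * z₁ := by rw [h1]
        _ = (x⁻¹ * g'⁻¹ * x * g') * (z⁻¹ * z₁) := by group
  -- (P1')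
  have P1' : ∀ w ∈ R, w * (x * w * x⁻¹) = (x * w * x⁻¹) * w := by
    intro w hw
    obtain ⟨g, hg, z, hz, rfl⟩ := hform w hw
    obtain ⟨c, hc⟩ : ∃ c, c = x⁻¹ * g⁻¹ * x * g := ⟨_, rfl⟩
    have hcR : c ∈ R := hc ▸ cm_mem g hg
    have hp1 := P1 g hg
    rw [← hc] at hp1 ⊢
    obtain ⟨d, hd⟩ : ∃ d, d = x * c * x⁻¹ := ⟨_, rfl⟩
    have hdR : d ∈ R := hd ▸ hi1 c hcR
    rw [← hd] at hp1
    have hxz : x * z = z * x := hxR' z hz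
    have hxz' : z * x⁻¹ = x⁻¹ * z := by
      calc z * x⁻¹ = x⁻¹ * (x * z) * x⁻¹ := by group
        _ = x⁻¹ * (z * x) * x⁻¹ := by rw [hxz]
        _ = x⁻¹ * z := by group
    have e : x * (c * z) * x⁻¹ = d * z := by
      rw [hd]
      calc x * (c * z) * x⁻¹ = x * c * (z * x⁻¹) := by group
        _ = x * c * (x⁻¹ * z) := by rw [hxz']
        _ = x * c * x⁻¹ * z := by group
    rw [e]
    have h1 := hcen z hz d hdR
    have h2 := hcen z hz c hcR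
    calc c * z * (d * z) = c * (z * d) * z := by group
      _ = c * (d * z) * z := by rw [h1]
      _ = (c * d) * z * z := by group
      _ = (d * c) * z * z := by rw [hp1]
      _ = d * (c * z) * z := by group
      _ = d * (z * c) * z := by rw [h2]
      _ = d * z * (c * z) := by group
  -- polarization
  have hpol : ∀ w ∈ R, ∀ w' ∈ R,
      w * ((x * w' * x⁻¹) * (x⁻¹ * w' * x)⁻¹) = ((x * w' * x⁻¹) * (x⁻¹ * w' * x)⁻¹) * w := by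
    intro w hw w' hw'
    obtain ⟨f, hf⟩ : ∃ f, f = x * w * x⁻¹ := ⟨_, rfl⟩
    obtain ⟨f', hf'⟩ : ∃ f', f' = x * w' * x⁻¹ := ⟨_, rfl⟩
    obtain ⟨q', hq'⟩ : ∃ q', q' = x⁻¹ * w' * x := ⟨_, rfl⟩
    have hfR : f ∈ R := hf ▸ hi1 w hw
    have hf'R : f' ∈ R := hf' ▸ hi1 w' hw'
    have hq'R : q' ∈ R := hq' ▸ hi2 w' hw'
    rw [← hf', ← hq']
    have e0 : x * (w * w') * x⁻¹ = f * f' := by rw [hf, hf']; group
    have h1 : (w * w') * (f * f') * (w * w')⁻¹ * (f * f')⁻¹ = 1 := by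
      have := P1' (w * w') (R.mul_mem hw hw')
      rw [e0] at this
      rw [this]; group
    have h2 : w * f * w⁻¹ * f⁻¹ = 1 := by
      have := P1' w hw
      rw [← hf] at this
      rw [this]; group
    have h3 : w' * f' * w'⁻¹ * f'⁻¹ = 1 := by
      have := P1' w' hw'
      rw [← hf'] at this
      rw [this]; group
    -- expand
    have h4 : (w * w') * (f * f') * (w * w')⁻¹ * (f * f')⁻¹ =
        (w' * f * w'⁻¹ * f⁻¹) * (w * f' * w⁻¹ * f'⁻¹) := by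
      rw [br R hcen (R.mul_mem hw hw') hfR hf'R, bl R hcen hw hw' hfR, bl R hcen hw hw' hf'R,
        h2, h3, one_mul, mul_one]
    rw [h4] at h1
    -- `β w f' = β f w'`
    have h5 : w * f' * w⁻¹ * f'⁻¹ = f * w' * f⁻¹ * w'⁻¹ := by
      have : w * f' * w⁻¹ * f'⁻¹ = (w' * f * w'⁻¹ * f⁻¹)⁻¹ := eq_inv_of_mul_eq_one_right h1
      rw [this]; group
    have h6 : f * w' * f⁻¹ * w'⁻¹ = w * q' * w⁻¹ * q'⁻¹ := by
      have hz : f * w' * f⁻¹ * w'⁻¹ ∈ ⁅R, R⁆ := hβmem f hfR w' hw'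
      have hxz := hxR' _ hz
      calc f * w' * f⁻¹ * w'⁻¹ = x⁻¹ * (x * (f * w' * f⁻¹ * w'⁻¹)) := by group
        _ = x⁻¹ * ((f * w' * f⁻¹ * w'⁻¹) * x) := by rw [hxz]
        _ = w * q' * w⁻¹ * q'⁻¹ := by rw [hf, hq']; group
    have h7 : w * (f' * q'⁻¹) * w⁻¹ * (f' * q'⁻¹)⁻¹ = 1 := by
      rw [br R hcen hw hf'R (R.inv_mem hq'R), binv R hcen hw hq'R, h5, h6, mul_inv_cancel]
    calc w * (f' * q'⁻¹) = (w * (f' * q'⁻¹) * w⁻¹ * (f' * q'⁻¹)⁻¹) * ((f' * q'⁻¹) * w) := by group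
      _ = (f' * q'⁻¹) * w := by rw [h7, one_mul]
  -- the centre of `R`
  set ZR : Subgroup Γ := R ⊓ Subgroup.centralizer (R : Set Γ) with hZR
  have hZRle : ZR ≤ R := inf_le_left
  have hZRne : ZR ≠ R := by
    intro h
    apply hab
    intro g hg h' hh'
    have : h' ∈ ZR := by rw [h]; exact hh'
    exact Subgroup.mem_centralizer_iff.1 this.2 g hg
  have hZRi1 : ∀ z ∈ ZR, x * z * x⁻¹ ∈ ZR := by
    intro z hz
    refine Subgroup.mem_inf.2 ⟨hi1 z hz.1, ?_⟩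
    rw [Subgroup.mem_centralizer_iff]
    intro h hh
    have h1 := Subgroup.mem_centralizer_iff.1 hz.2 _ (hi2 h hh)
    calc h * (x * z * x⁻¹) = x * ((x⁻¹ * h * x) * z) * x⁻¹ := by group
      _ = x * (z * (x⁻¹ * h * x)) * x⁻¹ := by rw [h1]
      _ = (x * z * x⁻¹) * h := by group
  have hZRi2 : ∀ z ∈ ZR, x⁻¹ * z * x ∈ ZR := by
    intro z hz
    refine Subgroup.mem_inf.2 ⟨hi2 z hz.1, ?_⟩
    rw [Subgroup.mem_centralizer_iff]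
    intro h hh
    have h1 := Subgroup.mem_centralizer_iff.1 hz.2 _ (hi1 h hh)
    calc h * (x⁻¹ * z * x) = x⁻¹ * ((x * h * x⁻¹) * z) * x := by group
      _ = x⁻¹ * (z * (x * h * x⁻¹)) * x := by rw [h1]
      _ = (x⁻¹ * z * x) * h := by group
  have hxZR := IH ZR hZRle hZRne hZRi1 hZRi2
  -- `x ^ 2` centralizes `R`
  have hxx : ∀ h ∈ R, x ^ 2 * h = h * x ^ 2 := by
    intro h hh
    obtain ⟨e, he⟩ : ∃ e, e = (x * h * x⁻¹) * (x⁻¹ * h * x)⁻¹ := ⟨_, rfl⟩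
    have heR : e ∈ R := he ▸ R.mul_mem (hi1 h hh) (R.inv_mem (hi2 h hh))
    have heZ : e ∈ ZR := by
      refine Subgroup.mem_inf.2 ⟨heR, ?_⟩
      rw [Subgroup.mem_centralizer_iff]
      intro w hw
      rw [he]
      exact hpol w hw h hh
    have hxe : x * e = e * x := hxZR e heZ
    have hxe' : x * e⁻¹ = e⁻¹ * x := (Commute.inv_right (show Commute x e from hxe)).eq
    have hc_eq : (x ^ 2)⁻¹ * h⁻¹⁻¹ * x ^ 2 * h⁻¹ = x⁻¹ * e⁻¹ * x := by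
      rw [he, inv_inv]; group
    have hc_eq' : (x ^ 2)⁻¹ * h⁻¹⁻¹ * x ^ 2 * h⁻¹ = e⁻¹ := by
      rw [hc_eq]
      calc x⁻¹ * e⁻¹ * x = x⁻¹ * (e⁻¹ * x) := by group
        _ = x⁻¹ * (x * e⁻¹) := by rw [hxe']
        _ = e⁻¹ := by group
    have hxxe : x ^ 2 * e⁻¹ = e⁻¹ * x ^ 2 :=
      (Commute.pow_left (show Commute x e⁻¹ from hxe') 2).eq
    have hxxp : (x ^ 2) ^ (p ^ t) = 1 := by
      rw [← pow_mul, mul_comm, pow_mul, hxt, one_pow]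
    have h1 : (x ^ 2)⁻¹ * h⁻¹⁻¹ * x ^ 2 * h⁻¹ = 1 := by
      apply cop hrp (x ^ 2) h⁻¹ t k hxxp
      · rw [hc_eq']; exact hpowR _ (R.inv_mem heR)
      · rw [hc_eq']; exact hxxe
    have h2 : h * x ^ 2 = x ^ 2 * h := by
      calc h * x ^ 2 = x ^ 2 * ((x ^ 2)⁻¹ * h⁻¹⁻¹ * x ^ 2 * h⁻¹) * h := by rw [inv_inv]; group
        _ = x ^ 2 * h := by rw [h1, mul_one]
    exact h2.symm
  -- finally `x` is a power of `x ^ 2`
  intro g hg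
  have hodd : Odd (p ^ t) := (hp.out.odd_of_ne_two hp2).pow
  obtain ⟨j, hj⟩ := hodd
  have hxpow : (x ^ 2) ^ (j + 1) = x := by
    rw [← pow_mul]
    have : 2 * (j + 1) = p ^ t + 1 := by omega
    rw [this, pow_succ, hxt, one_mul]
  have hcomm : Commute (x ^ 2) g := hxx g hg
  have := hcomm.pow_left (j + 1)
  rw [hxpow] at this
  exact this

end Cfsg.Agent.Lib.Lead_OddQuad2
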