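import Mathlib
import Cfsg.Prelude.Def_PLocal
import Cfsg.Agent.Lib.Lead_Replacement
import Cfsg.Agent.Lib.Helper4_PCore
import Cfsg.Agent.Lib.Helper5_Residual

/-! Glauberman's ZJ-theorem for an abstract "Thompson datum". -/

namespace Cfsg.Agent.Lib.Lead_ZJ

open Cfsg.Agent.Lib.Lead_Coprime Cfsg.Agent.Lib.Lead_Replacement Cfsg.Agent.Lib.Helper4_PCore
  Cfsg.Agent.Lib.Helper5_Residual

open scoped commutatorElement

variable {G : Type*} [Group G]

/-- A family `F` of abelian subgroups of `S` closed under replacement, with a class `E` of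
elements. -/
structure Datum (S D₀ : Subgroup G) (F : Set (Subgroup G)) (E : G → Prop) : Prop where
  ne : F.Nonempty
  dS : D₀ ≤ S
  sc : ∀ u ∈ D₀, ∀ g : G, g * u * g⁻¹ ∈ S → g * u * g⁻¹ ∈ D₀
  sub : ∀ U ∈ F, U ≤ D₀
  comm : ∀ U ∈ F, ∀ u ∈ U, ∀ v ∈ U, u * v = v * u
  el : ∀ U ∈ F, ∀ u ∈ U, E u
  repl : ∀ U ∈ F, ∀ U' : Subgroup G, U' ≤ D₀ → IsMulCommutative U' → Nat.card U' = Nat.card U →
    Monoid.exponent U' ∣ Monoid.exponent U → U' ∈ F
  maxl : ∀ U ∈ F, ∀ b ∈ D₀, E b → (∀ u ∈ U, b * u = u * b) → b ∈ U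
  e_one : E 1
  e_mul : ∀ a b, E a → E b → a * b = b * a → E (a * b)
  e_inv : ∀ a, E a → E a⁻¹
  e_conj : ∀ a g, E a → E (g * a * g⁻¹)

/-- The `E`-part of `Z(J)`. -/
def Zd (F : Set (Subgroup G)) (E : G → Prop) : Subgroup G :=
  Subgroup.closure {z : G | z ∈ sSup F ⊓ Subgroup.centralizer ((sSup F : Subgroup G) : Set G) ∧ E z}

theorem Zd_le (F : Set (Subgroup G)) (E : G → Prop) :
    Zd F E ≤ sSup F ⊓ Subgroup.centralizer ((sSup F : Subgroup G) : Set G) := by
  unfold Zd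
  rw [Subgroup.closure_le]
  intro z hz
  exact hz.1

theorem Zd_comm (F : Set (Subgroup G)) (E : G → Prop) {y z : G} (hy : y ∈ Zd F E)
    (hz : z ∈ Zd F E) : y * z = z * y := by
  have h1 := (Zd_le F E hy).1
  have h2 := (Zd_le F E hz).2
  exact Subgroup.mem_centralizer_iff.1 h2 y h1

section
variable {S D₀ : Subgroup G} {F : Set (Subgroup G)} {E : G → Prop} (hD : Datum S D₀ F E)
include hD

theorem Zd_E : ∀ z ∈ Zd F E, E z := by
  intro z hz
  unfold Zd at hz
  induction hz using Subgroup.closure_induction with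
  | mem x hx => exact hx.2
  | one => exact hD.e_one
  | mul x y hx hy ihx ihy =>
    exact hD.e_mul x y ihx ihy (Zd_comm F E hx hy)
  | inv x hx ih => exact hD.e_inv x ih

theorem J_le : sSup F ≤ D₀ := sSup_le hD.sub

theorem isComm (U : Subgroup G) (hU : U ∈ F) : IsMulCommutative U :=
  ⟨⟨fun a b => Subtype.ext (hD.comm U hU a a.2 b b.2)⟩⟩

theorem conj_mem_F {U : Subgroup G} (hU : U ∈ F) (x : G)
    (h : U.map (MulAut.conj x).toMonoidHom ≤ S) : U.map (MulAut.conj x).toMonoidHom ∈ F := by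
  haveI := isComm hD U hU
  have h' : U.map (MulAut.conj x).toMonoidHom ≤ D₀ := by
    rintro _ ⟨u, hu, rfl⟩
    exact hD.sc u (hD.sub U hU hu) x (h (Subgroup.mem_map_of_mem _ hu))
  refine hD.repl U hU _ h' inferInstance
    (Subgroup.card_map_of_injective (MulAut.conj x).injective) ?_
  rw [← Monoid.exponent_eq_of_mulEquiv
    (U.equivMapOfInjective (MulAut.conj x).toMonoidHom (MulAut.conj x).injective)]

theorem Z_le_U {U : Subgroup G} (hU : U ∈ F) : Zd F E ≤ U := by
  intro z hz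
  have h1 := Zd_le F E hz
  refine hD.maxl U hU z (J_le hD h1.1) (Zd_E hD z hz) ?_
  intro u hu
  exact (Subgroup.mem_centralizer_iff.1 h1.2 u (le_sSup hU hu)).symm

end

theorem conj_sSup {F' : Set (Subgroup G)} (x : G)
    (h : ∀ U ∈ F', U.map (MulAut.conj x).toMonoidHom ∈ F') :
    ∀ y ∈ sSup F', x * y * x⁻¹ ∈ sSup F' := by
  have hle : sSup F' ≤ (sSup F').comap (MulAut.conj x).toMonoidHom := by
    apply sSup_le
    intro U hU
    rw [← Subgroup.map_le_iff_le_comap]
    exact le_sSup (h U hU)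
  intro y hy
  exact hle hy

theorem conj_centralizer {J : Subgroup G} (x : G) (h : ∀ y ∈ J, x⁻¹ * y * x ∈ J) :
    ∀ c ∈ Subgroup.centralizer (J : Set G), x * c * x⁻¹ ∈ Subgroup.centralizer (J : Set G) := by
  intro c hc
  rw [Subgroup.mem_centralizer_iff] at hc ⊢
  intro y hy
  have := hc _ (h y hy)
  calc y * (x * c * x⁻¹) = x * ((x⁻¹ * y * x) * c) * x⁻¹ := by group
    _ = x * (c * (x⁻¹ * y * x)) * x⁻¹ := by rw [this]
    _ = _ := by group

/-- If `x` and `x⁻¹` preserve `F` then `x` normalizes `Zd`. -/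
theorem conj_Zd {S D₀ : Subgroup G} {F : Set (Subgroup G)} {E : G → Prop} (hD : Datum S D₀ F E)
    (x : G)
    (h1 : ∀ U ∈ F, U.map (MulAut.conj x).toMonoidHom ∈ F)
    (h2 : ∀ U ∈ F, U.map (MulAut.conj x⁻¹).toMonoidHom ∈ F) :
    ∀ z ∈ Zd F E, x * z * x⁻¹ ∈ Zd F E := by
  have hle : Zd F E ≤ (Zd F E).comap (MulAut.conj x).toMonoidHom := by
    unfold Zd
    rw [Subgroup.closure_le]
    intro z hz
    apply Subgroup.subset_closure
    refine ⟨⟨conj_sSup x h1 z hz.1.1, ?_⟩, hD.e_conj z x hz.2⟩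
    apply conj_centralizer x _ z hz.1.2
    intro y hy
    have := conj_sSup x⁻¹ h2 y hy
    rwa [inv_inv] at this
  intro z hz
  exact hle hz


section main
variable [Finite G] {p : ℕ} [Fact p.Prime]

/-- `S` normalizes `Zd`. -/
theorem S_conj_Zd (S : Subgroup G) {D₀ : Subgroup G} {F : Set (Subgroup G)} {E : G → Prop}
    (hD : Datum S D₀ F E) : ∀ s ∈ S, ∀ z ∈ Zd F E, s * z * s⁻¹ ∈ Zd F E := by
  intro s hs
  apply conj_Zd hD s
  · intro U hU
    apply conj_mem_F hD hU
    rintro _ ⟨u, hu, rfl⟩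
    exact Subgroup.mul_mem _ (Subgroup.mul_mem _ hs (hD.dS (hD.sub U hU hu))) (Subgroup.inv_mem _ hs)
  · intro U hU
    apply conj_mem_F hD hU
    rintro _ ⟨u, hu, rfl⟩
    exact Subgroup.mul_mem _ (Subgroup.mul_mem _ (Subgroup.inv_mem _ hs) (hD.dS (hD.sub U hU hu)))
      (Subgroup.inv_mem _ (Subgroup.inv_mem _ hs))

/-- the preimage of `O_p(G/C)` is a `p`-group when `C` is. -/
theorem comap_pCore_isPGroup (C : Subgroup G) [C.Normal] (hCp : IsPGroup p C) :
    IsPGroup p ((Cfsg.pCore p (G ⧸ C)).comap (QuotientGroup.mk' C)) := by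
  rintro ⟨g, hg⟩
  have hg' : (QuotientGroup.mk' C g) ∈ Cfsg.pCore p (G ⧸ C) := hg
  obtain ⟨k, hk⟩ := (pCore_isPGroup (G := G ⧸ C) (p := p)) ⟨_, hg'⟩
  have hk' : (QuotientGroup.mk' C g) ^ (p ^ k) = 1 := by
    have := congrArg (fun t : ↥(Cfsg.pCore p (G ⧸ C)) => (t : G ⧸ C)) hk
    simpa using this
  have h1 : g ^ (p ^ k) ∈ C := by
    rw [← QuotientGroup.eq_one_iff]
    simpa using hk'
  obtain ⟨j, hj⟩ := hCp ⟨_, h1⟩
  have hj' : (g ^ (p ^ k)) ^ (p ^ j) = 1 := by
    have := congrArg (fun t : ↥C => (t : G)) hj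
    simpa using this
  refine ⟨k + j, ?_⟩
  apply Subtype.ext
  simp only [Subgroup.coe_pow, Subgroup.coe_one]
  rw [pow_add, pow_mul]
  exact hj'

theorem Z_le_Q
    (hc : Subgroup.centralizer ((Cfsg.pCore p G : Subgroup G) : Set G) ≤ Cfsg.pCore p G)
    (hst : ∀ (P : Subgroup G) [P.Normal], IsPGroup p P → Cfsg.IsPStableOn p P)
    (S : Sylow p G) {D₀ : Subgroup G} {F : Set (Subgroup G)} {E : G → Prop}
    (hD : Datum (S : Subgroup G) D₀ F E) :
    Zd F E ≤ Cfsg.pCore p G := by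
  haveI hQn : (Cfsg.pCore p G).Normal := pCore_normal p G
  have hQp : IsPGroup p (Cfsg.pCore p G) := pCore_isPGroup
  have hQS : Cfsg.pCore p G ≤ S := pCore_le_sylow S
  have hSZ := S_conj_Zd (S : Subgroup G) hD
  intro z hz
  have hquad : ⁅⁅Cfsg.pCore p G, Subgroup.zpowers z⁆, Subgroup.zpowers z⁆ = ⊥ := by
    have hzZ : Subgroup.zpowers z ≤ Zd F E := by rw [Subgroup.zpowers_le]; exact hz
    have h1 : ⁅Cfsg.pCore p G, Subgroup.zpowers z⁆ ≤ Zd F E := by
      rw [Subgroup.commutator_le]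
      intro q hq w hw
      rw [commutatorElement_def]
      exact Subgroup.mul_mem _ (hSZ q (hQS hq) w (hzZ hw)) (Subgroup.inv_mem _ (hzZ hw))
    rw [eq_bot_iff]
    calc ⁅⁅Cfsg.pCore p G, Subgroup.zpowers z⁆, Subgroup.zpowers z⁆ ≤ ⁅Zd F E, Zd F E⁆ :=
          Subgroup.commutator_mono h1 hzZ
      _ ≤ ⊥ := by
        rw [Subgroup.commutator_le]
        intro a ha b hb
        rw [commutatorElement_def, Subgroup.mem_bot, Zd_comm F E ha hb]; group
  have hmem := hst (Cfsg.pCore p G) hQp z hquad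
  have hLp := comap_pCore_isPGroup (p := p)
    (Subgroup.centralizer ((Cfsg.pCore p G : Subgroup G) : Set G)) (hQp.to_le hc)
  have hLn : ((Cfsg.pCore p (G ⧸ Subgroup.centralizer ((Cfsg.pCore p G : Subgroup G) : Set G))).comap
      (QuotientGroup.mk' _)).Normal := (pCore_normal p _).comap _
  exact le_pCore _ hLn hLp hmem

/-- transport of the replacement theorem to a Sylow subgroup -/
theorem replacement_in_sylow (hp : p ≠ 2) (S : Sylow p G) {D₀ : Subgroup G}
    {F : Set (Subgroup G)} {E : G → Prop}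
    (hD : Datum (S : Subgroup G) D₀ F E) (B : Subgroup G) [B.Normal] (hBS : B ≤ S)
    (U : Subgroup G) (hU : U ∈ F) (hBU : ⁅B, B⁆ ≤ U) (hnU : ¬ B ≤ U) :
    ∃ A ∈ F, ¬ B ≤ A ∧ ∀ b ∈ B, ∀ a ∈ A, b * a * b⁻¹ ∈ A := by
  haveI hDn : (D₀.subgroupOf (S : Subgroup G)).Normal := by
    constructor
    intro u hu s
    rw [Subgroup.mem_subgroupOf] at hu ⊢
    have : ((s * u * s⁻¹ : ↥(S : Subgroup G)) : G) = (s : G) * (u : G) * (s : G)⁻¹ := by simp
    rw [this]
    exact hD.sc _ hu _ (Subgroup.mul_mem _ (Subgroup.mul_mem _ s.2 u.2) (Subgroup.inv_mem _ s.2))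
  have h1 : ∀ A₀ ∈ {A₀ : Subgroup ↥(S : Subgroup G) | A₀.map (S : Subgroup G).subtype ∈ F},
      IsMulCommutative A₀ ∧ A₀ ≤ D₀.subgroupOf (S : Subgroup G) := by
    intro A₀ hA₀
    refine ⟨⟨⟨fun a b => ?_⟩⟩, fun a ha => Subgroup.mem_subgroupOf.2
      (hD.sub _ hA₀ (Subgroup.mem_map_of_mem _ ha))⟩
    apply Subtype.ext; apply Subtype.ext
    exact hD.comm _ hA₀ _ (Subgroup.mem_map_of_mem _ a.2) _ (Subgroup.mem_map_of_mem _ b.2)
  have h2 : ∀ A₀ ∈ {A₀ : Subgroup ↥(S : Subgroup G) | A₀.map (S : Subgroup G).subtype ∈ F},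
      ∀ A' : Subgroup ↥(S : Subgroup G), A' ≤ D₀.subgroupOf (S : Subgroup G) →
      IsMulCommutative A' →
      Nat.card A' = Nat.card A₀ → Monoid.exponent A' ∣ Monoid.exponent A₀ →
      A' ∈ {A₀ : Subgroup ↥(S : Subgroup G) | A₀.map (S : Subgroup G).subtype ∈ F} := by
    intro A₀ hA₀ A' hA'D hA'c hcard hexp
    haveI := hA'c
    have hle : A'.map (S : Subgroup G).subtype ≤ D₀ := by
      rintro _ ⟨a, ha, rfl⟩
      exact Subgroup.mem_subgroupOf.1 (hA'D ha)
    refine hD.repl _ hA₀ _ hle inferInstance ?_ ?_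
    · rw [Subgroup.card_map_of_injective (S : Subgroup G).subtype_injective,
        Subgroup.card_map_of_injective (S : Subgroup G).subtype_injective, hcard]
    · rw [← Monoid.exponent_eq_of_mulEquiv (A'.equivMapOfInjective (S : Subgroup G).subtype
          (S : Subgroup G).subtype_injective),
        ← Monoid.exponent_eq_of_mulEquiv (A₀.equivMapOfInjective (S : Subgroup G).subtype
          (S : Subgroup G).subtype_injective)]
      exact hexp
  have hU₀ : ∃ U₀ ∈ {A₀ : Subgroup ↥(S : Subgroup G) | A₀.map (S : Subgroup G).subtype ∈ F},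
      ⁅B.subgroupOf (S : Subgroup G), B.subgroupOf (S : Subgroup G)⁆ ≤ U₀ ∧
      ¬ B.subgroupOf (S : Subgroup G) ≤ U₀ := by
    refine ⟨U.subgroupOf (S : Subgroup G), ?_, ?_, ?_⟩
    · show (U.subgroupOf (S : Subgroup G)).map (S : Subgroup G).subtype ∈ F
      rw [Subgroup.map_subgroupOf_eq_of_le ((hD.sub U hU).trans hD.dS)]; exact hU
    · rw [Subgroup.commutator_le]
      intro x hx y hy
      rw [Subgroup.mem_subgroupOf]
      have : ((⁅x, y⁆ : ↥(S : Subgroup G)) : G) = ⁅(x : G), (y : G)⁆ := by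
        simp [commutatorElement_def]
      rw [this]
      exact hBU (Subgroup.commutator_mem_commutator (Subgroup.mem_subgroupOf.1 hx)
        (Subgroup.mem_subgroupOf.1 hy))
    · intro h
      apply hnU
      intro b hb
      have : (⟨b, hBS hb⟩ : ↥(S : Subgroup G)) ∈ B.subgroupOf (S : Subgroup G) :=
        Subgroup.mem_subgroupOf.2 hb
      exact Subgroup.mem_subgroupOf.1 (h this)
  obtain ⟨A₀, hA₀, -, hnA₀, hBN⟩ := replacement_family S.isPGroup' hp (D₀.subgroupOf (S : Subgroup G)) _ h1 h2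
    (B.subgroupOf (S : Subgroup G)) hU₀
  refine ⟨A₀.map (S : Subgroup G).subtype, hA₀, ?_, ?_⟩
  · intro h
    apply hnA₀
    intro x hx
    obtain ⟨a₀, ha₀, he⟩ := h (Subgroup.mem_subgroupOf.1 hx)
    have : a₀ = x := Subtype.ext he
    rw [← this]; exact ha₀
  · rintro b hb _ ⟨a₀, ha₀, rfl⟩
    have hx : (⟨b, hBS hb⟩ : ↥(S : Subgroup G)) ∈ B.subgroupOf (S : Subgroup G) :=
      Subgroup.mem_subgroupOf.2 hb
    have := (Subgroup.mem_normalizer_iff.1 (hBN hx) a₀).1 ha₀
    exact ⟨_, this, rfl⟩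

/-- Frattini: `G = N_G(S ∩ K) C` when `C ≤ K` are normal with `K/C` a `p`-group. -/
theorem frattini_factor (S : Sylow p G) (C : Subgroup G) [C.Normal] (g : G) :
    ∃ x ∈ Subgroup.normalizer (((S : Subgroup G) ⊓
        (Cfsg.pCore p (G ⧸ C)).comap (QuotientGroup.mk' C) : Subgroup G) : Set G),
      ∃ c ∈ C, g = x * c := by
  haveI hKn : ((Cfsg.pCore p (G ⧸ C)).comap (QuotientGroup.mk' C)).Normal :=
    (pCore_normal p _).comap _
  have hCK : C ≤ (Cfsg.pCore p (G ⧸ C)).comap (QuotientGroup.mk' C) := by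
    intro c hc
    show QuotientGroup.mk' C c ∈ Cfsg.pCore p (G ⧸ C)
    have : QuotientGroup.mk' C c = 1 := (QuotientGroup.eq_one_iff c).2 hc
    rw [this]; exact Subgroup.one_mem _
  have hfr := Sylow.normalizer_sup_eq_top
    (sylowInfNormal S ((Cfsg.pCore p (G ⧸ C)).comap (QuotientGroup.mk' C)))
  rw [map_sylowInfNormal] at hfr
  -- K ≤ T ⊔ C
  have hKTC : (Cfsg.pCore p (G ⧸ C)).comap (QuotientGroup.mk' C) ≤
      ((S : Subgroup G) ⊓ (Cfsg.pCore p (G ⧸ C)).comap (QuotientGroup.mk' C)) ⊔ C := by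
    rw [← Subgroup.relIndex_eq_one]
    have d1 := Subgroup.relIndex_dvd_of_le_left
      ((Cfsg.pCore p (G ⧸ C)).comap (QuotientGroup.mk' C))
      (le_sup_left : (S : Subgroup G) ⊓ (Cfsg.pCore p (G ⧸ C)).comap (QuotientGroup.mk' C) ≤
        ((S : Subgroup G) ⊓ (Cfsg.pCore p (G ⧸ C)).comap (QuotientGroup.mk' C)) ⊔ C)
    have d2 := Subgroup.relIndex_dvd_of_le_left
      ((Cfsg.pCore p (G ⧸ C)).comap (QuotientGroup.mk' C))
      (le_sup_right : C ≤
        ((S : Subgroup G) ⊓ (Cfsg.pCore p (G ⧸ C)).comap (QuotientGroup.mk' C)) ⊔ C)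
    rw [Subgroup.inf_relIndex_right] at d1
    have hnd := not_dvd_relIndex_of_normal S ((Cfsg.pCore p (G ⧸ C)).comap (QuotientGroup.mk' C))
    have hpow : ∃ k, C.relIndex ((Cfsg.pCore p (G ⧸ C)).comap (QuotientGroup.mk' C)) = p ^ k := by
      have e2 : ((⊥ : Subgroup (G ⧸ C)).comap (QuotientGroup.mk' C)).relIndex
          ((Cfsg.pCore p (G ⧸ C)).comap (QuotientGroup.mk' C)) =
          Nat.card (Cfsg.pCore p (G ⧸ C)) := by
        rw [Subgroup.relIndex_comap, Subgroup.map_comap_eq_self_of_surjective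
          (QuotientGroup.mk'_surjective C), Subgroup.relIndex_bot_left]
      have e1 : (⊥ : Subgroup (G ⧸ C)).comap (QuotientGroup.mk' C) = C := by
        rw [MonoidHom.comap_bot, QuotientGroup.ker_mk']
      rw [e1] at e2
      rw [e2]
      exact IsPGroup.iff_card.1 pCore_isPGroup
    obtain ⟨k, hk⟩ := hpow
    rw [hk] at d2
    obtain ⟨j, -, hj⟩ := (Nat.dvd_prime_pow Fact.out).1 d2
    rcases Nat.eq_zero_or_pos j with rfl | hjpos
    · rw [hj, pow_zero]
    · exfalso
      apply hnd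
      refine Dvd.dvd.trans ?_ d1
      rw [hj]
      exact dvd_pow_self p hjpos.ne'
  have htop : Subgroup.normalizer (((S : Subgroup G) ⊓
      (Cfsg.pCore p (G ⧸ C)).comap (QuotientGroup.mk' C) : Subgroup G) : Set G) ⊔ C = ⊤ := by
    rw [eq_top_iff, ← hfr]
    refine sup_le le_sup_left (hKTC.trans (sup_le (Subgroup.le_normalizer.trans le_sup_left)
      le_sup_right))
  have hg : g ∈ ((Subgroup.normalizer (((S : Subgroup G) ⊓
      (Cfsg.pCore p (G ⧸ C)).comap (QuotientGroup.mk' C) : Subgroup G) : Set G) ⊔ C : Subgroup G) :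
      Set G) := by rw [htop]; trivial
  rw [Subgroup.mul_normal] at hg
  obtain ⟨x, hx, c, hc, rfl⟩ := Set.mem_mul.1 hg
  exact ⟨x, hx, c, hc, rfl⟩

set_option maxHeartbeats 1600000 in
theorem claimB (hp : p ≠ 2)
    (hst : ∀ (P : Subgroup G) [P.Normal], IsPGroup p P → Cfsg.IsPStableOn p P)
    (S : Sylow p G) {D₀ : Subgroup G} {F : Set (Subgroup G)} {E : G → Prop}
    (hD : Datum (S : Subgroup G) D₀ F E) :
    ∀ n : ℕ, ∀ B : Subgroup G, B.Normal → IsPGroup p B → Nat.card B = n →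
      (Zd F E ⊓ B).Normal := by
  intro n
  induction n using Nat.strong_induction_on with
  | _ n ih =>
  intro B hBn hBp hcard
  by_contra hnn
  haveI := hBn
  have hSZ := S_conj_Zd (S : Subgroup G) hD
  have hBS : B ≤ S := normal_pGroup_le_sylow B hBn hBp S
  -- (1) B is the normal closure of Z ∩ B
  have h1 : Subgroup.normalClosure ((Zd F E ⊓ B : Subgroup G) : Set G) = B := by
    by_contra hne
    have hle : Subgroup.normalClosure ((Zd F E ⊓ B : Subgroup G) : Set G) ≤ B :=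
      Subgroup.normalClosure_le_normal inf_le_right
    have hlt := lt_of_le_of_ne hle hne
    have hLn : (Subgroup.normalClosure ((Zd F E ⊓ B : Subgroup G) : Set G)).Normal :=
      Subgroup.normalClosure_normal
    have h2 := ih _ (hcard ▸ Cfsg.Agent.Lib.Lead_SZ.card_lt hlt) _ hLn (hBp.to_le hle) rfl
    have heq : Zd F E ⊓ Subgroup.normalClosure ((Zd F E ⊓ B : Subgroup G) : Set G) =
        Zd F E ⊓ B :=
      le_antisymm (inf_le_inf_left _ hle) (le_inf inf_le_left Subgroup.le_normalClosure)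
    rw [heq] at h2
    exact hnn h2
  -- (2) B' ≤ Z
  have hBne : B ≠ ⊥ := by
    rintro rfl
    apply hnn
    rw [inf_bot_eq]
    infer_instance
  have hB'lt : ⁅B, B⁆ < B := commutator_lt_of_pgroup p B B hBp hBp Subgroup.le_normalizer hBne
  have hB'n : (⁅B, B⁆ : Subgroup G).Normal := inferInstance
  have hN2 : (Zd F E ⊓ ⁅B, B⁆).Normal :=
    ih _ (hcard ▸ Cfsg.Agent.Lib.Lead_SZ.card_lt hB'lt) _ hB'n (hBp.to_le hB'lt.le) rfl
  have hB'Z : ⁅B, B⁆ ≤ Zd F E := by
    let M₂ : Subgroup G :=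
      { carrier := {g | ∀ b ∈ B, g * b * g⁻¹ * b⁻¹ ∈ Zd F E ⊓ ⁅B, B⁆}
        one_mem' := fun b _ => by
          have : (1 : G) * b * 1⁻¹ * b⁻¹ = 1 := by group
          rw [this]; exact Subgroup.one_mem _
        mul_mem' := by
          intro g h hg hh b hb
          have e : g * h * b * (g * h)⁻¹ * b⁻¹ =
              g * (h * b * h⁻¹ * b⁻¹) * g⁻¹ * (g * b * g⁻¹ * b⁻¹) := by group
          rw [e]
          exact Subgroup.mul_mem _ (hN2.conj_mem _ (hh b hb) g) (hg b hb)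
        inv_mem' := by
          intro g hg b hb
          have e : g⁻¹ * b * g⁻¹⁻¹ * b⁻¹ = g⁻¹ * (g * b * g⁻¹ * b⁻¹)⁻¹ * g⁻¹⁻¹ := by group
          rw [e]
          exact hN2.conj_mem _ (Subgroup.inv_mem _ (hg b hb)) g⁻¹ }
    have hM₂n : M₂.Normal := by
      constructor
      intro g hg y b hb
      have hb' : y⁻¹ * b * y ∈ B := by
        have := hBn.conj_mem b hb y⁻¹
        rwa [inv_inv] at this
      have e : y * g * y⁻¹ * b * (y * g * y⁻¹)⁻¹ * b⁻¹ =
          y * (g * (y⁻¹ * b * y) * g⁻¹ * (y⁻¹ * b * y)⁻¹) * y⁻¹ := by group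
      rw [e]
      exact hN2.conj_mem _ (hg _ hb') y
    have hsub : ((Zd F E ⊓ B : Subgroup G) : Set G) ⊆ M₂ := by
      intro z hz b hb
      refine ⟨?_, Subgroup.commutator_mem_commutator hz.2 hb⟩
      have e : z * b * z⁻¹ * b⁻¹ = z * (b * z⁻¹ * b⁻¹) := by group
      rw [e]
      exact Subgroup.mul_mem _ hz.1 (hSZ b (hBS hb) _ (Subgroup.inv_mem _ hz.1))
    have hBM : B ≤ M₂ := by
      rw [← h1]
      exact Subgroup.normalClosure_le_normal hsub
    rw [Subgroup.commutator_le]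
    intro b₁ hb₁ b₂ hb₂
    rw [commutatorElement_def]
    exact (hBM hb₁ b₂ hb₂).1
  by_cases hall : ∀ U ∈ F, B ≤ U
  · -- Case 1
    apply hnn
    have hBZ : B ≤ Zd F E := by
      intro b hb
      obtain ⟨U₀, hU₀⟩ := hD.ne
      apply Subgroup.subset_closure
      refine ⟨⟨le_sSup hU₀ (hall U₀ hU₀ hb), ?_⟩, hD.el U₀ hU₀ b (hall U₀ hU₀ hb)⟩
      have hle : sSup F ≤ Subgroup.centralizer ({b} : Set G) := by
        apply sSup_le
        intro U hU u hu
        rw [Subgroup.mem_centralizer_singleton_iff]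
        exact hD.comm U hU _ hu _ (hall U hU hb)
      show b ∈ Subgroup.centralizer ((sSup F : Subgroup G) : Set G)
      rw [Subgroup.mem_centralizer_iff]
      intro h hh
      have := hle hh
      rw [Subgroup.mem_centralizer_singleton_iff] at this
      exact this
    rw [inf_eq_right.2 hBZ]
    exact hBn
  · -- Case 2
    push_neg at hall
    obtain ⟨U, hU, hnU⟩ := hall
    obtain ⟨A, hAF, hnBA, hBNA⟩ := replacement_in_sylow hp S hD B hBS U hU
      (hB'Z.trans (Z_le_U hD hU)) hnU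
    have hAcomm := hD.comm A hAF
    -- quadratic action
    have hquad : ∀ a ∈ A, ⁅⁅B, Subgroup.zpowers a⁆, Subgroup.zpowers a⁆ = ⊥ := by
      intro a ha
      have hzA : Subgroup.zpowers a ≤ A := by rw [Subgroup.zpowers_le]; exact ha
      have h3 : ⁅B, Subgroup.zpowers a⁆ ≤ A := by
        rw [Subgroup.commutator_le]
        intro b hb w hw
        rw [commutatorElement_def]
        exact A.mul_mem (hBNA b hb w (hzA hw)) (A.inv_mem (hzA hw))
      rw [eq_bot_iff]
      calc ⁅⁅B, Subgroup.zpowers a⁆, Subgroup.zpowers a⁆ ≤ ⁅A, A⁆ :=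
            Subgroup.commutator_mono h3 hzA
        _ ≤ ⊥ := by
          rw [Subgroup.commutator_le]
          intro u hu v hv
          rw [commutatorElement_def, Subgroup.mem_bot, hAcomm u hu v hv]; group
    have hstB := hst B hBp
    have hAK : A ≤ (Cfsg.pCore p (G ⧸ Subgroup.centralizer (B : Set G))).comap
        (QuotientGroup.mk' _) := fun a ha => hstB a (hquad a ha)
    -- F_T and its join
    have hAT : A ≤ (S : Subgroup G) ⊓ (Cfsg.pCore p (G ⧸ Subgroup.centralizer (B : Set G))).comap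
        (QuotientGroup.mk' _) := le_inf ((hD.sub A hAF).trans hD.dS) hAK
    obtain ⟨T, hT⟩ : ∃ T : Subgroup G, T = (S : Subgroup G) ⊓
        (Cfsg.pCore p (G ⧸ Subgroup.centralizer (B : Set G))).comap (QuotientGroup.mk' _) :=
      ⟨_, rfl⟩
    rw [← hT] at hAT
    have hTS : T ≤ S := by rw [hT]; exact inf_le_left
    have hpres : ∀ x ∈ Subgroup.normalizer (T : Set G), ∀ U ∈ {U | U ∈ F ∧ U ≤ T},
        U.map (MulAut.conj x).toMonoidHom ∈ {U | U ∈ F ∧ U ≤ T} := by
      intro x hx U hU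
      have hle : U.map (MulAut.conj x).toMonoidHom ≤ T := by
        rintro _ ⟨u, hu, rfl⟩
        exact (Subgroup.mem_normalizer_iff.1 hx u).1 (hU.2 hu)
      exact ⟨conj_mem_F hD hU.1 x (hle.trans hTS), hle⟩
    have hJT : sSup {U | U ∈ F ∧ U ≤ T} ≤ sSup F := sSup_le_sSup (fun U hU => hU.1)
    have hxM : ∀ x ∈ Subgroup.normalizer (T : Set G),
        ∀ c ∈ Subgroup.centralizer ((sSup {U | U ∈ F ∧ U ≤ T} : Subgroup G) : Set G),
        x * c * x⁻¹ ∈ Subgroup.centralizer ((sSup {U | U ∈ F ∧ U ≤ T} : Subgroup G) : Set G) := by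
      intro x hx
      apply conj_centralizer x
      intro y hy
      have := conj_sSup x⁻¹ (hpres x⁻¹ (Subgroup.inv_mem _ hx)) y hy
      rwa [inv_inv] at this
    -- every conjugate of Z ∩ B lies in M
    have hconj : ∀ g : G, ∀ z ∈ Zd F E ⊓ B,
        g * z * g⁻¹ ∈ Subgroup.centralizer ((sSup {U | U ∈ F ∧ U ≤ T} : Subgroup G) : Set G) := by
      intro g z hz
      obtain ⟨x, hx, c, hc, rfl⟩ := frattini_factor S (Subgroup.centralizer (B : Set G)) g
      rw [← hT] at hx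
      have hcz : c * z * c⁻¹ = z := by
        have := Subgroup.mem_centralizer_iff.1 hc z hz.2
        rw [← this]; group
      have e : x * c * z * (x * c)⁻¹ = x * (c * z * c⁻¹) * x⁻¹ := by group
      rw [e, hcz]
      apply hxM x hx
      exact Subgroup.centralizer_le hJT (Zd_le F E hz.1).2
    -- B ≤ A
    apply hnBA
    rw [← h1, Subgroup.normalClosure, Subgroup.closure_le]
    intro y hy
    obtain ⟨z, hz, hzy⟩ := Group.mem_conjugatesOfSet_iff.1 hy
    obtain ⟨g, rfl⟩ := isConj_iff.1 hzy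
    have hyB : g * z * g⁻¹ ∈ B := hBn.conj_mem z hz.2 g
    refine hD.maxl A hAF _ (hD.sc z (J_le hD (Zd_le F E hz.1).1) g (hBS hyB))
      (hD.e_conj z g (Zd_E hD z hz.1)) ?_
    intro u hu
    have := Subgroup.mem_centralizer_iff.1 (hconj g z hz) u
      (le_sSup (show A ∈ {U | U ∈ F ∧ U ≤ T} from ⟨hAF, hAT⟩) hu)
    exact this.symm

/-- The abstract ZJ-theorem. -/
theorem zj_normal (hp : p ≠ 2)
    (hc : Subgroup.centralizer ((Cfsg.pCore p G : Subgroup G) : Set G) ≤ Cfsg.pCore p G)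
    (hst : ∀ (P : Subgroup G) [P.Normal], IsPGroup p P → Cfsg.IsPStableOn p P)
    (S : Sylow p G) {D₀ : Subgroup G} {F : Set (Subgroup G)} {E : G → Prop}
    (hD : Datum (S : Subgroup G) D₀ F E) :
    (Zd F E).Normal := by
  have h := claimB hp hst S hD _ (Cfsg.pCore p G) (pCore_normal p G) pCore_isPGroup rfl
  rwa [inf_eq_left.2 (Z_le_Q hc hst S hD)] at h

end main

section functorial

theorem map_map_symm (ϕ : G ≃* G) (P : Subgroup G) :
    (P.map ϕ.toMonoidHom).map ϕ.symm.toMonoidHom = P := by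
  ext x
  constructor
  · rintro ⟨_, ⟨y, hy, rfl⟩, rfl⟩
    simpa using hy
  · intro hx
    exact ⟨ϕ x, ⟨x, hx, rfl⟩, by simp⟩

theorem map_symm_map (ϕ : G ≃* G) (P : Subgroup G) :
    (P.map ϕ.symm.toMonoidHom).map ϕ.toMonoidHom = P := by
  ext x
  constructor
  · rintro ⟨_, ⟨y, hy, rfl⟩, rfl⟩
    simpa using hy
  · intro hx
    exact ⟨ϕ.symm x, ⟨x, hx, rfl⟩, by simp⟩

variable (Fam : Subgroup G → Set (Subgroup G)) (E : G → Prop)
  (hmap : ∀ (ϕ : G ≃* G) (P U : Subgroup G), U ∈ Fam P →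
    U.map ϕ.toMonoidHom ∈ Fam (P.map ϕ.toMonoidHom))
  (hE : ∀ (ϕ : G ≃* G) (z : G), E z → E (ϕ z))
include hmap

theorem J_map_le (ϕ : G ≃* G) (P : Subgroup G) :
    (sSup (Fam P)).map ϕ.toMonoidHom ≤ sSup (Fam (P.map ϕ.toMonoidHom)) := by
  rw [Subgroup.map_le_iff_le_comap]
  apply sSup_le
  intro U hU
  rw [← Subgroup.map_le_iff_le_comap]
  exact le_sSup (hmap ϕ P U hU)

theorem J_map_eq (ϕ : G ≃* G) (P : Subgroup G) :
    (sSup (Fam P)).map ϕ.toMonoidHom = sSup (Fam (P.map ϕ.toMonoidHom)) := by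
  apply le_antisymm (J_map_le Fam hmap ϕ P)
  have h := J_map_le Fam hmap ϕ.symm (P.map ϕ.toMonoidHom)
  rw [map_map_symm] at h
  have h2 := Subgroup.map_mono (f := ϕ.toMonoidHom) h
  rwa [map_symm_map] at h2

include hE

theorem Zd_map_le (ϕ : G ≃* G) (P : Subgroup G) :
    (Zd (Fam P) E).map ϕ.toMonoidHom ≤ Zd (Fam (P.map ϕ.toMonoidHom)) E := by
  rw [Subgroup.map_le_iff_le_comap]
  unfold Zd
  rw [Subgroup.closure_le]
  intro z hz
  apply Subgroup.subset_closure
  refine ⟨⟨?_, ?_⟩, hE ϕ z hz.2⟩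
  · exact J_map_le Fam hmap ϕ P (Subgroup.mem_map_of_mem _ hz.1.1)
  · show ϕ z ∈ Subgroup.centralizer ((sSup (Fam (P.map ϕ.toMonoidHom)) : Subgroup G) : Set G)
    rw [Subgroup.mem_centralizer_iff]
    intro y hy
    rw [← J_map_eq Fam hmap ϕ P] at hy
    obtain ⟨y', hy', rfl⟩ := hy
    have := Subgroup.mem_centralizer_iff.1 hz.1.2 y' hy'
    show ϕ y' * ϕ z = ϕ z * ϕ y'
    rw [← map_mul, ← map_mul, this]

theorem Zd_map_eq (ϕ : G ≃* G) (P : Subgroup G) :
    (Zd (Fam P) E).map ϕ.toMonoidHom = Zd (Fam (P.map ϕ.toMonoidHom)) E := by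
  apply le_antisymm (Zd_map_le Fam E hmap hE ϕ P)
  have h := Zd_map_le Fam E hmap hE ϕ.symm (P.map ϕ.toMonoidHom)
  rw [map_map_symm] at h
  have h2 := Subgroup.map_mono (f := ϕ.toMonoidHom) h
  rwa [map_symm_map] at h2

omit hmap hE in
/-- A functorial construction which is normal for Sylow subgroups is characteristic. -/
theorem char_of_functorial [Finite G] {p : ℕ} [Fact p.Prime] (Zf : Subgroup G → Subgroup G)
    (hf : ∀ (ϕ : G ≃* G) (P : Subgroup G),
      (Zf P).map ϕ.toMonoidHom = Zf (P.map ϕ.toMonoidHom))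
    (S : Sylow p G) (hn : (Zf (S : Subgroup G)).Normal) :
    (Zf (S : Subgroup G)).Characteristic := by
  rw [Subgroup.characteristic_iff_map_le]
  intro ϕ
  rw [hf]
  obtain ⟨g, hg⟩ := MulAction.exists_smul_eq G S (ϕ • S)
  have h1 : (S : Subgroup G).map (MulAut.conj g).toMonoidHom =
      (S : Subgroup G).map ϕ.toMonoidHom := by
    have := congrArg (fun Q : Sylow p G => (Q : Subgroup G)) hg
    exact this
  rw [← h1, ← hf]
  rintro _ ⟨z, hz, rfl⟩
  exact hn.conj_mem z hz g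

end functorial

section families


/-- abelian subgroups of `P` of largest order, as subgroups of `G` -/
def FA (P : Subgroup G) : Set (Subgroup G) :=
  {U | U ≤ P ∧ IsMulCommutative U ∧
    ∀ V : Subgroup G, V ≤ P → IsMulCommutative V → Nat.card V ≤ Nat.card U}

theorem thompsonA_eq (P : Subgroup G) : Cfsg.thompsonSubgroupAOf P = sSup (FA P) := by
  unfold Cfsg.thompsonSubgroupAOf Cfsg.thompsonSubgroupA
  apply le_antisymm
  · rw [Subgroup.map_le_iff_le_comap]
    apply sSup_le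
    intro A₀ hA₀
    rw [← Subgroup.map_le_iff_le_comap]
    apply le_sSup
    haveI := hA₀.1
    refine ⟨Subgroup.map_subtype_le _, inferInstance, ?_⟩
    intro V hV hVc
    haveI := hVc
    rw [Subgroup.card_map_of_injective P.subtype_injective,
      ← Cfsg.Agent.Lib.Lead_SZ.card_subgroupOf_of_le hV]
    exact hA₀.2 (V.subgroupOf P) inferInstance
  · apply sSup_le
    intro U hU
    rw [← Subgroup.map_subgroupOf_eq_of_le hU.1]
    apply Subgroup.map_mono
    apply le_sSup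
    haveI := hU.2.1
    refine ⟨inferInstance, ?_⟩
    intro B₀ hB₀
    haveI := hB₀
    rw [Cfsg.Agent.Lib.Lead_SZ.card_subgroupOf_of_le hU.1,
      ← Subgroup.card_map_of_injective (K := B₀) P.subtype_injective]
    exact hU.2.2 _ (Subgroup.map_subtype_le _) inferInstance

theorem centerThompsonA_eq (P : Subgroup G) :
    Cfsg.centerThompsonAOf P = Zd (FA P) (fun _ => True) := by
  unfold Cfsg.centerThompsonAOf Zd
  rw [thompsonA_eq]
  simp only [and_true]
  exact (Subgroup.closure_eq _).symm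

theorem FA_datum [Finite G] (S P : Subgroup G) (hPS : P ≤ S)
    (hsc : ∀ u ∈ P, ∀ g : G, g * u * g⁻¹ ∈ S → g * u * g⁻¹ ∈ P) :
    Datum S P (FA P) (fun _ => True) := by
  classical
  refine ⟨?_, hPS, hsc, fun U hU => hU.1, fun U hU u hu v hv => ?_, fun _ _ _ _ => trivial, ?_, ?_,
    trivial, fun _ _ _ _ _ => trivial, fun _ _ => trivial, fun _ _ _ => trivial⟩
  · have hfin : {V : Subgroup G | V ≤ P ∧ IsMulCommutative V}.Finite := Set.toFinite _
    obtain ⟨U, ⟨hU1, hU2⟩, hmax⟩ := Set.exists_max_image _ (fun V : Subgroup G => Nat.card V) hfin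
      ⟨⊥, bot_le, inferInstance⟩
    exact ⟨U, hU1, hU2, fun V hV hVc => hmax V ⟨hV, hVc⟩⟩
  · haveI := hU.2.1
    exact Subgroup.mul_comm_of_mem_isMulCommutative U hu hv
  · intro U hU U' hU' hU'c hcard _
    refine ⟨hU', hU'c, fun V hV hVc => ?_⟩
    rw [hcard]; exact hU.2.2 V hV hVc
  · intro U hU b hb _ hcomm
    haveI := hU.2.1
    have hc : IsMulCommutative (Subgroup.closure ((U : Set G) ∪ {b})) := by
      apply Subgroup.isMulCommutative_closure
      intro x hx y hy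
      rcases hx with hx | hx <;> rcases hy with hy | hy
      · exact Subgroup.mul_comm_of_mem_isMulCommutative U hx hy
      · rw [Set.mem_singleton_iff] at hy; subst hy; exact (hcomm x hx).symm
      · rw [Set.mem_singleton_iff] at hx; subst hx; exact hcomm y hy
      · rw [Set.mem_singleton_iff] at hx hy; subst hx; subst hy; rfl
    have hle : Subgroup.closure ((U : Set G) ∪ {b}) ≤ P := by
      rw [Subgroup.closure_le]
      rintro x (hx | hx)
      · exact hU.1 hx
      · rw [Set.mem_singleton_iff] at hx; subst hx; exact hb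
    have hUle : U ≤ Subgroup.closure ((U : Set G) ∪ {b}) :=
      fun x hx => Subgroup.subset_closure (Or.inl hx)
    have hcard := hU.2.2 _ hle hc
    have heq := Cfsg.Agent.Lib.Lead_SZ.eq_of_le_of_card_eq hUle
      (le_antisymm (Subgroup.card_le_of_le hUle) hcard)
    rw [heq]
    exact Subgroup.subset_closure (Or.inr rfl)

theorem FA_map (ϕ : G ≃* G) (P U : Subgroup G) (hU : U ∈ FA P) :
    U.map ϕ.toMonoidHom ∈ FA (P.map ϕ.toMonoidHom) := by
  haveI := hU.2.1
  refine ⟨Subgroup.map_mono hU.1, inferInstance, ?_⟩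
  intro V hV hVc
  haveI := hVc
  have h1 : V.map ϕ.symm.toMonoidHom ≤ P := by
    have := Subgroup.map_mono (f := ϕ.symm.toMonoidHom) hV
    rwa [map_map_symm] at this
  have h2 := hU.2.2 _ h1 inferInstance
  rw [Subgroup.card_map_of_injective ϕ.symm.injective] at h2
  rw [Subgroup.card_map_of_injective ϕ.injective]
  exact h2


/-- elementary abelian subgroups of `P` of largest order, as subgroups of `G` -/
def FE (p : ℕ) (P : Subgroup G) : Set (Subgroup G) :=
  {U | U ≤ P ∧ Cfsg.IsElementaryAbelian p U ∧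
    ∀ V : Subgroup G, V ≤ P → Cfsg.IsElementaryAbelian p V → Nat.card V ≤ Nat.card U}

theorem elab_map {H K : Type*} [Group H] [Group K] (p : ℕ) (f : H →* K) (A : Subgroup H)
    (hA : Cfsg.IsElementaryAbelian p A) : Cfsg.IsElementaryAbelian p (A.map f) := by
  haveI := hA.1
  refine ⟨inferInstance, ?_⟩
  rintro _ ⟨a, ha, rfl⟩
  rw [← map_pow, hA.2 a ha, map_one]

theorem elab_subgroupOf (p : ℕ) (P V : Subgroup G) (hV : Cfsg.IsElementaryAbelian p V) :
    Cfsg.IsElementaryAbelian p (V.subgroupOf P) := by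
  haveI := hV.1
  refine ⟨inferInstance, ?_⟩
  intro a ha
  apply Subtype.ext
  rw [Subgroup.coe_pow, Subgroup.coe_one]
  exact hV.2 _ (Subgroup.mem_subgroupOf.1 ha)

theorem thompsonE_eq (p : ℕ) (P : Subgroup G) :
    (Cfsg.thompsonSubgroup p ↥P).map P.subtype = sSup (FE p P) := by
  unfold Cfsg.thompsonSubgroup
  apply le_antisymm
  · rw [Subgroup.map_le_iff_le_comap]
    apply sSup_le
    intro A₀ hA₀
    rw [← Subgroup.map_le_iff_le_comap]
    apply le_sSup
    refine ⟨Subgroup.map_subtype_le _, elab_map p _ _ hA₀.1, ?_⟩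
    intro V hV hVc
    rw [Subgroup.card_map_of_injective P.subtype_injective,
      ← Cfsg.Agent.Lib.Lead_SZ.card_subgroupOf_of_le hV]
    exact hA₀.2 (V.subgroupOf P) (elab_subgroupOf p P V hVc)
  · apply sSup_le
    intro U hU
    rw [← Subgroup.map_subgroupOf_eq_of_le hU.1]
    apply Subgroup.map_mono
    apply le_sSup
    refine ⟨elab_subgroupOf p P U hU.2.1, ?_⟩
    intro B₀ hB₀
    rw [Cfsg.Agent.Lib.Lead_SZ.card_subgroupOf_of_le hU.1,
      ← Subgroup.card_map_of_injective (K := B₀) P.subtype_injective]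
    exact hU.2.2 _ (Subgroup.map_subtype_le _) (elab_map p _ _ hB₀)

theorem omegaCenterThompson_eq (p : ℕ) (P : Subgroup G) :
    (Cfsg.omegaCenterThompson p ↥P).map P.subtype = Zd (FE p P) (fun b => b ^ p = 1) := by
  unfold Cfsg.omegaCenterThompson Cfsg.omegaOne Zd
  rw [MonoidHom.map_closure, ← thompsonE_eq]
  congr 1
  ext z
  constructor
  · rintro ⟨x, ⟨⟨hx1, hx2⟩, hx3⟩, rfl⟩
    refine ⟨⟨Subgroup.mem_map_of_mem _ hx1, ?_⟩, ?_⟩
    · show (x : G) ∈ Subgroup.centralizer _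
      rw [Subgroup.mem_centralizer_iff]
      rintro _ ⟨y₀, hy₀, rfl⟩
      have := Subgroup.mem_centralizer_iff.1 hx2 y₀ hy₀
      have h2 := congrArg (fun t : ↥P => (t : G)) this
      simpa using h2
    · have h2 := congrArg (fun t : ↥P => (t : G)) hx3
      simpa using h2
  · rintro ⟨⟨⟨x, hx1, rfl⟩, hz2⟩, hz3⟩
    refine ⟨x, ⟨⟨hx1, ?_⟩, ?_⟩, rfl⟩
    · show x ∈ Subgroup.centralizer _
      rw [Subgroup.mem_centralizer_iff]
      intro y₀ hy₀
      have := Subgroup.mem_centralizer_iff.1 hz2 _ (Subgroup.mem_map_of_mem P.subtype hy₀)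
      apply Subtype.ext
      simpa using this
    · apply Subtype.ext
      simpa using hz3

theorem FE_datum [Finite G] (p : ℕ) (S P : Subgroup G) (hPS : P ≤ S)
    (hsc : ∀ u ∈ P, ∀ g : G, g * u * g⁻¹ ∈ S → g * u * g⁻¹ ∈ P) :
    Datum S P (FE p P) (fun b => b ^ p = 1) := by
  classical
  refine ⟨?_, hPS, hsc, fun U hU => hU.1, fun U hU u hu v hv => ?_, fun U hU u hu => hU.2.1.2 u hu,
    ?_, ?_, one_pow p, fun a b ha hb hab => ?_, fun a ha => ?_, fun a g ha => ?_⟩
  · have hfin : {V : Subgroup G | V ≤ P ∧ Cfsg.IsElementaryAbelian p V}.Finite := Set.toFinite _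
    obtain ⟨U, ⟨hU1, hU2⟩, hmax⟩ := Set.exists_max_image _ (fun V : Subgroup G => Nat.card V) hfin
      ⟨⊥, bot_le, inferInstance, fun a ha => by rw [Subgroup.mem_bot.1 ha, one_pow]⟩
    exact ⟨U, hU1, hU2, fun V hV hVc => hmax V ⟨hV, hVc⟩⟩
  · haveI := hU.2.1.1
    exact Subgroup.mul_comm_of_mem_isMulCommutative U hu hv
  · intro U hU U' hU' hU'c hcard hexp
    refine ⟨hU', ⟨hU'c, ?_⟩, fun V hV hVc => ?_⟩
    · intro a ha
      have h1 : Monoid.exponent ↥U ∣ p := by
        apply Monoid.exponent_dvd_of_forall_pow_eq_one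
        rintro ⟨u, hu⟩
        apply Subtype.ext
        rw [Subgroup.coe_pow, Subgroup.coe_one]
        exact hU.2.1.2 u hu
      have h3 : ∀ g : U', g ^ p = 1 :=
        Monoid.exponent_dvd_iff_forall_pow_eq_one.1 (hexp.trans h1)
      have h5 := congrArg (fun t : U' => (t : G)) (h3 ⟨a, ha⟩)
      simpa using h5
    · rw [hcard]; exact hU.2.2 V hV hVc
  · intro U hU b hb hbp hcomm
    haveI := hU.2.1.1
    have hc : IsMulCommutative (Subgroup.closure ((U : Set G) ∪ {b})) := by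
      apply Subgroup.isMulCommutative_closure
      intro x hx y hy
      rcases hx with hx | hx <;> rcases hy with hy | hy
      · exact Subgroup.mul_comm_of_mem_isMulCommutative U hx hy
      · rw [Set.mem_singleton_iff] at hy; subst hy; exact (hcomm x hx).symm
      · rw [Set.mem_singleton_iff] at hx; subst hx; exact hcomm y hy
      · rw [Set.mem_singleton_iff] at hx hy; subst hx; subst hy; rfl
    have hpow : ∀ x ∈ Subgroup.closure ((U : Set G) ∪ {b}), x ^ p = 1 := by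
      intro x hx
      induction hx using Subgroup.closure_induction with
      | mem x hx =>
        rcases hx with hx | hx
        · exact hU.2.1.2 x hx
        · rw [Set.mem_singleton_iff] at hx; subst hx; exact hbp
      | one => exact one_pow p
      | mul x y hx hy ihx ihy =>
        have hxy : Commute x y := Subgroup.mul_comm_of_mem_isMulCommutative _ hx hy
        rw [hxy.mul_pow, ihx, ihy, one_mul]
      | inv x hx ih => rw [inv_pow, ih, inv_one]
    have hle : Subgroup.closure ((U : Set G) ∪ {b}) ≤ P := by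
      rw [Subgroup.closure_le]
      rintro x (hx | hx)
      · exact hU.1 hx
      · rw [Set.mem_singleton_iff] at hx; subst hx; exact hb
    have hUle : U ≤ Subgroup.closure ((U : Set G) ∪ {b}) :=
      fun x hx => Subgroup.subset_closure (Or.inl hx)
    have hcard := hU.2.2 _ hle ⟨hc, hpow⟩
    have heq := Cfsg.Agent.Lib.Lead_SZ.eq_of_le_of_card_eq hUle
      (le_antisymm (Subgroup.card_le_of_le hUle) hcard)
    rw [heq]
    exact Subgroup.subset_closure (Or.inr rfl)
  · have h : Commute a b := hab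
    show (a * b) ^ p = 1
    rw [h.mul_pow, ha, hb, one_mul]
  · show (a⁻¹) ^ p = 1
    rw [inv_pow, ha, inv_one]
  · show (g * a * g⁻¹) ^ p = 1
    rw [conj_pow, ha]; group

theorem FE_map (p : ℕ) (ϕ : G ≃* G) (P U : Subgroup G) (hU : U ∈ FE p P) :
    U.map ϕ.toMonoidHom ∈ FE p (P.map ϕ.toMonoidHom) := by
  refine ⟨Subgroup.map_mono hU.1, elab_map p _ _ hU.2.1, ?_⟩
  intro V hV hVc
  have h1 : V.map ϕ.symm.toMonoidHom ≤ P := by
    have := Subgroup.map_mono (f := ϕ.symm.toMonoidHom) hV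
    rwa [map_map_symm] at this
  have h2 := hU.2.2 _ h1 (elab_map p _ _ hVc)
  rw [Subgroup.card_map_of_injective ϕ.symm.injective] at h2
  rw [Subgroup.card_map_of_injective ϕ.injective]
  exact h2

end families

end Cfsg.Agent.Lib.Lead_ZJ
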