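import Mathlib
import Cfsg.Prelude.Def_PLocal
import Cfsg.Agent.Lib.Lead_OddQuad2
import Cfsg.Agent.Lib.Lead_QuadAct
import Cfsg.Agent.Lib.Lead_PStab2
import Cfsg.Agent.Lib.Lead_PStable
import Cfsg.Agent.Lib.Lead_Fitting
import Cfsg.Agent.Lib.Lead_ZJ
import Cfsg.Agent.S0044

/-!
# p-stability of solvable groups of odd order
-/

namespace Cfsg.Agent.Lib.Lead_OddStab

open Cfsg.Agent.Lib.Helper4_PCore Cfsg.Agent.Lib.Lead_PStable Cfsg.Agent.Lib.Lead_QuadAct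
  Cfsg.Agent.Lib.Lead_PStab2 Cfsg.Agent.Lib.Lead_OddQuad2
open scoped commutatorElement

theorem eq_one_of_pow {M : Type*} [Monoid M] {p r : ℕ} [hp : Fact p.Prime] [hr : Fact r.Prime]
    (hrp : r ≠ p) {g : M} {a b : ℕ} (h1 : g ^ (p ^ a) = 1) (h2 : g ^ (r ^ b) = 1) : g = 1 := by
  have hcop : Nat.Coprime (p ^ a) (r ^ b) :=
    Nat.Coprime.pow _ _ ((Nat.coprime_primes hp.out hr.out).2 (Ne.symm hrp))
  have hg : g ^ (Nat.gcd (p ^ a) (r ^ b)) = 1 := pow_gcd_eq_one.2 ⟨h1, h2⟩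
  rwa [hcop.gcd_eq_one, pow_one] at hg

/-- The version of `quad_comm_conj` for an `r`-group `Q` (mod the kernel) in place of an abelian
`p'`-group. -/
theorem quad_comm_conj_r {Γ : Type*} [Group Γ] [Finite Γ] {p r : ℕ} [Fact p.Prime] [Fact r.Prime]
    (hp2 : p ≠ 2) (hr2 : r ≠ 2) (hrp : r ≠ p)
    (U : Subgroup Γ) [hU : U.Normal] (hUc : ∀ x ∈ U, ∀ y ∈ U, x * y = y * x)
    (hUp : ∀ x ∈ U, x ^ p = 1)
    (Q : Subgroup Γ)
    (hQr : ∀ x ∈ Q, ∃ k, ∀ u ∈ U, x ^ (r ^ k) * u * (x ^ (r ^ k))⁻¹ = u)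
    (a : Γ) (t : ℕ) (hat : a ^ (p ^ t) = 1)
    (ha : ∀ x ∈ Q, a * x * a⁻¹ ∈ Q) (ha' : ∀ x ∈ Q, a⁻¹ * x * a ∈ Q)
    (hquad : ∀ u ∈ U, a * (a * u * a⁻¹ * u⁻¹) * a⁻¹ = a * u * a⁻¹ * u⁻¹) :
    ∀ x ∈ Q, ∀ u ∈ U, (a * x) * u * (a * x)⁻¹ = (x * a) * u * (x * a)⁻¹ := by
  letI : CommGroup ↥U :=
    { (inferInstance : Group ↥U) with
      mul_comm := fun x y => Subtype.ext (hUc x x.2 y y.2) }
  have hθ : ∀ (g : Γ) (u : ↥U), ((MulAut.conjNormal g u : ↥U) : Γ) = g * u * g⁻¹ :=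
    fun g u => MulAut.conjNormal_apply g u
  have hext : ∀ g g' : Γ, (∀ u ∈ U, g * u * g⁻¹ = g' * u * g'⁻¹) →
      (MulAut.conjNormal g : MulAut ↥U) = MulAut.conjNormal g' := by
    intro g g' h
    ext u
    rw [hθ, hθ]
    exact h u u.2
  set θ : Γ →* MulAut ↥U := MulAut.conjNormal with hθdef
  set ρ : MulAut ↥U →* AddMonoid.End (Additive ↥U) := linAut ↥U with hρ
  have hρa : ∀ (e : MulAut ↥U) (u : ↥U), ρ e (Additive.ofMul u) = Additive.ofMul (e u) :=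
    fun e u => rfl
  have hUp' : ∀ u : ↥U, u ^ p = 1 := fun u => Subtype.ext (by simpa using hUp u u.2)
  have hchar : ((p : ℕ) : AddMonoid.End (Additive ↥U)) = 0 := by
    ext u
    rw [AddMonoid.End.natCast_apply]
    obtain ⟨u', rfl⟩ := Additive.ofMul.surjective u
    rw [← ofMul_pow, hUp']
    rfl
  have hquad' : ∀ u : ↥U, θ a (θ a u / u) = θ a u / u := by
    intro u
    apply Subtype.ext
    rw [hθ]
    have e : (((θ a u : ↥U) / u : ↥U) : Γ) = a * u * a⁻¹ * (u : Γ)⁻¹ := by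
      rw [div_eq_mul_inv]
      simp only [Subgroup.coe_mul, Subgroup.coe_inv, hθ]
    rw [e]
    exact hquad u u.2
  have hq : (ρ (θ a) - 1) * (ρ (θ a) - 1) = 0 := by
    have e0 : ∀ (f : AddMonoid.End (Additive ↥U)) (v : Additive ↥U), (f - 1) v = f v - v :=
      fun f v => rfl
    refine AddMonoidHom.ext fun u => ?_
    obtain ⟨u', rfl⟩ := Additive.ofMul.surjective u
    show (ρ (θ a) - 1) ((ρ (θ a) - 1) (Additive.ofMul u')) = 0
    have e1 : (ρ (θ a) - 1) (Additive.ofMul u') = Additive.ofMul (θ a u' / u') := by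
      rw [e0, hρa, ofMul_div]
    rw [e1, e0, hρa, hquad']
    exact sub_self _
  have hisP : IsPGroup r ↥(Q.map θ) := by
    rintro ⟨_, x, hx, rfl⟩
    obtain ⟨k, hk⟩ := hQr x hx
    refine ⟨k, Subtype.ext ?_⟩
    show (θ x) ^ (r ^ k) = 1
    rw [← map_pow, ← map_one θ]
    apply hext
    intro u hu
    rw [hk u hu]; simp
  have key := main_M ρ (linAut_injective ↥U) p r hp2 hr2 hrp hchar (θ a) t
    (by rw [← map_pow, hat, map_one]) hq (Nat.card ↥(Q.map θ)) (Q.map θ) hisP rfl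
    (by
      rintro _ ⟨x, hx, rfl⟩
      exact ⟨a * x * a⁻¹, ha x hx, by rw [map_mul, map_mul, map_inv]⟩)
    (by
      rintro _ ⟨x, hx, rfl⟩
      exact ⟨a⁻¹ * x * a, ha' x hx, by rw [map_mul, map_mul, map_inv]⟩)
  intro x hx u hu
  have h1 := key (θ x) ⟨x, hx, rfl⟩
  rw [← map_mul, ← map_mul] at h1
  have h2 := congrArg (fun e : MulAut ↥U => ((e ⟨u, hu⟩ : ↥U) : Γ)) h1
  simp only [hθ] at h2
  exact h2

section
variable {G : Type*} [Group G] [Finite G] {p : ℕ} [Fact p.Prime]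

theorem frat_ne' (V N : Subgroup G) [hVn : V.Normal] (hVp : IsPGroup p V)
    (hW : ⁅V, N⁆ ≠ V) : frat p V N ≠ V := by
  intro h
  have hWV : ⁅V, N⁆ ≤ V := Subgroup.commutator_le_left V N
  have hne : (⁅V, N⁆).subgroupOf V ≠ ⊤ := by
    intro h1
    rw [Subgroup.subgroupOf_eq_top] at h1
    exact hW (le_antisymm hWV h1)
  obtain ⟨M, hM, hWM⟩ := Cfsg.Agent.Lib.Helper7_Conj.exists_coatom_ge _ hne
  obtain ⟨hMn, hMi⟩ := Cfsg.Agent.Lib.Helper7_PFrattini.coatom_normal_index hVp M hM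
  have hle : frat p V N ≤ M.map V.subtype := by
    unfold frat
    refine sup_le ?_ ?_
    · intro x hx
      exact ⟨⟨x, hWV hx⟩, hWM (Subgroup.mem_subgroupOf.2 hx), rfl⟩
    · rw [Subgroup.closure_le]
      rintro _ ⟨v, hv, rfl⟩
      refine ⟨⟨v, hv⟩ ^ p, ?_, by simp⟩
      have := M.pow_index_mem (⟨v, hv⟩ : ↥V)
      rwa [hMi] at this
  apply hM.1
  rw [eq_top_iff]
  intro x _
  have hx : (x : G) ∈ frat p V N := by rw [h]; exact x.2
  obtain ⟨y, hy, hyx⟩ := hle hx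
  have : y = x := Subtype.ext hyx
  rwa [← this]

set_option maxHeartbeats 1600000 in
/-- Key claim: `p'`-powers of the commutators `[a, x]`, `x ∈ L`, centralize every normal
`p`-subgroup `V₁ ≤ V` (on which `a` acts quadratically). -/
theorem claim' (hp2 : p ≠ 2) {r : ℕ} [Fact r.Prime] (hr2 : r ≠ 2) (hrp : r ≠ p)
    (V N L : Subgroup G) [hNn : N.Normal] (hVN : V ≤ N)
    (hNV : ∀ V₁ : Subgroup G, V₁.Normal → V₁ ≤ V → V₁ ≠ ⊥ → ⁅V₁, N⁆ ≠ V₁)
    (hL : ∀ l ∈ L, ∃ k, l ^ (r ^ k) ∈ N) (a : G) (t : ℕ) (hat : a ^ (p ^ t) = 1)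
    (haL1 : ∀ l ∈ L, a * l * a⁻¹ ∈ L) (haL2 : ∀ l ∈ L, a⁻¹ * l * a ∈ L) :
    ∀ n : ℕ, ∀ V₁ : Subgroup G, V₁.Normal → IsPGroup p V₁ → V₁ ≤ V → Nat.card V₁ = n →
      (∀ v ∈ V₁, a * (a * v * a⁻¹ * v⁻¹) * a⁻¹ = a * v * a⁻¹ * v⁻¹) →
      ∀ x ∈ L, ∀ y ∈ Subgroup.zpowers ((x * a)⁻¹ * (a * x)), (orderOf y).Coprime p →
        y ∈ Subgroup.centralizer (V₁ : Set G) := by
  intro n
  induction n using Nat.strong_induction_on with
  | _ n ih =>
  intro V₁ hV₁n hV₁p hV₁V hcard hq x hx y hy hycop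
  by_cases hbot : V₁ = ⊥
  · subst hbot
    rw [Subgroup.mem_centralizer_iff]
    intro h hh
    have : h = 1 := by simpa using hh
    rw [this, one_mul, mul_one]
  haveI := hV₁n
  have hV₁N : V₁ ≤ N := hV₁V.trans hVN
  set V₂ := frat p V₁ N with hV₂
  haveI hV₂n : V₂.Normal := frat_normal p V₁ N
  have hV₂le : V₂ ≤ V₁ := frat_le p V₁ N
  have hV₂ne : V₂ ≠ V₁ := frat_ne' V₁ N hV₁p (hNV V₁ hV₁n hV₁V hbot)
  have hlt : Nat.card V₂ < Nat.card V₁ :=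
    Cfsg.Agent.Lib.Lead_SZ.card_lt (lt_of_le_of_ne hV₂le hV₂ne)
  have hy2 : y ∈ Subgroup.centralizer (V₂ : Set G) :=
    ih (Nat.card V₂) (hcard ▸ hlt) V₂ hV₂n (hV₁p.to_le hV₂le) (hV₂le.trans hV₁V) rfl
      (fun v hv => hq v (hV₂le hv)) x hx y hy hycop
  -- the quotient
  set π := QuotientGroup.mk' V₂ with hπ
  have hπs : Function.Surjective π := QuotientGroup.mk'_surjective V₂
  haveI hUn : (V₁.map π).Normal := hV₁n.map π hπs
  have hmem : ∀ g : G, π g = 1 ↔ g ∈ V₂ := fun g => QuotientGroup.eq_one_iff g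
  have hcomm_mem : ∀ v ∈ V₁, ∀ h ∈ N, v * h * v⁻¹ * h⁻¹ ∈ V₂ := by
    intro v hv h hh
    have := Subgroup.commutator_mem_commutator hv hh
    rw [commutatorElement_def] at this
    exact (le_sup_left : ⁅V₁, N⁆ ≤ frat p V₁ N) this
  have hpow_mem : ∀ v ∈ V₁, v ^ p ∈ V₂ := fun v hv =>
    (le_sup_right : _ ≤ frat p V₁ N) (Subgroup.subset_closure ⟨v, hv, rfl⟩)
  have hNtriv : ∀ h ∈ N, ∀ v ∈ V₁, π h * π v * (π h)⁻¹ = π v := by
    intro h hh v hv
    have h1 : π (v * h * v⁻¹ * h⁻¹) = 1 := (hmem _).2 (hcomm_mem v hv h hh)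
    simp only [map_mul, map_inv] at h1
    have h2 : π v * π h = π h * π v := by
      calc π v * π h = (π v * π h * (π v)⁻¹ * (π h)⁻¹) * (π h * π v) := by group
        _ = π h * π v := by rw [h1, one_mul]
    rw [← h2]; group
  have key := quad_comm_conj_r (Γ := G ⧸ V₂) hp2 hr2 hrp (V₁.map π)
    (by
      rintro _ ⟨v, hv, rfl⟩ _ ⟨w, hw, rfl⟩
      have := hNtriv w (hV₁N hw) v hv
      calc π v * π w = (π w * π v * (π w)⁻¹) * π w := by rw [this]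
        _ = π w * π v := by group)
    (by
      rintro _ ⟨v, hv, rfl⟩
      rw [← map_pow]
      exact (hmem _).2 (hpow_mem v hv))
    (L.map π)
    (by
      rintro _ ⟨l, hl, rfl⟩
      obtain ⟨k, hk⟩ := hL l hl
      refine ⟨k, ?_⟩
      rintro _ ⟨v, hv, rfl⟩
      rw [← map_pow]
      exact hNtriv _ hk v hv)
    (π a) t (by rw [← map_pow, hat, map_one])
    (by
      rintro _ ⟨l, hl, rfl⟩
      exact ⟨a * l * a⁻¹, haL1 l hl, by simp only [map_mul, map_inv]⟩)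
    (by
      rintro _ ⟨l, hl, rfl⟩
      exact ⟨a⁻¹ * l * a, haL2 l hl, by simp only [map_mul, map_inv]⟩)
    (by
      rintro _ ⟨v, hv, rfl⟩
      have := congrArg π (hq v hv)
      simpa only [map_mul, map_inv] using this)
  -- the commutator `c` acts trivially on `V₁ / V₂`
  set c := (x * a)⁻¹ * (a * x) with hc
  set Cen : Subgroup G := (Subgroup.centralizer ((V₁.map π : Subgroup (G ⧸ V₂)) : Set (G ⧸ V₂))).comap π
    with hCen
  have hcCen : c ∈ Cen := by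
    rw [hCen, Subgroup.mem_comap, Subgroup.mem_centralizer_iff]
    rintro _ ⟨v, hv, rfl⟩
    have h1 := key (π x) ⟨x, hx, rfl⟩ (π v) ⟨v, hv, rfl⟩
    have e : π c = (π x * π a)⁻¹ * (π a * π x) := by
      rw [hc]; simp only [map_mul, map_inv]
    rw [e]
    calc π v * ((π x * π a)⁻¹ * (π a * π x))
        = (π x * π a)⁻¹ * ((π x * π a) * π v * (π x * π a)⁻¹) * (π a * π x) := by group
      _ = (π x * π a)⁻¹ * ((π a * π x) * π v * (π a * π x)⁻¹) * (π a * π x) := by rw [h1]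
      _ = (π x * π a)⁻¹ * (π a * π x) * π v := by group
  have hzc : Subgroup.zpowers c ≤ Cen := Subgroup.zpowers_le.2 hcCen
  have hzy : Subgroup.zpowers y ≤ Cen := Subgroup.zpowers_le.2 (hzc hy)
  have hquad_y : ⁅⁅V₁, Subgroup.zpowers y⁆, Subgroup.zpowers y⁆ = ⊥ := by
    have s1 : ⁅V₁, Subgroup.zpowers y⁆ ≤ V₂ := by
      rw [Subgroup.commutator_le]
      intro v hv z hz
      have hz' := hzy hz
      rw [hCen, Subgroup.mem_comap, Subgroup.mem_centralizer_iff] at hz'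
      have h1 := hz' (π v) ⟨v, hv, rfl⟩
      rw [commutatorElement_def, ← hmem]
      simp only [map_mul, map_inv]
      rw [h1]; group
    have s2 : ⁅V₂, Subgroup.zpowers y⁆ = ⊥ := by
      rw [Subgroup.commutator_eq_bot_iff_le_centralizer]
      intro v hv
      rw [Subgroup.mem_centralizer_iff]
      intro z hz
      have hz' : z ∈ Subgroup.centralizer (V₂ : Set G) :=
        (Subgroup.zpowers_le.2 hy2 : Subgroup.zpowers y ≤ _) hz
      rw [Subgroup.mem_centralizer_iff] at hz'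
      exact (hz' v hv).symm
    rw [eq_bot_iff]
    calc ⁅⁅V₁, Subgroup.zpowers y⁆, Subgroup.zpowers y⁆
        ≤ ⁅V₂, Subgroup.zpowers y⁆ := Subgroup.commutator_mono s1 le_rfl
      _ = ⊥ := s2
  exact coprime_quad_trivial V₁ hV₁p y hycop hquad_y

end

end Cfsg.Agent.Lib.Lead_OddStab
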