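import Mathlib
import Cfsg.Prelude.Def_PLocal
import Cfsg.Agent.Lib.Lead_OddStab

/-!
# p-stability of solvable groups of odd order: the main theorem
-/

namespace Cfsg.Agent.Lib.Lead_OddStab2

open Cfsg.Agent.Lib.Helper4_PCore Cfsg.Agent.Lib.Lead_PStable Cfsg.Agent.Lib.Lead_QuadAct
  Cfsg.Agent.Lib.Lead_PStab2 Cfsg.Agent.Lib.Lead_OddQuad2 Cfsg.Agent.Lib.Lead_OddStab
open scoped commutatorElement

/-- `O_p(G / O_p(G)) = 1`. -/
theorem pCore_quot_pCore (p : ℕ) [Fact p.Prime] (G : Type*) [Group G] [Finite G] :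
    haveI := pCore_normal p G
    Cfsg.pCore p (G ⧸ Cfsg.pCore p G) = ⊥ := by
  haveI := pCore_normal p G
  have h1 : IsPGroup p ((Cfsg.pCore p (G ⧸ Cfsg.pCore p G)).comap
      (QuotientGroup.mk' (Cfsg.pCore p G))) :=
    Cfsg.Agent.Lib.Lead_ZJ.comap_pCore_isPGroup (Cfsg.pCore p G) pCore_isPGroup
  have h2 : ((Cfsg.pCore p (G ⧸ Cfsg.pCore p G)).comap
      (QuotientGroup.mk' (Cfsg.pCore p G))).Normal := (pCore_normal p _).comap _
  have h3 := le_pCore _ h2 h1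
  rw [eq_bot_iff]
  intro q hq
  obtain ⟨g, rfl⟩ := QuotientGroup.mk'_surjective _ q
  have h4 : g ∈ (Cfsg.pCore p (G ⧸ Cfsg.pCore p G)).comap
      (QuotientGroup.mk' (Cfsg.pCore p G)) := hq
  have h5 := h3 h4
  rw [Subgroup.mem_bot]
  exact (QuotientGroup.eq_one_iff g).2 h5

section
variable {Γ : Type*} [Group Γ] [Finite Γ]

theorem comm_ne_of_pcore {p : ℕ} [Fact p.Prime] (V : Subgroup Γ) [hVn : V.Normal]
    (hVp : IsPGroup p V) (V₁ : Subgroup Γ) (hV₁n : V₁.Normal) (hV₁V : V₁ ≤ V) (hne : V₁ ≠ ⊥) :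
    ⁅V₁, (Cfsg.pCore p (Γ ⧸ Subgroup.centralizer (V : Set Γ))).comap
      (QuotientGroup.mk' (Subgroup.centralizer (V : Set Γ)))⁆ ≠ V₁ := by
  haveI := hV₁n
  set C := Subgroup.centralizer (V : Set Γ) with hC
  set π := QuotientGroup.mk' C with hπ
  have hπs : Function.Surjective π := QuotientGroup.mk'_surjective C
  obtain ⟨P⟩ : Nonempty (Sylow p Γ) := inferInstance
  have hV₁P : V₁ ≤ (P : Subgroup Γ) := normal_pGroup_le_sylow V₁ hV₁n (hVp.to_le hV₁V) P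
  have hOP : Cfsg.pCore p (Γ ⧸ C) ≤ (P : Subgroup Γ).map π := by
    rw [← Sylow.coe_mapSurjective hπs P]
    exact pCore_le_sylow _
  have hle : ⁅V₁, (Cfsg.pCore p (Γ ⧸ C)).comap π⁆ ≤ ⁅V₁, (P : Subgroup Γ)⁆ := by
    rw [Subgroup.commutator_le]
    intro v hv n hn
    have hn' : π n ∈ Cfsg.pCore p (Γ ⧸ C) := hn
    obtain ⟨x, hxP, hxn⟩ := hOP hn'
    obtain ⟨c, hc⟩ : ∃ c, c = x⁻¹ * n := ⟨_, rfl⟩
    have hcC : c ∈ C := by
      rw [← QuotientGroup.eq_one_iff (N := C)]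
      show π c = 1
      rw [hc, map_mul, map_inv, hxn, inv_mul_cancel]
    have hnc : n = x * c := by rw [hc]; group
    have hcv : v⁻¹ * c = c * v⁻¹ :=
      (Subgroup.mem_centralizer_iff.1 hcC) v⁻¹ (V.inv_mem (hV₁V hv))
    have e : ⁅v, n⁆ = ⁅v, x⁆ := by
      rw [commutatorElement_def, commutatorElement_def]
      calc v * n * v⁻¹ * n⁻¹ = v * x * (c * v⁻¹) * c⁻¹ * x⁻¹ := by rw [hnc]; group
        _ = v * x * (v⁻¹ * c) * c⁻¹ * x⁻¹ := by rw [hcv]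
        _ = v * x * v⁻¹ * x⁻¹ := by group
    rw [e]
    exact Subgroup.commutator_mem_commutator hv hxP
  intro h
  have h1 : ⁅V₁, (P : Subgroup Γ)⁆ ≠ V₁ := comm_ne V₁ P hV₁P P.isPGroup' hne
  apply h1
  apply le_antisymm (Subgroup.commutator_le_left V₁ P)
  calc V₁ = ⁅V₁, (Cfsg.pCore p (Γ ⧸ C)).comap π⁆ := h.symm
    _ ≤ ⁅V₁, (P : Subgroup Γ)⁆ := hle

set_option maxHeartbeats 1600000 in
/-- **p-stability of solvable groups of odd order**: the action on any normal `p`-subgroup. -/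
theorem oddStable [Group.IsSolvable Γ] (hodd : Odd (Nat.card Γ)) (p : ℕ) [Fact p.Prime]
    (V : Subgroup Γ) [hVn : V.Normal] (hVp : IsPGroup p V) : Cfsg.IsPStableOn p V := by
  have hpp : p.Prime := Fact.out
  apply stableOn_of_pElements V hVp
  rintro a ⟨t, hat⟩ hquad
  by_cases hp2 : p = 2
  · have h1 : orderOf a ∣ p ^ t := orderOf_dvd_of_pow_eq_one hat
    have h2 : orderOf a ∣ Nat.card Γ := orderOf_dvd_natCard a
    have h3 : Nat.Coprime (p ^ t) (Nat.card Γ) := by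
      rw [hp2]; exact Nat.Coprime.pow_left t (Nat.coprime_two_left.2 hodd)
    have h4 : orderOf a = 1 := Nat.eq_one_of_dvd_coprimes h3 h1 h2
    rw [orderOf_eq_one_iff] at h4
    rw [h4, QuotientGroup.mk_one]
    exact Subgroup.one_mem _
  have hq : ∀ v ∈ V, a * (a * v * a⁻¹ * v⁻¹) * a⁻¹ = a * v * a⁻¹ * v⁻¹ := by
    intro v hv
    have h1 : ⁅v, a⁆ ∈ ⁅V, Subgroup.zpowers a⁆ :=
      Subgroup.commutator_mem_commutator hv (Subgroup.mem_zpowers a)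
    have h2 : ⁅⁅v, a⁆, a⁆ = 1 := by
      have := Subgroup.commutator_mem_commutator h1 (Subgroup.mem_zpowers a)
      rwa [hquad, Subgroup.mem_bot] at this
    rw [commutatorElement_def, commutatorElement_def] at h2
    obtain ⟨w, hw⟩ : ∃ w, w = v * a * v⁻¹ * a⁻¹ := ⟨_, rfl⟩
    rw [← hw] at h2
    have h3 : w * a = a * w := by
      calc w * a = (w * a * w⁻¹ * a⁻¹) * (a * w) := by group
        _ = a * w := by rw [h2, one_mul]
    have e : a * v * a⁻¹ * v⁻¹ = w⁻¹ := by rw [hw]; group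
    rw [e]
    calc a * w⁻¹ * a⁻¹ = w⁻¹ * (w * a) * w⁻¹ * a⁻¹ := by group
      _ = w⁻¹ * (a * w) * w⁻¹ * a⁻¹ := by rw [h3]
      _ = w⁻¹ := by group
  set C := Subgroup.centralizer (V : Set Γ) with hC
  set π := QuotientGroup.mk' C with hπ
  have hπs : Function.Surjective π := QuotientGroup.mk'_surjective C
  set O := Cfsg.pCore p (Γ ⧸ C) with hO
  haveI hOn : O.Normal := pCore_normal p _
  set π₂ := QuotientGroup.mk' O with hπ₂
  set ψ : Γ →* (Γ ⧸ C) ⧸ O := π₂.comp π with hψ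
  have hψs : Function.Surjective ψ := (QuotientGroup.mk'_surjective O).comp hπs
  set N : Subgroup Γ := O.comap π with hN
  haveI hNn : N.Normal := hOn.comap π
  have hψ1 : ∀ g, ψ g = 1 ↔ g ∈ N := by
    intro g
    show π₂ (π g) = 1 ↔ π g ∈ O
    exact QuotientGroup.eq_one_iff (π g)
  suffices h : ψ a = 1 from (hψ1 a).1 h
  have hQodd : Odd (Nat.card ((Γ ⧸ C) ⧸ O)) :=
    (hodd.of_dvd_nat (Subgroup.card_quotient_dvd_card C)).of_dvd_nat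
      (Subgroup.card_quotient_dvd_card O)
  have hOQ : Cfsg.pCore p ((Γ ⧸ C) ⧸ O) = ⊥ := pCore_quot_pCore p (Γ ⧸ C)
  have hâ : (ψ a) ^ (p ^ t) = 1 := by rw [← map_pow, hat, map_one]
  have hVN : V ≤ N := by
    intro v hv
    show π v ∈ O
    exact le_pCore (V.map π) (hVn.map π hπs) (hVp.map π) ⟨v, hv, rfl⟩
  have hCN : C ≤ N := by
    intro c hc
    show π c ∈ O
    have : π c = 1 := (QuotientGroup.eq_one_iff c).2 hc
    rw [this]; exact Subgroup.one_mem _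
  have hNV : ∀ V₁ : Subgroup Γ, V₁.Normal → V₁ ≤ V → V₁ ≠ ⊥ → ⁅V₁, N⁆ ≠ V₁ :=
    fun V₁ h1 h2 h3 => comm_ne_of_pcore V hVp V₁ h1 h2 h3
  -- `ψ a` centralizes every `q`-core
  have hcent : ∀ q : Nat.Primes, Cfsg.pCore (q : ℕ) ((Γ ⧸ C) ⧸ O) ≤
      Subgroup.centralizer ({ψ a} : Set ((Γ ⧸ C) ⧸ O)) := by
    intro q
    haveI : Fact (q : ℕ).Prime := ⟨q.2⟩
    intro h hh
    rw [Subgroup.mem_centralizer_iff]
    intro z hz
    rw [Set.mem_singleton_iff] at hz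
    rw [hz]
    by_cases hqp : (q : ℕ) = p
    · rw [hqp, hOQ, Subgroup.mem_bot] at hh
      rw [hh, mul_one, one_mul]
    obtain ⟨k, hk⟩ := (pCore_isPGroup (G := (Γ ⧸ C) ⧸ O) (p := (q : ℕ))) ⟨h, hh⟩
    have hk' : h ^ ((q : ℕ) ^ k) = 1 := by simpa using congrArg Subtype.val hk
    by_cases hq2 : (q : ℕ) = 2
    · have h1 : orderOf h ∣ (q : ℕ) ^ k := orderOf_dvd_of_pow_eq_one hk'
      have h2 : orderOf h ∣ Nat.card ((Γ ⧸ C) ⧸ O) := orderOf_dvd_natCard h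
      have h3 : Nat.Coprime ((q : ℕ) ^ k) (Nat.card ((Γ ⧸ C) ⧸ O)) := by
        rw [hq2]; exact Nat.Coprime.pow_left k (Nat.coprime_two_left.2 hQodd)
      have h4 : orderOf h = 1 := Nat.eq_one_of_dvd_coprimes h3 h1 h2
      rw [orderOf_eq_one_iff] at h4
      rw [h4, mul_one, one_mul]
    -- the main case
    obtain ⟨g, rfl⟩ := hψs h
    set L : Subgroup Γ := (Cfsg.pCore (q : ℕ) ((Γ ⧸ C) ⧸ O)).comap ψ with hL
    have hgL : g ∈ L := hh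
    have hLn : L.Normal := (pCore_normal (q : ℕ) _).comap ψ
    have hLr : ∀ l ∈ L, ∃ k, l ^ ((q : ℕ) ^ k) ∈ N := by
      intro l hl
      obtain ⟨k, hk⟩ := (pCore_isPGroup (G := (Γ ⧸ C) ⧸ O) (p := (q : ℕ))) ⟨ψ l, hl⟩
      have hk' : (ψ l) ^ ((q : ℕ) ^ k) = 1 := by simpa using congrArg Subtype.val hk
      exact ⟨k, (hψ1 _).1 (by rw [map_pow]; exact hk')⟩
    obtain ⟨c, hc⟩ : ∃ c, c = (g * a)⁻¹ * (a * g) := ⟨_, rfl⟩
    obtain ⟨c₁, h1, c₂, h2, hdec, ⟨t', hp1⟩, hp2'⟩ := exists_p_decomp p c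
    have hc2 : c₂ ∈ C := by
      rw [hc] at h2
      exact claim' hp2 (r := (q : ℕ)) hq2 hqp V N L hVN hNV hLr a t hat
        (fun l hl => hLn.conj_mem l hl a)
        (fun l hl => by
          have := hLn.conj_mem l hl a⁻¹
          rwa [inv_inv] at this)
        (Nat.card V) V hVn hVp le_rfl rfl hq g hgL c₂ h2 hp2'
    have hψc2 : ψ c₂ = 1 := (hψ1 c₂).2 (hCN hc2)
    have hψc : ψ c = ψ c₁ := by rw [hdec, map_mul, hψc2, mul_one]
    have hψcL : ψ c ∈ Cfsg.pCore (q : ℕ) ((Γ ⧸ C) ⧸ O) := by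
      have e : ψ c = ((ψ a)⁻¹ * (ψ g)⁻¹ * (ψ a)⁻¹⁻¹) * ψ g := by
        rw [hc]; simp only [map_mul, map_inv]; group
      rw [e]
      exact Subgroup.mul_mem _ ((pCore_normal (q : ℕ) _).conj_mem _ (Subgroup.inv_mem _ hh) _) hh
    obtain ⟨k₂, hk₂⟩ := (pCore_isPGroup (G := (Γ ⧸ C) ⧸ O) (p := (q : ℕ))) ⟨ψ c, hψcL⟩
    have hk₂' : (ψ c) ^ ((q : ℕ) ^ k₂) = 1 := by simpa using congrArg Subtype.val hk₂
    have hp1' : (ψ c) ^ (p ^ t') = 1 := by rw [hψc, ← map_pow, hp1, map_one]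
    have hc1 : ψ c = 1 := eq_one_of_pow hqp hp1' hk₂'
    have e2 : ψ c = (ψ g * ψ a)⁻¹ * (ψ a * ψ g) := by
      rw [hc]; simp only [map_mul, map_inv]
    rw [e2] at hc1
    exact (inv_mul_eq_one.1 hc1).symm
  have hF : ψ a ∈ Subgroup.centralizer
      ((Cfsg.Agent.Lib.Lead_Fitting.F0 ((Γ ⧸ C) ⧸ O) : Subgroup ((Γ ⧸ C) ⧸ O)) : Set ((Γ ⧸ C) ⧸ O)) := by
    rw [Subgroup.mem_centralizer_iff]
    intro h hh
    have hle : Cfsg.Agent.Lib.Lead_Fitting.F0 ((Γ ⧸ C) ⧸ O) ≤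
        Subgroup.centralizer ({ψ a} : Set ((Γ ⧸ C) ⧸ O)) := iSup_le hcent
    have := hle hh
    rw [Subgroup.mem_centralizer_iff] at this
    exact (this (ψ a) rfl).symm
  rw [← Cfsg.Agent.Lib.Lead_Fitting.fitting_eq] at hF
  have hF2 : ψ a ∈ Cfsg.fittingSubgroup ((Γ ⧸ C) ⧸ O) := Cfsg.Agent.S0044.result hF
  rw [Cfsg.Agent.Lib.Lead_Fitting.fitting_eq] at hF2
  have hF3 := Cfsg.Agent.Lib.Lead_Fitting.F0_le ((Γ ⧸ C) ⧸ O) p hF2
  rw [hOQ, bot_sup_eq] at hF3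
  obtain ⟨hYn, hYc⟩ := Cfsg.Agent.Lib.Lead_Fitting.Y_spec ((Γ ⧸ C) ⧸ O) p
  have h1 : orderOf (ψ a) ∣ p ^ t := orderOf_dvd_of_pow_eq_one hâ
  have h2 : orderOf (ψ a) ∣ Nat.card ↥(Cfsg.Agent.Lib.Lead_Fitting.Y ((Γ ⧸ C) ⧸ O) p) := by
    have := orderOf_dvd_natCard (⟨ψ a, hF3⟩ : ↥(Cfsg.Agent.Lib.Lead_Fitting.Y ((Γ ⧸ C) ⧸ O) p))
    rwa [Subgroup.orderOf_mk] at this
  have h3 : orderOf (ψ a) = 1 :=
    Nat.eq_one_of_dvd_coprimes (Nat.Coprime.pow_right t hYc) h2 h1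
  exact orderOf_eq_one_iff.1 h3

end

end Cfsg.Agent.Lib.Lead_OddStab2
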