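import Mathlib
import Cfsg.Prelude.Def_LocalEven
import Cfsg.Agent.Lib.Lead_OddStab2
import Cfsg.Agent.Lib.Helper4_PIrred2

/-!
# Consequences of p-stability for solvable groups of odd order
-/

namespace Cfsg.Agent.Lib.Lead_OddStab4

open Cfsg.Agent.Lib.Helper4_PCore Cfsg.Agent.Lib.Lead_OddStab2
open scoped commutatorElement

section
variable {G : Type*} [Group G] [Finite G]

/-- A normal subgroup of order coprime to `p` is trivial when `O_{p'}(G) = 1`. -/
theorem eq_bot_of_pPrimeCore_eq_bot {p : ℕ} (h : Cfsg.pPrimeCore p G = ⊥) (M : Subgroup G)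
    (hMn : M.Normal) (hM : (Nat.card M).Coprime p) : M = ⊥ := by
  rw [eq_bot_iff, ← h]
  unfold Cfsg.pPrimeCore
  exact le_sSup ⟨hMn, hM⟩

/-- In a solvable group with `O_{p'}(G) = 1`, a normal subgroup `C` all of whose `p`-core is
central in `C` is a `p`-group. -/
theorem isPGroup_of_centralizes [Group.IsSolvable G] {p : ℕ} [hp : Fact p.Prime]
    (h : Cfsg.pPrimeCore p G = ⊥) (C : Subgroup G) [hCn : C.Normal]
    (hc : ∀ z ∈ Cfsg.pCore p G ⊓ C, ∀ c ∈ C, c * z = z * c) : IsPGroup p ↥C := by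
  have hq : ∀ q : Nat.Primes, (q : ℕ) ≠ p → Cfsg.pCore (q : ℕ) ↥C = ⊥ := by
    intro q hqp
    haveI : Fact (q : ℕ).Prime := ⟨q.2⟩
    haveI := Cfsg.Agent.Lib.Helper4_PIrred2.pCore_characteristic (G := ↥C) (q : ℕ)
    have hn : ((Cfsg.pCore (q : ℕ) ↥C).map C.subtype).Normal :=
      ConjAct.normal_of_characteristic_of_normal
    have hqg : IsPGroup (q : ℕ) ((Cfsg.pCore (q : ℕ) ↥C).map C.subtype) :=
      (pCore_isPGroup (G := ↥C) (p := (q : ℕ))).map _
    obtain ⟨k, hk⟩ := hqg.exists_card_eq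
    have hcop : (Nat.card ((Cfsg.pCore (q : ℕ) ↥C).map C.subtype)).Coprime p := by
      rw [hk]
      exact Nat.Coprime.pow_left _ ((Nat.coprime_primes q.2 hp.out).2 hqp)
    have := eq_bot_of_pPrimeCore_eq_bot h _ hn hcop
    exact (Subgroup.map_eq_bot_iff_of_injective _ C.subtype_injective).1 this
  have hF : Cfsg.Agent.Lib.Lead_Fitting.F0 ↥C ≤ Cfsg.pCore p ↥C := by
    unfold Cfsg.Agent.Lib.Lead_Fitting.F0
    apply iSup_le
    intro q
    by_cases hqp : (q : ℕ) = p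
    · rw [hqp]
    · rw [hq q hqp]; exact bot_le
  have hcore := Cfsg.Agent.Lib.Helper4_PIrred2.pCore_subgroupOf_normal (p := p) C
  have hall : ∀ c : ↥C, c ∈ Cfsg.pCore p ↥C := by
    intro c
    apply hF
    rw [← Cfsg.Agent.Lib.Lead_Fitting.fitting_eq]
    apply Cfsg.Agent.S0044.result
    rw [Subgroup.mem_centralizer_iff]
    intro z hz
    rw [Cfsg.Agent.Lib.Lead_Fitting.fitting_eq] at hz
    have hz' := hF hz
    rw [hcore, Subgroup.mem_subgroupOf] at hz'
    have := hc (z : G) ⟨hz', z.2⟩ (c : G) c.2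
    exact Subtype.ext this.symm
  intro c
  obtain ⟨k, hk⟩ := (pCore_isPGroup (G := ↥C) (p := p)) ⟨c, hall c⟩
  exact ⟨k, by simpa using congrArg Subtype.val hk⟩

end

end Cfsg.Agent.Lib.Lead_OddStab4
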