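import Mathlib
import Cfsg.Prelude.Def_PLocal
import Cfsg.Agent.Lib.Lead_OddStab2
import Cfsg.Agent.Lib.Lead_OddStab4

/-!
# Solvable groups of odd order whose Sylow `p`-subgroups have cyclic commutator subgroup
-/

namespace Cfsg.Agent.Lib.Lead_CycComm

open Cfsg.Agent.Lib.Helper4_PCore Cfsg.Agent.Lib.Lead_PStable Cfsg.Agent.Lib.Lead_PStab2
  Cfsg.Agent.Lib.Lead_OddStab2 Cfsg.Agent.Lib.Lead_OddStab4
open scoped commutatorElement

section
variable {Y : Type*} [Group Y] [Finite Y] {p : ℕ} [hp : Fact p.Prime]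

/-- In a cyclic `p`-group, a proper subgroup consists of `p`-th powers. -/
theorem mem_pow_of_proper (E E' : Subgroup Y) (hE : IsPGroup p E) (hcyc : IsCyclic ↥E)
    (hle : E' ≤ E) (hne : E' ≠ E) {w : Y} (hw : w ∈ E') : ∃ v ∈ E, w = v ^ p := by
  have hpp : p.Prime := hp.out
  obtain ⟨g, hg⟩ := hcyc.exists_generator
  obtain ⟨k, hk⟩ := hg ⟨w, hle hw⟩
  have hk' : (g : Y) ^ k = w := by
    have := congrArg Subtype.val hk
    simpa using this
  by_cases hdvd : (p : ℤ) ∣ k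
  · obtain ⟨j, hj⟩ := hdvd
    refine ⟨(g : Y) ^ j, E.zpow_mem g.2 j, ?_⟩
    rw [← hk', hj, mul_comm, zpow_mul, zpow_natCast]
  · exfalso
    apply hne
    apply le_antisymm hle
    obtain ⟨m, hm⟩ := (IsPGroup.iff_orderOf.1 hE) g
    have hgm : (g : Y) ^ (p ^ m) = 1 := by
      have h1 : g ^ (p ^ m) = 1 := by rw [← hm]; exact pow_orderOf_eq_one g
      have := congrArg Subtype.val h1
      simpa using this
    have hcop : IsCoprime k ((p : ℤ) ^ m) := by
      apply IsCoprime.pow_right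
      rw [Int.isCoprime_iff_gcd_eq_one]
      have := (Nat.Prime.coprime_iff_not_dvd hpp).2 (fun hd => hdvd (by
        have : (p : ℤ) ∣ (k.natAbs : ℤ) := by exact_mod_cast hd
        exact (Int.dvd_natAbs).1 this))
      rw [Int.gcd_comm]
      simpa [Int.gcd, Nat.Coprime] using this
    obtain ⟨a, b, hab⟩ := hcop
    have hgw : (g : Y) ∈ E' := by
      have e : (g : Y) = w ^ a * ((g : Y) ^ (p ^ m)) ^ b := by
        rw [← hk', ← zpow_mul, ← zpow_natCast ((g : Y)) (p ^ m), ← zpow_mul, ← zpow_add]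
        have : k * a + ((p ^ m : ℕ) : ℤ) * b = 1 := by
          push_cast
          linarith [hab]
        rw [this, zpow_one]
      rw [e, hgm, one_zpow, mul_one]
      exact E'.zpow_mem hw a
    intro z hz
    obtain ⟨j, hj⟩ := hg ⟨z, hz⟩
    have hj' : (g : Y) ^ j = z := by
      have := congrArg Subtype.val hj
      simpa using this
    rw [← hj']
    exact E'.zpow_mem hgw j

/-- An element of a Sylow subgroup with cyclic commutator subgroup acts quadratically on the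
Frattini-type sections of normal `p`-subgroups. -/
theorem quad_section (S : Sylow p Y) (d : Y) (hd : ⁅(S : Subgroup Y), (S : Subgroup Y)⁆ = Subgroup.zpowers d)
    (V₁ N : Subgroup Y) [hV₁n : V₁.Normal] (hV₁S : V₁ ≤ (S : Subgroup Y)) {x : Y}
    (hx : x ∈ (S : Subgroup Y)) :
    ⁅⁅V₁, Subgroup.zpowers x⁆, Subgroup.zpowers x⁆ ≤ frat p V₁ N := by
  have hzx : Subgroup.zpowers x ≤ (S : Subgroup Y) := Subgroup.zpowers_le.2 hx
  set E : Subgroup Y := V₁ ⊓ Subgroup.zpowers d with hE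
  have h1 : ⁅V₁, Subgroup.zpowers x⁆ ≤ E := by
    refine le_inf (Subgroup.commutator_le_left V₁ _) ?_
    rw [← hd]
    exact Subgroup.commutator_mono hV₁S hzx
  have hES : E ≤ (S : Subgroup Y) := inf_le_left.trans hV₁S
  have hEp : IsPGroup p E := S.isPGroup'.to_le hES
  haveI : IsCyclic ↥(Subgroup.zpowers d) := inferInstance
  have hEc : IsCyclic ↥E := Subgroup.isCyclic_of_le (inf_le_right : E ≤ Subgroup.zpowers d)
  have hconj : ∀ s ∈ (S : Subgroup Y), ∀ e ∈ E, s * e * s⁻¹ ∈ E := by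
    intro s hs e he
    refine Subgroup.mem_inf.2 ⟨hV₁n.conj_mem e he.1 s, ?_⟩
    rw [← hd]
    apply Cfsg.Agent.Lib.Lead_OddQuad2.comm_conj_mem s (S : Subgroup Y)
      (fun g hg => Subgroup.mul_mem _ (Subgroup.mul_mem _ hs hg) (Subgroup.inv_mem _ hs))
      (fun g hg => Subgroup.mul_mem _ (Subgroup.mul_mem _ (Subgroup.inv_mem _ hs) hg) hs)
    rw [hd]; exact he.2
  have hE'le : ⁅E, (S : Subgroup Y)⁆ ≤ E := by
    rw [Subgroup.commutator_le]
    intro e he s hs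
    rw [commutatorElement_def]
    have := hconj s hs e⁻¹ (E.inv_mem he)
    have e2 : e * s * e⁻¹ * s⁻¹ = e * (s * e⁻¹ * s⁻¹) := by group
    rw [e2]
    exact E.mul_mem he this
  have h2 : ⁅E, (S : Subgroup Y)⁆ ≤ frat p V₁ N := by
    by_cases hbot : E = ⊥
    · rw [hbot, Subgroup.commutator_bot_left]; exact bot_le
    have hne : ⁅E, (S : Subgroup Y)⁆ ≠ E := comm_ne E S hES S.isPGroup' hbot
    intro w hw
    obtain ⟨v, hv, rfl⟩ := mem_pow_of_proper E _ hEp hEc hE'le hne hw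
    exact (le_sup_right : _ ≤ frat p V₁ N) (Subgroup.subset_closure ⟨v, hv.1, rfl⟩)
  calc ⁅⁅V₁, Subgroup.zpowers x⁆, Subgroup.zpowers x⁆ ≤ ⁅E, (S : Subgroup Y)⁆ :=
        Subgroup.commutator_mono h1 hzx
    _ ≤ frat p V₁ N := h2

theorem eq_one_of_coprime_of_pow {M : Type*} [Group M] {g : M} {k : ℕ} (h1 : g ^ (p ^ k) = 1)
    (h2 : (orderOf g).Coprime p) : g = 1 := by
  have h3 : orderOf g ∣ p ^ k := orderOf_dvd_of_pow_eq_one h1
  have h4 : orderOf g = 1 := Nat.Coprime.eq_one_of_dvd (h2.pow_right k) h3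
  exact orderOf_eq_one_iff.1 h4

set_option maxHeartbeats 1600000 in
theorem exists_D [Group.IsSolvable Y] (hodd : Odd (Nat.card Y)) (S : Sylow p Y) (d : Y)
    (hd : ⁅(S : Subgroup Y), (S : Subgroup Y)⁆ = Subgroup.zpowers d) {x : Y}
    (hx : x ∈ (S : Subgroup Y)) :
    ∀ n : ℕ, ∀ V₁ : Subgroup Y, V₁.Normal → IsPGroup p V₁ → Nat.card V₁ = n →
      ∃ D : Subgroup Y, D.Normal ∧ x ∈ D ∧
        ∀ y ∈ D, (orderOf y).Coprime p → y ∈ Subgroup.centralizer (V₁ : Set Y) := by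
  intro n
  induction n using Nat.strong_induction_on with
  | _ n ih =>
  intro V₁ hV₁n hV₁p hcard
  by_cases hbot : V₁ = ⊥
  · subst hbot
    refine ⟨⊤, inferInstance, Subgroup.mem_top x, ?_⟩
    intro y _ _
    rw [Subgroup.mem_centralizer_iff]
    intro h hh
    have : h = 1 := by simpa using hh
    rw [this, one_mul, mul_one]
  haveI := hV₁n
  set T := Cfsg.pCore p Y with hT
  haveI hTn : T.Normal := pCore_normal p Y
  have hTp : IsPGroup p T := pCore_isPGroup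
  have hV₁T : V₁ ≤ T := le_pCore V₁ hV₁n hV₁p
  have hTS : T ≤ (S : Subgroup Y) := pCore_le_sylow S
  set V₂ := frat p V₁ T with hV₂
  haveI hV₂n : V₂.Normal := frat_normal p V₁ T
  have hV₂le : V₂ ≤ V₁ := frat_le p V₁ T
  have hV₂ne : V₂ ≠ V₁ := frat_ne V₁ T hV₁T hTp hbot
  have hlt : Nat.card V₂ < Nat.card V₁ :=
    Cfsg.Agent.Lib.Lead_SZ.card_lt (lt_of_le_of_ne hV₂le hV₂ne)
  obtain ⟨D₂, hD₂n, hxD₂, hD₂⟩ :=
    ih (Nat.card V₂) (hcard ▸ hlt) V₂ hV₂n (hV₁p.to_le hV₂le) rfl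
  set π := QuotientGroup.mk' V₂ with hπ
  have hπs : Function.Surjective π := QuotientGroup.mk'_surjective V₂
  have hker : π.ker = V₂ := QuotientGroup.ker_mk' V₂
  have hmem : ∀ g : Y, π g = 1 ↔ g ∈ V₂ := fun g => QuotientGroup.eq_one_iff g
  haveI hUn : (V₁.map π).Normal := hV₁n.map π hπs
  have hUp : IsPGroup p (V₁.map π) := hV₁p.map π
  have hoddQ : Odd (Nat.card (Y ⧸ V₂)) := hodd.of_dvd_nat (Subgroup.card_quotient_dvd_card V₂)
  have hst := oddStable (Γ := Y ⧸ V₂) hoddQ p (V₁.map π) hUp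
  have hqs := quad_section S d hd V₁ T (hV₁T.trans hTS) hx
  have hquad : ⁅⁅V₁.map π, Subgroup.zpowers (π x)⁆, Subgroup.zpowers (π x)⁆ = ⊥ := by
    rw [← MonoidHom.map_zpowers, ← Subgroup.map_commutator, ← Subgroup.map_commutator,
      eq_bot_iff]
    calc (⁅⁅V₁, Subgroup.zpowers x⁆, Subgroup.zpowers x⁆).map π ≤ V₂.map π := Subgroup.map_mono hqs
      _ = ⊥ := (Subgroup.map_eq_bot_iff _).2 (le_of_eq hker.symm)
  have h1 := hst (π x) hquad
  set Cb := Subgroup.centralizer ((V₁.map π : Subgroup (Y ⧸ V₂)) : Set (Y ⧸ V₂)) with hCb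
  set Pc := Cfsg.pCore p ((Y ⧸ V₂) ⧸ Cb) with hPc
  haveI hPcn : Pc.Normal := pCore_normal p _
  have hPcp : IsPGroup p Pc := pCore_isPGroup
  set D₁ : Subgroup Y := (Pc.comap (QuotientGroup.mk' Cb)).comap π with hD₁
  haveI hD₁n : D₁.Normal := (hPcn.comap _).comap π
  haveI := hD₂n
  refine ⟨D₁ ⊓ D₂, inferInstance, Subgroup.mem_inf.2 ⟨h1, hxD₂⟩, ?_⟩
  intro y hy hycop
  obtain ⟨hy1, hy2'⟩ := Subgroup.mem_inf.1 hy
  have hy2 : y ∈ Subgroup.centralizer (V₂ : Set Y) := hD₂ y hy2' hycop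
  have hy1' : QuotientGroup.mk' Cb (π y) ∈ Pc := hy1
  have hyC : π y ∈ Cb := by
    rw [← QuotientGroup.eq_one_iff (N := Cb)]
    show QuotientGroup.mk' Cb (π y) = 1
    obtain ⟨k, hk⟩ := hPcp ⟨_, hy1'⟩
    have hk' : (QuotientGroup.mk' Cb (π y)) ^ (p ^ k) = 1 := by
      simpa using congrArg Subtype.val hk
    apply eq_one_of_coprime_of_pow hk'
    have h2 : orderOf (QuotientGroup.mk' Cb (π y)) ∣ orderOf y :=
      (orderOf_map_dvd _ _).trans (orderOf_map_dvd _ _)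
    exact Nat.Coprime.coprime_dvd_left h2 hycop
  set Cen : Subgroup Y := Cb.comap π with hCen
  have hzy : Subgroup.zpowers y ≤ Cen := Subgroup.zpowers_le.2 hyC
  have hquad_y : ⁅⁅V₁, Subgroup.zpowers y⁆, Subgroup.zpowers y⁆ = ⊥ := by
    have s1 : ⁅V₁, Subgroup.zpowers y⁆ ≤ V₂ := by
      rw [Subgroup.commutator_le]
      intro v hv z hz
      have hz' := hzy hz
      rw [hCen, Subgroup.mem_comap, Subgroup.mem_centralizer_iff] at hz'
      have h1 := hz' (π v) ⟨v, hv, rfl⟩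
      rw [commutatorElement_def, ← hmem]
      simp only [map_mul, map_inv]
      rw [h1]; group
    have s2 : ⁅V₂, Subgroup.zpowers y⁆ = ⊥ := by
      rw [Subgroup.commutator_eq_bot_iff_le_centralizer]
      intro v hv
      rw [Subgroup.mem_centralizer_iff]
      intro z hz
      have hz' : z ∈ Subgroup.centralizer (V₂ : Set Y) :=
        (Subgroup.zpowers_le.2 hy2 : Subgroup.zpowers y ≤ _) hz
      rw [Subgroup.mem_centralizer_iff] at hz'
      exact (hz' v hv).symm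
    rw [eq_bot_iff]
    calc ⁅⁅V₁, Subgroup.zpowers y⁆, Subgroup.zpowers y⁆
        ≤ ⁅V₂, Subgroup.zpowers y⁆ := Subgroup.commutator_mono s1 le_rfl
      _ = ⊥ := s2
  exact coprime_quad_trivial V₁ hV₁p y hycop hquad_y

/-- If `O_{p'}(Y) = 1` and the Sylow `p`-subgroup `S` has cyclic commutator subgroup
(`Y` solvable of odd order), then `S = O_p(Y)`. -/
theorem sylow_le_pCore [Group.IsSolvable Y] (hodd : Odd (Nat.card Y))
    (hO : Cfsg.pPrimeCore p Y = ⊥) (S : Sylow p Y) (d : Y)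
    (hd : ⁅(S : Subgroup Y), (S : Subgroup Y)⁆ = Subgroup.zpowers d) :
    (S : Subgroup Y) ≤ Cfsg.pCore p Y := by
  intro x hx
  haveI hTn : (Cfsg.pCore p Y).Normal := pCore_normal p Y
  have hTp : IsPGroup p (Cfsg.pCore p Y) := pCore_isPGroup
  obtain ⟨D, hDn, hxD, hD⟩ := exists_D hodd S d hd hx (Nat.card (Cfsg.pCore p Y)) (Cfsg.pCore p Y)
    hTn hTp rfl
  haveI hCn : (Subgroup.centralizer ((Cfsg.pCore p Y : Subgroup Y) : Set Y)).Normal :=
    Subgroup.normal_centralizer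
  have hCp : IsPGroup p ↥(Subgroup.centralizer ((Cfsg.pCore p Y : Subgroup Y) : Set Y)) := by
    apply isPGroup_of_centralizes hO
    intro z hz c hc
    exact ((Subgroup.mem_centralizer_iff.1 hc) z hz.1).symm
  have hDp : IsPGroup p D := by
    rintro ⟨g, hg⟩
    obtain ⟨g₁, h1, g₂, h2, hdec, ⟨k, hk⟩, hcop⟩ := exists_p_decomp p g
    have hg₂D : g₂ ∈ D := (Subgroup.zpowers_le.2 hg : Subgroup.zpowers g ≤ D) h2
    have hg₂C := hD g₂ hg₂D hcop
    obtain ⟨j, hj⟩ := hCp ⟨g₂, hg₂C⟩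
    have hj' : g₂ ^ (p ^ j) = 1 := by simpa using congrArg Subtype.val hj
    have hg₂1 : g₂ = 1 := eq_one_of_coprime_of_pow hj' hcop
    refine ⟨k, Subtype.ext ?_⟩
    show g ^ (p ^ k) = 1
    rw [hdec, hg₂1, mul_one, hk]
  exact le_pCore D hDn hDp hxD

end

end Cfsg.Agent.Lib.Lead_CycComm
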