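import Mathlib

set_option autoImplicit false

/-! Two involutions `x`, `y` in a group: structure of `⟨x, y⟩` with `u = x * y`. -/

namespace Cfsg.Agent.Lib.Lead_Dihedral

variable {G : Type*} [Group G]

theorem inv_eq_self_of_orderOf_two (x : G) (hx : orderOf x = 2) : x⁻¹ = x := by
  have h : x ^ 2 = 1 := by rw [← hx]; exact pow_orderOf_eq_one x
  rw [inv_eq_iff_mul_eq_one, ← sq]; exact h

theorem mul_self_of_orderOf_two (x : G) (hx : orderOf x = 2) : x * x = 1 := by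
  have h : x ^ 2 = 1 := by rw [← hx]; exact pow_orderOf_eq_one x
  rw [← sq]; exact h

/-- `x u x = u⁻¹` where `u = x y`. -/
theorem conj_u (x y : G) (hx : x * x = 1) (hy : y * y = 1) : x * (x * y) * x = (x * y)⁻¹ := by
  have hyi : y⁻¹ = y := inv_eq_of_mul_eq_one_left hy
  have hxi : x⁻¹ = x := inv_eq_of_mul_eq_one_left hx
  rw [mul_inv_rev, hxi, hyi, ← mul_assoc, hx, one_mul]

theorem x_conj_zpow (x y : G) (hx : x * x = 1) (hy : y * y = 1) (i : ℤ) :
    x * (x * y) ^ i * x = (x * y) ^ (-i) := by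
  have hxi : x⁻¹ = x := inv_eq_of_mul_eq_one_left hx
  have h1 : x * (x * y) ^ i * x = (x * (x * y) * x⁻¹) ^ i := by
    rw [_root_.conj_zpow, hxi]
  rw [h1, hxi, conj_u x y hx hy, inv_zpow, zpow_neg]

/-- `x u^i = u^{-i} x`. -/
theorem x_mul_zpow (x y : G) (hx : x * x = 1) (hy : y * y = 1) (i : ℤ) :
    x * (x * y) ^ i = (x * y) ^ (-i) * x := by
  rw [← x_conj_zpow x y hx hy i, mul_assoc, mul_assoc, hx, mul_one]

theorem mem_closure_pair (x y : G) (hx : x * x = 1) (hy : y * y = 1) (d : G)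
    (hd : d ∈ Subgroup.closure ({x, y} : Set G)) :
    ∃ i : ℤ, d = (x * y) ^ i ∨ d = (x * y) ^ i * x := by
  induction hd using Subgroup.closure_induction with
  | mem z hz =>
    rcases hz with rfl | hz
    · exact ⟨0, Or.inr (by simp)⟩
    · rw [Set.mem_singleton_iff] at hz
      rw [hz]
      refine ⟨-1, Or.inr ?_⟩
      have hxi : x⁻¹ = x := inv_eq_of_mul_eq_one_left hx
      have hyi : y⁻¹ = y := inv_eq_of_mul_eq_one_left hy
      rw [zpow_neg, zpow_one, mul_inv_rev, hxi, hyi, mul_assoc, hx, mul_one]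
  | one => exact ⟨0, Or.inl (by simp)⟩
  | mul a b _ _ iha ihb =>
    obtain ⟨i, hi | hi⟩ := iha <;> obtain ⟨j, hj | hj⟩ := ihb
    · exact ⟨i + j, Or.inl (by rw [hi, hj, zpow_add])⟩
    · exact ⟨i + j, Or.inr (by rw [hi, hj, zpow_add, mul_assoc])⟩
    · refine ⟨i - j, Or.inr ?_⟩
      rw [hi, hj, mul_assoc, x_mul_zpow x y hx hy j, ← mul_assoc, ← zpow_add, sub_eq_add_neg]
    · refine ⟨i - j, Or.inl ?_⟩
      rw [hi, hj, mul_assoc, ← mul_assoc x, x_mul_zpow x y hx hy j, mul_assoc, hx, mul_one,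
        ← zpow_add, sub_eq_add_neg]
  | inv a _ iha =>
    obtain ⟨i, hi | hi⟩ := iha
    · exact ⟨-i, Or.inl (by rw [hi, zpow_neg])⟩
    · refine ⟨i, Or.inr ?_⟩
      have hxi : x⁻¹ = x := inv_eq_of_mul_eq_one_left hx
      rw [hi, mul_inv_rev, hxi, ← zpow_neg, x_mul_zpow x y hx hy (-i), neg_neg]

/-- Conjugates of `x` by elements of `⟨x, y⟩` are `u^{2i} x`. -/
theorem conj_x_of_mem (x y : G) (hx : x * x = 1) (hy : y * y = 1) (d : G)
    (hd : d ∈ Subgroup.closure ({x, y} : Set G)) :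
    ∃ i : ℤ, d * x * d⁻¹ = (x * y) ^ (2 * i) * x := by
  have hxi : x⁻¹ = x := inv_eq_of_mul_eq_one_left hx
  obtain ⟨i, hi | hi⟩ := mem_closure_pair x y hx hy d hd
  · refine ⟨i, ?_⟩
    rw [hi, ← zpow_neg, mul_assoc, x_mul_zpow x y hx hy (-i), neg_neg, ← mul_assoc, ← zpow_add,
      two_mul]
  · refine ⟨i, ?_⟩
    rw [hi, mul_inv_rev, hxi, ← zpow_neg, mul_assoc ((x * y) ^ i), hx, mul_one,
      x_mul_zpow x y hx hy (-i), neg_neg, ← mul_assoc, ← zpow_add, two_mul]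

theorem y_eq (x y : G) (hx : x * x = 1) : y = x * (x * y) := by
  rw [← mul_assoc, hx, one_mul]

end Cfsg.Agent.Lib.Lead_Dihedral
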