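import Mathlib
import Cfsg.Agent.Lib.Lead_FPF

/-!
# Fixed-point-free automorphisms of prime order: the counting lemma
(an invariant subgroup of coprime order centralizes an invariant abelian normal subgroup)
-/

namespace Cfsg.Agent.Lib.Lead_FPF2

open Cfsg.Agent.Lib.Lead_FPF

section
variable {G : Type*} [Group G] [Finite G]

set_option maxHeartbeats 2000000 in
theorem conj_pow_card_eq {φ : G ≃* G} {r : ℕ} (h : Setup φ r) (hr : r.Prime)
    (V : Subgroup G) [hVn : V.Normal] (hVc : ∀ x ∈ V, ∀ y ∈ V, x * y = y * x)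
    (hVφ : V.map (φ : G →* G) = V) (S : Subgroup G) (hSφ : S.map (φ : G →* G) = S)
    (v : G) (hv : v ∈ V) (t : G) (ht : t ∈ S) :
    t * v ^ Nat.card S * t⁻¹ = v ^ Nat.card S := by
  classical
  obtain ⟨r', rfl⟩ : ∃ r', r = r' + 1 := ⟨r - 1, by have := hr.one_lt; omega⟩
  letI : CommGroup ↥V :=
    { (inferInstance : Group ↥V) with
      mul_comm := fun x y => Subtype.ext (hVc x x.2 y y.2) }
  letI : Fintype ↥S := Fintype.ofFinite _
  set φV := res φ V hVφ with hφV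
  set φS := res φ S hSφ with hφS
  have hV := h.res V hVφ
  have hS := h.res S hSφ
  let cj : ↥S → (↥V →* ↥V) := fun s => (MulAut.conjNormal (s : G) : MulAut ↥V).toMonoidHom
  have hcj : ∀ (s : ↥S) (u : ↥V), ((cj s u : ↥V) : G) = (s : G) * (u : G) * (s : G)⁻¹ :=
    fun s u => MulAut.conjNormal_apply _ _
  have hcj_mul : ∀ (s s' : ↥S) (u : ↥V), cj s (cj s' u) = cj (s * s') u := by
    intro s s' u
    apply Subtype.ext
    rw [hcj, hcj, hcj, Subgroup.coe_mul]
    group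
  have hcj_one : ∀ u : ↥V, cj 1 u = u := by
    intro u
    apply Subtype.ext
    rw [hcj]
    simp
  let w : ↥V := ⟨v, hv⟩
  have hF2 : ∀ u : ↥V, ∏ i ∈ Finset.range (r' + 1), (⇑φV)^[i] u = 1 := by
    intro u
    have := MonoidHom.FixedPointFree.prod_pow_eq_one (φ := φV) (fun g hg => hV.fpf g hg)
      (n := r' + 1) (funext hV.iter) u
    exact this
  have hφmul : ∀ (k : ℕ) (a b : G), (⇑φ)^[k] (a * b) = (⇑φ)^[k] a * (⇑φ)^[k] b :=
    fun k a b => iterate_map_mul φ k a b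
  have hφinv : ∀ (k : ℕ) (a : G), (⇑φ)^[k] a⁻¹ = ((⇑φ)^[k] a)⁻¹ :=
    fun k a => iterate_map_inv φ k a
  have hre : ∀ k, ¬ (r' + 1) ∣ k → ∀ u : ↥V,
      ∏ s : ↥S, cj s ((⇑φV)^[k] u) = ∏ x : ↥S, cj x ((⇑φV)^[k] (cj x⁻¹ u)) := by
    intro k hk u
    let e : ↥S → ↥S := fun x => x * ((⇑φS)^[k] x)⁻¹
    have he : Function.Bijective e := by
      rw [← Finite.injective_iff_bijective]
      intro x y hxy
      have hxy' : x * ((⇑φS)^[k] x)⁻¹ = y * ((⇑φS)^[k] y)⁻¹ := hxy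
      have h1 : (⇑φS)^[k] (y⁻¹ * x) = y⁻¹ * x := by
        rw [iterate_map_mul, iterate_map_inv]
        calc ((⇑φS)^[k] y)⁻¹ * (⇑φS)^[k] x
            = y⁻¹ * (y * ((⇑φS)^[k] y)⁻¹) * (⇑φS)^[k] x := by group
          _ = y⁻¹ * (x * ((⇑φS)^[k] x)⁻¹) * (⇑φS)^[k] x := by rw [hxy']
          _ = y⁻¹ * x := by group
      have h2 := hS.fpf_iterate hr k hk _ h1
      exact (inv_mul_eq_one.1 h2).symm
    refine (Fintype.prod_bijective e he _ _ (fun x => ?_)).symm
    apply Subtype.ext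
    rw [hcj, hcj, res_iterate, res_iterate, hcj]
    show (x : G) * (⇑φ)^[k] ((x⁻¹ : ↥S) * (u : G) * ((x⁻¹ : ↥S) : G)⁻¹) * (x : G)⁻¹ =
      ((x * ((⇑φS)^[k] x)⁻¹ : ↥S) : G) * (⇑φ)^[k] (u : G) *
        ((x * ((⇑φS)^[k] x)⁻¹ : ↥S) : G)⁻¹
    have hSit : ∀ y : ↥S, (((⇑φS)^[k] y : ↥S) : G) = (⇑φ)^[k] (y : G) :=
      fun y => res_iterate φ S hSφ k y
    simp only [Subgroup.coe_mul, Subgroup.coe_inv, hSit, hφmul, hφinv, inv_inv]
    group
  set τ : ↥V := ∏ s : ↥S, cj s w with hτ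
  have hT1 : ∏ i ∈ Finset.range (r' + 1), ∏ s : ↥S, cj s ((⇑φV)^[i] w) = 1 := by
    rw [Finset.prod_comm]
    apply Finset.prod_eq_one
    intro s _
    rw [← map_prod, hF2, map_one]
  have hT2 : ∏ i ∈ Finset.range (r' + 1), ∏ s : ↥S, cj s ((⇑φV)^[i] w) =
      τ * (w⁻¹) ^ Nat.card S := by
    rw [Finset.prod_range_succ']
    have h0 : ∏ s : ↥S, cj s ((⇑φV)^[0] w) = τ := rfl
    have h1 : ∏ i ∈ Finset.range r', ∏ s : ↥S, cj s ((⇑φV)^[i + 1] w) =
        (w⁻¹) ^ Nat.card S := by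
      have hstep : ∀ i ∈ Finset.range r', ∏ s : ↥S, cj s ((⇑φV)^[i + 1] w) =
          ∏ x : ↥S, cj x ((⇑φV)^[i + 1] (cj x⁻¹ w)) := by
        intro i hi
        apply hre
        rw [Finset.mem_range] at hi
        exact Nat.not_dvd_of_pos_of_lt (Nat.succ_pos i) (by omega)
      rw [Finset.prod_congr rfl hstep, Finset.prod_comm]
      have hx : ∀ x : ↥S, ∏ i ∈ Finset.range r', cj x ((⇑φV)^[i + 1] (cj x⁻¹ w)) = w⁻¹ := by
        intro x
        rw [← map_prod]
        have h2 := hF2 (cj x⁻¹ w)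
        rw [Finset.prod_range_succ'] at h2
        have h3 : ∏ i ∈ Finset.range r', (⇑φV)^[i + 1] (cj x⁻¹ w) = (cj x⁻¹ w)⁻¹ :=
          eq_inv_of_mul_eq_one_left h2
        rw [h3, map_inv, hcj_mul, mul_inv_cancel, hcj_one]
      rw [Finset.prod_congr rfl (fun x _ => hx x), Finset.prod_const, Finset.card_univ,
        Nat.card_eq_fintype_card]
    rw [h0, h1, mul_comm]
  have hτw : τ = w ^ Nat.card S := by
    have := hT1.symm.trans hT2
    rw [inv_pow] at this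
    exact (mul_inv_eq_one.1 this.symm)
  have hinv : cj ⟨t, ht⟩ τ = τ := by
    rw [hτ, map_prod]
    refine Fintype.prod_bijective (fun s : ↥S => ⟨t, ht⟩ * s) (Group.mulLeft_bijective _) _ _
      (fun s => ?_)
    rw [hcj_mul]
  have := congrArg (fun u : ↥V => (u : G)) hinv
  simp only [hcj, hτw, Subgroup.coe_pow] at this
  exact this

/-- An invariant subgroup of order prime to an invariant abelian normal subgroup centralizes it. -/
theorem le_centralizer {φ : G ≃* G} {r : ℕ} (h : Setup φ r) (hr : r.Prime)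
    (V : Subgroup G) [hVn : V.Normal] (hVc : ∀ x ∈ V, ∀ y ∈ V, x * y = y * x)
    (hVφ : V.map (φ : G →* G) = V) (S : Subgroup G) (hSφ : S.map (φ : G →* G) = S)
    (hcop : (Nat.card V).Coprime (Nat.card S)) :
    S ≤ Subgroup.centralizer (V : Set G) := by
  intro t ht
  rw [Subgroup.mem_centralizer_iff]
  intro v hv
  obtain ⟨w, hw⟩ := (powCoprime hcop).surjective ⟨v, hv⟩
  have hw' : (w : G) ^ Nat.card S = v := by
    have := congrArg (fun u : ↥V => (u : G)) hw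
    simpa using this
  have key := conj_pow_card_eq h hr V hVc hVφ S hSφ (w : G) w.2 t ht
  rw [hw'] at key
  calc v * t = (t * v * t⁻¹) * t := by rw [key]
    _ = t * v := by group

end

end Cfsg.Agent.Lib.Lead_FPF2
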