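import Mathlib
import Cfsg.Prelude.Def_PLocal
import Cfsg.Agent.Lib.Lead_ZJ

/-! Transport of `Z(J(P))` along a homomorphism injective on `P`. -/

namespace Cfsg.Agent.Lib.Lead_ZJmap

open Cfsg.Agent.Lib.Lead_ZJ

variable {G H : Type*} [Group G] [Group H]

theorem card_map_of_injOn (f : G →* H) (P B : Subgroup G) (hinj : Set.InjOn f (P : Set G))
    (hBP : B ≤ P) : Nat.card (B.map f) = Nat.card B := by
  have h1 : Nat.card (B.map f) = Nat.card (((B.map f : Subgroup H) : Set H)) := rfl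
  rw [h1, Subgroup.coe_map]
  exact Nat.card_image_of_injOn (hinj.mono hBP)

theorem comm_of_map_comm (f : G →* H) (P B : Subgroup G) (hinj : Set.InjOn f (P : Set G))
    (hBP : B ≤ P) (hc : IsMulCommutative (B.map f)) : IsMulCommutative B := by
  refine ⟨⟨fun a b => Subtype.ext ?_⟩⟩
  apply hinj (hBP (B.mul_mem a.2 b.2)) (hBP (B.mul_mem b.2 a.2))
  rw [map_mul, map_mul]
  exact Subgroup.mul_comm_of_mem_isMulCommutative (B.map f) ⟨a, a.2, rfl⟩ ⟨b, b.2, rfl⟩

theorem map_comap_inf (f : G →* H) (P : Subgroup G) (B' : Subgroup H) (hB' : B' ≤ P.map f) :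
    (B'.comap f ⊓ P).map f = B' := by
  apply le_antisymm
  · rintro _ ⟨b, hb, rfl⟩
    exact hb.1
  · intro y hy
    obtain ⟨x, hx, rfl⟩ := hB' hy
    exact ⟨x, ⟨hy, hx⟩, rfl⟩

theorem FA_map_injOn (f : G →* H) (P : Subgroup G) (hinj : Set.InjOn f (P : Set G))
    (U : Subgroup G) (hU : U ∈ FA P) : U.map f ∈ FA (P.map f) := by
  obtain ⟨hUP, hUc, hUmax⟩ := hU
  haveI := hUc
  refine ⟨Subgroup.map_mono hUP, inferInstance, ?_⟩
  intro B' hB' hB'c
  have e := map_comap_inf f P B' hB'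
  have hBc : IsMulCommutative (B'.comap f ⊓ P : Subgroup G) := by
    apply comm_of_map_comm f P _ hinj inf_le_right
    rw [e]; exact hB'c
  have h1 := hUmax _ inf_le_right hBc
  rw [card_map_of_injOn f P U hinj hUP, ← e, card_map_of_injOn f P _ hinj inf_le_right]
  exact h1

theorem FA_comap_injOn (f : G →* H) (P : Subgroup G) (hinj : Set.InjOn f (P : Set G))
    (U' : Subgroup H) (hU' : U' ∈ FA (P.map f)) : U'.comap f ⊓ P ∈ FA P := by
  obtain ⟨hUP, hUc, hUmax⟩ := hU'
  have e := map_comap_inf f P U' hUP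
  have hc : IsMulCommutative (U'.comap f ⊓ P : Subgroup G) := by
    apply comm_of_map_comm f P _ hinj inf_le_right
    rw [e]; exact hUc
  refine ⟨inf_le_right, hc, ?_⟩
  intro B hB hBc
  haveI := hBc
  have h1 := hUmax (B.map f) (Subgroup.map_mono hB) inferInstance
  rw [card_map_of_injOn f P B hinj hB] at h1
  rw [← card_map_of_injOn f P _ hinj inf_le_right, e]
  exact h1

theorem thompsonA_map (f : G →* H) (P : Subgroup G) (hinj : Set.InjOn f (P : Set G)) :
    Cfsg.thompsonSubgroupAOf (P.map f) = (Cfsg.thompsonSubgroupAOf P).map f := by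
  rw [thompsonA_eq, thompsonA_eq]
  apply le_antisymm
  · apply sSup_le
    intro U' hU'
    have h1 := FA_comap_injOn f P hinj U' hU'
    rw [← map_comap_inf f P U' hU'.1]
    exact Subgroup.map_mono (le_sSup h1)
  · rw [Subgroup.map_le_iff_le_comap]
    apply sSup_le
    intro U hU
    rw [← Subgroup.map_le_iff_le_comap]
    exact le_sSup (FA_map_injOn f P hinj U hU)

theorem centerThompsonA_map (f : G →* H) (P : Subgroup G) (hinj : Set.InjOn f (P : Set G)) :
    Cfsg.centerThompsonAOf (P.map f) = (Cfsg.centerThompsonAOf P).map f := by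
  unfold Cfsg.centerThompsonAOf
  rw [thompsonA_map f P hinj]
  have hJP : Cfsg.thompsonSubgroupAOf P ≤ P := Subgroup.map_subtype_le _
  apply le_antisymm
  · rintro y ⟨⟨x, hx, rfl⟩, hy2⟩
    refine ⟨x, ⟨hx, ?_⟩, rfl⟩
    show x ∈ Subgroup.centralizer _
    rw [Subgroup.mem_centralizer_iff]
    intro j hj
    apply hinj (hJP (Subgroup.mul_mem _ hj hx)) (hJP (Subgroup.mul_mem _ hx hj))
    rw [map_mul, map_mul]
    exact Subgroup.mem_centralizer_iff.1 hy2 (f j) ⟨j, hj, rfl⟩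
  · rintro _ ⟨x, ⟨hx1, hx2⟩, rfl⟩
    refine ⟨⟨x, hx1, rfl⟩, ?_⟩
    show f x ∈ Subgroup.centralizer _
    rw [Subgroup.mem_centralizer_iff]
    rintro _ ⟨j, hj, rfl⟩
    rw [← map_mul, ← map_mul, Subgroup.mem_centralizer_iff.1 hx2 j hj]

end Cfsg.Agent.Lib.Lead_ZJmap
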