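import Mathlib
import Cfsg.Agent.Lib.Lead_FPF2
import Cfsg.Agent.Lib.Lead_PStable
import Cfsg.Agent.S0659

/-!
# Thompson's theorem: a finite group with a fixed-point-free automorphism of prime order
is nilpotent
-/

namespace Cfsg.Agent.Lib.Lead_FPF3

open Cfsg.Agent.Lib.Lead_FPF Cfsg.Agent.Lib.Lead_FPF2 Cfsg.Agent.Lib.Helper7_NPC
  Cfsg.Agent.Lib.Helper4_PCore Cfsg.Agent.Lib.Lead_GT1
open scoped Pointwise commutatorElement

universe u

section
variable {G : Type u} [Group G] [Finite G]

theorem card_quot_lt (N : Subgroup G) [N.Normal] (hN : N ≠ ⊥) : Nat.card (G ⧸ N) < Nat.card G := by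
  have hN1 : 1 < Nat.card N := (Subgroup.one_lt_card_iff_ne_bot _).2 hN
  rw [Subgroup.card_eq_card_quotient_mul_card_subgroup N]
  have : 0 < Nat.card (G ⧸ N) := Nat.card_pos
  nlinarith

theorem card_sub_lt (M : Subgroup G) (hM : M ≠ ⊤) : Nat.card M < Nat.card G := by
  have := Cfsg.Agent.Lib.Lead_SZ.card_lt (lt_top_iff_ne_top.2 hM)
  rwa [Subgroup.card_top] at this

set_option maxHeartbeats 1000000 in
/-- Step A: `G` is solvable. -/
theorem solvable_step {φ : G ≃* G} {r : ℕ} (h : Setup φ r)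
    (IH : ∀ (X : Type u) [Group X] [Finite X], Nat.card X < Nat.card G →
      ∀ ψ : X ≃* X, Setup ψ r → Group.IsNilpotent X) : Group.IsSolvable G := by
  rcases Nat.eq_two_pow_or_exists_odd_prime_and_dvd (Nat.card G) with ⟨k, hk⟩ | ⟨p, hpp, hpd, hodd⟩
  · haveI : Fact (Nat.Prime 2) := ⟨Nat.prime_two⟩
    have h2 : IsPGroup 2 G := IsPGroup.of_card hk
    haveI := h2.isNilpotent
    infer_instance
  haveI : Fact p.Prime := ⟨hpp⟩
  have hp2 : p ≠ 2 := by
    rintro rfl
    exact (Nat.not_odd_iff_even.2 even_two) hodd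
  obtain ⟨P, hP⟩ := Cfsg.Agent.S0031.result φ h.toFPF p
  have hP1 : (P : Subgroup G) ≠ ⊥ := P.ne_bot_of_dvd_card hpd
  set Z := Cfsg.centerThompsonAOf (P : Subgroup G) with hZ
  have hZφ : Z.map (φ : G →* G) = Z := by
    have := Cfsg.Agent.Lib.Lead_ZJmap.centerThompsonA_map (φ : G →* G) (P : Subgroup G)
      (φ.injective.injOn)
    rw [hP] at this
    exact this.symm
  have hZne : Z ≠ ⊥ := Cfsg.Agent.S0658.ZJ_ne_bot (P : Subgroup G) P.isPGroup' hP1
  have hZp : IsPGroup p Z := by
    apply P.isPGroup'.to_le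
    rw [hZ]
    unfold Cfsg.centerThompsonAOf Cfsg.thompsonSubgroupAOf
    exact inf_le_left.trans (Subgroup.map_subtype_le _)
  set N := Subgroup.normalizer (Z : Set G) with hN
  have hNφ : N.map (φ : G →* G) = N := by
    have := Subgroup.map_equiv_normalizer_eq Z φ
    rw [hN]
    have e : Subgroup.map φ.toMonoidHom Z = Z := hZφ
    rw [e] at this
    exact this
  by_cases hNtop : N = ⊤
  · haveI hZn : Z.Normal := Subgroup.normalizer_eq_top_iff.1 hNtop
    haveI : Group.IsNilpotent (G ⧸ Z) :=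
      IH (G ⧸ Z) (card_quot_lt Z hZne) (quo φ Z hZφ) (h.quo Z hZφ)
    haveI : Group.IsNilpotent ↥Z := hZp.isNilpotent
    exact Group.isSolvable_of_ker_le_range Z.subtype (QuotientGroup.mk' Z) (by simp)
  · haveI : Group.IsNilpotent ↥N := IH ↥N (card_sub_lt N hNtop) (res φ N hNφ) (h.res N hNφ)
    have hnpcN : NPC p ↥N := npc_of_nilpotent p
    have hG : Cfsg.HasNormalPComplement p G := by
      apply Cfsg.Agent.S0659.result hp2 P
      rw [hasNormalPComplement_iff_npc]
      exact hnpcN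
    rw [hasNormalPComplement_iff_npc] at hG
    obtain ⟨K, hKn, hKc, k, hk⟩ := hG
    haveI := hKn
    have hKφ : K.map (φ : G →* G) = K := by
      apply map_eq_of_forall_mem
      intro x hx
      apply mem_of_index_pow K hk
      rw [MulEquiv.orderOf_eq]
      have h2 : orderOf (⟨x, hx⟩ : ↥K) ∣ Nat.card K := orderOf_dvd_natCard _
      rw [← Subgroup.orderOf_coe] at h2
      exact Nat.Coprime.coprime_dvd_left h2 hKc
    have hKtop : K ≠ ⊤ := by
      intro h0
      rw [h0, Subgroup.card_top] at hKc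
      exact hpp.one_lt.ne' (Nat.Coprime.eq_one_of_dvd hKc.symm hpd)
    haveI : Group.IsNilpotent ↥K := IH ↥K (card_sub_lt K hKtop) (res φ K hKφ) (h.res K hKφ)
    have hQp : IsPGroup p (G ⧸ K) := by
      apply IsPGroup.of_card (n := k)
      rw [← Subgroup.index_eq_card]
      exact hk
    haveI : Group.IsNilpotent (G ⧸ K) := hQp.isNilpotent
    exact Group.isSolvable_of_ker_le_range K.subtype (QuotientGroup.mk' K) (by simp)


set_option maxHeartbeats 2000000 in
/-- Step B: a solvable `G` is nilpotent. -/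
theorem nilpotent_step {φ : G ≃* G} {r : ℕ} (h : Setup φ r) (hr : r.Prime)
    [hsolv : Group.IsSolvable G]
    (IH : ∀ (X : Type u) [Group X] [Finite X], Nat.card X < Nat.card G →
      ∀ ψ : X ≃* X, Setup ψ r → Group.IsNilpotent X) : Group.IsNilpotent G := by
  classical
  by_cases htriv : Subsingleton G
  · infer_instance
  rw [not_subsingleton_iff_nontrivial] at htriv
  haveI := htriv
  set 𝒩 : Set (Subgroup G) := {V | V.Normal ∧ V.map (φ : G →* G) = V ∧ V ≠ ⊥} with h𝒩
  have htop : (⊤ : Subgroup G) ∈ 𝒩 := by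
    refine ⟨inferInstance, ?_, top_ne_bot⟩
    rw [← MonoidHom.range_eq_map]
    exact MonoidHom.range_eq_top.2 φ.surjective
  obtain ⟨V, ⟨hVn, hVφ, hVne⟩, hVmin⟩ :=
    Set.exists_min_image 𝒩 (fun V => Nat.card V) (Set.toFinite _) ⟨⊤, htop⟩
  haveI := hVn
  have hmin : ∀ V' : Subgroup G, V'.Normal → V'.map (φ : G →* G) = V' → V' ≤ V →
      V' = ⊥ ∨ V' = V := by
    intro V' h1 h2 h3
    by_cases h4 : V' = ⊥
    · left; exact h4
    · right
      exact Cfsg.Agent.Lib.Lead_SZ.eq_of_le_of_card_eq h3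
        (le_antisymm (Subgroup.card_le_of_le h3) (hVmin V' ⟨h1, h2, h4⟩))
  -- (B1) `V` is abelian
  have hVc : ∀ x ∈ V, ∀ y ∈ V, x * y = y * x := by
    have hC : ⁅V, V⁆ = ⊥ := by
      rcases hmin ⁅V, V⁆ inferInstance (by rw [Subgroup.map_commutator, hVφ])
        (Subgroup.commutator_le_left V V) with h1 | h1
      · exact h1
      · exact absurd h1 (ne_of_lt (Group.IsSolvable.commutator_lt_of_ne_bot hVne))
    intro x hx y hy
    have := Subgroup.commutator_mem_commutator hx hy
    rw [hC, Subgroup.mem_bot, commutatorElement_def] at this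
    calc x * y = (x * y * x⁻¹ * y⁻¹) * (y * x) := by group
      _ = y * x := by rw [this, one_mul]
  -- (B2) `V` is a `q`-group
  have hV1 : Nat.card V ≠ 1 := fun h1 => hVne (Subgroup.card_eq_one.1 h1)
  obtain ⟨q, hq, hqd⟩ := Nat.exists_prime_and_dvd hV1
  haveI : Fact q.Prime := ⟨hq⟩
  let W : Subgroup G :=
    { carrier := {x | x ∈ V ∧ x ^ q = 1}
      one_mem' := ⟨V.one_mem, one_pow q⟩
      mul_mem' := by
        rintro a b ⟨ha, ha'⟩ ⟨hb, hb'⟩
        refine ⟨V.mul_mem ha hb, ?_⟩
        rw [(show Commute a b from hVc a ha b hb).mul_pow, ha', hb', one_mul]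
      inv_mem' := by
        rintro a ⟨ha, ha'⟩
        exact ⟨V.inv_mem ha, by rw [inv_pow, ha', inv_one]⟩ }
  have hWmem : ∀ x, x ∈ W ↔ x ∈ V ∧ x ^ q = 1 := fun x => Iff.rfl
  have hWV : W ≤ V := fun x hx => ((hWmem x).1 hx).1
  have hWn : W.Normal := by
    refine ⟨fun n hn g => ?_⟩
    obtain ⟨h1, h2⟩ := (hWmem n).1 hn
    exact (hWmem _).2 ⟨hVn.conj_mem n h1 g, by rw [conj_pow, h2]; group⟩
  have hWφ : W.map (φ : G →* G) = W := by
    apply map_eq_of_forall_mem
    intro x hx
    obtain ⟨h1, h2⟩ := (hWmem x).1 hx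
    exact (hWmem _).2 ⟨mem_of_map_eq φ V hVφ h1, by rw [← map_pow, h2, map_one]⟩
  have hWne : W ≠ ⊥ := by
    obtain ⟨x, hx⟩ := exists_prime_orderOf_dvd_card' (G := ↥V) q hqd
    intro h0
    have hxW : (x : G) ∈ W := by
      refine (hWmem _).2 ⟨x.2, ?_⟩
      have := pow_orderOf_eq_one x
      rw [hx] at this
      simpa using congrArg (fun z : ↥V => (z : G)) this
    rw [h0, Subgroup.mem_bot] at hxW
    have hx1 : x = 1 := Subtype.ext hxW
    rw [hx1, orderOf_one] at hx
    exact hq.one_lt.ne hx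
  have hWeq : W = V := by
    rcases hmin W hWn hWφ hWV with h1 | h1
    · exact absurd h1 hWne
    · exact h1
  have hVq : ∀ x ∈ V, x ^ q = 1 := by
    intro x hx
    rw [← hWeq] at hx
    exact ((hWmem x).1 hx).2
  have hVp : IsPGroup q V := fun x => ⟨1, by
    apply Subtype.ext
    simpa using hVq x x.2⟩
  -- (B3)
  haveI hQnil : Group.IsNilpotent (G ⧸ V) :=
    IH (G ⧸ V) (card_quot_lt V hVne) (quo φ V hVφ) (h.quo V hVφ)
  set π := QuotientGroup.mk' V with hπ
  have hπs : Function.Surjective π := QuotientGroup.mk'_surjective V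
  have hcomap : ∀ X : Subgroup G, (X.map π).comap π = X ⊔ V := by
    intro X
    rw [Subgroup.comap_map_eq, QuotientGroup.ker_mk']
  -- (B4)
  have key : ∀ (s : ℕ) [Fact s.Prime], ∃ S : Sylow s G, (S : Subgroup G).Normal := by
    intro s _
    by_cases hsq : s = q
    · subst hsq
      obtain ⟨Q⟩ : Nonempty (Sylow s G) := inferInstance
      refine ⟨Q, ?_⟩
      have hVQ : V ≤ (Q : Subgroup G) := normal_pGroup_le_sylow V hVn hVp Q
      have hQb : ((Q.mapSurjective hπs : Sylow s (G ⧸ V)) : Subgroup (G ⧸ V)).Normal :=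
        inferInstance
      rw [Sylow.coe_mapSurjective] at hQb
      have e : (Q : Subgroup G) = ((Q : Subgroup G).map π).comap π := by
        rw [hcomap, sup_eq_left.2 hVQ]
      rw [e]
      exact hQb.comap π
    · obtain ⟨S, hS⟩ := Cfsg.Agent.S0031.result φ h.toFPF s
      refine ⟨S, ?_⟩
      set M := (S : Subgroup G) ⊔ V with hM
      have hMn : M.Normal := by
        have hSb : ((S.mapSurjective hπs : Sylow s (G ⧸ V)) : Subgroup (G ⧸ V)).Normal :=
          inferInstance
        rw [Sylow.coe_mapSurjective] at hSb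
        rw [hM, ← hcomap]
        exact hSb.comap π
      have hMφ : M.map (φ : G →* G) = M := by
        rw [hM, Subgroup.map_sup, hS, hVφ]
      have hcop : (Nat.card V).Coprime (Nat.card (S : Subgroup G)) := by
        obtain ⟨a, ha⟩ := IsPGroup.iff_card.1 hVp
        obtain ⟨b, hb⟩ := IsPGroup.iff_card.1 S.isPGroup'
        rw [ha, hb]
        apply Nat.Coprime.pow
        exact (Nat.coprime_primes hq Fact.out).2 (fun h0 => hsq h0.symm)
      have hSM : (S : Subgroup G) ≤ M := le_sup_left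
      by_cases hMtop : M = ⊤
      · have hcent := le_centralizer h hr V hVc hVφ (S : Subgroup G) hS hcop
        refine ⟨fun n hn g => ?_⟩
        have hg : g ∈ (↑((S : Subgroup G) ⊔ V) : Set G) := by
          show g ∈ M
          rw [hMtop]; trivial
        rw [Subgroup.mul_normal, Set.mem_mul] at hg
        obtain ⟨x, hx, v, hv, rfl⟩ := hg
        have h1 := hcent hn
        rw [Subgroup.mem_centralizer_iff] at h1
        have h2 : v * n * v⁻¹ = n := by
          rw [h1 v hv]; group
        have e : x * v * n * (x * v)⁻¹ = x * (v * n * v⁻¹) * x⁻¹ := by group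
        rw [e, h2]
        exact Subgroup.mul_mem _ (Subgroup.mul_mem _ hx hn) (Subgroup.inv_mem _ hx)
      · haveI hMnil : Group.IsNilpotent ↥M :=
          IH ↥M (card_sub_lt M hMtop) (res φ M hMφ) (h.res M hMφ)
        obtain ⟨PM⟩ : Nonempty (Sylow s ↥M) := inferInstance
        have hPMn : (PM : Subgroup ↥M).Normal := inferInstance
        have hall : ∀ X : Subgroup ↥M, IsPGroup s X → X ≤ (PM : Subgroup ↥M) := by
          intro X hX
          obtain ⟨R, hXR⟩ := hX.exists_le_sylow
          have h1 : (PM : Subgroup ↥M) ≤ R :=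
            normal_pGroup_le_sylow _ hPMn PM.isPGroup' R
          have h2 : (R : Subgroup ↥M) = PM := PM.is_maximal' R.isPGroup' h1
          rw [← h2]; exact hXR
        have hSPM : (S : Subgroup G) = (PM : Subgroup ↥M).map M.subtype := by
          have h1 : (S : Subgroup G) ≤ (PM : Subgroup ↥M).map M.subtype := by
            intro x hx
            have h2 : (S : Subgroup G).subgroupOf M ≤ PM := hall _ (S.isPGroup'.comap_subtype)
            exact ⟨⟨x, hSM hx⟩, h2 (Subgroup.mem_subgroupOf.2 hx), rfl⟩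
          exact (S.is_maximal' (PM.isPGroup'.map _) h1).symm
        refine ⟨fun n hn g => ?_⟩
        have hmemM : g * n * g⁻¹ ∈ M := hMn.conj_mem n (hSM hn) g
        obtain ⟨k, hk⟩ := S.isPGroup' ⟨n, hn⟩
        have hk' : n ^ (s ^ k) = 1 := by
          simpa using congrArg (fun z : ↥(S : Subgroup G) => (z : G)) hk
        have hpow : (⟨g * n * g⁻¹, hmemM⟩ : ↥M) ^ (s ^ k) = 1 := by
          apply Subtype.ext
          rw [Subgroup.coe_pow, Subgroup.coe_one]
          show (g * n * g⁻¹) ^ (s ^ k) = 1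
          rw [conj_pow, hk']; group
        have h3 := hall _ (Cfsg.Agent.Lib.Lead_PStable.zpowers_isPGroup _ k hpow)
          (Subgroup.mem_zpowers _)
        rw [hSPM]
        exact ⟨_, h3, rfl⟩
  -- (B5)
  apply ((Group.isNilpotent_of_finite_tfae (G := G)).out 0 3).2
  intro p hp P
  obtain ⟨S, hS⟩ := @key p hp
  obtain ⟨g, hg⟩ := MulAction.exists_smul_eq G S P
  haveI := hS
  rw [Sylow.smul_eq_of_normal] at hg
  rw [← hg]
  exact hS

/-- Thompson's theorem (iterate form). -/
theorem thompson_aux (r : ℕ) (hr : r.Prime) : ∀ n : ℕ, ∀ (G : Type u) [Group G] [Finite G],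
    Nat.card G = n → ∀ φ : G ≃* G, Setup φ r → Group.IsNilpotent G := by
  intro n
  induction n using Nat.strong_induction_on with
  | _ n ih =>
  intro G _ _ hn φ h
  have IH : ∀ (X : Type u) [Group X] [Finite X], Nat.card X < Nat.card G →
      ∀ ψ : X ≃* X, Setup ψ r → Group.IsNilpotent X := by
    intro X _ _ hX ψ hψ
    exact ih (Nat.card X) (hn ▸ hX) X rfl ψ hψ
  haveI := solvable_step h IH
  exact nilpotent_step h hr IH

end

end Cfsg.Agent.Lib.Lead_FPF3
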