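import Mathlib
import Cfsg.Prelude.Def_PLocal
import Cfsg.Agent.S0605
import Cfsg.Agent.Lib.Helper4_PCore

/-! The stable normal closure `W(S)` of `Ω₁(Z(S))`. -/

namespace Cfsg.Agent.Lib.Lead_WS

open Cfsg.Agent.Lib.Helper4_PCore
open scoped commutatorElement

universe u

theorem closure_normal_of_conj {G : Type*} [Group G] (T : Set G)
    (h : ∀ t ∈ T, ∀ g : G, g * t * g⁻¹ ∈ T) : (Subgroup.closure T).Normal := by
  constructor
  intro n hn g
  induction hn using Subgroup.closure_induction with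
  | mem x hx => exact Subgroup.subset_closure (h x hx g)
  | one => simp
  | mul x y _ _ ihx ihy =>
    have e : g * (x * y) * g⁻¹ = (g * x * g⁻¹) * (g * y * g⁻¹) := by group
    rw [e]; exact Subgroup.mul_mem _ ihx ihy
  | inv x _ ih =>
    have e : g * x⁻¹ * g⁻¹ = (g * x * g⁻¹)⁻¹ := by group
    rw [e]; exact Subgroup.inv_mem _ ih

theorem elab_map' {H K : Type u} [Group H] [Group K] (p : ℕ) (f : H →* K) (A : Subgroup H)
    (hA : Cfsg.IsElementaryAbelian p A) : Cfsg.IsElementaryAbelian p (A.map f) := by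
  haveI := hA.1
  refine ⟨inferInstance, ?_⟩
  rintro _ ⟨a, ha, rfl⟩
  rw [← map_pow, hA.2 a ha, map_one]

/-- the family defining `W(S)` -/
def WF (p : ℕ) (S : Type u) [Group S] : Set (Subgroup S) :=
  {W : Subgroup S | Cfsg.omegaOne p (Subgroup.center S) ≤ W ∧
    ∀ (H : Type u) [Group H] (τ : S →* H), Cfsg.IsStableEmbedding p τ → (W.map τ).Normal}

theorem stableNormalClosure_eq (p : ℕ) (S : Type u) [Group S] :
    Cfsg.stableNormalClosure p S = sInf (WF p S) := rfl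

section basic

variable {p : ℕ} [Fact p.Prime] {S : Type u} [Group S] [Finite S]

theorem omegaOne_center_le :
    Cfsg.omegaOne p (Subgroup.center S) ≤ Cfsg.omegaCenterThompson p S := by
  unfold Cfsg.omegaCenterThompson Cfsg.omegaOne
  apply Subgroup.closure_mono
  rintro x ⟨hxc, hxp⟩
  refine ⟨⟨?_, ?_⟩, hxp⟩
  · by_cases h1 : x = 1
    · rw [h1]; exact Subgroup.one_mem _
    · have ho : orderOf x = p := orderOf_eq_prime hxp h1
      exact Cfsg.Agent.S0605.result x (Subgroup.center_le_centralizer _ hxc) ho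
  · exact Subgroup.center_le_centralizer _ hxc

theorem omegaCenterThompson_mem_WF : Cfsg.omegaCenterThompson p S ∈ WF p S := by
  refine ⟨omegaOne_center_le, ?_⟩
  intro H _ τ hτ
  obtain ⟨hinj, hfin, hsyl, hcH, hJn, hst⟩ := hτ
  unfold Cfsg.omegaCenterThompson Cfsg.omegaOne
  rw [MonoidHom.map_closure]
  apply closure_normal_of_conj
  rintro _ ⟨z, ⟨⟨hzJ, hzC⟩, hzp⟩, rfl⟩ h
  obtain ⟨z', hz'J, hz'⟩ := hJn.conj_mem _ ⟨z, hzJ, rfl⟩ h
  refine ⟨z', ⟨⟨hz'J, ?_⟩, ?_⟩, hz'⟩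
  · show z' ∈ Subgroup.centralizer _
    rw [Subgroup.mem_centralizer_iff]
    intro j hj
    obtain ⟨j', hj'J, hj'⟩ := hJn.conj_mem _ ⟨j, hj, rfl⟩ h⁻¹
    rw [inv_inv] at hj'
    have hc := Subgroup.mem_centralizer_iff.1 hzC j' hj'J
    apply hinj
    rw [map_mul, map_mul, hz']
    have e1 : τ j = h * τ j' * h⁻¹ := by rw [hj']; group
    rw [e1]
    calc h * τ j' * h⁻¹ * (h * τ z * h⁻¹) = h * (τ j' * τ z) * h⁻¹ := by group
      _ = h * (τ z * τ j') * h⁻¹ := by rw [← map_mul, hc, map_mul]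
      _ = _ := by group
  · apply hinj
    rw [map_pow, hz', conj_pow, ← map_pow, hzp, map_one]
    group

theorem sInf_mem_WF : sInf (WF p S) ∈ WF p S := by
  refine ⟨le_sInf (fun W hW => hW.1), ?_⟩
  intro H _ τ hτ
  have hinj := hτ.1
  constructor
  rintro _ ⟨w, hw, rfl⟩ h
  have h0 := (omegaCenterThompson_mem_WF (p := p) (S := S)).2 H τ hτ
  have hw0 : w ∈ Cfsg.omegaCenterThompson p S :=
    (Subgroup.mem_sInf.1 hw) _ omegaCenterThompson_mem_WF
  obtain ⟨w', hw', he⟩ := h0.conj_mem _ ⟨w, hw0, rfl⟩ h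
  refine ⟨w', ?_, he⟩
  show w' ∈ sInf (WF p S)
  rw [Subgroup.mem_sInf]
  intro W hW
  obtain ⟨w'', hw'', he''⟩ :=
    (hW.2 H τ hτ).conj_mem _ ⟨w, (Subgroup.mem_sInf.1 hw) W hW, rfl⟩ h
  have : w'' = w' := hinj (he''.trans he.symm)
  rw [← this]; exact hw''

theorem W_le_oct : Cfsg.stableNormalClosure p S ≤ Cfsg.omegaCenterThompson p S :=
  sInf_le omegaCenterThompson_mem_WF

theorem omegaOne_center_le_W :
    Cfsg.omegaOne p (Subgroup.center S) ≤ Cfsg.stableNormalClosure p S :=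
  (sInf_mem_WF (p := p) (S := S)).1

theorem W_map_normal {H : Type u} [Group H] (τ : S →* H) (hτ : Cfsg.IsStableEmbedding p τ) :
    ((Cfsg.stableNormalClosure p S).map τ).Normal :=
  (sInf_mem_WF (p := p) (S := S)).2 H τ hτ

end basic

section transport

variable {p : ℕ} {S S' : Type u} [Group S] [Group S']

theorem maxEA_map (η : S ≃* S') (A : Subgroup S)
    (hA : A ∈ Cfsg.maxElementaryAbelianSubgroups p S) :
    A.map η.toMonoidHom ∈ Cfsg.maxElementaryAbelianSubgroups p S' := by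
  refine ⟨elab_map' p _ A hA.1, ?_⟩
  intro B hB
  have h1 := hA.2 (B.map η.symm.toMonoidHom) (elab_map' p _ B hB)
  rw [Subgroup.card_map_of_injective η.symm.injective] at h1
  rw [Subgroup.card_map_of_injective η.injective]
  exact h1

theorem thompson_map_le (η : S ≃* S') :
    (Cfsg.thompsonSubgroup p S).map η.toMonoidHom ≤ Cfsg.thompsonSubgroup p S' := by
  unfold Cfsg.thompsonSubgroup
  rw [Subgroup.map_le_iff_le_comap]
  apply sSup_le
  intro A hA
  rw [← Subgroup.map_le_iff_le_comap]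
  exact le_sSup (maxEA_map η A hA)

theorem thompson_map (η : S ≃* S') :
    (Cfsg.thompsonSubgroup p S).map η.toMonoidHom = Cfsg.thompsonSubgroup p S' := by
  apply le_antisymm (thompson_map_le η)
  have h := thompson_map_le (p := p) η.symm
  intro y hy
  exact ⟨η.symm y, h ⟨y, hy, rfl⟩, by simp⟩

theorem oct_map_le (η : S ≃* S') :
    (Cfsg.omegaCenterThompson p S).map η.toMonoidHom ≤ Cfsg.omegaCenterThompson p S' := by
  unfold Cfsg.omegaCenterThompson Cfsg.omegaOne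
  rw [MonoidHom.map_closure]
  apply Subgroup.closure_mono
  rintro _ ⟨x, ⟨⟨hxJ, hxC⟩, hxp⟩, rfl⟩
  refine ⟨⟨?_, ?_⟩, ?_⟩
  · rw [← thompson_map η]; exact ⟨x, hxJ, rfl⟩
  · show η.toMonoidHom x ∈ Subgroup.centralizer _
    rw [Subgroup.mem_centralizer_iff]
    intro j hj
    rw [← thompson_map η] at hj
    obtain ⟨j', hj', rfl⟩ := hj
    have := Subgroup.mem_centralizer_iff.1 hxC j' hj'
    show η j' * η x = η x * η j'
    rw [← map_mul, ← map_mul, this]
  · show (η x) ^ p = 1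
    rw [← map_pow, hxp, map_one]

theorem oct_map (η : S ≃* S') :
    (Cfsg.omegaCenterThompson p S).map η.toMonoidHom = Cfsg.omegaCenterThompson p S' := by
  apply le_antisymm (oct_map_le η)
  have h := oct_map_le (p := p) η.symm
  intro y hy
  exact ⟨η.symm y, h ⟨y, hy, rfl⟩, by simp⟩

theorem omegaOne_center_map_le (η : S ≃* S') :
    Cfsg.omegaOne p (Subgroup.center S') ≤
      (Cfsg.omegaOne p (Subgroup.center S)).map η.toMonoidHom := by
  unfold Cfsg.omegaOne
  rw [MonoidHom.map_closure]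
  apply Subgroup.closure_mono
  rintro y ⟨hyc, hyp⟩
  refine ⟨η.symm y, ⟨?_, ?_⟩, by simp⟩
  · rw [Subgroup.mem_center_iff] at hyc ⊢
    intro s
    apply η.injective
    rw [map_mul, map_mul]
    simp only [MulEquiv.apply_symm_apply]
    exact hyc (η s)
  · apply η.injective
    rw [map_pow, map_one]
    simpa using hyp

theorem stable_comp {H : Type u} [Group H] (η : S ≃* S') (τ : S' →* H)
    (hτ : Cfsg.IsStableEmbedding p τ) : Cfsg.IsStableEmbedding p (τ.comp η.toMonoidHom) := by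
  obtain ⟨hinj, hfin, ⟨P, hP⟩, hcH, hJn, hst⟩ := hτ
  refine ⟨hinj.comp η.injective, hfin, ⟨P, ?_⟩, hcH, ?_, ?_⟩
  · rw [hP]
    ext y
    constructor
    · rintro ⟨s', rfl⟩
      exact ⟨η.symm s', by simp⟩
    · rintro ⟨s, rfl⟩
      exact ⟨η s, rfl⟩
  · rw [← Subgroup.map_map, thompson_map η]
    exact hJn
  · intro V _ hV
    rw [← Subgroup.map_map, oct_map η] at hV
    exact hst V hV

theorem WF_map (η : S ≃* S') (W : Subgroup S) (hW : W ∈ WF p S) :
    W.map η.toMonoidHom ∈ WF p S' := by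
  refine ⟨(omegaOne_center_map_le η).trans (Subgroup.map_mono hW.1), ?_⟩
  intro H _ τ hτ
  rw [Subgroup.map_map]
  exact hW.2 H _ (stable_comp η τ hτ)

theorem W_map [Fact p.Prime] [Finite S] (η : S ≃* S') :
    (Cfsg.stableNormalClosure p S).map η.toMonoidHom = Cfsg.stableNormalClosure p S' := by
  have : Finite S' := Finite.of_equiv S η.toEquiv
  apply le_antisymm
  · have h1 : Cfsg.stableNormalClosure p S ≤
        (Cfsg.stableNormalClosure p S').map η.symm.toMonoidHom :=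
      sInf_le (WF_map η.symm _ sInf_mem_WF)
    rintro _ ⟨w, hw, rfl⟩
    obtain ⟨w', hw', rfl⟩ := h1 hw
    simpa using hw'
  · exact sInf_le (WF_map η _ sInf_mem_WF)

end transport

section quadratic

theorem map_conj_normal {G : Type*} [Group G] (W : Subgroup G) [hW : W.Normal] (g : G) :
    W.map (MulAut.conj g).toMonoidHom = W := by
  apply le_antisymm
  · rintro _ ⟨w, hw, rfl⟩
    exact hW.conj_mem w hw g
  · intro w hw
    refine ⟨g⁻¹ * w * g, ?_, ?_⟩
    · have := hW.conj_mem w hw g⁻¹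
      rwa [inv_inv] at this
    · show g * (g⁻¹ * w * g) * g⁻¹ = w
      group

theorem quad_conj {H : Type*} [Group H] (V : Subgroup H) [V.Normal] (x g : H)
    (hq : ⁅⁅V, Subgroup.zpowers x⁆, Subgroup.zpowers x⁆ = ⊥) :
    ⁅⁅V, Subgroup.zpowers (g * x * g⁻¹)⁆, Subgroup.zpowers (g * x * g⁻¹)⁆ = ⊥ := by
  have e1 : Subgroup.zpowers (g * x * g⁻¹) =
      (Subgroup.zpowers x).map (MulAut.conj g).toMonoidHom := by
    rw [MonoidHom.map_zpowers]
    rfl
  have e2 : ⁅⁅V, Subgroup.zpowers (g * x * g⁻¹)⁆, Subgroup.zpowers (g * x * g⁻¹)⁆ =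
      (⁅⁅V, Subgroup.zpowers x⁆, Subgroup.zpowers x⁆).map (MulAut.conj g).toMonoidHom := by
    rw [Subgroup.map_commutator, Subgroup.map_commutator, map_conj_normal V g, ← e1]
  rw [e2, hq, Subgroup.map_bot]

theorem quad_map {S H : Type*} [Group S] [Group H] (τ : S →* H) (hinj : Function.Injective τ)
    (W : Subgroup S) (y : S) :
    ⁅⁅W, Subgroup.zpowers y⁆, Subgroup.zpowers y⁆ = ⊥ ↔
      ⁅⁅W.map τ, Subgroup.zpowers (τ y)⁆, Subgroup.zpowers (τ y)⁆ = ⊥ := by
  have e : ⁅⁅W.map τ, Subgroup.zpowers (τ y)⁆, Subgroup.zpowers (τ y)⁆ =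
      (⁅⁅W, Subgroup.zpowers y⁆, Subgroup.zpowers y⁆).map τ := by
    rw [Subgroup.map_commutator, Subgroup.map_commutator, MonoidHom.map_zpowers]
  rw [e, Subgroup.map_eq_bot_iff_of_injective _ hinj]

theorem quad_of_mod_centralizer {H : Type*} [Group H] (V : Subgroup H) [hV : V.Normal] (g g' : H)
    (hc : g⁻¹ * g' ∈ Subgroup.centralizer (V : Set H))
    (hq : ⁅⁅V, Subgroup.zpowers g⁆, Subgroup.zpowers g⁆ = ⊥) :
    ⁅⁅V, Subgroup.zpowers g'⁆, Subgroup.zpowers g'⁆ = ⊥ := by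
  haveI : (Subgroup.centralizer (V : Set H)).Normal := Subgroup.normal_centralizer
  have hmk : (QuotientGroup.mk g' : H ⧸ Subgroup.centralizer (V : Set H)) = QuotientGroup.mk g :=
    (QuotientGroup.eq.2 hc).symm
  -- step 1
  have h1 : ∀ u ∈ Subgroup.zpowers g', ∃ k ∈ Subgroup.zpowers g,
      k⁻¹ * u ∈ Subgroup.centralizer (V : Set H) := by
    rintro _ ⟨n, rfl⟩
    refine ⟨g ^ n, ⟨n, rfl⟩, ?_⟩
    apply QuotientGroup.eq.1
    show (QuotientGroup.mk (g ^ n) : H ⧸ Subgroup.centralizer (V : Set H)) =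
      QuotientGroup.mk (g' ^ n)
    rw [QuotientGroup.mk_zpow, QuotientGroup.mk_zpow, hmk]
  -- step 2
  have h2 : ∀ m ∈ V, ∀ u k : H, k⁻¹ * u ∈ Subgroup.centralizer (V : Set H) → ⁅m, u⁆ = ⁅m, k⁆ := by
    intro m hm u k hku
    have h3 := Subgroup.mem_centralizer_iff.1 hku m⁻¹ (V.inv_mem hm)
    rw [commutatorElement_def, commutatorElement_def]
    calc m * u * m⁻¹ * u⁻¹ = m * k * ((k⁻¹ * u) * m⁻¹) * (k⁻¹ * u)⁻¹ * k⁻¹ := by group
      _ = m * k * (m⁻¹ * (k⁻¹ * u)) * (k⁻¹ * u)⁻¹ * k⁻¹ := by rw [h3]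
      _ = _ := by group
  have h4 : ⁅V, Subgroup.zpowers g'⁆ ≤ ⁅V, Subgroup.zpowers g⁆ := by
    rw [Subgroup.commutator_le]
    intro v hv u hu
    obtain ⟨k, hk, hku⟩ := h1 u hu
    rw [h2 v hv u k hku]
    exact Subgroup.commutator_mem_commutator hv hk
  have h5 : ⁅V, Subgroup.zpowers g⁆ ≤ V := Subgroup.commutator_le_left V _
  rw [eq_bot_iff, Subgroup.commutator_le]
  intro m hm u hu
  obtain ⟨k, hk, hku⟩ := h1 u hu
  rw [h2 m (h5 (h4 hm)) u k hku, ← hq]
  exact Subgroup.commutator_mem_commutator (h4 hm) hk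

/-- No element acts quadratically and nontrivially on `W(S)`. -/
theorem W_quadratic {S : Type u} [Group S] [Finite S] {p : ℕ} [Fact p.Prime] (x : S)
    (hq : ⁅⁅Cfsg.stableNormalClosure p S, Subgroup.zpowers x⁆, Subgroup.zpowers x⁆ = ⊥) :
    ∀ w ∈ Cfsg.stableNormalClosure p S, x * w = w * x := by
  classical
  obtain ⟨W, hWdef⟩ : ∃ W : Subgroup S, W = Cfsg.stableNormalClosure p S := ⟨_, rfl⟩
  rw [← hWdef] at hq ⊢
  obtain ⟨Q, hQ⟩ : ∃ Q : Set S, Q = {y : S | ⁅⁅W, Subgroup.zpowers y⁆, Subgroup.zpowers y⁆ = ⊥} :=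
    ⟨_, rfl⟩
  have hmem : W ⊓ Subgroup.centralizer Q ∈ WF p S := by
    refine ⟨le_inf (hWdef ▸ omegaOne_center_le_W) ?_, ?_⟩
    · refine le_trans ?_ (Subgroup.center_le_centralizer Q)
      unfold Cfsg.omegaOne
      rw [Subgroup.closure_le]
      intro y hy
      exact hy.1
    · intro H _ τ hτ
      have hVn : (W.map τ).Normal := hWdef ▸ W_map_normal τ hτ
      obtain ⟨hinj, hfin, ⟨P, hP⟩, hcH, hJn, hst⟩ := hτ
      have hVle : W.map τ ≤ (Cfsg.omegaCenterThompson p S).map τ :=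
        Subgroup.map_mono (hWdef ▸ W_le_oct)
      have hstV := hst (W.map τ) hVle
      constructor
      rintro _ ⟨w, hw, rfl⟩ h
      obtain ⟨w', hw', he⟩ := hVn.conj_mem _ ⟨w, hw.1, rfl⟩ h
      refine ⟨w', ⟨hw', ?_⟩, he⟩
      show w' ∈ Subgroup.centralizer Q
      rw [Subgroup.mem_centralizer_iff]
      intro y hy
      have hyq : ⁅⁅W, Subgroup.zpowers y⁆, Subgroup.zpowers y⁆ = ⊥ := by
        rw [hQ] at hy; exact hy
      have hq1 := (quad_map τ hinj W y).1 hyq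
      have hq2 := quad_conj (W.map τ) (τ y) h⁻¹ hq1
      rw [inv_inv] at hq2
      have pst := hstV _ hq2
      have hsyl := pCore_le_sylow (P.mapSurjective
        (QuotientGroup.mk'_surjective (Subgroup.centralizer ((W.map τ : Subgroup H) : Set H)))) pst
      rw [Sylow.coe_mapSurjective] at hsyl
      obtain ⟨t', ht', hte⟩ := hsyl
      rw [hP] at ht'
      obtain ⟨t, rfl⟩ := ht'
      have hcW : (τ t)⁻¹ * (h⁻¹ * τ y * h) ∈
          Subgroup.centralizer ((W.map τ : Subgroup H) : Set H) := QuotientGroup.eq.1 hte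
      -- `t` is quadratic on `W`
      have hcW' : (h⁻¹ * τ y * h)⁻¹ * τ t ∈
          Subgroup.centralizer ((W.map τ : Subgroup H) : Set H) := by
        have := Subgroup.inv_mem _ hcW
        rwa [mul_inv_rev, inv_inv] at this
      have hq3 := quad_of_mod_centralizer (W.map τ) _ _ hcW' hq2
      have htQ : t ∈ Q := by
        rw [hQ]
        exact (quad_map τ hinj W t).2 hq3
      have htw : t * w = w * t := Subgroup.mem_centralizer_iff.1 hw.2 t htQ
      -- so `h⁻¹ τ y h` commutes with `τ w`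
      have h6 := Subgroup.mem_centralizer_iff.1 hcW (τ w) ⟨w, hw.1, rfl⟩
      have h7 : (h⁻¹ * τ y * h) * τ w = τ w * (h⁻¹ * τ y * h) := by
        calc (h⁻¹ * τ y * h) * τ w = τ t * (((τ t)⁻¹ * (h⁻¹ * τ y * h)) * τ w) := by group
          _ = τ t * (τ w * ((τ t)⁻¹ * (h⁻¹ * τ y * h))) := by rw [h6]
          _ = (τ t * τ w) * ((τ t)⁻¹ * (h⁻¹ * τ y * h)) := by group
          _ = (τ w * τ t) * ((τ t)⁻¹ * (h⁻¹ * τ y * h)) := by
              rw [← map_mul, htw, map_mul]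
          _ = _ := by group
      apply hinj
      rw [map_mul, map_mul, he]
      calc τ y * (h * τ w * h⁻¹) = h * ((h⁻¹ * τ y * h) * τ w) * h⁻¹ := by group
        _ = h * (τ w * (h⁻¹ * τ y * h)) * h⁻¹ := by rw [h7]
        _ = _ := by group
  have hle : W ≤ W ⊓ Subgroup.centralizer Q := by
    rw [hWdef]
    exact sInf_le (hWdef ▸ hmem)
  intro w hw
  have h1 := (hle hw).2
  have hxQ : x ∈ Q := by rw [hQ]; exact hq
  exact Subgroup.mem_centralizer_iff.1 h1 x hxQ

end quadratic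

section more

variable {p : ℕ} [Fact p.Prime] {S : Type u} [Group S] [Finite S]

theorem W_char : (Cfsg.stableNormalClosure p S).Characteristic := by
  rw [Subgroup.characteristic_iff_map_eq]
  intro φ
  exact W_map φ

theorem oct_elab : Cfsg.IsElementaryAbelian p (Cfsg.omegaCenterThompson p S) := by
  unfold Cfsg.omegaCenterThompson Cfsg.omegaOne
  apply Cfsg.Agent.Lib.Helper1_Thompson.isElementaryAbelian_closure
  · rintro a ⟨⟨haJ, haC⟩, _⟩ b ⟨⟨hbJ, hbC⟩, _⟩
    exact Subgroup.mem_centralizer_iff.1 hbC a haJ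
  · rintro a ⟨_, hap⟩
    exact hap

theorem W_comm : ∀ a ∈ Cfsg.stableNormalClosure p S, ∀ b ∈ Cfsg.stableNormalClosure p S,
    a * b = b * a := by
  intro a ha b hb
  haveI := (oct_elab (p := p) (S := S)).1
  exact Subgroup.mul_comm_of_mem_isMulCommutative _ (W_le_oct ha) (W_le_oct hb)

theorem W_pow : ∀ a ∈ Cfsg.stableNormalClosure p S, a ^ p = 1 :=
  fun a ha => (oct_elab (p := p) (S := S)).2 a (W_le_oct ha)

end more

end Cfsg.Agent.Lib.Lead_WS
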