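import Mathlib
import Cfsg.Prelude.Def_PLocal
import Cfsg.Agent.Lib.Lead_SZ
import Cfsg.Agent.Lib.Lead_Hall
import Cfsg.Agent.Lib.Helper5_PPrime
import Cfsg.Agent.Lib.Lead_WS

/-!
# A Frattini argument modulo the `p'`-core, and transport of `W(S)` to a quotient
-/

set_option autoImplicit false

namespace Cfsg.Agent.Lib.Lead_FratPP

universe u

section
variable {G : Type*} [Group G] [Finite G] {p : ℕ} [Fact p.Prime]

/-- If the image of the `p`-subgroup `Z` in `G / O_{p'}(G)` is normal, then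
`G = O_{p'}(G) N_G(Z)`. -/
theorem sup_normalizer_eq_top (Z : Subgroup G) (hZp : IsPGroup p Z)
    (hZb : haveI := Cfsg.Agent.Lib.Helper5_PPrime.pPrimeCore_normal p G
      (Z.map (QuotientGroup.mk' (Cfsg.pPrimeCore p G))).Normal) :
    Cfsg.pPrimeCore p G ⊔ Subgroup.normalizer (Z : Set G) = ⊤ := by
  classical
  have hpp : p.Prime := Fact.out
  haveI hKn : (Cfsg.pPrimeCore p G).Normal := Cfsg.Agent.Lib.Helper5_PPrime.pPrimeCore_normal p G
  have hOcop : (Nat.card (Cfsg.pPrimeCore p G)).Coprime p :=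
    Cfsg.Agent.Lib.Helper5_PPrime.pPrimeCore_coprime p G
  have hZbn : (Z.map (QuotientGroup.mk' (Cfsg.pPrimeCore p G))).Normal := hZb
  haveI hLn : ((Z.map (QuotientGroup.mk' (Cfsg.pPrimeCore p G))).comap
      (QuotientGroup.mk' (Cfsg.pPrimeCore p G))).Normal := hZbn.comap _
  have hZL : Z ≤ (Z.map (QuotientGroup.mk' (Cfsg.pPrimeCore p G))).comap
      (QuotientGroup.mk' (Cfsg.pPrimeCore p G)) := Subgroup.le_comap_map _ _
  have hZO : Z ⊓ Cfsg.pPrimeCore p G = ⊥ :=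
    Cfsg.Agent.Lib.Helper5_PPrime.inf_eq_bot_of_pGroup_of_coprime hZp hOcop
  have hcardL := Cfsg.Agent.Lib.Lead_Hall.card_comap_mk (Cfsg.pPrimeCore p G)
    (Z.map (QuotientGroup.mk' (Cfsg.pPrimeCore p G)))
  rw [Cfsg.Agent.Lib.Lead_SZ.card_map_of_inf_bot _ Z hZO] at hcardL
  have hidx : Nat.card Z * Z.relIndex ((Z.map (QuotientGroup.mk' (Cfsg.pPrimeCore p G))).comap
      (QuotientGroup.mk' (Cfsg.pPrimeCore p G))) =
      Nat.card ((Z.map (QuotientGroup.mk' (Cfsg.pPrimeCore p G))).comap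
      (QuotientGroup.mk' (Cfsg.pPrimeCore p G))) := by
    have := Subgroup.relIndex_mul_relIndex ⊥ Z _ bot_le hZL
    rwa [Subgroup.relIndex_bot_left, Subgroup.relIndex_bot_left] at this
  have hrel : Z.relIndex ((Z.map (QuotientGroup.mk' (Cfsg.pPrimeCore p G))).comap
      (QuotientGroup.mk' (Cfsg.pPrimeCore p G))) = Nat.card (Cfsg.pPrimeCore p G) := by
    rw [hcardL] at hidx
    exact Nat.eq_of_mul_eq_mul_left Nat.card_pos hidx
  have hnd' : ¬ p ∣ Nat.card (Cfsg.pPrimeCore p G) :=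
    (Nat.Prime.coprime_iff_not_dvd hpp).1 hOcop.symm
  have hnd : ¬ p ∣ (Z.subgroupOf ((Z.map (QuotientGroup.mk' (Cfsg.pPrimeCore p G))).comap
      (QuotientGroup.mk' (Cfsg.pPrimeCore p G)))).index := by
    show ¬ p ∣ Z.relIndex _
    rw [hrel]
    exact hnd'
  obtain ⟨Q, hQ⟩ : ∃ Q : Sylow p ↥((Z.map (QuotientGroup.mk' (Cfsg.pPrimeCore p G))).comap
      (QuotientGroup.mk' (Cfsg.pPrimeCore p G))),
      (Q : Subgroup ↥((Z.map (QuotientGroup.mk' (Cfsg.pPrimeCore p G))).comap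
      (QuotientGroup.mk' (Cfsg.pPrimeCore p G)))) =
      Z.subgroupOf ((Z.map (QuotientGroup.mk' (Cfsg.pPrimeCore p G))).comap
      (QuotientGroup.mk' (Cfsg.pPrimeCore p G))) :=
    ⟨IsPGroup.toSylow (IsPGroup.comap_subtype hZp) hnd, IsPGroup.toSylow_coe _ _⟩
  have hfr := Sylow.normalizer_sup_eq_top Q
  rw [hQ, Subgroup.map_subgroupOf_eq_of_le hZL] at hfr
  rw [eq_top_iff, ← hfr]
  refine sup_le le_sup_right ?_
  intro l hl
  obtain ⟨z, hz, hzl⟩ := (hl : QuotientGroup.mk' (Cfsg.pPrimeCore p G) l ∈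
    Z.map (QuotientGroup.mk' (Cfsg.pPrimeCore p G)))
  have ho : z⁻¹ * l ∈ Cfsg.pPrimeCore p G := QuotientGroup.eq.1 hzl
  have e : l = z * (z⁻¹ * l) := by group
  rw [e]
  exact Subgroup.mul_mem _ (Subgroup.mem_sup_right (Subgroup.le_normalizer hz))
    (Subgroup.mem_sup_left ho)

end

section
variable {G G' : Type u} [Group G] [Group G'] {p : ℕ} [Fact p.Prime]

/-- Transport of `W(P)` along a homomorphism injective on `P`. -/
theorem W_map_sub (f : G →* G') (P : Subgroup G) [Finite P]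
    (hinj : Set.InjOn f (P : Set G)) (Q : Subgroup G') (hQ : Q = P.map f) :
    (Cfsg.stableNormalClosure p ↥Q).map Q.subtype =
      ((Cfsg.stableNormalClosure p ↥P).map P.subtype).map f := by
  subst hQ
  have hbij : Function.Bijective (f.subgroupMap P) := by
    refine ⟨?_, f.subgroupMap_surjective P⟩
    intro x y hxy
    have h1 : f x = f y := congrArg Subtype.val hxy
    exact Subtype.ext (hinj x.2 y.2 h1)
  set η : ↥P ≃* ↥(P.map f) := MulEquiv.ofBijective (f.subgroupMap P) hbij with hη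
  rw [← Cfsg.Agent.Lib.Lead_WS.W_map η, Subgroup.map_map, Subgroup.map_map]
  congr 1

end

end Cfsg.Agent.Lib.Lead_FratPP
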