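import Mathlib
import Cfsg.Prelude.Def_PLocal
import Cfsg.Agent.Lib.Lead_GTb

/-!
# Generic Glauberman–Thompson reduction, third version: an abstract hypothesis class, and the
two-functor hypothesis `N_G(W₁(P))` and `C_G(W₂(P))` have normal `p`-complements
-/

namespace Cfsg.Agent.Lib.Lead_GTc

open Cfsg.Agent.Lib.Helper7_NPC Cfsg.Agent.Lib.Helper4_PCore Cfsg.Agent.Lib.Lead_GT1
open Cfsg.Agent.Lib.Lead_GT2 (normalizer_map_mk map_conj_eq_of_mem_normalizer)
open Cfsg.Agent.Lib.Lead_GT3 (ee ee_le le_ee exists_bad)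
open Cfsg.Agent.Lib.Lead_GT4 (ee_of_normal eq_pCore relIndex_comap_mk exists_K)
open Cfsg.Agent.Lib.Lead_GT5 (centralizer_le)
open Cfsg.Agent.Lib.Lead_GT6 (card_map_mk_eq_relIndex comm_le)
open Cfsg.Agent.Lib.Lead_GTb
open scoped Pointwise commutatorElement

universe u

/-- An abstract hypothesis with the four closure properties used by the reduction. -/
structure HClass (p : ℕ) where
  hyp : ∀ (X : Type u) [Group X], Prop
  sub : ∀ (X : Type u) [Group X] [Finite X] (M : Subgroup X) (P : Sylow p X),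
    (P : Subgroup X) ≤ M → hyp X → hyp ↥M
  quot : ∀ (X : Type u) [Group X] [Finite X] (D : Subgroup X) [D.Normal],
    (Nat.card D).Coprime p → hyp X → hyp (X ⧸ D)
  nrm : ∀ (X : Type u) [Group X] [Finite X] (H : Subgroup X), IsPGroup p H → H ≠ ⊥ →
    (∀ Q : Subgroup X, IsPGroup p Q → Q ≠ ⊥ → ee p H < ee p Q →
      NPC p ↥(Subgroup.normalizer (Q : Set X))) →
    hyp X → hyp ↥(Subgroup.normalizer (H : Set X))
  quotP : ∀ (X : Type u) [Group X] [Finite X] (H : Subgroup X) [H.Normal], IsPGroup p H → H ≠ ⊥ →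
    (∀ Q : Subgroup X, IsPGroup p Q → Q ≠ ⊥ → ee p H ≤ ee p Q → Nat.card H < Nat.card Q →
      NPC p ↥(Subgroup.normalizer (Q : Set X))) →
    hyp (X ⧸ H)

variable {p : ℕ} [Fact p.Prime] (ℋ : HClass.{u} p)

section
variable {G : Type u} [Group G] [Finite G]

set_option maxHeartbeats 1000000 in
/-- Any `P'`-invariant subgroup between `H` and `K` is `H` or `K`. -/
theorem between_c
    (hM : ∀ M : Subgroup G, (∃ P : Sylow p G, (P : Subgroup G) ≤ M) → M ≠ ⊤ → NPC p ↥M)
    (H K : Subgroup G) [hHn : H.Normal] [hKn : K.Normal] (hHp : IsPGroup p H)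
    (hcop : (H.relIndex K).Coprime p)
    (hcent : Subgroup.centralizer (H : Set G) ≤ H) (P' : Sylow p G)
    (Y : Subgroup G) (hHY : H ≤ Y) (hYK : Y ≤ K)
    (hPY : (P' : Subgroup G) ≤ Subgroup.normalizer (Y : Set G)) : Y = H ∨ Y = K := by
  have hpp : p.Prime := Fact.out
  have hpel : ∀ x ∈ K, (∃ t, x ^ (p ^ t) = 1) → x ∈ H := fun x hx ⟨t, ht⟩ =>
    Cfsg.Agent.Lib.Lead_PStab2.pElement_mem H K hcop hx t ht
  have hpel' : ∀ x ∈ (P' : Subgroup G), ∃ t, x ^ (p ^ t) = 1 := by
    intro x hx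
    obtain ⟨t, ht⟩ := P'.isPGroup' ⟨x, hx⟩
    exact ⟨t, by simpa using congrArg (fun z : ↥(P' : Subgroup G) => (z : G)) ht⟩
  set M := Y ⊔ (P' : Subgroup G) with hMdef
  by_cases hMtop : M = ⊤
  · right
    apply le_antisymm hYK
    intro k hk
    have h1 : k ∈ (↑(Y ⊔ (P' : Subgroup G)) : Set G) := by
      show k ∈ M
      rw [hMtop]; trivial
    rw [Subgroup.coe_mul_of_right_le_normalizer_left Y P' hPY, Set.mem_mul] at h1
    obtain ⟨y, hy, x, hx, rfl⟩ := h1
    have hxK : x ∈ K := by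
      have e : x = y⁻¹ * (y * x) := by group
      rw [e]
      exact K.mul_mem (K.inv_mem (hYK hy)) hk
    exact Y.mul_mem hy (hHY (hpel x hxK (hpel' x hx)))
  · left
    apply le_antisymm _ hHY
    have hPM : (P' : Subgroup G) ≤ M := le_sup_right
    have hYM : Y ≤ M := le_sup_left
    obtain ⟨T, hTn, hTc, k, hk⟩ := hM M ⟨P', hPM⟩ hMtop
    haveI := hTn
    haveI hH'n : (H.subgroupOf M).Normal := inferInstance
    have hH'p : IsPGroup p (H.subgroupOf M) := hHp.comap_subtype
    have hTcent := commute_of_coprime_normal T (H.subgroupOf M) hTc hH'p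
    have hTbot : T = ⊥ := by
      rw [eq_bot_iff]
      intro t ht
      rw [Subgroup.mem_bot]
      have h1 := hTcent ht
      rw [Subgroup.mem_centralizer_iff] at h1
      have h2 : ((t : ↥M) : G) ∈ Subgroup.centralizer (H : Set G) := by
        rw [Subgroup.mem_centralizer_iff]
        intro h hh
        have := h1 ⟨h, hYM (hHY hh)⟩ (Subgroup.mem_subgroupOf.2 hh)
        exact congrArg Subtype.val this
      have h3 : ((t : ↥M) : G) ∈ H := hcent h2
      obtain ⟨j, hj⟩ := hHp ⟨_, h3⟩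
      have hj' : t ^ (p ^ j) = 1 := by
        apply Subtype.ext
        have := congrArg (fun z : ↥H => (z : G)) hj
        simpa using this
      have h4 : orderOf t ∣ p ^ j := orderOf_dvd_of_pow_eq_one hj'
      have h5 : orderOf t ∣ Nat.card T := by
        have := orderOf_dvd_natCard (⟨t, ht⟩ : ↥T)
        rwa [← Subgroup.orderOf_coe] at this
      have h6 : orderOf t = 1 :=
        Nat.Coprime.eq_one_of_dvd ((hTc.pow_right j).coprime_dvd_left h5) h4
      exact orderOf_eq_one_iff.1 h6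
    have hMp : IsPGroup p ↥M := by
      rw [hTbot, Subgroup.index_bot] at hk
      exact IsPGroup.of_card hk
    intro y hy
    apply hpel y (hYK hy)
    obtain ⟨t, ht⟩ := hMp ⟨y, hYM hy⟩
    exact ⟨t, by simpa using congrArg (fun z : ↥M => (z : G)) ht⟩

set_option maxHeartbeats 1000000 in
theorem step_c
    (hend : ∀ (X : Type u) [Group X] [Finite X], EndConfig p X → ℋ.hyp X → NPC p X)
    (IH : ∀ (X : Type u) [Group X] [Finite X], Nat.card X < Nat.card G → ℋ.hyp X → NPC p X)
    (hG : ℋ.hyp G) : NPC p G := by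
  by_contra hno
  obtain ⟨H, hHp, hHne, hHbad, hM1, hM2⟩ := exists_bad hno
  have hHtop : Subgroup.normalizer (H : Set G) = ⊤ := by
    by_contra hne
    have hlt : Nat.card ↥(Subgroup.normalizer (H : Set G)) < Nat.card G := by
      have := Cfsg.Agent.Lib.Lead_SZ.card_lt (lt_top_iff_ne_top.2 hne)
      rwa [Subgroup.card_top] at this
    exact hHbad (IH _ hlt (ℋ.nrm G H hHp hHne hM1 hG))
  haveI hHn : H.Normal := Subgroup.normalizer_eq_top_iff.1 hHtop
  have hHO := eq_pCore hno H hHp hHne hHtop hM2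
  have hq : NPC p (G ⧸ H) := by
    have hH1 : 1 < Nat.card H := (Subgroup.one_lt_card_iff_ne_bot _).2 hHne
    have hlt : Nat.card (G ⧸ H) < Nat.card G := by
      rw [Subgroup.card_eq_card_quotient_mul_card_subgroup H]
      have : 0 < Nat.card (G ⧸ H) := Nat.card_pos
      nlinarith
    exact IH (G ⧸ H) hlt (ℋ.quotP G H hHp hHne hM2)
  obtain ⟨K, hKn, hHK, hcop, hKi⟩ := exists_K H hq
  haveI := hKn
  have hbot : ∀ (D : Subgroup G) [D.Normal], (Nat.card D).Coprime p → D = ⊥ := by
    intro D _ hD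
    by_contra hne
    apply hno
    apply npc_of_quotient D hD
    have hD1 : 1 < Nat.card D := (Subgroup.one_lt_card_iff_ne_bot _).2 hne
    have hlt : Nat.card (G ⧸ D) < Nat.card G := by
      rw [Subgroup.card_eq_card_quotient_mul_card_subgroup D]
      have : 0 < Nat.card (G ⧸ D) := Nat.card_pos
      nlinarith
    exact IH (G ⧸ D) hlt (ℋ.quot G D hD hG)
  have hcent := centralizer_le hbot H K hHp hHO hHK hcop hKi
  obtain ⟨P'⟩ : Nonempty (Sylow p G) := inferInstance
  have hMall : ∀ M : Subgroup G, (∃ P : Sylow p G, (P : Subgroup G) ≤ M) → M ≠ ⊤ → NPC p ↥M := by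
    rintro M ⟨P, hPM⟩ hMtop
    have hlt : Nat.card M < Nat.card G := by
      have := Cfsg.Agent.Lib.Lead_SZ.card_lt (lt_top_iff_ne_top.2 hMtop)
      rwa [Subgroup.card_top] at this
    exact IH ↥M hlt (ℋ.sub G M P hPM hG)
  have hbetween := fun P' : Sylow p G => between_c hMall H K hHp hcop hcent P'
  have hab := comm_le H K hHp hHK hcop P' (hbetween P')
  have hE : EndConfig p G :=
    ⟨H, K, hHn, hKn, hHp, hHO, hHK, hab, hcop, hKi, hcent,
      fun P => coatom_of_between hno H K hHp hHK hKi P (hbetween P)⟩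
  exact hno (hend G hE hG)

end

theorem main_aux_c
    (hend : ∀ (X : Type u) [Group X] [Finite X], EndConfig p X → ℋ.hyp X → NPC p X) :
    ∀ n : ℕ, ∀ (G : Type u) [Group G] [Finite G], Nat.card G = n → ℋ.hyp G → NPC p G := by
  intro n
  induction n using Nat.strong_induction_on with
  | _ n ih =>
  intro G _ _ hn hG
  apply step_c ℋ hend _ hG
  intro X _ _ hX hXH
  exact ih (Nat.card X) (hn ▸ hX) X rfl hXH

/-- The generic normal `p`-complement theorem, third version. -/
theorem main_c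
    (hend : ∀ (X : Type u) [Group X] [Finite X], EndConfig p X → ℋ.hyp X → NPC p X)
    (G : Type u) [Group G] [Finite G] (hG : ℋ.hyp G) : NPC p G :=
  main_aux_c ℋ hend _ G rfl hG

end Cfsg.Agent.Lib.Lead_GTc
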