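import Mathlib
import Cfsg.Prelude.Def_PLocal
import Cfsg.Agent.Lib.Lead_GTc

/-!
# The two-functor hypothesis class: `N_G(W₁(P))` and `C_G(W₂(P))` have normal `p`-complements
-/

namespace Cfsg.Agent.Lib.Lead_GTc2

open Cfsg.Agent.Lib.Helper7_NPC Cfsg.Agent.Lib.Helper4_PCore Cfsg.Agent.Lib.Lead_GT1
open Cfsg.Agent.Lib.Lead_GT2 (normalizer_map_mk map_conj_eq_of_mem_normalizer)
open Cfsg.Agent.Lib.Lead_GT3 (ee ee_le le_ee exists_bad)
open Cfsg.Agent.Lib.Lead_GTb Cfsg.Agent.Lib.Lead_GTc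
open scoped Pointwise commutatorElement

universe u

variable {p : ℕ} [Fact p.Prime]

section helpers

theorem npc_map_surj {X Y : Type*} [Group X] [Group Y] [Finite X] (f : X →* Y)
    {N₁ : Subgroup X} {N₂ : Subgroup Y} (h : N₂ = N₁.map f) (h1 : NPC p ↥N₁) : NPC p ↥N₂ := by
  subst h
  exact npc_of_surjective (f.subgroupMap N₁) (f.subgroupMap_surjective N₁) h1

theorem npc_comap_inj {X Y : Type*} [Group X] [Group Y] [Finite Y] (f : X →* Y)
    (hf : Function.Injective f) {N₁ : Subgroup X} {N₂ : Subgroup Y}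
    (h : ∀ x ∈ N₁, f x ∈ N₂) (h2 : NPC p ↥N₂) : NPC p ↥N₁ := by
  let g : ↥N₁ →* ↥N₂ := (f.comp N₁.subtype).codRestrict N₂ (fun x => h x.1 x.2)
  have hg : Function.Injective g := by
    intro x y hxy
    have := congrArg Subtype.val hxy
    exact Subtype.ext (hf this)
  exact npc_of_injective g hg h2

variable {G : Type u} [Group G] [Finite G]

theorem exists_sylow_map_subtype (M : Subgroup G) (P : Sylow p G) (hPM : (P : Subgroup G) ≤ M)
    (R : Sylow p ↥M) : ∃ P₂ : Sylow p G, (P₂ : Subgroup G) = (R : Subgroup ↥M).map M.subtype := by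
  have hpp : p.Prime := Fact.out
  have hcard : Nat.card ((R : Subgroup ↥M).map M.subtype) =
      p ^ (Nat.card G).factorization p := by
    rw [Subgroup.card_map_of_injective M.subtype_injective, R.card_eq_multiplicity]
    congr 1
    have h1 : Nat.card (P : Subgroup G) ∣ Nat.card M := Subgroup.card_dvd_of_le hPM
    rw [P.card_eq_multiplicity] at h1
    have hM0 : Nat.card M ≠ 0 := Nat.card_pos.ne'
    have hG0 : Nat.card G ≠ 0 := Nat.card_pos.ne'
    have h2 : (Nat.card G).factorization p ≤ (Nat.card M).factorization p :=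
      (Nat.Prime.pow_dvd_iff_le_factorization hpp hM0).1 h1
    have h3 : (Nat.card M).factorization p ≤ (Nat.card G).factorization p := by
      have := (Nat.factorization_le_iff_dvd hM0 hG0).2 (Subgroup.card_subgroup_dvd_card M)
      exact this p
    exact le_antisymm h3 h2
  exact ⟨Sylow.ofCard _ hcard, Sylow.coe_ofCard _ hcard⟩

theorem exists_sylow_quot (D : Subgroup G) [hDn : D.Normal] (hD : (Nat.card D).Coprime p)
    (Pb : Sylow p (G ⧸ D)) : ∃ P' : Sylow p G,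
      (Pb : Subgroup (G ⧸ D)) = (P' : Subgroup G).map (QuotientGroup.mk' D) ∧
      Set.InjOn (QuotientGroup.mk' D) ((P' : Subgroup G) : Set G) := by
  have hπs : Function.Surjective (QuotientGroup.mk' D) := QuotientGroup.mk'_surjective D
  obtain ⟨P', hP'⟩ := Sylow.mapSurjective_surjective hπs p Pb
  refine ⟨P', by rw [← hP', Sylow.coe_mapSurjective], ?_⟩
  intro x hx y hy hxy
  have h1 : x⁻¹ * y ∈ D := by
    rw [← QuotientGroup.eq_one_iff, ← QuotientGroup.mk'_apply, map_mul, map_inv, hxy,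
      inv_mul_cancel]
  have h2 : x⁻¹ * y ∈ (P' : Subgroup G) := Subgroup.mul_mem _ (Subgroup.inv_mem _ hx) hy
  obtain ⟨k, hk⟩ := IsPGroup.iff_card.1 P'.isPGroup'
  have hcop : (Nat.card (P' : Subgroup G)).Coprime (Nat.card D) := by
    rw [hk]; exact (hD.pow_right k).symm
  have h3 : x⁻¹ * y ∈ (P' : Subgroup G) ⊓ D := ⟨h2, h1⟩
  rw [(Subgroup.disjoint_of_coprime_natCard hcop).eq_bot, Subgroup.mem_bot] at h3
  exact inv_mul_eq_one.1 h3

/-- Centralizers of `p`-subgroups modulo a normal `p'`-subgroup. -/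
theorem centralizer_map_mk (D : Subgroup G) [hDn : D.Normal] (hD : (Nat.card D).Coprime p)
    (W₀ : Subgroup G) (hW₀ : IsPGroup p W₀) :
    Subgroup.centralizer ((W₀.map (QuotientGroup.mk' D) : Subgroup (G ⧸ D)) : Set (G ⧸ D)) =
      (Subgroup.centralizer (W₀ : Set G)).map (QuotientGroup.mk' D) := by
  apply le_antisymm
  · intro y hy
    have hyN : y ∈ Subgroup.normalizer
        ((W₀.map (QuotientGroup.mk' D) : Subgroup (G ⧸ D)) : Set (G ⧸ D)) :=
      Subgroup.centralizer_le_normalizer _ hy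
    rw [normalizer_map_mk D hD W₀ hW₀] at hyN
    obtain ⟨n, hn, rfl⟩ := hyN
    refine ⟨n, ?_, rfl⟩
    have hn' : n ∈ Subgroup.normalizer (W₀ : Set G) := hn
    show n ∈ Subgroup.centralizer (W₀ : Set G)
    rw [Subgroup.mem_centralizer_iff]
    intro w hw
    have h1 : n * w * n⁻¹ ∈ W₀ := (Subgroup.mem_normalizer_iff.1 hn' w).1 hw
    have h2 : n * w * n⁻¹ * w⁻¹ ∈ W₀ := W₀.mul_mem h1 (W₀.inv_mem hw)
    have h3 : n * w * n⁻¹ * w⁻¹ ∈ D := by
      rw [← QuotientGroup.eq_one_iff, ← QuotientGroup.mk'_apply]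
      have hc := Subgroup.mem_centralizer_iff.1 hy (QuotientGroup.mk' D w) ⟨w, hw, rfl⟩
      rw [map_mul, map_mul, map_mul, map_inv, map_inv, ← hc]
      group
    obtain ⟨k, hk⟩ := IsPGroup.iff_card.1 hW₀
    have hcop : (Nat.card W₀).Coprime (Nat.card D) := by
      rw [hk]; exact (hD.pow_right k).symm
    have h4 : n * w * n⁻¹ * w⁻¹ ∈ W₀ ⊓ D := ⟨h2, h3⟩
    rw [(Subgroup.disjoint_of_coprime_natCard hcop).eq_bot, Subgroup.mem_bot] at h4
    have h5 : n * w = (n * w * n⁻¹ * w⁻¹) * (w * n) := by group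
    rw [h4, one_mul] at h5
    exact h5.symm
  · rintro _ ⟨c, hc, rfl⟩
    rw [Subgroup.mem_centralizer_iff]
    rintro _ ⟨w, hw, rfl⟩
    have := Subgroup.mem_centralizer_iff.1 hc w hw
    rw [← map_mul, ← map_mul, this]

end helpers

variable (𝒲₁ 𝒲₂ : WFun0.{u} p)

/-- The two-functor hypothesis. -/
def Hyp2 (G : Type u) [Group G] : Prop :=
  ∀ P : Sylow p G,
    NPC p ↥(Subgroup.normalizer ((𝒲₁.W G (P : Subgroup G) : Subgroup G) : Set G)) ∧
    NPC p ↥(Subgroup.centralizer ((𝒲₂.W G (P : Subgroup G) : Subgroup G) : Set G))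

section
variable {G : Type u} [Group G] [Finite G]

theorem npc_centralizer_sub (𝒲 : WFun0.{u} p) (M : Subgroup G) (R : Subgroup ↥M)
    (hR : IsPGroup p R)
    (h : NPC p ↥(Subgroup.centralizer ((𝒲.W G (R.map M.subtype) : Subgroup G) : Set G))) :
    NPC p ↥(Subgroup.centralizer ((𝒲.W ↥M R : Subgroup ↥M) : Set ↥M)) := by
  refine npc_comap_inj M.subtype M.subtype_injective ?_ h
  intro x hx
  rw [W_subtype 𝒲 M R hR, Subgroup.mem_centralizer_iff]
  rintro _ ⟨w, hw, rfl⟩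
  have := Subgroup.mem_centralizer_iff.1 hx w hw
  exact congrArg Subtype.val this

theorem hyp2_sub (hG : Hyp2 𝒲₁ 𝒲₂ G) (M : Subgroup G) (P : Sylow p G)
    (hPM : (P : Subgroup G) ≤ M) : Hyp2 𝒲₁ 𝒲₂ ↥M := by
  intro R
  obtain ⟨P₂, hP₂⟩ := exists_sylow_map_subtype M P hPM R
  have h0 := hG P₂
  rw [hP₂] at h0
  exact ⟨npc_normalizer_sub 𝒲₁ M R R.isPGroup' h0.1, npc_centralizer_sub 𝒲₂ M R R.isPGroup' h0.2⟩

theorem hyp2_quot (D : Subgroup G) [hDn : D.Normal] (hD : (Nat.card D).Coprime p)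
    (hG : Hyp2 𝒲₁ 𝒲₂ G) : Hyp2 𝒲₁ 𝒲₂ (G ⧸ D) := by
  intro Pb
  obtain ⟨P', hcoe, hinj⟩ := exists_sylow_quot D hD Pb
  have h0 := hG P'
  rw [hcoe, 𝒲₁.map G (G ⧸ D) (QuotientGroup.mk' D) P' P'.isPGroup' hinj,
    𝒲₂.map G (G ⧸ D) (QuotientGroup.mk' D) P' P'.isPGroup' hinj]
  refine ⟨npc_map_surj (QuotientGroup.mk' D) (normalizer_map_mk D hD _
      (P'.isPGroup'.to_le (𝒲₁.le G _))) h0.1,
    npc_map_surj (QuotientGroup.mk' D) (centralizer_map_mk D hD _
      (P'.isPGroup'.to_le (𝒲₂.le G _))) h0.2⟩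

set_option maxHeartbeats 1000000 in
theorem hyp2_nrm (H : Subgroup G) (hHp : IsPGroup p H) (hHne : H ≠ ⊥)
    (hM1 : ∀ Q : Subgroup G, IsPGroup p Q → Q ≠ ⊥ → ee p H < ee p Q →
        NPC p ↥(Subgroup.normalizer (Q : Set G)))
    (hG : Hyp2 𝒲₁ 𝒲₂ G) : Hyp2 𝒲₁ 𝒲₂ ↥(Subgroup.normalizer (H : Set G)) := by
  have hpp : p.Prime := Fact.out
  set N := Subgroup.normalizer (H : Set G) with hN
  intro R
  set R' := (R : Subgroup ↥N).map N.subtype with hR'
  have hR'p : IsPGroup p R' := R.isPGroup'.map _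
  have hHR' : H ≤ R' := by
    intro h hh
    have hhN : h ∈ N := Subgroup.le_normalizer hh
    have hHNn : (H.subgroupOf N).Normal := Subgroup.normal_in_normalizer
    have h1 : H.subgroupOf N ≤ (R : Subgroup ↥N) :=
      normal_pGroup_le_sylow (H.subgroupOf N) hHNn (hHp.comap_subtype) R
    exact ⟨⟨h, hhN⟩, h1 (Subgroup.mem_subgroupOf.2 hh), rfl⟩
  have hR'ne : R' ≠ ⊥ := by
    intro h0
    apply hHne
    rw [eq_bot_iff, ← h0]
    exact hHR'
  -- key: for a functor value `W'` of `R'`, `N_G(W')` has a normal `p`-complement, unless `R'` Sylow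
  obtain ⟨P', hRP'⟩ := hR'p.exists_le_sylow
  by_cases hEq : R' = P'
  · have h0 := hG P'
    rw [← hEq] at h0
    exact ⟨npc_normalizer_sub 𝒲₁ N R R.isPGroup' h0.1,
      npc_centralizer_sub 𝒲₂ N R R.isPGroup' h0.2⟩
  · have hlt2 : R' < (P' : Subgroup G) := lt_of_le_of_ne hRP' hEq
    obtain ⟨y, hyP, hyR, hyN⟩ :=
      Cfsg.Agent.Lib.Lead_Replacement.exists_mem_normalizer_not_mem P'.isPGroup' hlt2
    set T := R' ⊔ Subgroup.zpowers y with hT
    have hTP : T ≤ (P' : Subgroup G) := sup_le hRP' (Subgroup.zpowers_le.2 hyP)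
    have hTp : IsPGroup p T := P'.isPGroup'.to_le hTP
    have hTN : T ≤ Subgroup.normalizer (R' : Set G) :=
      sup_le Subgroup.le_normalizer (Subgroup.zpowers_le.2 hyN)
    have hRT : R' < T := by
      refine lt_of_le_of_ne le_sup_left ?_
      intro h0
      apply hyR
      rw [h0]
      exact (le_sup_right : Subgroup.zpowers y ≤ T) (Subgroup.mem_zpowers y)
    have hcardR : Nat.card R' = p ^ ee p H := by
      rw [hR', Subgroup.card_map_of_injective N.subtype_injective, R.card_eq_multiplicity]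
      rfl
    obtain ⟨k, hk⟩ := IsPGroup.iff_card.1 hTp
    have hklt : ee p H < k := by
      have := Cfsg.Agent.Lib.Lead_SZ.card_lt hRT
      rw [hcardR, hk] at this
      exact (Nat.pow_lt_pow_iff_right hpp.one_lt).1 this
    have key : ∀ 𝒲 : WFun0.{u} p,
        NPC p ↥(Subgroup.normalizer ((𝒲.W G R' : Subgroup G) : Set G)) := by
      intro 𝒲
      have hW'p : IsPGroup p (𝒲.W G R') := hR'p.to_le (𝒲.le G R')
      have hW'ne : 𝒲.W G R' ≠ ⊥ := 𝒲.ne_bot G R' hR'p hR'ne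
      apply hM1 _ hW'p hW'ne
      have h5 : k ≤ ee p (𝒲.W G R') := le_ee _ T (hTN.trans (W_char 𝒲 R' hR'p)) k hk
      omega
    exact ⟨npc_normalizer_sub 𝒲₁ N R R.isPGroup' (key 𝒲₁),
      npc_centralizer_sub 𝒲₂ N R R.isPGroup'
        (npc_of_le (Subgroup.centralizer_le_normalizer _) (key 𝒲₂))⟩

set_option maxHeartbeats 1000000 in
theorem hyp2_quotP (H : Subgroup G) [hHnorm : H.Normal] (hHp : IsPGroup p H) (hHne : H ≠ ⊥)
    (hM2 : ∀ Q : Subgroup G, IsPGroup p Q → Q ≠ ⊥ → ee p H ≤ ee p Q → Nat.card H < Nat.card Q →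
        NPC p ↥(Subgroup.normalizer (Q : Set G))) :
    Hyp2 𝒲₁ 𝒲₂ (G ⧸ H) := by
  have hpp : p.Prime := Fact.out
  have hπs : Function.Surjective (QuotientGroup.mk' H) := QuotientGroup.mk'_surjective H
  intro Pb
  obtain ⟨P', hP'⟩ := Sylow.mapSurjective_surjective hπs p Pb
  have hcoe : (Pb : Subgroup (G ⧸ H)) = (P' : Subgroup G).map (QuotientGroup.mk' H) := by
    rw [← hP', Sylow.coe_mapSurjective]
  by_cases hb : (Pb : Subgroup (G ⧸ H)) = ⊥
  · have hc : (Nat.card (G ⧸ H)).Coprime p := by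
      have h1 : ¬ p ∣ (Pb : Subgroup (G ⧸ H)).index := Pb.not_dvd_index
      rw [hb, Subgroup.index_bot] at h1
      exact ((Nat.Prime.coprime_iff_not_dvd hpp).2 h1).symm
    exact ⟨npc_of_coprime (Nat.Coprime.coprime_dvd_left (Subgroup.card_subgroup_dvd_card _) hc),
      npc_of_coprime (Nat.Coprime.coprime_dvd_left (Subgroup.card_subgroup_dvd_card _) hc)⟩
  · have key : ∀ 𝒲 : WFun0.{u} p, NPC p ↥(Subgroup.normalizer
        ((𝒲.W (G ⧸ H) (Pb : Subgroup (G ⧸ H)) : Subgroup (G ⧸ H)) : Set (G ⧸ H))) := by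
      intro 𝒲
      set WPb := 𝒲.W (G ⧸ H) (Pb : Subgroup (G ⧸ H)) with hWPb
      have hWPbne : WPb ≠ ⊥ := 𝒲.ne_bot (G ⧸ H) _ Pb.isPGroup' hb
      have hWPbp : IsPGroup p WPb := Pb.isPGroup'.to_le (𝒲.le _ _)
      set L := WPb.comap (QuotientGroup.mk' H) with hL
      have hLp : IsPGroup p L := by
        apply hWPbp.comap_of_ker_isPGroup
        rw [QuotientGroup.ker_mk']
        exact hHp
      have hHL : H ≤ L := by
        intro h hh
        rw [hL, Subgroup.mem_comap]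
        have : QuotientGroup.mk' H h = 1 := (QuotientGroup.eq_one_iff h).2 hh
        rw [this]; exact Subgroup.one_mem _
      have hLne : L ≠ ⊥ := by
        intro h0
        apply hHne
        rw [eq_bot_iff, ← h0]; exact hHL
      have hcardL : Nat.card H < Nat.card L := by
        rw [hL, Cfsg.Agent.Lib.Lead_Hall.card_comap_mk]
        have : 1 < Nat.card WPb := (Subgroup.one_lt_card_iff_ne_bot _).2 hWPbne
        have hH0 : 0 < Nat.card H := Nat.card_pos
        nlinarith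
      have hP'N : (P' : Subgroup G) ≤ Subgroup.normalizer (L : Set G) := by
        intro x hx
        have h1 : QuotientGroup.mk' H x ∈ (Pb : Subgroup (G ⧸ H)) := by
          rw [hcoe]; exact ⟨x, hx, rfl⟩
        have h2 : QuotientGroup.mk' H x ∈ Subgroup.normalizer (WPb : Set (G ⧸ H)) :=
          W_char 𝒲 _ Pb.isPGroup' (Subgroup.le_normalizer h1)
        exact Subgroup.le_normalizer_comap (QuotientGroup.mk' H) h2
      have hee : ee p H ≤ ee p L := by
        refine le_trans (ee_le H) ?_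
        exact le_ee L P' hP'N _ P'.card_eq_multiplicity
      have h3 := hM2 L hLp hLne hee hcardL
      have hnorm : Subgroup.normalizer (L : Set G) =
          (Subgroup.normalizer (WPb : Set (G ⧸ H))).comap (QuotientGroup.mk' H) :=
        (Subgroup.comap_normalizer_eq_of_surjective WPb hπs).symm
      refine npc_map_surj (QuotientGroup.mk' H) ?_ h3
      rw [hnorm, Subgroup.map_comap_eq_self_of_surjective hπs]
    exact ⟨key 𝒲₁, npc_of_le (Subgroup.centralizer_le_normalizer _) (key 𝒲₂)⟩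

end

/-- The hypothesis class of the two-functor hypothesis. -/
def hclass2 : HClass.{u} p where
  hyp := fun X _ => Hyp2 𝒲₁ 𝒲₂ X
  sub := fun _ _ _ M P hPM h => hyp2_sub 𝒲₁ 𝒲₂ h M P hPM
  quot := fun _ _ _ D _ hD h => hyp2_quot 𝒲₁ 𝒲₂ D hD h
  nrm := fun _ _ _ H hHp hHne hM1 h => hyp2_nrm 𝒲₁ 𝒲₂ H hHp hHne hM1 h
  quotP := fun _ _ _ H _ hHp hHne hM2 => hyp2_quotP 𝒲₁ 𝒲₂ H hHp hHne hM2

/-- The hypothesis for one Sylow subgroup gives it for all. -/
theorem hyp2_of_single {G : Type u} [Group G] [Finite G] (P : Sylow p G)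
    (h1 : NPC p ↥(Subgroup.normalizer ((𝒲₁.W G (P : Subgroup G) : Subgroup G) : Set G)))
    (h2 : NPC p ↥(Subgroup.centralizer ((𝒲₂.W G (P : Subgroup G) : Subgroup G) : Set G))) :
    Hyp2 𝒲₁ 𝒲₂ G := by
  intro P₂
  refine ⟨Cfsg.Agent.Lib.Lead_GTb.hyp_of_single 𝒲₁ P h1 P₂, ?_⟩
  obtain ⟨g, hg⟩ := MulAction.exists_smul_eq G P₂ P
  have hcoe : (P : Subgroup G) = (P₂ : Subgroup G).map (MulAut.conj g).toMonoidHom := by
    rw [← hg, Sylow.coe_subgroup_smul]
    rfl
  have hW : 𝒲₂.W G (P : Subgroup G) =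
      (𝒲₂.W G (P₂ : Subgroup G)).map (MulAut.conj g).toMonoidHom := by
    rw [hcoe]
    exact 𝒲₂.map G G (MulAut.conj g).toMonoidHom P₂ P₂.isPGroup' (MulAut.conj g).injective.injOn
  refine npc_comap_inj (MulAut.conj g).toMonoidHom (MulAut.conj g).injective ?_ h2
  intro x hx
  rw [hW, Subgroup.mem_centralizer_iff]
  rintro _ ⟨w, hw, rfl⟩
  have := Subgroup.mem_centralizer_iff.1 hx w hw
  show (MulAut.conj g) w * (MulAut.conj g) x = (MulAut.conj g) x * (MulAut.conj g) w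
  rw [← map_mul, ← map_mul, this]

end Cfsg.Agent.Lib.Lead_GTc2
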