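import Cfsg.Prelude.Def_OddOrderLocal
import Mathlib

set_option autoImplicit false
open Cfsg

namespace Cfsg.Agent.Helper6MetacyclicOld

/-- LTE-based key lemma: for odd `p` and `r ≡ 1 mod p`, `v_p(r^(p^j) - 1) = v_p(p^j (r-1))`. -/
theorem key_dvd {p : ℕ} (hp : p.Prime) (hodd : p ≠ 2) {r : ℕ} (hr : 1 ≤ r) (hpr : p ∣ r - 1) (j m : ℕ) :
    p ^ m ∣ r ^ (p ^ j) - 1 ↔ p ^ m ∣ p ^ j * (r - 1) := by
  have hodd' : Odd p := hp.odd_of_ne_two hodd
  have hnd : ¬ p ∣ r := by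
    intro h
    have h2 : p ∣ r - (r - 1) := Nat.dvd_sub h hpr
    have h1 : r - (r - 1) = 1 := by omega
    rw [h1] at h2
    exact hp.one_lt.ne' (Nat.dvd_one.mp h2)
  have h := Nat.emultiplicity_pow_sub_pow hp hodd' (x := r) (y := 1) hpr hnd (p ^ j)
  rw [one_pow] at h
  rw [pow_dvd_iff_le_emultiplicity, pow_dvd_iff_le_emultiplicity, h, mul_comm, emultiplicity_mul hp.prime]

/-- Structure of a finite metacyclic group: generators `a, b` with `⟨a⟩` normal, `b a b⁻¹ = a^r`,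
and every element of the form `a^i b^j`. -/
theorem metacyclic_struct {G : Type*} [Group G] [Finite G] (hmc : Cfsg.IsMetacyclic G) :
    ∃ (a b : G) (r : ℕ), 1 ≤ r ∧ (Subgroup.zpowers a).Normal ∧ b * a * b⁻¹ = a ^ r ∧
      ∀ g : G, ∃ (i j : ℕ), g = a ^ i * b ^ j := by
  obtain ⟨N, hNn, hNc, hQc⟩ := hmc
  obtain ⟨⟨a, haN⟩, ha⟩ := hNc.exists_generator
  obtain ⟨β, hβ⟩ := hQc.exists_generator
  obtain ⟨b, rfl⟩ := QuotientGroup.mk_surjective β
  have hN : N = Subgroup.zpowers a := by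
    ext x; constructor
    · intro hx
      have := ha ⟨x, hx⟩
      rw [Subgroup.mem_zpowers_iff] at this ⊢
      obtain ⟨k, hk⟩ := this
      exact ⟨k, by simpa using congrArg Subtype.val hk⟩
    · intro hx
      rw [Subgroup.mem_zpowers_iff] at hx
      obtain ⟨k, rfl⟩ := hx
      exact N.zpow_mem haN k
  subst hN
  have hfin : ∀ x : G, IsOfFinOrder x := fun x => isOfFinOrder_of_finite x
  -- b a b⁻¹ = a ^ r
  have h1 : b * a * b⁻¹ ∈ Subgroup.zpowers a := hNn.conj_mem a haN b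
  rw [← mem_powers_iff_mem_zpowers, Submonoid.mem_powers_iff] at h1
  obtain ⟨r₀, hr₀⟩ := h1
  refine ⟨a, b, r₀ + orderOf a, ?_, hNn, ?_, ?_⟩
  · have := orderOf_pos a
    omega
  · rw [pow_add, pow_orderOf_eq_one, mul_one, hr₀]
  · intro g
    have h2 := hβ (QuotientGroup.mk g)
    rw [← mem_powers_iff_mem_zpowers, Submonoid.mem_powers_iff] at h2
    obtain ⟨j, hj⟩ := h2
    rw [← QuotientGroup.mk_pow] at hj
    have h3 : (b ^ j)⁻¹ * g ∈ Subgroup.zpowers a := QuotientGroup.eq.mp hj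
    have h4 : b ^ j * ((b ^ j)⁻¹ * g) * (b ^ j)⁻¹ ∈ Subgroup.zpowers a := hNn.conj_mem _ h3 _
    rw [← mem_powers_iff_mem_zpowers, Submonoid.mem_powers_iff] at h4
    obtain ⟨i, hi⟩ := h4
    refine ⟨i, j, ?_⟩
    rw [hi]; group

end Cfsg.Agent.Helper6MetacyclicOld
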