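import Mathlib
import Cfsg.Agent.Lib.Lead_SZ
import Cfsg.Agent.Lib.Helper6_MinNonPClosed

/-!
# The Hughes–Thompson configuration: a normal subgroup `H` of prime index `p` all of whose
outside elements have order `p`.  Basic facts.
-/

namespace Cfsg.Agent.Lib.Lead_HT1

universe u

/-- The Hughes–Thompson configuration. -/
structure HT (p : ℕ) {Γ : Type u} [Group Γ] (H : Subgroup Γ) : Prop where
  normal : H.Normal
  index : H.index = p
  pow : ∀ g : Γ, g ∉ H → g ^ p = 1

section
variable {p : ℕ} {Γ : Type u} [Group Γ]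

/-- A power of an outside element lying in `H` is trivial. -/
theorem zpow_eq_one_of_mem (hp : p.Prime) {H : Subgroup Γ} {y : Γ} (hy : y ∉ H) (hyp : y ^ p = 1)
    (k : ℤ) (hk : y ^ k ∈ H) : y ^ k = 1 := by
  by_cases hdvd : (p : ℤ) ∣ k
  · obtain ⟨m, rfl⟩ := hdvd
    rw [zpow_mul, zpow_natCast, hyp, one_zpow]
  · exfalso
    apply hy
    have hcop : IsCoprime k (p : ℤ) := by
      have := (Int.isCoprime_iff_gcd_eq_one).2
        (by
          have h1 : Int.gcd k p ∣ p := Int.gcd_dvd_natAbs_right k p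
          rcases (Nat.dvd_prime hp).1 h1 with h2 | h2
          · exact h2
          · exfalso
            apply hdvd
            have h3 : ((Int.gcd k p : ℕ) : ℤ) ∣ k := Int.gcd_dvd_left k p
            rwa [h2] at h3)
      exact this
    obtain ⟨a, b, hab⟩ := hcop
    have h1 : y = (y ^ k) ^ a * (y ^ (p : ℤ)) ^ b := by
      rw [← zpow_mul, ← zpow_mul, ← zpow_add, mul_comm k a, mul_comm (p : ℤ) b, hab, zpow_one]
    rw [h1, zpow_natCast, hyp, one_zpow, mul_one]
    exact H.zpow_mem hk a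

theorem pow_eq_one_of_mem (hp : p.Prime) {H : Subgroup Γ} {y : Γ} (hy : y ∉ H) (hyp : y ^ p = 1)
    (k : ℕ) (hk : y ^ k ∈ H) : y ^ k = 1 := by
  have := zpow_eq_one_of_mem hp hy hyp (k : ℤ) (by rwa [zpow_natCast])
  rwa [zpow_natCast] at this

variable [Finite Γ]

theorem HT.exists_not_mem (hp : p.Prime) {H : Subgroup Γ} (h : HT p H) : ∃ y : Γ, y ∉ H := by
  by_contra hcon
  push Not at hcon
  have : H = ⊤ := eq_top_iff.2 (fun x _ => hcon x)
  have h1 := h.index
  rw [this, Subgroup.index_top] at h1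
  exact hp.one_lt.ne h1

theorem HT.eq_top_of_lt (hp : p.Prime) {H : Subgroup Γ} (h : HT p H) {L : Subgroup Γ}
    (hHL : H ≤ L) (hne : ¬ L ≤ H) : L = ⊤ := by
  rcases Cfsg.Agent.Lib.Helper6_MinNonPClosed.eq_or_eq_top_of_prime_index hp H h.index L hHL
    with h1 | h1
  · exact absurd h1.le hne
  · exact h1

theorem HT.sup_zpowers (hp : p.Prime) {H : Subgroup Γ} (h : HT p H) {y : Γ} (hy : y ∉ H) :
    H ⊔ Subgroup.zpowers y = ⊤ := by
  apply h.eq_top_of_lt hp le_sup_left
  intro hle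
  exact hy (hle (le_sup_right (a := H) (Subgroup.mem_zpowers y)))

/-- Fact A': the configuration passes to subgroups not inside `H`. -/
theorem HT.subgroup (hp : p.Prime) {H : Subgroup Γ} (h : HT p H) (L : Subgroup Γ)
    (hL : ¬ L ≤ H) : HT p (H.subgroupOf L) := by
  haveI := h.normal
  refine ⟨Subgroup.normal_subgroupOf, ?_, ?_⟩
  · have h1 : H.relIndex L ∣ p := h.index ▸ Subgroup.relIndex_dvd_index_of_normal H L
    rcases (Nat.dvd_prime hp).1 h1 with h2 | h2
    · exact absurd (Subgroup.relIndex_eq_one.1 h2) hL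
    · exact h2
  · intro g hg
    apply Subtype.ext
    rw [Subgroup.coe_pow, Subgroup.coe_one]
    apply h.pow
    intro hg'
    exact hg (Subgroup.mem_subgroupOf.2 hg')

/-- Fact B: the configuration passes to quotients. -/
theorem HT.quotient {H : Subgroup Γ} (h : HT p H) (N : Subgroup Γ) [N.Normal] (hNH : N ≤ H) :
    HT p (H.map (QuotientGroup.mk' N)) := by
  haveI := h.normal
  refine ⟨Subgroup.Normal.map inferInstance _ (QuotientGroup.mk'_surjective N), ?_, ?_⟩
  · rw [Subgroup.index_map_eq _ (QuotientGroup.mk'_surjective N)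
      (by rw [QuotientGroup.ker_mk']; exact hNH)]
    exact h.index
  · intro g hg
    obtain ⟨x, rfl⟩ := QuotientGroup.mk'_surjective N g
    rw [← map_pow, h.pow x, map_one]
    intro hx
    exact hg ⟨x, hx, rfl⟩

/-- Elements of `H ⊓ (T ⊔ ⟨y⟩)` lie in `T`. -/
theorem inf_sup_zpowers_le (hp : p.Prime) {H : Subgroup Γ} (h : HT p H) (T : Subgroup Γ)
    (hTH : T ≤ H) {y : Γ} (hy : y ∉ H) (hyT : y ∈ Subgroup.normalizer (T : Set Γ)) :
    H ⊓ (T ⊔ Subgroup.zpowers y) ≤ T := by
  rintro x ⟨hxH, hxL⟩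
  have hzn : Subgroup.zpowers y ≤ Subgroup.normalizer (T : Set Γ) := by
    rw [Subgroup.zpowers_le]; exact hyT
  have hx' : x ∈ (↑(T ⊔ Subgroup.zpowers y) : Set Γ) := hxL
  rw [Subgroup.coe_mul_of_right_le_normalizer_left T _ hzn, Set.mem_mul] at hx'
  obtain ⟨t, ht, z, hz, rfl⟩ := hx'
  obtain ⟨k, rfl⟩ := Subgroup.mem_zpowers_iff.1 hz
  have h1 : y ^ k ∈ H := by
    have e : y ^ k = t⁻¹ * (t * y ^ k) := by group
    rw [e]
    exact H.mul_mem (H.inv_mem (hTH ht)) hxH
  rw [zpow_eq_one_of_mem hp hy (h.pow y hy) k h1, mul_one]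
  exact ht

/-- Fact A: a proper `y`-invariant subgroup of `H` is nilpotent, by induction. -/
theorem nilpotent_of_invariant (hp : p.Prime) {H : Subgroup Γ} (h : HT p H)
    (IH : ∀ (Γ' : Type u) [Group Γ'] [Finite Γ'] (H' : Subgroup Γ'),
      Nat.card H' < Nat.card H → HT p H' → Group.IsNilpotent ↥H')
    (T : Subgroup Γ) (hTH : T ≤ H) (hne : T ≠ H) {y : Γ} (hy : y ∉ H)
    (hyT : y ∈ Subgroup.normalizer (T : Set Γ)) : Group.IsNilpotent ↥T := by
  set L := T ⊔ Subgroup.zpowers y with hL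
  have hLH : ¬ L ≤ H := fun hle =>
    hy (hle (le_sup_right (a := T) (Subgroup.mem_zpowers y)))
  have hHT := h.subgroup hp L hLH
  have heq : H ⊓ L = T :=
    le_antisymm (inf_sup_zpowers_le hp h T hTH hy hyT) (le_inf hTH le_sup_left)
  have hcard : Nat.card (H.subgroupOf L) < Nat.card H := by
    have h1 : Nat.card (H.subgroupOf L) = Nat.card (H ⊓ L : Subgroup Γ) := by
      rw [← Subgroup.inf_subgroupOf_right]
      exact Cfsg.Agent.Lib.Lead_SZ.card_subgroupOf_of_le inf_le_right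
    rw [h1, heq]
    exact Cfsg.Agent.Lib.Lead_SZ.card_lt (lt_of_le_of_ne hTH hne)
  haveI := IH ↥L (H.subgroupOf L) hcard hHT
  let f : ↥T →* ↥(H.subgroupOf L) :=
    (Subgroup.inclusion (le_sup_left : T ≤ L)).codRestrict (H.subgroupOf L)
      (fun t => Subgroup.mem_subgroupOf.2 (hTH t.2))
  have hf : Function.Injective f := by
    intro a b hab
    have h1 := congrArg (fun z : ↥(H.subgroupOf L) => ((z : ↥L) : Γ)) hab
    exact Subtype.ext h1
  exact isNilpotent_of_ker_le_center f (by rw [(MonoidHom.ker_eq_bot_iff f).2 hf]; exact bot_le)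

omit [Finite Γ] in
/-- A characteristic subgroup of a normal subgroup is normal. -/
theorem normal_map_of_char (M : Subgroup Γ) [hM : M.Normal] (K : Subgroup ↥M)
    [hK : K.Characteristic] : (K.map M.subtype).Normal := by
  constructor
  rintro _ ⟨k, hk, rfl⟩ g
  have h1 := Subgroup.characteristic_iff_map_eq.1 hK (MulAut.conjNormal g)
  have h2 : (MulAut.conjNormal g) k ∈ K := by
    rw [← h1]
    exact ⟨k, hk, rfl⟩
  refine ⟨(MulAut.conjNormal g) k, h2, ?_⟩
  rw [Subgroup.coe_subtype, MulAut.conjNormal_apply]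

end

end Cfsg.Agent.Lib.Lead_HT1
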