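import Mathlib
import Cfsg.Agent.Lib.Lead_HT1
import Cfsg.Agent.Lib.Lead_FPF
import Cfsg.Agent.Lib.Helper7_Basic
import Cfsg.Agent.S0659

/-!
# Hughes–Thompson configuration: `H` cannot be a non-nilpotent minimal normal subgroup
-/

namespace Cfsg.Agent.Lib.Lead_HT2

open Cfsg.Agent.Lib.Lead_HT1 Cfsg.Agent.Lib.Helper7_NPC Cfsg.Agent.Lib.Lead_GT1

universe u

section
variable {p : ℕ} {Γ : Type u} [Group Γ] [Finite Γ]

/-- For a Sylow subgroup of `H` there is an outside element normalizing it (Frattini). -/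
theorem exists_normalizing (hp : p.Prime) {H : Subgroup Γ} (h : HT p H) (r : ℕ) [Fact r.Prime]
    (P : Sylow r ↥H) :
    ∃ y : Γ, y ∉ H ∧
      y ∈ Subgroup.normalizer (((P : Subgroup ↥H).map H.subtype : Subgroup Γ) : Set Γ) := by
  haveI := h.normal
  have h1 := Sylow.normalizer_sup_eq_top P
  by_contra hcon
  push Not at hcon
  have h2 : Subgroup.normalizer (((P : Subgroup ↥H).map H.subtype : Subgroup Γ) : Set Γ) ≤ H := by
    intro y hy
    by_contra hyH
    exact hcon y hyH hy
  rw [sup_eq_right.2 h2] at h1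
  obtain ⟨y, hy⟩ := h.exists_not_mem hp
  exact hy (h1 ▸ Subgroup.mem_top y)

/-- An element of `Γ` in a subgroup `L` normalizes `H ⊓ L` when `H` is normal. -/
theorem mem_normalizer_inf {H L : Subgroup Γ} [hH : H.Normal] {y : Γ} (hy : y ∈ L) :
    y ∈ Subgroup.normalizer ((H ⊓ L : Subgroup Γ) : Set Γ) := by
  rw [Subgroup.mem_normalizer_iff]
  intro x
  constructor
  · rintro ⟨h1, h2⟩
    exact ⟨hH.conj_mem x h1 y, L.mul_mem (L.mul_mem hy h2) (L.inv_mem hy)⟩
  · rintro ⟨h1, h2⟩
    have e : x = y⁻¹ * (y * x * y⁻¹) * y⁻¹⁻¹ := by group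
    rw [e]
    refine ⟨hH.conj_mem _ h1 y⁻¹, ?_⟩
    rw [inv_inv]
    exact L.mul_mem (L.mul_mem (L.inv_mem hy) h2) hy

set_option maxHeartbeats 1000000 in
/-- If `H` is a minimal normal subgroup of `Γ`, it is nilpotent. -/
theorem nilpotent_of_minimal (hp : p.Prime) {H : Subgroup Γ} (h : HT p H)
    (IH : ∀ (Γ' : Type u) [Group Γ'] [Finite Γ'] (H' : Subgroup Γ'),
      Nat.card H' < Nat.card H → HT p H' → Group.IsNilpotent ↥H')
    (hmin : ∀ T : Subgroup Γ, T.Normal → T ≤ H → T = ⊥ ∨ T = H) : Group.IsNilpotent ↥H := by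
  by_contra hnil
  haveI hHn := h.normal
  have key : ∀ r : ℕ, r.Prime → r ≠ 2 → r ∣ Nat.card H → False := by
    intro r hr hr2 hrH
    haveI : Fact r.Prime := ⟨hr⟩
    obtain ⟨P⟩ : Nonempty (Sylow r ↥H) := inferInstance
    set P' : Subgroup Γ := (P : Subgroup ↥H).map H.subtype with hP'
    have hP'p : IsPGroup r P' := P.isPGroup'.map _
    have hP'H : P' ≤ H := Subgroup.map_subtype_le _
    have hP'ne : P' ≠ ⊥ := by
      intro h0
      rw [hP', Subgroup.map_eq_bot_iff_of_injective _ H.subtype_injective] at h0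
      have h1 := P.card_eq_multiplicity
      rw [h0, Subgroup.card_bot] at h1
      have h2 : 0 < (Nat.card ↥H).factorization r :=
        hr.factorization_pos_of_dvd Nat.card_pos.ne' hrH
      have h3 : 1 < r ^ (Nat.card ↥H).factorization r := Nat.one_lt_pow h2.ne' hr.one_lt
      omega
    obtain ⟨y, hy, hyP⟩ := exists_normalizing hp h r P
    set W : Subgroup Γ := Cfsg.centerThompsonAOf P' with hW
    have hWne : W ≠ ⊥ := Cfsg.Agent.S0658.ZJ_ne_bot P' hP'p hP'ne
    have hWle : W ≤ P' := by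
      rw [hW]
      unfold Cfsg.centerThompsonAOf Cfsg.thompsonSubgroupAOf
      exact inf_le_left.trans (Subgroup.map_subtype_le _)
    have hyW : y ∈ Subgroup.normalizer (W : Set Γ) := by
      have h1 := Cfsg.Agent.Lib.Lead_ZJmap.centerThompsonA_map (MulAut.conj y).toMonoidHom P'
        ((MulAut.conj y).injective.injOn)
      rw [Subgroup.mem_normalizer_iff_map_conj_eq] at hyP
      have hyP' : P'.map (MulAut.conj y).toMonoidHom = P' := hyP
      rw [hyP'] at h1
      rw [Subgroup.mem_normalizer_iff_map_conj_eq]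
      exact h1.symm
    have hWmap : W = (Cfsg.centerThompsonAOf (P : Subgroup ↥H)).map H.subtype :=
      Cfsg.Agent.Lib.Lead_ZJmap.centerThompsonA_map H.subtype (P : Subgroup ↥H)
        H.subtype_injective.injOn
    by_cases hHW : H ≤ Subgroup.normalizer (W : Set Γ)
    · have htop : Subgroup.normalizer (W : Set Γ) = ⊤ :=
        h.eq_top_of_lt hp hHW (fun hle => hy (hle hyW))
      have hWn : W.Normal := Subgroup.normalizer_eq_top_iff.1 htop
      rcases hmin W hWn (hWle.trans hP'H) with h0 | h0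
      · exact hWne h0
      · have hHP : H ≤ P' := by rw [← h0]; exact hWle
        exact hnil (hP'p.to_le hHP).isNilpotent
    · set T : Subgroup Γ := H ⊓ Subgroup.normalizer (W : Set Γ) with hT
      have hTne : T ≠ H := fun h0 => hHW (by rw [← h0]; exact inf_le_right)
      have hyT : y ∈ Subgroup.normalizer (T : Set Γ) := mem_normalizer_inf hyW
      haveI hTnil := nilpotent_of_invariant hp h IH T inf_le_left hTne hy hyT
      set W₀ : Subgroup ↥H := Cfsg.centerThompsonAOf (P : Subgroup ↥H) with hW₀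
      set M₀ : Subgroup ↥H := Subgroup.normalizer (W₀ : Set ↥H) with hM₀
      have hmem : ∀ x : ↥M₀, ((x : ↥H) : Γ) ∈ T := by
        intro x
        refine ⟨(x : ↥H).2, ?_⟩
        rw [hWmap]
        exact Subgroup.le_normalizer_map H.subtype ⟨x.1, x.2, rfl⟩
      let f : ↥M₀ →* ↥T := (H.subtype.comp M₀.subtype).codRestrict T hmem
      have hf : Function.Injective f := by
        intro a b hab
        have h1 := congrArg (fun z : ↥T => (z : Γ)) hab
        exact Subtype.ext (Subtype.ext h1)
      have hNPC : NPC r ↥M₀ :=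
        npc_of_injective f hf (Cfsg.Agent.Lib.Lead_FPF.npc_of_nilpotent (G := ↥T) r)
      have hH := Cfsg.Agent.S0659.result hr2 P (hasNormalPComplement_iff_npc.2 hNPC)
      rw [hasNormalPComplement_iff_npc] at hH
      obtain ⟨K, hKn, hKc, k, hk⟩ := hH
      haveI := hKn
      have hK'n : (K.map H.subtype).Normal := by
        constructor
        rintro _ ⟨x, hx, rfl⟩ g
        have hxH : g * (x : Γ) * g⁻¹ ∈ H := hHn.conj_mem _ x.2 g
        refine ⟨⟨g * (x : Γ) * g⁻¹, hxH⟩, ?_, rfl⟩
        apply mem_of_index_pow K hk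
        have h1 : orderOf (⟨g * (x : Γ) * g⁻¹, hxH⟩ : ↥H) = orderOf x := by
          rw [← Subgroup.orderOf_coe, ← Subgroup.orderOf_coe x]
          exact Cfsg.Agent.Lib.Helper7_Basic.orderOf_conj' g (x : Γ)
        rw [h1]
        have h2 : orderOf x ∣ Nat.card K := by
          have := orderOf_dvd_natCard (⟨x, hx⟩ : ↥K)
          rwa [← Subgroup.orderOf_coe] at this
        exact hKc.coprime_dvd_left h2
      rcases hmin _ hK'n (Subgroup.map_subtype_le _) with h0 | h0
      · rw [Subgroup.map_eq_bot_iff_of_injective _ H.subtype_injective] at h0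
        rw [h0, Subgroup.index_bot] at hk
        exact hnil (IsPGroup.of_card hk).isNilpotent
      · have hKtop : K = ⊤ := by
          rw [eq_top_iff]
          intro x _
          have h1 : (x : Γ) ∈ K.map H.subtype := by rw [h0]; exact x.2
          obtain ⟨x', hx', hxx⟩ := h1
          have : x' = x := Subtype.ext hxx
          rwa [← this]
        rw [hKtop, Subgroup.card_top] at hKc
        have h1 : r ∣ Nat.gcd (Nat.card ↥H) r := Nat.dvd_gcd hrH dvd_rfl
        rw [hKc.gcd_eq_one] at h1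
        exact hr.one_lt.ne' (Nat.dvd_one.1 h1)
  have hcard : Nat.card ↥H = 2 ^ (Nat.card ↥H).primeFactorsList.length := by
    apply Nat.eq_prime_pow_of_unique_prime_dvd Nat.card_pos.ne'
    intro d hd hdH
    by_contra hd2
    exact key d hd hd2 hdH
  haveI : Fact (Nat.Prime 2) := ⟨Nat.prime_two⟩
  exact hnil (IsPGroup.of_card hcard).isNilpotent

end

end Cfsg.Agent.Lib.Lead_HT2
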