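import Mathlib
import Cfsg.Agent.Lib.Lead_HT2
import Cfsg.Agent.Lib.Helper2_NilDecomp

/-!
# Hughes–Thompson configuration: a minimal counterexample with minimal normal subgroup `N < H`
-/

namespace Cfsg.Agent.Lib.Lead_HT3

open Cfsg.Agent.Lib.Lead_HT1 Cfsg.Agent.Lib.Lead_HT2 Cfsg.Agent.Lib.Helper7_NPC
  Cfsg.Agent.Lib.Lead_GT1

universe u

/-- A minimal counterexample together with a minimal normal subgroup `N` of `Γ` inside `H`,
`N ≠ H`. -/
structure MinCE (p : ℕ) {Γ : Type u} [Group Γ] [Finite Γ] (H N : Subgroup Γ) : Prop where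
  prime : p.Prime
  ht : HT p H
  ih : ∀ (Γ' : Type u) [Group Γ'] [Finite Γ'] (H' : Subgroup Γ'),
      Nat.card H' < Nat.card H → HT p H' → Group.IsNilpotent ↥H'
  nnil : ¬ Group.IsNilpotent ↥H
  normal : N.Normal
  le : N ≤ H
  ne_bot : N ≠ ⊥
  min : ∀ T : Subgroup Γ, T.Normal → T ≤ N → T = ⊥ ∨ T = N
  ne : N ≠ H

section
variable {p : ℕ} {Γ : Type u} [Group Γ] [Finite Γ] {H N : Subgroup Γ}

theorem MinCE.nilpotent_of_normal (m : MinCE p H N) (T : Subgroup Γ) [hT : T.Normal] (hTH : T ≤ H)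
    (hne : T ≠ H) : Group.IsNilpotent ↥T := by
  obtain ⟨y, hy⟩ := m.ht.exists_not_mem m.prime
  have hyT : y ∈ Subgroup.normalizer (T : Set Γ) := by
    rw [Subgroup.normalizer_eq_top_iff.2 hT]; trivial
  exact nilpotent_of_invariant m.prime m.ht m.ih T hTH hne hy hyT

theorem MinCE.N_nilpotent (m : MinCE p H N) : Group.IsNilpotent ↥N := by
  haveI := m.normal
  exact m.nilpotent_of_normal N m.le m.ne

theorem MinCE.N_comm (m : MinCE p H N) : ∀ a ∈ N, ∀ b ∈ N, a * b = b * a := by
  haveI := m.normal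
  haveI := m.N_nilpotent
  haveI : Nontrivial ↥N := (Subgroup.nontrivial_iff_ne_bot N).2 m.ne_bot
  have hCn : (⁅N, N⁆ : Subgroup Γ).Normal := Subgroup.commutator_normal N N
  have hCle : (⁅N, N⁆ : Subgroup Γ) ≤ N := Subgroup.commutator_le_right N N
  rcases m.min _ hCn hCle with h0 | h0
  · rw [Subgroup.commutator_eq_bot_iff_le_centralizer] at h0
    intro a ha b hb
    have := Subgroup.mem_centralizer_iff.1 (h0 ha) b hb
    exact this.symm
  · exfalso
    have h1 := Group.IsSolvable.commutator_lt_top_of_nontrivial ↥N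
    apply h1.ne
    have h2 := Subgroup.map_subtype_commutator N
    rw [h0] at h2
    apply Subgroup.map_injective N.subtype_injective
    rw [h2, ← MonoidHom.range_eq_map, Subgroup.range_subtype]

theorem MinCE.N_pgroup (m : MinCE p H N) : ∃ r : ℕ, r.Prime ∧ IsPGroup r ↥N := by
  haveI := m.normal
  have hcomm := m.N_comm
  have hcard : Nat.card ↥N ≠ 1 := fun h => m.ne_bot (Subgroup.card_eq_one.1 h)
  set r := (Nat.card ↥N).minFac with hr
  have hrp : r.Prime := Nat.minFac_prime hcard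
  haveI : Fact r.Prime := ⟨hrp⟩
  obtain ⟨x, hx⟩ := exists_prime_orderOf_dvd_card' (G := ↥N) r (Nat.minFac_dvd _)
  refine ⟨r, hrp, ?_⟩
  let Ω : Subgroup Γ :=
    { carrier := {n | n ∈ N ∧ n ^ r = 1}
      mul_mem' := by
        rintro a b ⟨ha, ha'⟩ ⟨hb, hb'⟩
        refine ⟨N.mul_mem ha hb, ?_⟩
        have hc : Commute a b := hcomm a ha b hb
        rw [hc.mul_pow, ha', hb', one_mul]
      one_mem' := ⟨N.one_mem, one_pow r⟩
      inv_mem' := by
        rintro a ⟨ha, ha'⟩
        exact ⟨N.inv_mem ha, by rw [inv_pow, ha', inv_one]⟩ }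
  have hΩn : Ω.Normal := by
    constructor
    rintro n ⟨hn, hn'⟩ g
    exact ⟨m.normal.conj_mem n hn g, by rw [conj_pow, hn', mul_one, mul_inv_cancel]⟩
  have hΩle : Ω ≤ N := fun n hn => hn.1
  rcases m.min Ω hΩn hΩle with h0 | h0
  · exfalso
    have h1 : (x : Γ) ∈ Ω := by
      refine ⟨x.2, ?_⟩
      have := pow_orderOf_eq_one x
      rw [hx] at this
      have h2 := congrArg (fun z : ↥N => (z : Γ)) this
      simpa using h2
    rw [h0, Subgroup.mem_bot] at h1
    have h3 : x = 1 := Subtype.ext h1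
    rw [h3, orderOf_one] at hx
    exact hrp.one_lt.ne hx
  · intro g
    refine ⟨1, ?_⟩
    have h1 : (g : Γ) ∈ Ω := by rw [h0]; exact g.2
    apply Subtype.ext
    rw [pow_one, Subgroup.coe_pow, Subgroup.coe_one]
    exact h1.2

theorem card_map_lt {M X : Subgroup Γ} [M.Normal] (hMX : M ≤ X) (hM : M ≠ ⊥) :
    Nat.card (X.map (QuotientGroup.mk' M)) < Nat.card X := by
  have h1 := Cfsg.Agent.Lib.Lead_SZ.card_map_of_le M X hMX
  have h2 : 1 < Nat.card M := (Subgroup.one_lt_card_iff_ne_bot M).2 hM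
  have h3 : 0 < Nat.card (X.map (QuotientGroup.mk' M)) := Nat.card_pos
  nlinarith

theorem MinCE.quotient_nilpotent (m : MinCE p H N) (T : Subgroup Γ) [T.Normal] (hTH : T ≤ H)
    (hT : T ≠ ⊥) : Group.IsNilpotent ↥(H.map (QuotientGroup.mk' T)) :=
  m.ih _ _ (card_map_lt hTH hT) (m.ht.quotient T hTH)

/-- (U'): every nontrivial normal subgroup of `Γ` inside `H` contains `N`. -/
theorem MinCE.N_le (m : MinCE p H N) (T : Subgroup Γ) [hT : T.Normal] (hTH : T ≤ H)
    (hTne : T ≠ ⊥) : N ≤ T := by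
  haveI := m.normal
  have hn : (N ⊓ T).Normal := inferInstance
  rcases m.min (N ⊓ T) hn inf_le_left with h0 | h0
  · exfalso
    apply m.nnil
    haveI := m.quotient_nilpotent N m.le m.ne_bot
    haveI := m.quotient_nilpotent T hTH hTne
    let f : ↥H →* ↥(H.map (QuotientGroup.mk' N)) × ↥(H.map (QuotientGroup.mk' T)) :=
      ((QuotientGroup.mk' N).subgroupMap H).prod ((QuotientGroup.mk' T).subgroupMap H)
    have hker : f.ker = ⊥ := by
      rw [eq_bot_iff]
      intro x hx
      rw [MonoidHom.mem_ker] at hx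
      have h1 := congrArg Prod.fst hx
      have h2 := congrArg Prod.snd hx
      have h1' : QuotientGroup.mk' N (x : Γ) = 1 := congrArg Subtype.val h1
      have h2' : QuotientGroup.mk' T (x : Γ) = 1 := congrArg Subtype.val h2
      rw [QuotientGroup.mk'_apply, QuotientGroup.eq_one_iff] at h1' h2'
      have h3 : (x : Γ) ∈ N ⊓ T := ⟨h1', h2'⟩
      rw [h0, Subgroup.mem_bot] at h3
      rw [Subgroup.mem_bot]
      exact Subtype.ext h3
    exact isNilpotent_of_ker_le_center f (by rw [hker]; exact bot_le)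
  · rw [← h0]; exact inf_le_right

/-- If `N` is central in `H` then `H` is nilpotent. -/
theorem MinCE.not_central (m : MinCE p H N) (hc : H ≤ Subgroup.centralizer (N : Set Γ)) :
    False := by
  haveI := m.normal
  apply m.nnil
  haveI := m.quotient_nilpotent N m.le m.ne_bot
  let f : ↥H →* ↥(H.map (QuotientGroup.mk' N)) := (QuotientGroup.mk' N).subgroupMap H
  apply isNilpotent_of_ker_le_center f
  intro x hx
  rw [MonoidHom.mem_ker] at hx
  have h1 : QuotientGroup.mk' N (x : Γ) = 1 := congrArg Subtype.val hx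
  rw [QuotientGroup.mk'_apply, QuotientGroup.eq_one_iff] at h1
  rw [Subgroup.mem_center_iff]
  intro g
  apply Subtype.ext
  have h2 := Subgroup.mem_centralizer_iff.1 (hc g.2) (x : Γ) h1
  simpa using h2.symm

theorem mem_normalizer_sup {A B : Subgroup Γ} {y : Γ}
    (hA : y ∈ Subgroup.normalizer (A : Set Γ)) (hB : y ∈ Subgroup.normalizer (B : Set Γ)) :
    y ∈ Subgroup.normalizer ((A ⊔ B : Subgroup Γ) : Set Γ) := by
  rw [Subgroup.mem_normalizer_iff_map_conj_eq] at hA hB ⊢
  have hA' : A.map (MulAut.conj y).toMonoidHom = A := hA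
  have hB' : B.map (MulAut.conj y).toMonoidHom = B := hB
  show (A ⊔ B).map (MulAut.conj y).toMonoidHom = A ⊔ B
  rw [Subgroup.map_sup, hA', hB']

set_option maxHeartbeats 1000000 in
/-- (G): for a prime `q ≠ r` dividing `|H|` and a Sylow `q`-subgroup `Q` of `H`: `H = N Q`. -/
theorem MinCE.sup_sylow (m : MinCE p H N) (r : ℕ) [Fact r.Prime] (hr : IsPGroup r ↥N)
    (q : ℕ) [Fact q.Prime] (hqr : q ≠ r) (hqH : q ∣ Nat.card ↥H) (Q' : Sylow q ↥H) :
    N ⊔ (Q' : Subgroup ↥H).map H.subtype = H := by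
  haveI := m.normal
  haveI hHn := m.ht.normal
  have hqp : q.Prime := Fact.out
  have hrp : r.Prime := Fact.out
  set Q : Subgroup Γ := (Q' : Subgroup ↥H).map H.subtype with hQ
  have hQH : Q ≤ H := Subgroup.map_subtype_le _
  have hQp : IsPGroup q ↥Q := Q'.isPGroup'.map _
  by_contra hne
  have hle : N ⊔ Q ≤ H := sup_le m.le hQH
  obtain ⟨y, hy, hyQ⟩ := exists_normalizing m.prime m.ht q Q'
  have hyN : y ∈ Subgroup.normalizer (N : Set Γ) := by
    rw [Subgroup.normalizer_eq_top_iff.2 m.normal]; trivial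
  have hyNQ := mem_normalizer_sup hyN hyQ
  haveI nilNQ := nilpotent_of_invariant m.prime m.ht m.ih (N ⊔ Q) hle hne hy hyNQ
  -- `Q` centralizes `N`
  have hQc : Q ≤ Subgroup.centralizer (N : Set Γ) := by
    intro x hx
    have hNr : IsPGroup r ↥(N.subgroupOf (N ⊔ Q)) := hr.comap_subtype
    obtain ⟨P, hP⟩ := hNr.exists_le_sylow
    have hxo : ¬ r ∣ orderOf (⟨x, (le_sup_right : Q ≤ N ⊔ Q) hx⟩ : ↥(N ⊔ Q)) := by
      rw [← Subgroup.orderOf_coe]
      obtain ⟨j, hj⟩ := (IsPGroup.iff_orderOf.1 hQp) ⟨x, hx⟩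
      rw [← Subgroup.orderOf_coe] at hj
      simp only at hj
      rw [hj]
      intro hd
      have h1 := hrp.dvd_of_dvd_pow hd
      exact hqr ((Nat.prime_dvd_prime_iff_eq hrp hqp).1 h1).symm
    have key := Cfsg.Agent.Lib.Helper2_NilDecomp.commute_sylow_of_regular r P _ hxo
    rw [Subgroup.mem_centralizer_iff]
    intro n hn
    have h1 := key ⟨n, (le_sup_left : N ≤ N ⊔ Q) hn⟩ (hP (Subgroup.mem_subgroupOf.2 hn))
    have h2 : x * n * x⁻¹ = n := congrArg (fun z : ↥(N ⊔ Q) => (z : Γ)) h1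
    calc n * x = (x * n * x⁻¹) * x := by rw [h2]
      _ = x * n := by group
  set C : Subgroup Γ := H ⊓ Subgroup.centralizer (N : Set Γ) with hC
  haveI hCn : C.Normal := inferInstance
  have hQC : Q ≤ C := le_inf hQH hQc
  by_cases hCH : C = H
  · exact m.not_central (by rw [← hCH]; exact inf_le_right)
  · haveI nilC := m.nilpotent_of_normal C inf_le_left hCH
    obtain ⟨S⟩ : Nonempty (Sylow q ↥C) := inferInstance
    have htfae : Group.IsNilpotent ↥C ↔
        ∀ (p : ℕ) (_hp : Fact p.Prime) (P : Sylow p ↥C), (P : Subgroup ↥C).Normal :=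
      (Group.isNilpotent_of_finite_tfae (G := ↥C)).out 0 3
    have hSn : (S : Subgroup ↥C).Normal := htfae.1 nilC q inferInstance S
    haveI := Sylow.characteristic_of_normal S hSn
    set T : Subgroup Γ := (S : Subgroup ↥C).map C.subtype with hT
    haveI hTn : T.Normal := normal_map_of_char C (S : Subgroup ↥C)
    have hTC : T ≤ C := Subgroup.map_subtype_le _
    have hTp : IsPGroup q ↥T := S.isPGroup'.map _
    have hTne : T ≠ ⊥ := by
      intro h0
      rw [hT, Subgroup.map_eq_bot_iff_of_injective _ C.subtype_injective] at h0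
      have h1 := S.card_eq_multiplicity
      rw [h0, Subgroup.card_bot] at h1
      have hqQ : q ∣ Nat.card ↥Q := by
        rw [hQ, Subgroup.card_map_of_injective H.subtype_injective, Q'.card_eq_multiplicity]
        exact dvd_pow_self q (hqp.factorization_pos_of_dvd Nat.card_pos.ne' hqH).ne'
      have hqC : q ∣ Nat.card ↥C := hqQ.trans (Subgroup.card_dvd_of_le hQC)
      have h2 : 0 < (Nat.card ↥C).factorization q :=
        hqp.factorization_pos_of_dvd Nat.card_pos.ne' hqC
      have h3 : 1 < q ^ (Nat.card ↥C).factorization q := Nat.one_lt_pow h2.ne' hqp.one_lt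
      omega
    have hNT : N ≤ T := m.N_le T (hTC.trans inf_le_left) hTne
    have hdisj := IsPGroup.disjoint_of_ne r q hqr.symm N T hr hTp
    apply m.ne_bot
    rw [← inf_eq_left.2 hNT]
    exact hdisj.eq_bot

end

end Cfsg.Agent.Lib.Lead_HT3
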