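import Mathlib
import Cfsg.Agent.Lib.Lead_HT3
import Cfsg.Agent.Lib.Lead_FPF3
import Cfsg.Agent.Lib.Helper5_CoprimeGen

/-!
# Hughes–Thompson configuration: the `p'`-case (Thompson) and the case `p = q`
-/

namespace Cfsg.Agent.Lib.Lead_HT4

open Cfsg.Agent.Lib.Lead_HT1 Cfsg.Agent.Lib.Lead_HT2 Cfsg.Agent.Lib.Lead_HT3

universe u

theorem mulAut_pow_apply' {G : Type*} [Group G] (φ : G ≃* G) (n : ℕ) (g : G) :
    ((φ ^ n : MulAut G) : G ≃* G) g = (⇑φ)^[n] g := by
  induction n with
  | zero => rfl
  | succ n ih =>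
    rw [pow_succ', Function.iterate_succ_apply']
    show φ ((φ ^ n : MulAut G) g) = φ ((⇑φ)^[n] g)
    rw [ih]

section
variable {p : ℕ} {Γ : Type u} [Group Γ] [Finite Γ] {H N : Subgroup Γ}

/-- An element of `H` commuting with an outside element has trivial `p`-th power. -/
theorem pow_of_commute (h : HT p H) {x : Γ} (hx : x ∉ H) {n : Γ} (hn : n ∈ H)
    (hc : x * n = n * x) : n ^ p = 1 := by
  have h1 : x * n ∉ H := fun hm => hx (by
    have := H.mul_mem hm (H.inv_mem hn)
    simpa using this)
  have h2 := h.pow _ h1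
  have hc' : Commute x n := hc
  rw [hc'.mul_pow, h.pow x hx, one_mul] at h2
  exact h2

/-- An element of a `p'`-subgroup of `H` commuting with an outside element is trivial. -/
theorem eq_one_of_commute (hp : p.Prime) (h : HT p H) {x : Γ} (hx : x ∉ H) {n : Γ}
    (hn : n ∈ H) (hc : x * n = n * x) (hpn : ¬ p ∣ orderOf n) : n = 1 := by
  have h3 := pow_of_commute h hx hn hc
  have h4 : orderOf n ∣ p := orderOf_dvd_of_pow_eq_one h3
  rcases (Nat.dvd_prime hp).1 h4 with h5 | h5
  · exact orderOf_eq_one_iff.1 h5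
  · exact absurd (h5 ▸ dvd_rfl) hpn

/-- If `p ∤ |H|` then `H` is nilpotent (Thompson's theorem). -/
theorem nilpotent_of_not_dvd (hp : p.Prime) (h : HT p H) (hpH : ¬ p ∣ Nat.card ↥H) :
    Group.IsNilpotent ↥H := by
  haveI := h.normal
  obtain ⟨y, hy⟩ := h.exists_not_mem hp
  let φ : ↥H ≃* ↥H := MulAut.conjNormal y
  have hS : Cfsg.Agent.Lib.Lead_FPF.Setup φ p := by
    refine ⟨?_, ?_⟩
    · intro g hg
      have h1 : y * (g : Γ) * y⁻¹ = g := by
        have := congrArg Subtype.val hg
        rwa [MulAut.conjNormal_apply] at this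
      have h2 : y * (g : Γ) = g * y := by
        calc y * (g : Γ) = (y * g * y⁻¹) * y := by group
          _ = g * y := by rw [h1]
      apply Subtype.ext
      apply eq_one_of_commute hp h hy g.2 h2
      intro hd
      apply hpH
      rw [Subgroup.orderOf_coe] at hd
      exact hd.trans (orderOf_dvd_natCard g)
    · intro g
      have h1 : (φ ^ p : MulAut ↥H) = 1 := by
        show (MulAut.conjNormal y) ^ p = 1
        rw [← map_pow, h.pow y hy, map_one]
      rw [← mulAut_pow_apply', h1]
      rfl
  exact Cfsg.Agent.Lib.Lead_FPF3.thompson_aux p hp _ ↥H rfl φ hS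

theorem card_sup_dvd (N Q : Subgroup Γ) [N.Normal] :
    Nat.card ↥(N ⊔ Q) ∣ Nat.card ↥N * Nat.card ↥Q := by
  have h1 : N.relIndex (N ⊔ Q) = N.relIndex Q := Subgroup.relIndex_sup_left Q N
  have h2 : Nat.card ↥(N ⊔ Q) = Nat.card ↥N * N.relIndex (N ⊔ Q) := by
    have := Subgroup.relIndex_mul_relIndex ⊥ N (N ⊔ Q) bot_le le_sup_left
    rw [Subgroup.relIndex_bot_left, Subgroup.relIndex_bot_left] at this
    exact this.symm
  rw [h2, h1]
  exact Nat.mul_dvd_mul_left _ (Subgroup.relIndex_dvd_card N Q)

/-- Case (a): `p ∉ {r, q}` is impossible. -/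
theorem MinCE.case_a (m : MinCE p H N) (r : ℕ) [Fact r.Prime] (hr : IsPGroup r ↥N)
    (q : ℕ) [Fact q.Prime] (Q : Subgroup Γ) (hQ : IsPGroup q ↥Q)
    (hsup : N ⊔ Q = H) (hpr : p ≠ r) (hpq : p ≠ q) : False := by
  haveI := m.normal
  have hqp : q.Prime := Fact.out
  have hrp : r.Prime := Fact.out
  apply m.nnil
  apply nilpotent_of_not_dvd m.prime m.ht
  intro hd
  have h1 := card_sup_dvd N Q
  rw [hsup] at h1
  have h2 := hd.trans h1
  obtain ⟨a, ha⟩ := IsPGroup.iff_card.1 hr
  obtain ⟨b, hb⟩ := IsPGroup.iff_card.1 hQ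
  rw [ha, hb] at h2
  rcases (Nat.Prime.dvd_mul m.prime).1 h2 with h3 | h3
  · exact hpr ((Nat.prime_dvd_prime_iff_eq m.prime hrp).1 (m.prime.dvd_of_dvd_pow h3))
  · exact hpq ((Nat.prime_dvd_prime_iff_eq m.prime hqp).1 (m.prime.dvd_of_dvd_pow h3))

omit [Finite Γ] in
theorem commute_of_commute_pow (hp : p.Prime) {u n : Γ} (hu : u ^ p = 1) {i : ℕ}
    (hi0 : 0 < i) (hip : i < p) (hc : n * u ^ i = u ^ i * n) : n * u = u * n := by
  have hcop : Nat.Coprime i p := (Nat.coprime_of_lt_prime hi0.ne' hip hp).symm
  obtain ⟨k, -, hik⟩ := Nat.exists_mul_mod_eq_one_of_coprime hcop hp.one_lt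
  have h1 : (u ^ i) ^ k = u := by
    rw [← pow_mul, pow_eq_pow_mod (i * k) hu, hik, pow_one]
  have hc' : Commute n (u ^ i) := hc
  have := hc'.pow_right k
  rw [h1] at this
  exact this

set_option maxHeartbeats 1000000 in
/-- Case (b): `p = q` is impossible. -/
theorem MinCE.case_b (m : MinCE p H N) [Fact p.Prime] (r : ℕ) [Fact r.Prime]
    (hr : IsPGroup r ↥N) (hpr : p ≠ r) (Q : Subgroup Γ) (hQ : IsPGroup p ↥Q) (hQH : Q ≤ H)
    (hsup : N ⊔ Q = H) : False := by
  haveI := m.normal
  haveI hHn := m.ht.normal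
  have hp := m.prime
  have hrp : r.Prime := Fact.out
  have hN' : ∀ n ∈ N, ¬ p ∣ orderOf n := by
    intro n hn hd
    obtain ⟨j, hj⟩ := (IsPGroup.iff_orderOf.1 hr) ⟨n, hn⟩
    rw [← Subgroup.orderOf_coe] at hj
    simp only at hj
    rw [hj] at hd
    exact hpr ((Nat.prime_dvd_prime_iff_eq hp hrp).1 (hp.dvd_of_dvd_pow hd))
  have hfpf : ∀ x, x ∉ H → ∀ n ∈ N, x * n = n * x → n = 1 := fun x hx n hn hc =>
    eq_one_of_commute hp m.ht hx (m.le hn) hc (hN' n hn)
  have hpN : ¬ p ∣ Nat.card ↥N := by
    obtain ⟨a, ha⟩ := IsPGroup.iff_card.1 hr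
    rw [ha]
    intro hd
    exact hpr ((Nat.prime_dvd_prime_iff_eq hp hrp).1 (hp.dvd_of_dvd_pow hd))
  have hNnorm : ∀ g : Γ, g ∈ Subgroup.normalizer (N : Set Γ) := by
    intro g
    rw [Subgroup.normalizer_eq_top_iff.2 m.normal]
    trivial
  obtain ⟨R, hQR⟩ := hQ.exists_le_sylow
  have hy : ∃ y ∈ R, y ∉ H := by
    by_contra hcon
    push Not at hcon
    have hRH : (R : Subgroup Γ) ≤ H := hcon
    have h1 := Subgroup.index_dvd_of_le hRH
    rw [m.ht.index] at h1
    exact R.not_dvd_index h1
  obtain ⟨y, hyR, hyH⟩ := hy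
  haveI : Nontrivial ↥(R : Subgroup Γ) := by
    refine ⟨⟨⟨y, hyR⟩, 1, ?_⟩⟩
    intro h1
    apply hyH
    have : y = 1 := congrArg Subtype.val h1
    rw [this]
    exact H.one_mem
  haveI := R.isPGroup'.center_nontrivial
  have hcz : p ∣ Nat.card ↥(Subgroup.center ↥(R : Subgroup Γ)) := by
    have hZp : IsPGroup p ↥(Subgroup.center ↥(R : Subgroup Γ)) := R.isPGroup'.to_subgroup _
    rcases hZp.card_eq_or_dvd with h1 | h1
    · exfalso
      have := Finite.one_lt_card (α := ↥(Subgroup.center ↥(R : Subgroup Γ)))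
      omega
    · exact h1
  obtain ⟨z0, hz0⟩ := exists_prime_orderOf_dvd_card' (G := ↥(Subgroup.center ↥(R : Subgroup Γ))) p hcz
  set z : Γ := ((z0 : ↥(R : Subgroup Γ)) : Γ) with hz
  have hzo : orderOf z = p := by
    rw [hz, Subgroup.orderOf_coe, Subgroup.orderOf_coe, hz0]
  have hzRm : z ∈ R := (z0 : ↥(R : Subgroup Γ)).2
  have hzR : ∀ g ∈ R, g * z = z * g := by
    intro g hg
    have h1 := Subgroup.mem_center_iff.1 z0.2 ⟨g, hg⟩
    exact congrArg Subtype.val h1
  have hzp : z ^ p = 1 := by
    rw [← hzo]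
    exact pow_orderOf_eq_one z
  have hz1 : z ≠ 1 := by
    intro h1
    rw [h1, orderOf_one] at hzo
    exact hp.one_lt.ne hzo
  by_cases hzH : z ∈ H
  · set N₁ : Subgroup Γ := N ⊓ Subgroup.centralizer {z} with hN₁
    by_cases h0 : N₁ = ⊥
    · have hNb : N ≤ ⊥ := by
        refine Cfsg.Agent.Lib.Helper5_CoprimeGen.pgroup_gen r p N hr hpN y z (hzR y hyR)
          (m.ht.pow y hyH) hzp (hNnorm y) (hNnorm z) ⊥ ?_ ?_
        · rintro j n ⟨hnN, hnc⟩
          rw [Subgroup.mem_bot]
          refine hfpf (y * z ^ j) ?_ n hnN ?_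
          · intro hm
            apply hyH
            have := H.mul_mem hm (H.inv_mem (H.pow_mem hzH j))
            simpa using this
          · exact (Subgroup.mem_centralizer_singleton_iff.1 hnc).symm
        · rintro i hi0 hip n ⟨hnN, hnc⟩
          have hc1 : n * z ^ i = z ^ i * n := Subgroup.mem_centralizer_singleton_iff.1 hnc
          have hc2 := commute_of_commute_pow hp hzp hi0 hip hc1
          have h1 : n ∈ N₁ := ⟨hnN, Subgroup.mem_centralizer_singleton_iff.2 hc2⟩
          rw [h0] at h1
          exact h1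
      exact m.ne_bot (le_bot_iff.1 hNb)
    · have hRc : (R : Subgroup Γ) ≤ Subgroup.centralizer {z} := fun g hg =>
        Subgroup.mem_centralizer_singleton_iff.2 (hzR g hg)
      have hnorm : Subgroup.normalizer (N₁ : Set Γ) = ⊤ := by
        apply m.ht.eq_top_of_lt hp
        · rw [← hsup]
          apply sup_le
          · intro a ha
            rw [Subgroup.mem_normalizer_iff]
            intro n
            constructor
            · intro hn
              have h1 : a * n * a⁻¹ = n := by
                rw [m.N_comm a ha n hn.1]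
                group
              rw [h1]
              exact hn
            · intro hn
              have hnN : n ∈ N := by
                have e : n = a⁻¹ * (a * n * a⁻¹) * a := by group
                rw [e]
                exact N.mul_mem (N.mul_mem (N.inv_mem ha) hn.1) ha
              have h1 : a * n * a⁻¹ = n := by
                rw [m.N_comm a ha n hnN]
                group
              rw [h1] at hn
              exact hn
          · intro g hg
            exact mem_normalizer_inf (hRc (hQR hg))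
        · intro hle
          exact hyH (hle (mem_normalizer_inf (hRc hyR)))
      have hN₁n : N₁.Normal := Subgroup.normalizer_eq_top_iff.1 hnorm
      have hN₁N : N₁ = N := by
        rcases m.min N₁ hN₁n inf_le_left with h1 | h1
        · exact absurd h1 h0
        · exact h1
      have hNc : N ≤ Subgroup.centralizer {z} := by
        rw [← hN₁N]
        exact inf_le_right
      have hctop : Subgroup.centralizer ({z} : Set Γ) = ⊤ := by
        apply m.ht.eq_top_of_lt hp
        · rw [← hsup]
          exact sup_le hNc (hQR.trans hRc)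
        · intro hle
          exact hyH (hle (hRc hyR))
      have hzc : ∀ g : Γ, g * z = z * g := by
        intro g
        apply Subgroup.mem_centralizer_singleton_iff.1
        rw [hctop]
        trivial
      set Z : Subgroup Γ := Subgroup.zpowers z with hZ
      haveI hZn : Z.Normal := by
        constructor
        intro n hn g
        obtain ⟨k, rfl⟩ := Subgroup.mem_zpowers_iff.1 hn
        have hc : Commute g z := hzc g
        have h1 := (hc.zpow_right k).eq
        rw [h1]
        simpa using hn
      have hZH : Z ≤ H := (Subgroup.zpowers_le).2 hzH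
      have hZne : Z ≠ ⊥ := by
        intro h1
        apply hz1
        have : z ∈ Z := Subgroup.mem_zpowers z
        rw [h1, Subgroup.mem_bot] at this
        exact this
      have hNZ : N ≤ Z := m.N_le Z hZH hZne
      have hZp : IsPGroup p ↥Z := by
        apply IsPGroup.of_card (n := 1)
        rw [hZ, Nat.card_zpowers, hzo, pow_one]
      have hdisj := IsPGroup.disjoint_of_ne r p hpr.symm N Z hr hZp
      apply m.ne_bot
      rw [← inf_eq_left.2 hNZ]
      exact hdisj.eq_bot
  · have hQc : Q ≤ Subgroup.centralizer (N : Set Γ) := by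
      intro u hu
      have hzu : z * u = u * z := (hzR u (hQR hu)).symm
      have hup : u ^ p = 1 := pow_of_commute m.ht hzH (hQH hu) hzu
      have hNu : N ≤ Subgroup.centralizer {u} := by
        refine Cfsg.Agent.Lib.Helper5_CoprimeGen.pgroup_gen r p N hr hpN z u hzu
          hzp hup (hNnorm z) (hNnorm u) (Subgroup.centralizer {u}) ?_ ?_
        · rintro j n ⟨hnN, hnc⟩
          have h1 : n = 1 := by
            refine hfpf (z * u ^ j) ?_ n hnN ?_
            · intro hm
              apply hzH
              have := H.mul_mem hm (H.inv_mem (H.pow_mem (hQH hu) j))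
              simpa using this
            · exact (Subgroup.mem_centralizer_singleton_iff.1 hnc).symm
          rw [h1]
          exact Subgroup.one_mem _
        · rintro i hi0 hip n ⟨hnN, hnc⟩
          have hc1 : n * u ^ i = u ^ i * n := Subgroup.mem_centralizer_singleton_iff.1 hnc
          have hc2 := commute_of_commute_pow hp hup hi0 hip hc1
          exact Subgroup.mem_centralizer_singleton_iff.2 hc2
      rw [Subgroup.mem_centralizer_iff]
      intro n hn
      exact Subgroup.mem_centralizer_singleton_iff.1 (hNu hn)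
    apply m.not_central
    rw [← hsup]
    apply sup_le
    · intro a ha
      rw [Subgroup.mem_centralizer_iff]
      intro n hn
      exact m.N_comm n hn a ha
    · exact hQc

end

end Cfsg.Agent.Lib.Lead_HT4
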