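import Mathlib
import Cfsg.Agent.Lib.Lead_HT4
import Cfsg.Agent.Lib.Helper5_CharP2

/-!
# Hughes–Thompson configuration: the case `p = r` (norm computation)
-/

namespace Cfsg.Agent.Lib.Lead_HT5

open Cfsg.Agent.Lib.Lead_HT1 Cfsg.Agent.Lib.Lead_HT2 Cfsg.Agent.Lib.Lead_HT3
  Cfsg.Agent.Lib.Lead_HT4

universe u

theorem prod_conj_formula {X : Type*} [Group X] {A : Type*} [CommGroup A] (ρ : X →* MulAut A)
    (ι : A →* X) (hρι : ∀ g w, ι (ρ g w) = g * ι w * g⁻¹) (g : X) (w : A) (n : ℕ) :
    ι (∏ i ∈ Finset.range n, ρ (g ^ i) w) * g ^ n = (ι w * g) ^ n := by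
  induction n with
  | zero => simp
  | succ n ih =>
    rw [Finset.prod_range_succ, map_mul, hρι, pow_succ (ι w * g) n, ← ih, pow_succ g n]
    group

theorem sigma_mem {X : Type*} [Group X] (Q : Subgroup X) (y : X)
    (hyQ : y ∈ Subgroup.normalizer (Q : Set X)) (a : X) (ha : a ∈ Q) (i : ℕ) :
    (a * y) ^ i * (y ^ i)⁻¹ ∈ Q := by
  induction i with
  | zero => simp
  | succ i ih =>
    have hyi : y ^ i ∈ Subgroup.normalizer (Q : Set X) := Subgroup.pow_mem _ hyQ i
    have h1 : y ^ i * a * (y ^ i)⁻¹ ∈ Q := (Subgroup.mem_normalizer_iff.1 hyi a).1 ha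
    have e : (a * y) ^ (i + 1) * (y ^ (i + 1))⁻¹
        = ((a * y) ^ i * (y ^ i)⁻¹) * (y ^ i * a * (y ^ i)⁻¹) := by
      rw [pow_succ, pow_succ]
      group
    rw [e]
    exact Q.mul_mem ih h1

set_option maxHeartbeats 1000000 in
/-- The norm computation: an abelian group `A` on which `Q⟨y⟩` acts so that all elements of
`A (a y)` have order dividing `p`, with `Q` coprime and fixed-point-free, is trivial. -/
theorem comm_trivial {X : Type*} [Group X] {A : Type*} [CommGroup A] [Finite A]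
    (ρ : X →* MulAut A) (ι : A →* X) (hι : Function.Injective ι)
    (hρι : ∀ g w, ι (ρ g w) = g * ι w * g⁻¹)
    (Q : Subgroup X) [Finite Q] (y : X) (p : ℕ) (hp : p.Prime)
    (hyQ : y ∈ Subgroup.normalizer (Q : Set X))
    (hpow : ∀ a ∈ Q, ∀ w : A, (ι w * (a * y)) ^ p = 1)
    (hfix : ∀ w : A, (∀ a ∈ Q, ρ a w = w) → w = 1)
    (hcop : (Nat.card Q).Coprime (Nat.card A)) (w : A) : w = 1 := by
  classical
  haveI : Fintype Q := Fintype.ofFinite Q
  have hpow1 : ∀ a ∈ Q, (a * y) ^ p = 1 := by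
    intro a ha
    have := hpow a ha 1
    simpa using this
  have hsplit : ∀ a ∈ Q, ∀ w : A, ∏ i ∈ Finset.range p, ρ ((a * y) ^ i) w = 1 := by
    intro a ha w
    apply hι
    have := prod_conj_formula ρ ι hρι (a * y) w p
    rw [hpow1 a ha, mul_one, hpow a ha w] at this
    rw [this, map_one]
  have he : ∀ w : A, ∏ a : Q, ρ (a : X) w = 1 := by
    intro w
    apply hfix
    intro b hb
    rw [map_prod]
    have h1 : ∀ a : Q, ρ b (ρ (a : X) w) = ρ ((⟨b, hb⟩ * a : Q) : X) w := by
      intro a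
      rw [Subgroup.coe_mul, map_mul]
      rfl
    simp_rw [h1]
    exact Fintype.prod_equiv (Equiv.mulLeft (⟨b, hb⟩ : Q)) _ _ (fun a => rfl)
  let σ : ℕ → Q → Q := fun i a => ⟨((a : X) * y) ^ i * (y ^ i)⁻¹, sigma_mem Q y hyQ a a.2 i⟩
  have hσ : ∀ i, 0 < i → i < p → Function.Bijective (σ i) := by
    intro i hi0 hip
    rw [← Finite.injective_iff_bijective]
    intro a b hab
    have h1 : ((a : X) * y) ^ i * (y ^ i)⁻¹ = ((b : X) * y) ^ i * (y ^ i)⁻¹ :=
      congrArg Subtype.val hab
    have h2 : ((a : X) * y) ^ i = ((b : X) * y) ^ i := mul_right_cancel h1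
    have hcp : Nat.Coprime i p := (Nat.coprime_of_lt_prime hi0.ne' hip hp).symm
    obtain ⟨k, -, hik⟩ := Nat.exists_mul_mod_eq_one_of_coprime hcp hp.one_lt
    have h3 : ∀ c : X, c ^ p = 1 → (c ^ i) ^ k = c := by
      intro c hc
      rw [← pow_mul, pow_eq_pow_mod (i * k) hc, hik, pow_one]
    have h4 : (a : X) * y = b * y := by
      rw [← h3 _ (hpow1 a a.2), h2, h3 _ (hpow1 b b.2)]
    exact Subtype.ext (mul_right_cancel h4)
  have hmain : ∏ a : Q, ∏ i ∈ Finset.range p, ρ (((a : X) * y) ^ i) w = 1 :=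
    Finset.prod_eq_one (fun a _ => hsplit a a.2 w)
  rw [Finset.prod_comm] at hmain
  obtain ⟨p', rfl⟩ : ∃ p', p = p' + 1 := ⟨p - 1, by have := hp.pos; omega⟩
  rw [Finset.prod_range_succ'] at hmain
  have hrest : ∏ i ∈ Finset.range p', ∏ a : Q, ρ (((a : X) * y) ^ (i + 1)) w = 1 := by
    apply Finset.prod_eq_one
    intro i hi
    have hi' : i + 1 < p' + 1 := by
      have := Finset.mem_range.1 hi
      omega
    have h1 : ∀ a : Q, ρ (((a : X) * y) ^ (i + 1)) w
        = ρ ((σ (i + 1) a : Q) : X) (ρ (y ^ (i + 1)) w) := by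
      intro a
      have e : ((a : X) * y) ^ (i + 1) = ((σ (i + 1) a : Q) : X) * y ^ (i + 1) := by
        show _ = ((a : X) * y) ^ (i + 1) * (y ^ (i + 1))⁻¹ * y ^ (i + 1)
        group
      rw [e, map_mul]
      rfl
    simp_rw [h1]
    rw [(hσ (i + 1) (Nat.succ_pos i) hi').prod_comp (fun b : Q => ρ (b : X) (ρ (y ^ (i + 1)) w))]
    exact he _
  rw [hrest, one_mul] at hmain
  simp only [pow_zero, map_one, MulAut.one_apply, Finset.prod_const, Finset.card_univ] at hmain
  have h1 : orderOf w ∣ Nat.card Q := by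
    rw [Nat.card_eq_fintype_card]
    exact orderOf_dvd_of_pow_eq_one hmain
  have h2 : orderOf w ∣ Nat.card A := orderOf_dvd_natCard w
  have h3 : orderOf w ∣ 1 := by
    have := Nat.dvd_gcd h1 h2
    rwa [hcop] at this
  exact orderOf_eq_one_iff.1 (Nat.dvd_one.1 h3)

section
variable {p : ℕ} {Γ : Type u} [Group Γ] [Finite Γ] {H N : Subgroup Γ}

omit [Finite Γ] in
theorem mem_normalizer_inf' {A B : Subgroup Γ} {y : Γ}
    (hA : y ∈ Subgroup.normalizer (A : Set Γ)) (hB : y ∈ Subgroup.normalizer (B : Set Γ)) :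
    y ∈ Subgroup.normalizer ((A ⊓ B : Subgroup Γ) : Set Γ) := by
  rw [Subgroup.mem_normalizer_iff_map_conj_eq] at hA hB ⊢
  have hA' : A.map (MulAut.conj y).toMonoidHom = A := hA
  have hB' : B.map (MulAut.conj y).toMonoidHom = B := hB
  show (A ⊓ B).map (MulAut.conj y).toMonoidHom = A ⊓ B
  rw [Subgroup.map_inf _ _ _ (MulAut.conj y).injective, hA', hB']

omit [Finite Γ] in
/-- An abelian subgroup normalizes each of its subgroups. -/
theorem le_normalizer_of_comm {N T : Subgroup Γ} (hTN : T ≤ N)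
    (hc : ∀ a ∈ N, ∀ b ∈ N, a * b = b * a) : N ≤ Subgroup.normalizer (T : Set Γ) := by
  intro a ha
  rw [Subgroup.mem_normalizer_iff]
  intro n
  constructor
  · intro hn
    have h1 : a * n * a⁻¹ = n := by
      rw [hc a ha n (hTN hn)]
      group
    rw [h1]
    exact hn
  · intro hn
    have hnN : n ∈ N := by
      have e : n = a⁻¹ * (a * n * a⁻¹) * a := by group
      rw [e]
      exact N.mul_mem (N.mul_mem (N.inv_mem ha) (hTN hn)) ha
    have h1 : a * n * a⁻¹ = n := by
      rw [hc a ha n hnN]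
      group
    rw [h1] at hn
    exact hn

set_option maxHeartbeats 1000000 in
/-- Case (c): `p = r` is impossible. -/
theorem MinCE.case_c (m : MinCE p H N) [Fact p.Prime] (hr : IsPGroup p ↥N)
    (q : ℕ) [Fact q.Prime] (hqp : q ≠ p) (Q' : Sylow q ↥H)
    (hsup : N ⊔ (Q' : Subgroup ↥H).map H.subtype = H) : False := by
  haveI := m.normal
  have hp := m.prime
  have hq : q.Prime := Fact.out
  set Q : Subgroup Γ := (Q' : Subgroup ↥H).map H.subtype with hQ
  have hQH : Q ≤ H := Subgroup.map_subtype_le _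
  have hQp : IsPGroup q ↥Q := Q'.isPGroup'.map _
  obtain ⟨y, hyH, hyQ⟩ := exists_normalizing hp m.ht q Q'
  have hNnorm : ∀ g : Γ, g ∈ Subgroup.normalizer (N : Set Γ) := by
    intro g
    rw [Subgroup.normalizer_eq_top_iff.2 m.normal]
    trivial
  set C₀ : Subgroup Γ := N ⊓ Subgroup.centralizer (Q : Set Γ) with hC₀
  have hnorm : Subgroup.normalizer (C₀ : Set Γ) = ⊤ := by
    apply m.ht.eq_top_of_lt hp
    · rw [← hsup]
      apply sup_le
      · exact le_normalizer_of_comm inf_le_left m.N_comm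
      · intro g hg
        exact mem_normalizer_inf' (hNnorm g)
          (Cfsg.Agent.Lib.Helper5_CharP2.normalizer_le_normalizer_centralizer Q
            (Subgroup.le_normalizer hg))
    · intro hle
      exact hyH (hle (mem_normalizer_inf' (hNnorm y)
        (Cfsg.Agent.Lib.Helper5_CharP2.normalizer_le_normalizer_centralizer Q hyQ)))
  have hC₀n : C₀.Normal := Subgroup.normalizer_eq_top_iff.1 hnorm
  rcases m.min C₀ hC₀n inf_le_left with h0 | h0
  · letI : CommGroup ↥N :=
      { (inferInstance : Group ↥N) with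
        mul_comm := fun a b => Subtype.ext (m.N_comm a a.2 b b.2) }
    have key := comm_trivial (X := Γ) (A := ↥N) (MulAut.conjNormal) N.subtype
      N.subtype_injective (fun g w => MulAut.conjNormal_apply g w) Q y p hp hyQ ?_ ?_ ?_
    · apply m.ne_bot
      rw [eq_bot_iff]
      intro n hn
      have := key ⟨n, hn⟩
      rw [Subgroup.mem_bot]
      exact congrArg Subtype.val this
    · intro a ha w
      apply m.ht.pow
      intro hm
      apply hyH
      have := H.mul_mem (H.inv_mem (hQH ha)) (H.mul_mem (H.inv_mem (m.le w.2)) hm)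
      simpa [mul_assoc] using this
    · intro w hw
      have h1 : (w : Γ) ∈ C₀ := by
        refine ⟨w.2, Subgroup.mem_centralizer_iff.2 ?_⟩
        intro a ha
        have h2 := congrArg Subtype.val (hw a ha)
        rw [MulAut.conjNormal_apply] at h2
        calc a * (w : Γ) = (a * w * a⁻¹) * a := by group
          _ = w * a := by rw [h2]
      rw [h0, Subgroup.mem_bot] at h1
      exact Subtype.ext h1
    · obtain ⟨a, ha⟩ := IsPGroup.iff_card.1 hr
      obtain ⟨b, hb⟩ := IsPGroup.iff_card.1 hQp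
      rw [ha, hb]
      exact Nat.Coprime.pow _ _ ((Nat.coprime_primes hq hp).2 hqp)
  · apply m.not_central
    rw [← hsup]
    apply sup_le
    · intro a ha
      rw [Subgroup.mem_centralizer_iff]
      intro n hn
      exact m.N_comm n hn a ha
    · intro g hg
      rw [Subgroup.mem_centralizer_iff]
      intro n hn
      have h1 : n ∈ C₀ := by rw [h0]; exact hn
      exact (Subgroup.mem_centralizer_iff.1 h1.2 g hg).symm

end

end Cfsg.Agent.Lib.Lead_HT5
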