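import Mathlib
import Cfsg.Agent.Lib.Lead_HT5

/-!
# The Hughes–Thompson–Kegel theorem: in the configuration `HT p H`, `H` is nilpotent
-/

namespace Cfsg.Agent.Lib.Lead_HT6

open Cfsg.Agent.Lib.Lead_HT1 Cfsg.Agent.Lib.Lead_HT2 Cfsg.Agent.Lib.Lead_HT3
  Cfsg.Agent.Lib.Lead_HT4 Cfsg.Agent.Lib.Lead_HT5

universe u

set_option maxHeartbeats 1000000 in
theorem main_aux (p : ℕ) (hp : p.Prime) : ∀ n : ℕ, ∀ (Γ : Type u) [Group Γ] [Finite Γ]
    (H : Subgroup Γ), Nat.card H = n → HT p H → Group.IsNilpotent ↥H := by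
  intro n
  induction n using Nat.strong_induction_on with
  | _ n ih =>
  intro Γ _ _ H hn h
  have IH : ∀ (Γ' : Type u) [Group Γ'] [Finite Γ'] (H' : Subgroup Γ'),
      Nat.card H' < Nat.card H → HT p H' → Group.IsNilpotent ↥H' := by
    intro Γ' _ _ H' hlt h'
    exact ih (Nat.card H') (hn ▸ hlt) Γ' H' rfl h'
  by_contra hnn
  haveI := Fact.mk hp
  by_cases hHbot : H = ⊥
  · apply hnn
    rw [hHbot]
    infer_instance
  let S : Set (Subgroup Γ) := {T | T.Normal ∧ T ≤ H ∧ T ≠ ⊥}
  have hS : S.Nonempty := ⟨H, h.normal, le_rfl, hHbot⟩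
  obtain ⟨N, hNS, hNmin⟩ := WellFounded.has_min
    (InvImage.wf (fun T : Subgroup Γ => Nat.card T) Nat.lt_wfRel.wf) S hS
  obtain ⟨hNn, hNH, hNbot⟩ := hNS
  have hmin : ∀ T : Subgroup Γ, T.Normal → T ≤ N → T = ⊥ ∨ T = N := by
    intro T hTn hTN
    by_cases hT : T = ⊥
    · exact Or.inl hT
    · right
      by_contra hne
      have h1 : Nat.card T < Nat.card N := Cfsg.Agent.Lib.Lead_SZ.card_lt (lt_of_le_of_ne hTN hne)
      exact hNmin T ⟨hTn, hTN.trans hNH, hT⟩ h1
  by_cases hNeq : N = H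
  · apply hnn
    rw [hNeq] at hmin
    exact nilpotent_of_minimal hp h IH hmin
  · have m : MinCE p H N := ⟨hp, h, IH, hnn, hNn, hNH, hNbot, hmin, hNeq⟩
    obtain ⟨r, hr, hrN⟩ := m.N_pgroup
    haveI := Fact.mk hr
    by_cases hex : ∃ q, q.Prime ∧ q ≠ r ∧ q ∣ Nat.card ↥H
    · obtain ⟨q, hq, hqr, hqH⟩ := hex
      haveI := Fact.mk hq
      obtain ⟨Q'⟩ : Nonempty (Sylow q ↥H) := inferInstance
      have hsup := m.sup_sylow r hrN q hqr hqH Q'
      by_cases hpq : p = q
      · have hQp : IsPGroup p ↥((Q' : Subgroup ↥H).map H.subtype) := by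
          rw [hpq]
          exact Q'.isPGroup'.map _
        have hpr : p ≠ r := by
          rw [hpq]
          exact hqr
        exact MinCE.case_b m r hrN hpr _ hQp (Subgroup.map_subtype_le _) hsup
      · by_cases hpr : p = r
        · have hrN' : IsPGroup p ↥N := by
            rw [hpr]
            exact hrN
          have hqp : q ≠ p := by
            rw [hpr]
            exact hqr
          exact MinCE.case_c m hrN' q hqp Q' hsup
        · exact MinCE.case_a m r hrN q _ (Q'.isPGroup'.map _) hsup hpr hpq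
    · push Not at hex
      apply hnn
      have hcard : Nat.card ↥H ≠ 0 := Nat.card_pos.ne'
      have h1 := Nat.eq_prime_pow_of_unique_prime_dvd hcard (p := r) (fun {d} hd hdH => by
        by_contra hne
        exact hex d hd hne hdH)
      have h2 : IsPGroup r ↥H := IsPGroup.of_card h1
      exact h2.isNilpotent

/-- **Hughes–Thompson–Kegel**: if `H` is a normal subgroup of prime index `p` in the finite group
`Γ` and every element outside `H` has order `p`, then `H` is nilpotent. -/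
theorem main {p : ℕ} (hp : p.Prime) {Γ : Type u} [Group Γ] [Finite Γ] {H : Subgroup Γ}
    (h : HT p H) : Group.IsNilpotent ↥H :=
  main_aux p hp _ Γ H rfl h

end Cfsg.Agent.Lib.Lead_HT6
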