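import Mathlib
import Cfsg.Agent.Lib.Lead_HT6

/-!
# Splitting automorphisms of prime order (Kegel) via the Hughes–Thompson–Kegel theorem
-/

namespace Cfsg.Agent.Lib.Lead_HT7

open Cfsg.Agent.Lib.Lead_HT1 Cfsg.Agent.Lib.Lead_HT6

universe u

set_option maxHeartbeats 1000000 in
/-- If one coset `H a` outside `H` consists of elements of order dividing `p`, so does every
element outside `H`. -/
theorem ht_of_coset {p : ℕ} (hp : p.Prime) {Γ : Type u} [Group Γ] [Finite Γ] (H : Subgroup Γ)
    [hHn : H.Normal] (hidx : H.index = p) (a : Γ) (haH : a ∉ H)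
    (hpow : ∀ h ∈ H, (h * a) ^ p = 1) : HT p H := by
  refine ⟨hHn, hidx, fun w hw => ?_⟩
  haveI := Fact.mk hp
  have hcard : Nat.card (Γ ⧸ H) = p := by
    rw [← Subgroup.index_eq_card]
    exact hidx
  have hw1 : (w : Γ ⧸ H) ≠ 1 := by
    rwa [Ne, QuotientGroup.eq_one_iff]
  have htop := zpowers_eq_top_of_prime_card hcard hw1
  have hmem : (a : Γ ⧸ H) ∈ Subgroup.zpowers (w : Γ ⧸ H) := by
    rw [htop]
    trivial
  obtain ⟨k, hk⟩ := Subgroup.mem_zpowers_iff.1 hmem
  have gen : ∀ j : ℤ, (w : Γ ⧸ H) ^ j = (a : Γ ⧸ H) → (w ^ j) ^ p = 1 := by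
    intro j hj
    have h1 : w ^ j * a⁻¹ ∈ H := by
      rw [← QuotientGroup.eq_one_iff, QuotientGroup.mk_mul, QuotientGroup.mk_inv,
        QuotientGroup.mk_zpow, hj, mul_inv_cancel]
    have := hpow _ h1
    rwa [inv_mul_cancel_right] at this
  have hwp : (w : Γ ⧸ H) ^ p = 1 := by
    rw [← hcard]
    exact pow_card_eq_one'
  have h1 := gen k hk
  have h2 := gen (k + p) (by rw [zpow_add, hk, zpow_natCast, hwp, mul_one])
  have e1 : w ^ (k * p) = 1 := by
    rw [zpow_mul, zpow_natCast]
    exact h1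
  have e2 : w ^ ((p : ℤ) * p) = 1 := by
    have h3 : w ^ ((k + p) * p) = 1 := by
      rw [zpow_mul, zpow_natCast]
      exact h2
    rw [add_mul, zpow_add, e1, one_mul] at h3
    exact h3
  have hdvd : ¬ (p : ℤ) ∣ k := by
    rintro ⟨c, rfl⟩
    apply haH
    rw [← QuotientGroup.eq_one_iff, ← hk, zpow_mul, zpow_natCast, hwp, one_zpow]
  have hcop : IsCoprime k (p : ℤ) := by
    refine (Int.isCoprime_iff_gcd_eq_one).2 ?_
    have h3 : Int.gcd k p ∣ p := Int.gcd_dvd_natAbs_right k p
    rcases (Nat.dvd_prime hp).1 h3 with h4 | h4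
    · exact h4
    · exfalso
      apply hdvd
      have h5 : ((Int.gcd k p : ℕ) : ℤ) ∣ k := Int.gcd_dvd_left k p
      rwa [h4] at h5
  obtain ⟨u, v, huv⟩ := hcop
  calc w ^ p = w ^ (p : ℤ) := (zpow_natCast w p).symm
    _ = w ^ ((u * k + v * p) * p) := by rw [huv, one_mul]
    _ = (w ^ (k * p)) ^ u * (w ^ ((p : ℤ) * p)) ^ v := by
      rw [← zpow_mul, ← zpow_mul, ← zpow_add]
      congr 1
      ring
    _ = 1 := by rw [e1, e2, one_zpow, one_zpow, one_mul]

theorem sdp_pow {N A : Type*} [Group N] [Group A] (φ : A →* MulAut N) (g : N) (β : A) (n : ℕ) :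
    ((⟨g, β⟩ : N ⋊[φ] A)) ^ n
      = ⟨((List.range n).map (fun i : ℕ => (φ (β ^ i)) g)).prod, β ^ n⟩ := by
  induction n with
  | zero =>
    apply SemidirectProduct.ext <;> simp
  | succ n ih =>
    rw [pow_succ, ih]
    apply SemidirectProduct.ext
    · rw [SemidirectProduct.mul_left, List.range_succ, List.map_append, List.prod_append]
      simp
    · rw [SemidirectProduct.mul_right, pow_succ]

set_option maxHeartbeats 1000000 in
/-- Kegel: a finite group with a splitting automorphism of prime order is nilpotent. -/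
theorem splitting_nilpotent {G : Type u} [Group G] [Finite G] (α : MulAut G)
    (hp : (orderOf α).Prime)
    (hsplit : ∀ x : G, (((List.range (orderOf α)).map (fun i : ℕ => (α ^ i) x)).prod = 1)) :
    Group.IsNilpotent G := by
  set p := orderOf α with hpdef
  let A : Subgroup (MulAut G) := Subgroup.zpowers α
  let φ : ↥A →* MulAut G := A.subtype
  haveI : Finite (G ⋊[φ] ↥A) := Finite.of_equiv _ SemidirectProduct.equivProd.symm
  let H : Subgroup (G ⋊[φ] ↥A) := (SemidirectProduct.inl : G →* G ⋊[φ] ↥A).range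
  have hHker : H = (SemidirectProduct.rightHom : G ⋊[φ] ↥A →* ↥A).ker :=
    SemidirectProduct.range_inl_eq_ker_rightHom
  haveI hHn : H.Normal := by
    rw [hHker]
    infer_instance
  have hidx : H.index = p := by
    rw [hHker, Subgroup.index_ker,
      MonoidHom.range_eq_top.2 SemidirectProduct.rightHom_surjective, Subgroup.card_top]
    exact Nat.card_zpowers α
  let β : ↥A := ⟨α, Subgroup.mem_zpowers α⟩
  have hβ1 : β ≠ 1 := by
    intro h1
    have h2 : α = 1 := congrArg Subtype.val h1
    rw [hpdef, h2, orderOf_one] at hp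
    exact Nat.not_prime_one hp
  have hβp : β ^ p = 1 := by
    apply Subtype.ext
    rw [Subgroup.coe_pow, Subgroup.coe_one]
    exact pow_orderOf_eq_one α
  have haH : (SemidirectProduct.inr β : G ⋊[φ] ↥A) ∉ H := by
    rw [hHker, MonoidHom.mem_ker, SemidirectProduct.rightHom_inr]
    exact hβ1
  have hpow : ∀ h ∈ H, (h * (SemidirectProduct.inr β : G ⋊[φ] ↥A)) ^ p = 1 := by
    rintro _ ⟨g, rfl⟩
    have e : (SemidirectProduct.inl g * SemidirectProduct.inr β : G ⋊[φ] ↥A) = ⟨g, β⟩ := by
      apply SemidirectProduct.ext <;> simp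
    rw [e, sdp_pow]
    apply SemidirectProduct.ext
    · simp only [SemidirectProduct.one_left]
      have := hsplit g
      convert this using 3
      funext i
      show (((β ^ i : ↥A) : MulAut G)) g = (α ^ i) g
      rw [Subgroup.coe_pow]
    · simp only [SemidirectProduct.one_right]
      exact hβp
  have hHT := ht_of_coset hp H hidx _ haH hpow
  haveI := main hp hHT
  let f : G →* ↥H := (SemidirectProduct.inl : G →* G ⋊[φ] ↥A).rangeRestrict
  have hf : Function.Injective f := by
    intro x y hxy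
    have := congrArg Subtype.val hxy
    exact SemidirectProduct.inl_injective this
  exact Subgroup.isNilpotent_of_ker_le_center f
    (by rw [(MonoidHom.ker_eq_bot_iff f).2 hf]; exact bot_le)

end Cfsg.Agent.Lib.Lead_HT7
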