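import Mathlib
import Cfsg.Agent.Lib.Lead_HT6

/-!
# The Hughes subgroup of a non-`p`-group (Hughes–Thompson–Kegel)
-/

namespace Cfsg.Agent.Lib.Lead_HT8

open Cfsg.Agent.Lib.Lead_HT1 Cfsg.Agent.Lib.Lead_HT6

universe u

theorem pow_of_commute' {Γ : Type*} [Group Γ] {p : ℕ} (K : Subgroup Γ)
    (hpow : ∀ g, g ∉ K → g ^ p = 1) {x n : Γ} (hx : x ∉ K) (hn : n ∈ K)
    (hc : x * n = n * x) : n ^ p = 1 := by
  have h1 : x * n ∉ K := fun hm => hx (by
    have := K.mul_mem hm (K.inv_mem hn)
    simpa using this)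
  have h2 := hpow _ h1
  have hc' : Commute x n := hc
  rw [hc'.mul_pow, hpow x hx, one_mul] at h2
  exact h2

set_option maxHeartbeats 1000000 in
/-- The `p'`-case: a nontrivial normal `p'`-subgroup `K` outside which all elements have order
`p` cannot have index divisible by `p ^ 2`. -/
theorem hughes_index_aux {G : Type u} [Group G] [Finite G] (p : ℕ) [Fact p.Prime]
    (K : Subgroup G) [hKn : K.Normal] (hpow : ∀ g, g ∉ K → g ^ p = 1)
    (hKp : ¬ p ∣ Nat.card K) (hK : K ≠ ⊥) (hidx : p ^ 2 ∣ K.index) : False := by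
  have hp : p.Prime := Fact.out
  obtain ⟨R⟩ : Nonempty (Sylow p G) := inferInstance
  have hRc := R.card_eq_multiplicity
  have hRcard : p ^ 2 ∣ Nat.card R := by
    rw [hRc]
    apply pow_dvd_pow
    exact (hp.pow_dvd_iff_le_factorization Nat.card_pos.ne').1
      (hidx.trans (Subgroup.index_dvd_card K))
  have hcop : (Nat.card R).Coprime (Nat.card K) := by
    rw [hRc]
    exact Nat.Coprime.pow_left _ ((Nat.Prime.coprime_iff_not_dvd hp).2 hKp)
  have hdisj : (R : Subgroup G) ⊓ K = ⊥ := Subgroup.inf_eq_bot_of_coprime hcop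
  have hout : ∀ g ∈ R, g ≠ 1 → g ∉ K := by
    intro g hgR hg1 hgK
    apply hg1
    have : g ∈ (R : Subgroup G) ⊓ K := ⟨hgR, hgK⟩
    rwa [hdisj, Subgroup.mem_bot] at this
  have hfix : ∀ g ∈ R, g ≠ 1 → ∀ n ∈ K, g * n = n * g → n = 1 := by
    intro g hgR hg1 n hn hc
    have h1 := pow_of_commute' K hpow (hout g hgR hg1) hn hc
    have h2 : orderOf n ∣ p := orderOf_dvd_of_pow_eq_one h1
    rcases (Nat.dvd_prime hp).1 h2 with h3 | h3
    · exact orderOf_eq_one_iff.1 h3
    · exfalso
      apply hKp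
      rw [← h3]
      have h4 : orderOf (⟨n, hn⟩ : ↥K) ∣ Nat.card K := orderOf_dvd_natCard _
      rwa [← Subgroup.orderOf_coe] at h4
  have hp2 : 1 < p ^ 2 := Nat.one_lt_pow (by norm_num) hp.one_lt
  haveI : Nontrivial ↥(R : Subgroup G) := by
    rw [← Finite.one_lt_card_iff_nontrivial]
    exact lt_of_lt_of_le hp2 (Nat.le_of_dvd Nat.card_pos hRcard)
  haveI := R.isPGroup'.center_nontrivial
  have hcz : p ∣ Nat.card ↥(Subgroup.center ↥(R : Subgroup G)) := by
    have hZp : IsPGroup p ↥(Subgroup.center ↥(R : Subgroup G)) := R.isPGroup'.to_subgroup _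
    rcases hZp.card_eq_or_dvd with h1 | h1
    · exfalso
      have := Finite.one_lt_card (α := ↥(Subgroup.center ↥(R : Subgroup G)))
      omega
    · exact h1
  obtain ⟨z0, hz0⟩ :=
    exists_prime_orderOf_dvd_card' (G := ↥(Subgroup.center ↥(R : Subgroup G))) p hcz
  set z : G := ((z0 : ↥(R : Subgroup G)) : G) with hz
  have hzo : orderOf z = p := by
    rw [hz, Subgroup.orderOf_coe, Subgroup.orderOf_coe, hz0]
  have hzRm : z ∈ R := (z0 : ↥(R : Subgroup G)).2
  have hzR : ∀ g ∈ R, g * z = z * g := by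
    intro g hg
    have h1 := Subgroup.mem_center_iff.1 z0.2 ⟨g, hg⟩
    exact congrArg Subtype.val h1
  have hzp : z ^ p = 1 := by
    rw [← hzo]
    exact pow_orderOf_eq_one z
  obtain ⟨y, hyR, hyz⟩ : ∃ y ∈ R, y ∉ Subgroup.zpowers z := by
    by_contra hcon
    push Not at hcon
    have hle : (R : Subgroup G) ≤ Subgroup.zpowers z := hcon
    have h1 := Subgroup.card_dvd_of_le hle
    rw [Nat.card_zpowers, hzo] at h1
    have h2 := hRcard.trans h1
    have h3 := Nat.le_of_dvd hp.pos h2
    have : p < p ^ 2 := by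
      calc p = p ^ 1 := (pow_one p).symm
        _ < p ^ 2 := Nat.pow_lt_pow_right hp.one_lt (by norm_num)
    omega
  have hy1 : y ≠ 1 := fun h => hyz (h ▸ Subgroup.one_mem _)
  have hyp : y ^ p = 1 := hpow y (hout y hyR hy1)
  haveI : Group.IsNilpotent ↥(R : Subgroup G) := R.isPGroup'.isNilpotent
  have hsolv : Group.IsSolvable ↥(R : Subgroup G) := inferInstance
  have hKb : K ≤ ⊥ := by
    refine Cfsg.Agent.Lib.Helper5_CoprimeGen.gen_of_rank_two (R : Subgroup G) K ?_ hcop
      (Or.inl hsolv) p hKp y z hyR hzRm (hzR y hyR) hyp hzp ⊥ ?_ ?_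
    · rw [Subgroup.normalizer_eq_top_iff.2 hKn]
      exact le_top
    · rintro j n ⟨hnK, hnc⟩
      rw [Subgroup.mem_bot]
      refine hfix (y * z ^ j) (Subgroup.mul_mem _ hyR (Subgroup.pow_mem _ hzRm j)) ?_ n hnK
        (Subgroup.mem_centralizer_singleton_iff.1 hnc).symm
      intro h1
      apply hyz
      have h2 : y = (z ^ j)⁻¹ := eq_inv_of_mul_eq_one_left h1
      rw [h2]
      exact Subgroup.inv_mem _ (Subgroup.pow_mem _ (Subgroup.mem_zpowers z) j)
    · rintro i hi0 hip n ⟨hnK, hnc⟩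
      rw [Subgroup.mem_bot]
      refine hfix (z ^ i) (Subgroup.pow_mem _ hzRm i) ?_ n hnK
        (Subgroup.mem_centralizer_singleton_iff.1 hnc).symm
      exact pow_ne_one_of_lt_orderOf hi0.ne' (by rw [hzo]; exact hip)
  exact hK (le_bot_iff.1 hKb)

set_option maxHeartbeats 1000000 in
/-- A nilpotent normal subgroup `K`, not a `p`-group, outside which all elements have order `p`,
cannot have index divisible by `p ^ 2`. -/
theorem hughes_index {G : Type u} [Group G] [Finite G] (p : ℕ) [Fact p.Prime]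
    (K : Subgroup G) [hKn : K.Normal] (hpow : ∀ g, g ∉ K → g ^ p = 1)
    (hnil : Group.IsNilpotent ↥K) (hKp : ¬ IsPGroup p ↥K) (hidx : p ^ 2 ∣ K.index) : False := by
  have hp : p.Prime := Fact.out
  obtain ⟨S⟩ : Nonempty (Sylow p ↥K) := inferInstance
  have htfae : Group.IsNilpotent ↥K ↔
      ∀ (p : ℕ) (_hp : Fact p.Prime) (P : Sylow p ↥K), (P : Subgroup ↥K).Normal :=
    (Group.isNilpotent_of_finite_tfae (G := ↥K)).out 0 3
  have hSn : (S : Subgroup ↥K).Normal := htfae.1 hnil p inferInstance S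
  haveI := Sylow.characteristic_of_normal S hSn
  set P₀ : Subgroup G := (S : Subgroup ↥K).map K.subtype with hP₀
  haveI hP₀n : P₀.Normal := normal_map_of_char K (S : Subgroup ↥K)
  have hP₀K : P₀ ≤ K := Subgroup.map_subtype_le _
  have hP₀c : Nat.card P₀ = p ^ (Nat.card ↥K).factorization p := by
    rw [hP₀, Subgroup.card_map_of_injective K.subtype_injective]
    exact S.card_eq_multiplicity
  have hmul := Cfsg.Agent.Lib.Lead_SZ.card_map_of_le P₀ K hP₀K
  haveI hKbn : (K.map (QuotientGroup.mk' P₀)).Normal :=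
    Subgroup.Normal.map hKn _ (QuotientGroup.mk'_surjective P₀)
  apply hughes_index_aux p (K.map (QuotientGroup.mk' P₀))
  · intro g hg
    obtain ⟨x, rfl⟩ := QuotientGroup.mk'_surjective P₀ g
    rw [← map_pow, hpow x, map_one]
    intro hx
    exact hg ⟨x, hx, rfl⟩
  · intro hd
    obtain ⟨c, hc⟩ := hd
    rw [hc, hP₀c] at hmul
    apply Nat.pow_succ_factorization_not_dvd (n := Nat.card ↥K) Nat.card_pos.ne' hp
    refine ⟨c, ?_⟩
    generalize (Nat.card ↥K).factorization p = f at hmul ⊢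
    rw [← hmul, pow_succ]
    ring
  · intro hbot
    rw [hbot, Subgroup.card_bot, one_mul, hP₀c] at hmul
    exact hKp (IsPGroup.of_card hmul.symm)
  · rw [Subgroup.index_map_eq _ (QuotientGroup.mk'_surjective P₀)
      (by rw [QuotientGroup.ker_mk']; exact hP₀K)]
    exact hidx

set_option maxHeartbeats 1000000 in
/-- Hughes–Thompson–Kegel for non-`p`-groups: a proper Hughes subgroup is nilpotent of index
`p`. -/
theorem hughes {G : Type u} [Group G] [Finite G] (p : ℕ) (hp : p.Prime) (hG : ¬ IsPGroup p G)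
    (hH : Subgroup.closure {g : G | g ^ p ≠ 1} ≠ ⊤) :
    Group.IsNilpotent (Subgroup.closure {g : G | g ^ p ≠ 1}) ∧
      (Subgroup.closure {g : G | g ^ p ≠ 1}).index = p := by
  haveI := Fact.mk hp
  set K : Subgroup G := Subgroup.closure {g : G | g ^ p ≠ 1} with hK
  have hpow : ∀ g, g ∉ K → g ^ p = 1 := by
    intro g hg
    by_contra h
    exact hg (Subgroup.subset_closure h)
  haveI hKn : K.Normal := by
    constructor
    intro n hn c
    induction hn using Subgroup.closure_induction with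
    | mem x hx =>
      apply Subgroup.subset_closure
      show (c * x * c⁻¹) ^ p ≠ 1
      rw [conj_pow]
      intro h
      apply hx
      have h2 : x ^ p = c⁻¹ * (c * x ^ p * c⁻¹) * c := by group
      rw [h2, h]
      group
    | one =>
      have : c * 1 * c⁻¹ = 1 := by group
      rw [this]
      exact K.one_mem
    | mul x y _ _ ihx ihy =>
      have : c * (x * y) * c⁻¹ = (c * x * c⁻¹) * (c * y * c⁻¹) := by group
      rw [this]
      exact K.mul_mem ihx ihy
    | inv x _ ih =>
      have : c * x⁻¹ * c⁻¹ = (c * x * c⁻¹)⁻¹ := by group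
      rw [this]
      exact K.inv_mem ih
  have hQp : IsPGroup p (G ⧸ K) := by
    intro x
    obtain ⟨g, rfl⟩ := QuotientGroup.mk_surjective x
    refine ⟨1, ?_⟩
    rw [pow_one, ← QuotientGroup.mk_pow]
    by_cases hg : g ∈ K
    · have h1 : (g : G ⧸ K) = 1 := (QuotientGroup.eq_one_iff g).2 hg
      rw [QuotientGroup.mk_pow, h1, one_pow]
    · rw [hpow g hg]
      rfl
  obtain ⟨a, ha⟩ := IsPGroup.iff_card.1 hQp
  have hidx : K.index = p ^ a := by
    rw [Subgroup.index_eq_card]
    exact ha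
  obtain ⟨y, hyK⟩ : ∃ y, y ∉ K := by
    by_contra hcon
    push Not at hcon
    exact hH (eq_top_iff.2 fun x _ => hcon x)
  have hy1 : y ≠ 1 := fun h => hyK (h ▸ K.one_mem)
  have hyp : y ^ p = 1 := hpow y hyK
  set L : Subgroup G := K ⊔ Subgroup.zpowers y with hL
  have hKL : K ≤ L := le_sup_left
  have hrel : K.relIndex L = p := by
    rw [hL, Subgroup.relIndex_sup_left]
    have h1 : K.relIndex (Subgroup.zpowers y) ∣ p := by
      have := Subgroup.relIndex_dvd_card K (Subgroup.zpowers y)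
      rwa [Nat.card_zpowers, orderOf_eq_prime hyp hy1] at this
    rcases (Nat.dvd_prime hp).1 h1 with h2 | h2
    · exfalso
      apply hyK
      exact (Subgroup.relIndex_eq_one.1 h2) (Subgroup.mem_zpowers y)
    · exact h2
  have hHT : HT p (K.subgroupOf L) := by
    refine ⟨Subgroup.normal_subgroupOf, hrel, fun g hg => ?_⟩
    apply Subtype.ext
    rw [Subgroup.coe_pow, Subgroup.coe_one]
    apply hpow
    intro h
    exact hg (Subgroup.mem_subgroupOf.2 h)
  haveI := main hp hHT
  have hnil : Group.IsNilpotent ↥K := by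
    let f : ↥K →* ↥(K.subgroupOf L) := (Subgroup.subgroupOfEquivOfLe hKL).symm.toMonoidHom
    have hf : Function.Injective f := (Subgroup.subgroupOfEquivOfLe hKL).symm.injective
    exact Subgroup.isNilpotent_of_ker_le_center f
      (by rw [(MonoidHom.ker_eq_bot_iff f).2 hf]; exact bot_le)
  refine ⟨hnil, ?_⟩
  have hKp : ¬ IsPGroup p ↥K := by
    intro hK'
    apply hG
    intro g
    by_cases hg : g ∈ K
    · obtain ⟨k, hk⟩ := hK' ⟨g, hg⟩
      refine ⟨k, ?_⟩
      have := congrArg Subtype.val hk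
      simpa using this
    · exact ⟨1, by rw [pow_one]; exact hpow g hg⟩
  rw [hidx]
  rcases a with _ | _ | a
  · exfalso
    apply hH
    rw [pow_zero] at hidx
    exact Subgroup.index_eq_one.1 hidx
  · rw [zero_add, pow_one]
  · exfalso
    apply hughes_index p K hpow hnil hKp
    rw [hidx]
    exact pow_dvd_pow p (by omega)

end Cfsg.Agent.Lib.Lead_HT8
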