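import Mathlib
import Cfsg.Agent.Lib.Lead_Hall
import Cfsg.Agent.Lib.Helper1_MinNormal

/-! Counting Hall subgroups of solvable groups: preliminaries. -/

namespace Cfsg.Agent.LeadHallCount

open Cfsg.Agent.Lib.Lead_SZ Cfsg.Agent.Lib.Lead_Hall
open scoped Pointwise

universe u

variable {G : Type u} [Group G]

theorem relIndex_sup_normal' [Finite G] (H N : Subgroup G) [N.Normal] :
    H.relIndex (H ⊔ N) = H.relIndex N := by
  have h1 := Subgroup.relIndex_mul_relIndex (H ⊓ N) H (H ⊔ N) inf_le_left le_sup_left
  have h2 := Subgroup.relIndex_mul_relIndex (H ⊓ N) N (H ⊔ N) inf_le_right le_sup_right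
  rw [Subgroup.inf_relIndex_left] at h1
  rw [Subgroup.inf_relIndex_right, Subgroup.relIndex_sup_right] at h2
  have h0 : 0 < N.relIndex H := Nat.pos_of_ne_zero Subgroup.index_ne_zero_of_finite
  have : N.relIndex H * H.relIndex (H ⊔ N) = N.relIndex H * H.relIndex N := by
    rw [h1, ← h2, mul_comm]
  exact Nat.eq_of_mul_eq_mul_left h0 this

theorem exists_min_normal [Finite G] [Nontrivial G] :
    ∃ N : Subgroup G, N.Normal ∧ N ≠ ⊥ ∧ ∀ K : Subgroup G, K.Normal → K ≤ N → K = ⊥ ∨ K = N := by
  classical
  have hex : ∃ c, ∃ N : Subgroup G, N.Normal ∧ N ≠ ⊥ ∧ Nat.card N = c :=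
    ⟨_, ⊤, inferInstance, top_ne_bot, rfl⟩
  obtain ⟨N, hNn, hNb, hNc⟩ := Nat.find_spec hex
  refine ⟨N, hNn, hNb, fun K hK hKN => ?_⟩
  by_contra hcon
  push_neg at hcon
  have hlt : Nat.card K < Nat.card N := card_lt (lt_of_le_of_ne hKN hcon.2)
  rw [hNc] at hlt
  exact Nat.find_min hex hlt ⟨K, hK, hcon.1, rfl⟩

/-- The number of subgroups of order `m`, when they are all conjugate. -/
theorem card_eq_index_normalizer [Finite G] (m : ℕ) (H0 : Subgroup G) (h0 : Nat.card H0 = m)
    (hconj : ∀ K : Subgroup G, Nat.card K = m → ∃ g : G, MulAut.conj g • H0 = K) :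
    Nat.card {H : Subgroup G // Nat.card H = m} = (Subgroup.normalizer (H0 : Set G)).index := by
  letI : MulAction G (Subgroup G) :=
    MulAction.compHom (Subgroup G) (MulAut.conj : G →* MulAut G)
  have hsm : ∀ (g : G) (K : Subgroup G), g • K = MulAut.conj g • K := fun g K => rfl
  have hst : MulAction.stabilizer G H0 = Subgroup.normalizer (H0 : Set G) := by
    ext g
    rw [MulAction.mem_stabilizer_iff, conj_smul_le_normalizer, hsm]
  rw [← hst, MulAction.index_stabilizer, ← Nat.card_coe_set_eq]
  apply Nat.card_congr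
  refine Equiv.subtypeEquivRight ?_
  intro K
  rw [MulAction.mem_orbit_iff]
  constructor
  · intro hK
    obtain ⟨g, hg⟩ := hconj K hK
    exact ⟨g, by rw [hsm]; exact hg⟩
  · rintro ⟨g, hg⟩
    rw [← hg, hsm, card_conj_smul, h0]

theorem conj_of_subgroupOf {T H K : Subgroup G} (hH : H ≤ T) (hK : K ≤ T) (t : T)
    (h : MulAut.conj t • H.subgroupOf T = K.subgroupOf T) : MulAut.conj (t : G) • H = K := by
  ext x
  rw [mem_conj_smul]
  constructor
  · intro hx
    have hxT : x ∈ T := by
      have := T.mul_mem (T.mul_mem t.2 (hH hx)) (T.inv_mem t.2)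
      simpa [mul_assoc] using this
    have h1 : (⟨x, hxT⟩ : T) ∈ MulAut.conj t • H.subgroupOf T := by
      rw [mem_conj_smul, Subgroup.mem_subgroupOf]
      simpa using hx
    rw [h, Subgroup.mem_subgroupOf] at h1
    exact h1
  · intro hx
    have hxT := hK hx
    have h1 : (⟨x, hxT⟩ : T) ∈ K.subgroupOf T := Subgroup.mem_subgroupOf.2 hx
    rw [← h, mem_conj_smul, Subgroup.mem_subgroupOf] at h1
    simpa using h1

/-- Fixed points of an element of `q`-power order acting on a subgroup. -/
theorem card_modEq_fixed [Finite G] (W : Subgroup G) (x : G) (q : ℕ) [Fact q.Prime]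
    (hnorm : ∀ w ∈ W, x * w * x⁻¹ ∈ W) (hq : ∀ w ∈ W, x ^ q * w = w * x ^ q) :
    Nat.card W ≡ Nat.card (W ⊓ Subgroup.centralizer {x} : Subgroup G) [MOD q] := by
  classical
  haveI : Fintype W := Fintype.ofFinite W
  let f : Function.End W := fun w => ⟨x * w.1 * x⁻¹, hnorm w.1 w.2⟩
  have hpow : ∀ k : ℕ, ∀ w : W, ((f ^ k) w).1 = x ^ k * w.1 * (x ^ k)⁻¹ := by
    intro k
    induction k with
    | zero =>
      intro w
      rw [pow_zero]
      show w.1 = _
      simp
    | succ k ih =>
      intro w
      rw [pow_succ']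
      show x * ((f ^ k) w).1 * x⁻¹ = _
      rw [ih w, pow_succ']
      group
  have hf : f ^ q ^ 1 = 1 := by
    rw [pow_one]
    funext w
    apply Subtype.ext
    show ((f ^ q) w).1 = w.1
    rw [hpow, hq w.1 w.2]
    simp
  haveI : Fintype (Function.fixedPoints f) := Fintype.ofFinite _
  have h := Equiv.Perm.card_fixedPoints_modEq (f := f) (p := q) (n := 1) hf
  have e : Function.fixedPoints f ≃ (W ⊓ Subgroup.centralizer {x} : Subgroup G) :=
    { toFun := fun w => ⟨w.1.1, Subgroup.mem_inf.2 ⟨w.1.2, by
        show w.1.1 ∈ Subgroup.centralizer {x}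
        rw [Subgroup.mem_centralizer_iff]
        intro y hy
        rw [Set.mem_singleton_iff] at hy
        subst hy
        have h1 : f w.1 = w.1 := w.2
        have h2 : y * w.1.1 * y⁻¹ = w.1.1 := congrArg Subtype.val h1
        exact mul_inv_eq_iff_eq_mul.1 h2⟩⟩
      invFun := fun w => ⟨⟨w.1, (Subgroup.mem_inf.1 w.2).1⟩, by
        show f _ = _
        apply Subtype.ext
        show x * w.1 * x⁻¹ = w.1
        have h1 := (Subgroup.mem_centralizer_iff.1 (Subgroup.mem_inf.1 w.2).2) x
          (Set.mem_singleton x)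
        exact mul_inv_eq_iff_eq_mul.2 h1⟩
      left_inv := fun w => rfl
      right_inv := fun w => rfl }
  rw [Nat.card_eq_fintype_card, ← Nat.card_congr e, Nat.card_eq_fintype_card]
  convert h

theorem exists_prime_index_of_comm' {A : Type*} [CommGroup A] [Finite A] [Nontrivial A] :
    ∃ K : Subgroup A, K.index.Prime := by
  obtain ⟨K, hK⟩ : ∃ K : Subgroup A, IsCoatom K := by
    rcases IsCoatomic.eq_top_or_exists_le_coatom (⊥ : Subgroup A) with h | ⟨K, hK, -⟩
    · exact absurd h bot_ne_top
    · exact ⟨K, hK⟩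
  refine ⟨K, ?_⟩
  have hsimple : IsSimpleGroup (A ⧸ K) := by
    haveI : Nontrivial (A ⧸ K) := by
      have h1 : 1 < K.index := Subgroup.one_lt_index_of_ne_top hK.1
      rw [Subgroup.index] at h1
      exact (Finite.one_lt_card_iff_nontrivial).mp h1
    constructor
    intro H _
    have h1 : K ≤ H.comap (QuotientGroup.mk' K) := by
      intro x hx
      rw [Subgroup.mem_comap]
      have : QuotientGroup.mk' K x = 1 := (QuotientGroup.eq_one_iff x).mpr hx
      rw [this]; exact H.one_mem
    rcases eq_or_lt_of_le h1 with h | h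
    · left
      have := Subgroup.map_comap_eq_self_of_surjective (QuotientGroup.mk'_surjective K) H
      rw [← this, ← h]
      exact (QuotientGroup.map_mk'_self K)
    · right
      have htop := hK.2 _ h
      have := Subgroup.map_comap_eq_self_of_surjective (QuotientGroup.mk'_surjective K) H
      rw [← this, htop]
      exact Subgroup.map_top_of_surjective _ (QuotientGroup.mk'_surjective K)
  exact (CommGroup.is_simple_iff_prime_card).mp hsimple

theorem exists_normal_prime_index' {G : Type*} [Group G] [Finite G] [Nontrivial G]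
    [h : Group.IsSolvable G] : ∃ M : Subgroup G, M.Normal ∧ M.index.Prime := by
  have hlt : commutator G < ⊤ := Group.IsSolvable.commutator_lt_top_of_nontrivial G
  have hsurj : Function.Surjective (Abelianization.of (G := G)) := by
    intro x
    induction x using Quot.inductionOn with
    | h a => exact ⟨a, rfl⟩
  haveI : Nontrivial (Abelianization G) := by
    by_contra hnt
    rw [not_nontrivial_iff_subsingleton] at hnt
    apply hlt.ne
    rw [← Abelianization.ker_of, MonoidHom.ker_eq_top_iff]
    ext x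
    exact Subsingleton.elim _ _
  obtain ⟨K, hK⟩ := exists_prime_index_of_comm' (A := Abelianization G)
  refine ⟨K.comap Abelianization.of, inferInstance, ?_⟩
  rw [Subgroup.index_comap_of_surjective _ hsurj]
  exact hK

end Cfsg.Agent.LeadHallCount
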