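import Mathlib
import Cfsg.Agent.Lib.Lead_HallCount1

/-! Counting Hall subgroups of solvable groups: the factor `|N : C_N(H)|`. -/

namespace Cfsg.Agent.LeadHallCount

open Cfsg.Agent.Lib.Lead_SZ Cfsg.Agent.Lib.Lead_Hall
open scoped Pointwise

universe u

variable {G : Type u} [Group G]

/-- `C_N(X)` -/
abbrev CN (N X : Subgroup G) : Subgroup G := N ⊓ Subgroup.centralizer (X : Set G)

theorem cent_factor [Finite G] [Group.IsSolvable G] (N : Subgroup G) [hNn : N.Normal] (p : ℕ)
    (hp : p.Prime) (hN : ∃ d, Nat.card N = p ^ d) :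
    ∀ (c : ℕ) (X : Subgroup G), Nat.card X = c → ¬ p ∣ Nat.card X →
    ∃ l : List ℕ, (CN N X).relIndex N = l.prod ∧
      ∀ x ∈ l, x ∣ Nat.card N ∧ ∃ q : ℕ, q.Prime ∧ q ∣ Nat.card X ∧ x ≡ 1 [MOD q] := by
  intro c
  induction c using Nat.strong_induction_on with
  | _ c ih =>
    intro X hXc hpX
    by_cases hX1 : X = ⊥
    · refine ⟨[], ?_, by simp⟩
      subst hX1
      have h1 : CN N (⊥ : Subgroup G) = N := by
        apply le_antisymm inf_le_left
        refine le_inf le_rfl ?_
        intro n _
        rw [Subgroup.mem_centralizer_iff]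
        intro y hy
        have : y = 1 := Subgroup.mem_bot.1 hy
        rw [this]; simp
      rw [h1, Subgroup.relIndex_self]; rfl
    · haveI : Nontrivial X := (Subgroup.nontrivial_iff_ne_bot X).2 hX1
      obtain ⟨M, hMn, hMq⟩ := exists_normal_prime_index' (G := X)
      obtain ⟨q, hqdef⟩ : ∃ q, q = M.index := ⟨_, rfl⟩
      rw [← hqdef] at hMq
      haveI : Fact q.Prime := ⟨hMq⟩
      obtain ⟨Y, hY⟩ : ∃ Y : Subgroup G, Y = M.map X.subtype := ⟨_, rfl⟩
      have hYX : Y ≤ X := by rw [hY]; exact Subgroup.map_subtype_le M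
      have hYc : Nat.card Y = Nat.card M := by
        rw [hY]; exact Subgroup.card_map_of_injective X.subtype_injective
      have hcard : Nat.card Y * q = Nat.card X := by
        rw [hYc, hqdef]; exact M.card_mul_index
      have hqX : q ∣ Nat.card X := Dvd.intro_left _ hcard
      have hYdvd : Nat.card Y ∣ Nat.card X := Dvd.intro _ hcard
      have hYpos : 0 < Nat.card Y := Nat.card_pos
      have hYlt : Nat.card Y < c := by
        rw [← hXc, ← hcard]
        have := hMq.two_le
        nlinarith
      have hpY : ¬ p ∣ Nat.card Y := fun h => hpX (h.trans hYdvd)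
      obtain ⟨l1, hl1, hl1c⟩ := ih _ hYlt Y rfl hpY
      have hnormY : ∀ x ∈ X, ∀ y ∈ Y, x * y * x⁻¹ ∈ Y := by
        intro x hx y hy
        rw [hY] at hy ⊢
        obtain ⟨y', hy', rfl⟩ := hy
        exact ⟨⟨x, hx⟩ * y' * ⟨x, hx⟩⁻¹, hMn.conj_mem y' hy' ⟨x, hx⟩, by simp⟩
      have hMtop : M ≠ ⊤ := by
        intro h
        rw [hqdef, h, Subgroup.index_top] at hMq
        exact Nat.not_prime_one hMq
      obtain ⟨x0', hx0'⟩ : ∃ x0' : X, x0' ∉ M := by
        by_contra hcon
        push_neg at hcon
        exact hMtop ((Subgroup.eq_top_iff' M).2 hcon)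
      obtain ⟨x0, hx0def⟩ : ∃ x0 : G, x0 = x0'.1 := ⟨_, rfl⟩
      have hx0X : x0 ∈ X := by rw [hx0def]; exact x0'.2
      have hx0Y : x0 ∉ Y := by
        rw [hY]
        rintro ⟨y', hy', hy⟩
        have : y' = x0' := Subtype.ext (by rw [← hx0def]; exact hy)
        exact hx0' (this ▸ hy')
      have hx0q : x0 ^ q ∈ Y := by
        rw [hY, hqdef]
        exact ⟨x0' ^ M.index, M.pow_index_mem x0', by rw [hx0def]; simp⟩
      have hsup : Y ⊔ Subgroup.zpowers x0 = X := by
        have hle : Y ⊔ Subgroup.zpowers x0 ≤ X := sup_le hYX ((Subgroup.zpowers_le).2 hx0X)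
        apply eq_of_le_of_card_eq hle
        have hYlt' : Y < Y ⊔ Subgroup.zpowers x0 := by
          refine lt_of_le_of_ne le_sup_left ?_
          intro h
          apply hx0Y
          rw [h]
          exact (le_sup_right : Subgroup.zpowers x0 ≤ _) (Subgroup.mem_zpowers x0)
        obtain ⟨t, ht⟩ := Subgroup.card_dvd_of_le (le_sup_left : Y ≤ Y ⊔ Subgroup.zpowers x0)
        have h2 : Nat.card (Y ⊔ Subgroup.zpowers x0 : Subgroup G) ∣ Nat.card X :=
          Subgroup.card_dvd_of_le hle
        rw [ht, ← hcard] at h2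
        have h3 : t ∣ q := Nat.dvd_of_mul_dvd_mul_left hYpos h2
        rcases (Nat.dvd_prime hMq).1 h3 with h4 | h4
        · exfalso
          have := card_lt hYlt'
          rw [ht, h4, mul_one] at this
          exact lt_irrefl _ this
        · rw [ht, h4, hcard]
      have hCX : CN N X = CN N Y ⊓ Subgroup.centralizer {x0} := by
        ext w
        simp only [CN, Subgroup.mem_inf, Subgroup.mem_centralizer_iff]
        constructor
        · rintro ⟨hwN, hw⟩
          refine ⟨⟨hwN, fun y hy => hw y (hYX hy)⟩, fun y hy => ?_⟩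
          rw [Set.mem_singleton_iff] at hy
          subst hy
          exact hw _ hx0X
        · rintro ⟨⟨hwN, hwY⟩, hwx⟩
          refine ⟨hwN, ?_⟩
          have hle : Y ⊔ Subgroup.zpowers x0 ≤ Subgroup.centralizer {w} := by
            apply sup_le
            · intro y hy
              rw [Subgroup.mem_centralizer_iff]
              intro z hz
              rw [Set.mem_singleton_iff] at hz
              subst hz
              exact (hwY y hy).symm
            · rw [Subgroup.zpowers_le, Subgroup.mem_centralizer_iff]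
              intro z hz
              rw [Set.mem_singleton_iff] at hz
              subst hz
              exact (hwx x0 rfl).symm
          intro y hy
          have hy' : y ∈ Y ⊔ Subgroup.zpowers x0 := by rw [hsup]; exact hy
          have := hle hy'
          rw [Subgroup.mem_centralizer_iff] at this
          exact (this w rfl).symm
      have hWnorm : ∀ w ∈ CN N Y, x0 * w * x0⁻¹ ∈ CN N Y := by
        intro w hw
        obtain ⟨hwN, hwY⟩ := Subgroup.mem_inf.1 hw
        refine Subgroup.mem_inf.2 ⟨hNn.conj_mem w hwN x0, ?_⟩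
        rw [Subgroup.mem_centralizer_iff] at hwY ⊢
        intro y hy
        have hy' : x0⁻¹ * y * x0 ∈ Y := by
          have := hnormY x0⁻¹ (X.inv_mem hx0X) y hy
          simpa using this
        have h1 := hwY _ hy'
        calc y * (x0 * w * x0⁻¹) = x0 * ((x0⁻¹ * y * x0) * w) * x0⁻¹ := by group
          _ = x0 * (w * (x0⁻¹ * y * x0)) * x0⁻¹ := by rw [h1]
          _ = x0 * w * x0⁻¹ * y := by group
      have hWq : ∀ w ∈ CN N Y, x0 ^ q * w = w * x0 ^ q := by
        intro w hw
        exact (Subgroup.mem_centralizer_iff.1 (Subgroup.mem_inf.1 hw).2) _ hx0q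
      have hmod := card_modEq_fixed (CN N Y) x0 q hWnorm hWq
      rw [← hCX] at hmod
      have hle1 : CN N X ≤ CN N Y := by rw [hCX]; exact inf_le_left
      have hle2 : CN N Y ≤ N := inf_le_left
      have hmul := Subgroup.relIndex_mul_relIndex (CN N X) (CN N Y) N hle1 hle2
      obtain ⟨c2, hc2⟩ : ∃ c2, c2 = (CN N X).relIndex (CN N Y) := ⟨_, rfl⟩
      rw [← hc2] at hmul
      have hc2card : Nat.card (CN N X) * c2 = Nat.card (CN N Y) := by
        have := Subgroup.card_mul_index ((CN N X).subgroupOf (CN N Y))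
        rw [card_subgroupOf_of_le hle1] at this
        rw [hc2]
        exact this
      have hcop : (Nat.card (CN N X)).Coprime q := by
        obtain ⟨d, hd⟩ := hN
        have h1 : Nat.card (CN N X) ∣ p ^ d := hd ▸ Subgroup.card_dvd_of_le inf_le_left
        have hpq : p ≠ q := fun h => hpX (h ▸ hqX)
        exact Nat.Coprime.coprime_dvd_left h1
          (Nat.Coprime.pow_left d ((Nat.coprime_primes hp hMq).2 hpq))
      have hc2mod : c2 ≡ 1 [MOD q] := by
        have h1 : Nat.card (CN N X) * c2 ≡ Nat.card (CN N X) * 1 [MOD q] := by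
          rw [hc2card, mul_one]; exact hmod
        exact Nat.ModEq.cancel_left_of_coprime hcop.symm h1
      refine ⟨c2 :: l1, ?_, ?_⟩
      · rw [List.prod_cons, ← hl1]; exact hmul.symm
      · intro x hx
        rcases List.mem_cons.1 hx with rfl | hx
        · refine ⟨?_, q, hMq, hqX, hc2mod⟩
          exact (Dvd.intro _ hmul).trans (Subgroup.relIndex_dvd_card _ _)
        · obtain ⟨h1, q', hq', hq'Y, hmod'⟩ := hl1c x hx
          exact ⟨h1, q', hq', hq'Y.trans hYdvd, hmod'⟩

end Cfsg.Agent.LeadHallCount
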