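import Mathlib
import Cfsg.Agent.Lib.Lead_HallCount2

/-! P. Hall's theorem on the number of Hall subgroups of a solvable group. -/

namespace Cfsg.Agent.LeadHallCount

open Cfsg.Agent.Lib.Lead_SZ Cfsg.Agent.Lib.Lead_Hall
open scoped Pointwise

universe u

/-- condition on a factor -/
def Cond (G : Type u) [Group G] (m x : ℕ) : Prop :=
  (∃ q e : ℕ, q.Prime ∧ x = q ^ e) ∧
  (∃ K L : Subgroup G, K.Normal ∧ L.Normal ∧ K < L ∧
    (∀ M : Subgroup G, M.Normal → K ≤ M → M ≤ L → M = K ∨ M = L) ∧ x ∣ K.relIndex L) ∧
  (∃ q : ℕ, q.Prime ∧ q ∣ m ∧ x ≡ 1 [MOD q])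

/-- a product of good factors -/
def Good (G : Type u) [Group G] (m c : ℕ) : Prop :=
  ∃ l : List ℕ, c = l.prod ∧ ∀ x ∈ l, Cond G m x

variable {G : Type u} [Group G]

theorem Good.one (m : ℕ) : Good G m 1 := ⟨[], rfl, by simp⟩

theorem Good.mul {m a b : ℕ} (h1 : Good G m a) (h2 : Good G m b) : Good G m (a * b) := by
  obtain ⟨l1, rfl, h1⟩ := h1
  obtain ⟨l2, rfl, h2⟩ := h2
  exact ⟨l1 ++ l2, List.prod_append.symm, fun x hx => (List.mem_append.1 hx).elim (h1 x) (h2 x)⟩

theorem Cond.of_quotient (N : Subgroup G) [N.Normal] {m' m x : ℕ} (hmm : m' ∣ m)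
    (h : Cond (G ⧸ N) m' x) : Cond G m x := by
  obtain ⟨h1, ⟨K, L, hK, hL, hKL, hmin, hdvd⟩, ⟨q, hq, hqm, hmod⟩⟩ := h
  refine ⟨h1, ⟨K.comap (QuotientGroup.mk' N), L.comap (QuotientGroup.mk' N), hK.comap _,
    hL.comap _, ?_, ?_, ?_⟩, ⟨q, hq, hqm.trans hmm, hmod⟩⟩
  · exact (Subgroup.comap_lt_comap_of_surjective (QuotientGroup.mk'_surjective N)).2 hKL
  · intro M hM hKM hML
    have hNM : N ≤ M := (le_comap_mk N K).trans hKM
    have hker : (QuotientGroup.mk' N).ker ≤ M := by rw [QuotientGroup.ker_mk']; exact hNM
    have hMn : (M.map (QuotientGroup.mk' N)).Normal := hM.map _ (QuotientGroup.mk'_surjective N)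
    have h1 : K ≤ M.map (QuotientGroup.mk' N) := by
      rw [← Subgroup.map_comap_eq_self_of_surjective (QuotientGroup.mk'_surjective N) K]
      exact Subgroup.map_mono hKM
    have h2 : M.map (QuotientGroup.mk' N) ≤ L := Subgroup.map_le_iff_le_comap.2 hML
    rcases hmin _ hMn h1 h2 with h | h
    · left; rw [← h, Subgroup.comap_map_eq_self hker]
    · right; rw [← h, Subgroup.comap_map_eq_self hker]
  · rw [Subgroup.relIndex_comap,
      Subgroup.map_comap_eq_self_of_surjective (QuotientGroup.mk'_surjective N)]
    exact hdvd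

theorem Good.of_quotient (N : Subgroup G) [N.Normal] {m' m c : ℕ} (hmm : m' ∣ m)
    (h : Good (G ⧸ N) m' c) : Good G m c := by
  obtain ⟨l, hl, hc⟩ := h
  exact ⟨l, hl, fun x hx => (hc x hx).of_quotient N hmm⟩

theorem main_aux : ∀ (c : ℕ) (G : Type u) [Group G] [Finite G] [Group.IsSolvable G],
    Nat.card G = c → ∀ m n : ℕ, Nat.card G = m * n → m.Coprime n →
    Good G m (Nat.card {H : Subgroup G // Nat.card H = m}) := by
  intro c
  induction c using Nat.strong_induction_on with
  | _ c ih =>
    intro G _ _ _ hc m n hmn hcop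
    by_cases hm1 : m = 1
    · subst hm1
      have : Nat.card {H : Subgroup G // Nat.card H = 1} = 1 := by
        rw [Nat.card_eq_one_iff_unique]
        refine ⟨⟨fun a b => Subtype.ext ?_⟩, ⟨⟨⊥, Subgroup.card_bot⟩⟩⟩
        rw [Subgroup.card_eq_one.1 a.2, Subgroup.card_eq_one.1 b.2]
      rw [this]; exact Good.one 1
    · haveI : Nontrivial G := by
        by_contra hnt
        rw [not_nontrivial_iff_subsingleton] at hnt
        have h1 : Nat.card G = 1 := Nat.card_of_subsingleton (1 : G)
        rw [h1] at hmn
        exact hm1 (Nat.eq_one_of_mul_eq_one_right hmn.symm)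
      obtain ⟨N, hNn, hNb, hNmin⟩ := exists_min_normal (G := G)
      haveI := hNn
      obtain ⟨p, d, hp, hd, hNc⟩ :=
        Cfsg.Agent.Lib.Helper1_MinNormal.exists_card_eq_prime_pow N hNb hNmin
      have hNG : Nat.card N ∣ Nat.card G := Subgroup.card_subgroup_dvd_card N
      have hQ : Nat.card (G ⧸ N) * Nat.card N = Nat.card G :=
        (Subgroup.card_eq_card_quotient_mul_card_subgroup N).symm
      have hNpos : 0 < Nat.card N := Nat.card_pos
      have hN1 : 1 < Nat.card N := by rw [hNc]; exact Nat.one_lt_pow hd.ne' hp.one_lt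
      have hlt : Nat.card (G ⧸ N) < c := by
        rw [← hc, ← hQ]
        have h2 : 0 < Nat.card (G ⧸ N) := Nat.card_pos
        nlinarith
      have IH := ih _ hlt (G ⧸ N) rfl
      obtain ⟨⟨H0, hH0⟩, hconjG, -⟩ := hall G m n hmn hcop
      by_cases hpm : p ∣ m
      · -- Case 1 : p ∣ m
        have hpn : ¬ p ∣ n := by
          intro h
          have := Nat.dvd_gcd hpm h
          rw [hcop] at this
          exact Nat.Prime.not_dvd_one hp this
        have hcopN : (Nat.card N).Coprime n := by
          rw [hNc]; exact Nat.Coprime.pow_left d ((Nat.Prime.coprime_iff_not_dvd hp).mpr hpn)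
        have hNm : Nat.card N ∣ m := hcopN.dvd_of_dvd_mul_right (hmn ▸ hNG)
        obtain ⟨m', hm'⟩ := hNm
        have hQc : Nat.card (G ⧸ N) = m' * n := by
          apply Nat.eq_of_mul_eq_mul_right hNpos
          rw [hQ, hmn, hm']; ring
        have hcop' : m'.Coprime n :=
          Nat.Coprime.coprime_dvd_left (Dvd.intro_left _ hm'.symm) hcop
        have hm'pos : 0 < m' := by
          rcases Nat.eq_zero_or_pos m' with h | h
          · exfalso
            rw [h, mul_zero] at hm'
            rw [hm', zero_mul] at hmn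
            have : 0 < Nat.card G := Nat.card_pos
            omega
          · exact h
        have hNle : ∀ X : Subgroup G, Nat.card X = m → N ≤ X := by
          intro X hX
          have h1 := card_map_mul N X
          have h2 : Nat.card (X.map (QuotientGroup.mk' N)) ∣ m' * n :=
            hQc ▸ Subgroup.card_subgroup_dvd_card _
          have h3 : Nat.card (X ⊓ N : Subgroup G) ∣ Nat.card N :=
            Subgroup.card_dvd_of_le inf_le_right
          obtain ⟨t, ht⟩ := h3
          have hXNpos : 0 < Nat.card (X ⊓ N : Subgroup G) := Nat.card_pos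
          have h4 : Nat.card (X.map (QuotientGroup.mk' N)) = t * m' := by
            apply Nat.eq_of_mul_eq_mul_right hXNpos
            rw [h1, hX, hm', ht]; ring
          have h5 : t ∣ n := by
            rw [h4, mul_comm t m'] at h2
            exact Nat.dvd_of_mul_dvd_mul_left hm'pos h2
          have h6 : t = 1 := by
            have h7 : t ∣ Nat.card N := Dvd.intro_left _ ht.symm
            exact Nat.Coprime.eq_one_of_dvd (hcopN.coprime_dvd_left h7) h5
          rw [h6, mul_one] at ht
          have h8 := eq_of_le_of_card_eq (inf_le_right : X ⊓ N ≤ N) ht.symm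
          rw [← h8]; exact inf_le_left
        have hcnt : Nat.card {H : Subgroup G // Nat.card H = m} =
            Nat.card {H : Subgroup (G ⧸ N) // Nat.card H = m'} := by
          apply Nat.card_congr
          exact
            { toFun := fun H => ⟨H.1.map (QuotientGroup.mk' N), by
                have h1 := card_map_of_le N H.1 (hNle H.1 H.2)
                apply Nat.eq_of_mul_eq_mul_right hNpos
                rw [h1, H.2, hm']; ring⟩
              invFun := fun Hb => ⟨Hb.1.comap (QuotientGroup.mk' N), by
                rw [card_comap_mk, Hb.2, hm']; ring⟩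
              left_inv := fun H => Subtype.ext (Subgroup.comap_map_eq_self
                (by rw [QuotientGroup.ker_mk']; exact hNle H.1 H.2))
              right_inv := fun Hb => Subtype.ext
                (Subgroup.map_comap_eq_self_of_surjective (QuotientGroup.mk'_surjective N) _) }
        rw [hcnt]
        exact (IH m' n hQc hcop').of_quotient N (Dvd.intro_left _ hm'.symm)
      · -- Case 2 : p ∤ m
        have hcopN : (Nat.card N).Coprime m := by
          rw [hNc]; exact Nat.Coprime.pow_left d ((Nat.Prime.coprime_iff_not_dvd hp).mpr hpm)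
        have hNn' : Nat.card N ∣ n := hcopN.dvd_of_dvd_mul_left (hmn ▸ hNG)
        obtain ⟨n', hn'⟩ := hNn'
        have hQc : Nat.card (G ⧸ N) = m * n' := by
          apply Nat.eq_of_mul_eq_mul_right hNpos
          rw [hQ, hmn, hn']; ring
        have hcop' : m.Coprime n' :=
          Nat.Coprime.coprime_dvd_right (Dvd.intro_left _ hn'.symm) hcop
        have hinf : Nat.card (H0 ⊓ N : Subgroup G) = 1 := by
          have h1 : Nat.card (H0 ⊓ N : Subgroup G) ∣ m := hH0 ▸ Subgroup.card_dvd_of_le inf_le_left
          have h2 : Nat.card (H0 ⊓ N : Subgroup G) ∣ Nat.card N :=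
            Subgroup.card_dvd_of_le inf_le_right
          exact Nat.Coprime.eq_one_of_dvd (Nat.Coprime.coprime_dvd_left h1 hcopN.symm) h2
        obtain ⟨Hb, hHb⟩ : ∃ Hb, Hb = H0.map (QuotientGroup.mk' N) := ⟨_, rfl⟩
        have hHbc : Nat.card Hb = m := by
          have := card_map_mul N H0
          rw [hinf, mul_one, hH0] at this
          rw [hHb]; exact this
        obtain ⟨-, hconjQ, -⟩ := hall (G ⧸ N) m n' hQc hcop'
        have hcntG := card_eq_index_normalizer m H0 hH0 (fun K hK => hconjG H0 K hH0 hK)
        have hcntQ := card_eq_index_normalizer m Hb hHbc (fun K hK => hconjQ Hb K hHbc hK)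
        obtain ⟨T, hT⟩ : ∃ T, T = Hb.comap (QuotientGroup.mk' N) := ⟨_, rfl⟩
        have hTsup : T = H0 ⊔ N := by
          rw [hT, hHb, Subgroup.comap_map_eq, QuotientGroup.ker_mk']
        have hTc : Nat.card T = m * Nat.card N := by rw [hT, card_comap_mk, hHbc]
        have hH0T : H0 ≤ T := hTsup ▸ le_sup_left
        have hNT : N ≤ T := hTsup ▸ le_sup_right
        have hidx : (Subgroup.normalizer (Hb : Set (G ⧸ N))).index =
            (Subgroup.normalizer (T : Set G)).index := by
          rw [hT, ← Subgroup.comap_normalizer_eq_of_surjective _ (QuotientGroup.mk'_surjective N),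
            Subgroup.index_comap_of_surjective _ (QuotientGroup.mk'_surjective N)]
        have hfrat : Subgroup.normalizer (T : Set G) = Subgroup.normalizer (H0 : Set G) ⊔ N := by
          apply le_antisymm
          · intro g hg
            have hgT : MulAut.conj g • T = T := conj_smul_le_normalizer.1 hg
            have hK : MulAut.conj g • H0 ≤ T := by
              have := conj_smul_mono g hH0T
              rwa [hgT] at this
            have hKc : Nat.card (MulAut.conj g • H0 : Subgroup G) = m := by
              rw [card_conj_smul, hH0]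
            obtain ⟨-, hconjT, -⟩ := hall T m (Nat.card N) hTc hcopN.symm
            obtain ⟨t, ht⟩ := hconjT (H0.subgroupOf T) ((MulAut.conj g • H0).subgroupOf T)
              (by rw [card_subgroupOf_of_le hH0T, hH0]) (by rw [card_subgroupOf_of_le hK, hKc])
            have h1 := conj_of_subgroupOf hH0T hK t ht
            have h2 : MulAut.conj ((t : G)⁻¹ * g) • H0 = H0 := by
              rw [← conj_smul_smul, ← h1, conj_smul_smul, inv_mul_cancel, map_one, one_smul]
            have h3 : (t : G)⁻¹ * g ∈ Subgroup.normalizer (H0 : Set G) :=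
              conj_smul_le_normalizer.2 h2
            have h4 : (t : G) ∈ Subgroup.normalizer (H0 : Set G) ⊔ N := by
              have : (t : G) ∈ H0 ⊔ N := hTsup ▸ t.2
              exact (sup_le_sup_right Subgroup.le_normalizer N) this
            have h5 : g = (t : G) * ((t : G)⁻¹ * g) := by group
            rw [h5]
            exact Subgroup.mul_mem _ h4 (Subgroup.mem_sup_left h3)
          · apply sup_le
            · intro g hg
              apply conj_smul_le_normalizer.2
              rw [hTsup, Subgroup.smul_sup, conj_smul_le_normalizer.1 hg, hNn.conj_smul_eq_self g]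
            · exact hNT.trans Subgroup.le_normalizer
        have hle : Subgroup.normalizer (H0 : Set G) ≤ Subgroup.normalizer (T : Set G) :=
          hfrat ▸ le_sup_left
        have h1 := Subgroup.relIndex_mul_index hle
        have hNC : Subgroup.normalizer (H0 : Set G) ⊓ N = CN N H0 := by
          ext w
          simp only [CN, Subgroup.mem_inf]
          constructor
          · rintro ⟨hwn, hwN⟩
            refine ⟨hwN, ?_⟩
            rw [Subgroup.mem_centralizer_iff]
            intro h hh
            have h2 : w * h * w⁻¹ ∈ H0 := (Subgroup.mem_normalizer_iff.1 hwn h).1 hh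
            have h3 : w * h * w⁻¹ * h⁻¹ ∈ H0 := H0.mul_mem h2 (H0.inv_mem hh)
            have h4 : w * h * w⁻¹ * h⁻¹ ∈ N := by
              have : h * w⁻¹ * h⁻¹ ∈ N := hNn.conj_mem _ (N.inv_mem hwN) h
              have := N.mul_mem hwN this
              simpa [mul_assoc] using this
            have h5 : w * h * w⁻¹ * h⁻¹ ∈ (H0 ⊓ N : Subgroup G) := Subgroup.mem_inf.2 ⟨h3, h4⟩
            rw [Subgroup.card_eq_one.1 hinf, Subgroup.mem_bot] at h5
            have h6 : w * h = h * w := by
              have := mul_inv_eq_one.1 h5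
              exact mul_inv_eq_iff_eq_mul.1 this
            exact h6.symm
          · rintro ⟨hwN, hwc⟩
            exact ⟨Subgroup.centralizer_le_normalizer _ hwc, hwN⟩
        have h2 : (Subgroup.normalizer (H0 : Set G)).relIndex (Subgroup.normalizer (T : Set G)) =
            (CN N H0).relIndex N := by
          rw [hfrat, relIndex_sup_normal', ← Subgroup.inf_relIndex_right, hNC]
        rw [hcntG, ← h1, h2, ← hidx, ← hcntQ]
        apply Good.mul
        · obtain ⟨l, hl, hlc⟩ := cent_factor N p hp ⟨d, hNc⟩ _ H0 rfl (by rw [hH0]; exact hpm)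
          refine ⟨l, hl, fun x hx => ?_⟩
          obtain ⟨hxN, q, hq, hqH, hmod⟩ := hlc x hx
          refine ⟨?_, ⟨⊥, N, inferInstance, hNn, bot_lt_iff_ne_bot.2 hNb, ?_, ?_⟩,
            ⟨q, hq, hH0 ▸ hqH, hmod⟩⟩
          · rw [hNc] at hxN
            obtain ⟨e, -, he⟩ := (Nat.dvd_prime_pow hp).1 hxN
            exact ⟨p, e, hp, he⟩
          · intro M hM _ hMN
            exact hNmin M hM hMN
          · rw [Subgroup.relIndex_bot_left]
            exact hxN
        · exact (IH m n' hQc hcop').of_quotient N dvd_rfl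

/-- P. Hall's theorem on the number of Hall subgroups. -/
theorem main (G : Type u) [Group G] [Finite G] [Group.IsSolvable G] (m n : ℕ)
    (hG : Nat.card G = m * n) (hmn : Nat.Coprime m n) :
    ∃ (k : ℕ) (f : Fin k → ℕ), Nat.card {H : Subgroup G // Nat.card H = m} = ∏ i, f i ∧
      ∀ i, (∃ q e : ℕ, q.Prime ∧ f i = q ^ e) ∧
        (∃ K L : Subgroup G, K.Normal ∧ L.Normal ∧ K < L ∧
          (∀ M : Subgroup G, M.Normal → K ≤ M → M ≤ L → M = K ∨ M = L) ∧ f i ∣ K.relIndex L) ∧
        (∃ q : ℕ, q.Prime ∧ q ∣ m ∧ f i ≡ 1 [MOD q]) := by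
  obtain ⟨l, hl, hc⟩ := main_aux _ G rfl m n hG hmn
  refine ⟨l.length, fun i => l.get i, ?_, fun i => hc _ (List.get_mem l i)⟩
  rw [hl, ← List.prod_ofFn, List.ofFn_get]

end Cfsg.Agent.LeadHallCount
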