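import Mathlib
import Cfsg.Prelude.Def_Characters

/-! Helper lemmas on `extendByZero`, `indFun`, `classInner`. -/

namespace Cfsg.Agent.Lib.Lead_IndChar

open Cfsg
open scoped ComplexConjugate

variable {G : Type*} [Group G]

theorem extendByZero_apply_mem (H : Subgroup G) (θ : H → ℂ) (h : H) :
    extendByZero H θ (h : G) = θ h := by
  unfold extendByZero
  exact Subtype.val_injective.extend_apply θ 0 h

theorem extendByZero_apply_mk (H : Subgroup G) (θ : H → ℂ) {g : G} (hg : g ∈ H) :
    extendByZero H θ g = θ ⟨g, hg⟩ :=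
  extendByZero_apply_mem H θ ⟨g, hg⟩

theorem extendByZero_apply_not_mem (H : Subgroup G) (θ : H → ℂ) {g : G} (hg : g ∉ H) :
    extendByZero H θ g = 0 := by
  unfold extendByZero
  rw [Function.extend_apply']
  · rfl
  · rintro ⟨a, rfl⟩
    exact hg a.2

/-- Sum over `G` of a function supported on `H`. -/
theorem sum_extendByZero_mul [Fintype G] (H : Subgroup G) [Fintype H] (θ : H → ℂ) (f : G → ℂ) :
    ∑ y : G, extendByZero H θ y * f y = ∑ h : H, θ h * f h := by
  classical
  have h1 : ∑ h : H, θ h * f h
      = ∑ y ∈ (Finset.univ : Finset H).map ⟨Subtype.val, Subtype.val_injective⟩,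
          extendByZero H θ y * f y := by
    rw [Finset.sum_map]
    refine Finset.sum_congr rfl ?_
    intro h _
    simp [extendByZero_apply_mem]
  rw [h1]
  symm
  refine Finset.sum_subset (Finset.subset_univ _) ?_
  intro y _ hy
  have : y ∉ H := by
    intro hyH
    apply hy
    simp only [Finset.mem_map, Finset.mem_univ, true_and, Function.Embedding.coeFn_mk]
    exact ⟨⟨y, hyH⟩, rfl⟩
  rw [extendByZero_apply_not_mem H θ this, zero_mul]

theorem sum_extendByZero [Fintype G] (H : Subgroup G) [Fintype H] (θ : H → ℂ) :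
    ∑ y : G, extendByZero H θ y = ∑ h : H, θ h := by
  have := sum_extendByZero_mul H θ (fun _ => 1)
  simpa using this

/-- Reindexing a sum over `G` by conjugation. -/
theorem sum_conj [Fintype G] (x : G) (F : G → ℂ) :
    ∑ g : G, F (x⁻¹ * g * x) = ∑ y : G, F y := by
  refine Fintype.sum_equiv (MulAut.conj x⁻¹).toEquiv _ _ ?_
  intro g
  simp [MulAut.conj_apply]

theorem isClassFunction_indFun [Fintype G] (H : Subgroup G) (θ : H → ℂ) :
    IsClassFunction G (indFun H θ) := by
  intro g h
  unfold indFun
  congr 1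
  refine Fintype.sum_equiv (Equiv.mulLeft h⁻¹) _ _ ?_
  intro x
  congr 1
  simp only [Equiv.coe_mulLeft]
  group

end Cfsg.Agent.Lib.Lead_IndChar
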