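import Mathlib

/-! The Krull–Remak–Schmidt theorem for finite groups. -/

namespace Cfsg.Agent.Lib.Lead_KS

universe u v w

/-- directly indecomposable and nontrivial -/
def Indec (H : Type*) [Group H] : Prop :=
  Nontrivial H ∧ ∀ X Y : Subgroup H, X.Normal → Y.Normal → X ⊓ Y = ⊥ → X ⊔ Y = ⊤ → X = ⊥ ∨ Y = ⊥

/-- normal endomorphisms -/
def NormalEnd {H : Type*} [Group H] (φ : H →* H) : Prop :=
  ∀ x h : H, φ (x * h * x⁻¹) = x * φ h * x⁻¹

theorem NormalEnd.iterate {H : Type*} [Group H] {φ : H →* H} (hφ : NormalEnd φ) (k : ℕ) :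
    ∀ x h : H, φ^[k] (x * h * x⁻¹) = x * φ^[k] h * x⁻¹ := by
  induction k with
  | zero => intro x h; rfl
  | succ k ih =>
    intro x h
    rw [Function.iterate_succ_apply', Function.iterate_succ_apply', ih, hφ]

/-- Fitting's lemma -/
theorem fitting {H : Type*} [Group H] [Finite H] (hH : Indec H) (φ : H →* H) (hφ : NormalEnd φ) :
    Function.Bijective φ ∨ ∃ n : ℕ, ∀ h : H, (φ^[n]) h = 1 := by
  obtain ⟨a, b, hab, hE⟩ := Finite.exists_ne_map_eq_of_infinite (fun k : ℕ => (φ^[k] : H → H))
  wlog hlt : a < b generalizing a b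
  · exact this b a hab.symm hE.symm (lt_of_le_of_ne (not_lt.mp hlt) hab.symm)
  obtain ⟨d, hd, rfl⟩ : ∃ d, 0 < d ∧ b = a + d := ⟨b - a, by omega, by omega⟩
  have hE' : (φ^[a] : H → H) = φ^[a + d] := hE
  have hper : ∀ k, a ≤ k → (φ^[k + d] : H → H) = φ^[k] := by
    intro k hk
    obtain ⟨c, rfl⟩ := Nat.exists_eq_add_of_le hk
    rw [show a + c + d = c + (a + d) by ring, Function.iterate_add, ← hE', ← Function.iterate_add,
      add_comm]
  have hper' : ∀ j k, a ≤ k → (φ^[k + j * d] : H → H) = φ^[k] := by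
    intro j
    induction j with
    | zero => intro k _; simp
    | succ j ih =>
      intro k hk
      rw [show k + (j + 1) * d = (k + j * d) + d by ring, hper _ (by omega), ih k hk]
  obtain ⟨n, hn⟩ : ∃ n, n = (a + 1) * d := ⟨_, rfl⟩
  have hn1 : 1 ≤ n := by rw [hn]; exact Nat.mul_pos (by omega) hd
  have han : a ≤ n := by rw [hn]; nlinarith
  have hidem : (φ^[n + n] : H → H) = φ^[n] := by
    have := hper' (a + 1) n han
    rwa [← hn] at this
  let ε : H →* H :=
    { toFun := φ^[n]
      map_one' := iterate_map_one φ n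
      map_mul' := iterate_map_mul φ n }
  have hε : ∀ h, ε h = φ^[n] h := fun h => rfl
  have hεε : ∀ h, ε (ε h) = ε h := by
    intro h
    rw [hε, hε, ← Function.iterate_add_apply, hidem]
  have hεn : ∀ x h : H, ε (x * h * x⁻¹) = x * ε h * x⁻¹ := hφ.iterate n
  have hrn : ε.range.Normal := by
    constructor
    rintro y ⟨h, rfl⟩ x
    exact ⟨x * h * x⁻¹, hεn x h⟩
  have hinf : ε.ker ⊓ ε.range = ⊥ := by
    rw [eq_bot_iff]
    rintro x ⟨hx1, ⟨y, rfl⟩⟩
    have h1 : ε (ε y) = 1 := hx1
    rw [hεε] at h1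
    rw [Subgroup.mem_bot]; exact h1
  have hsup : ε.ker ⊔ ε.range = ⊤ := by
    rw [eq_top_iff]
    intro h _
    have h1 : h * (ε h)⁻¹ ∈ ε.ker := by
      rw [MonoidHom.mem_ker, map_mul, map_inv, hεε, mul_inv_cancel]
    have h2 : ε h ∈ ε.range := ⟨h, rfl⟩
    have := Subgroup.mul_mem _ (Subgroup.mem_sup_left h1 : h * (ε h)⁻¹ ∈ ε.ker ⊔ ε.range)
      (Subgroup.mem_sup_right h2)
    simpa using this
  rcases hH.2 ε.ker ε.range (MonoidHom.normal_ker ε) hrn hinf hsup with h1 | h1
  · left
    have hinj : Function.Injective (φ^[n] : H → H) := (MonoidHom.ker_eq_bot_iff ε).mp h1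
    obtain ⟨n', rfl⟩ : ∃ n', n = n' + 1 := ⟨n - 1, by omega⟩
    rw [Function.iterate_succ] at hinj
    exact Finite.injective_iff_bijective.mp (Function.Injective.of_comp hinj)
  · right
    refine ⟨n, fun h => ?_⟩
    have : ε h ∈ ε.range := ⟨h, rfl⟩
    rw [h1, Subgroup.mem_bot] at this
    exact this

theorem two_summand {H : Type*} [Group H] [Finite H] (hH : Indec H) (φ ψ : H →* H)
    (hφ : NormalEnd φ) (hsum : ∀ h, φ h * ψ h = h) :
    Function.Bijective φ ∨ Function.Bijective ψ := by
  rcases fitting hH φ hφ with h1 | ⟨n, hn⟩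
  · exact Or.inl h1
  · right
    rw [← Finite.injective_iff_bijective, injective_iff_map_eq_one]
    intro h hh
    have hfix : φ h = h := by
      have := hsum h
      rwa [hh, mul_one] at this
    have hk : ∀ k, φ^[k] h = h := by
      intro k
      induction k with
      | zero => rfl
      | succ k ih => rw [Function.iterate_succ_apply', ih, hfix]
    rw [← hk n, hn]

theorem two_summand' {H : Type*} [Group H] [Finite H] (hH : Indec H) (θ φ ψ : H →* H)
    (hθ : NormalEnd θ) (hθb : Function.Bijective θ) (hφ : NormalEnd φ)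
    (hsum : ∀ h, φ h * ψ h = θ h) : Function.Bijective φ ∨ Function.Bijective ψ := by
  let θe : H ≃* H := MulEquiv.ofBijective θ hθb
  have hθe : ∀ k, θ (θe.symm k) = k := fun k => θe.apply_symm_apply k
  have hθinv : ∀ x k, θe.symm (x * k * x⁻¹) = x * θe.symm k * x⁻¹ := by
    intro x k
    apply θe.injective
    rw [MulEquiv.apply_symm_apply]
    show _ = θ (x * θe.symm k * x⁻¹)
    rw [hθ, hθe]
  have h1 := two_summand hH (θe.symm.toMonoidHom.comp φ) (θe.symm.toMonoidHom.comp ψ)
    (by
      intro x h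
      show θe.symm (φ (x * h * x⁻¹)) = x * θe.symm (φ h) * x⁻¹
      rw [hφ, hθinv])
    (by
      intro h
      show θe.symm (φ h) * θe.symm (ψ h) = h
      rw [← map_mul, hsum]
      exact θe.symm_apply_apply h)
  rcases h1 with h | h
  · left
    exact (Function.Bijective.of_comp_iff' θe.symm.bijective φ).mp h
  · right
    exact (Function.Bijective.of_comp_iff' θe.symm.bijective ψ).mp h

theorem NormalEnd.conj {G G' : Type*} [Group G] [Group G'] (e : G ≃* G') {φ : G →* G}
    (hφ : NormalEnd φ) : NormalEnd ((e.toMonoidHom.comp φ).comp e.symm.toMonoidHom) := by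
  intro x h
  show e (φ (e.symm (x * h * x⁻¹))) = x * e (φ (e.symm h)) * x⁻¹
  have h1 : e.symm (x * h * x⁻¹) = e.symm x * e.symm h * (e.symm x)⁻¹ := by
    rw [map_mul, map_mul, map_inv]
  rw [h1, hφ, map_mul, map_mul, map_inv, e.apply_symm_apply]

theorem NormalEnd.corner {X Y : Type*} [Group X] [Group Y] {Q : X × Y →* X × Y}
    (hQ : NormalEnd Q) :
    NormalEnd (((MonoidHom.fst X Y).comp Q).comp (MonoidHom.inl X Y)) := by
  intro x h
  show (Q ((x * h * x⁻¹, 1) : X × Y)).1 = x * (Q (h, 1)).1 * x⁻¹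
  have : ((x * h * x⁻¹, 1) : X × Y) = (x, 1) * (h, 1) * (x, 1)⁻¹ := by ext <;> simp
  rw [this, hQ]
  simp

theorem normalEnd_projFst (X Y : Type*) [Group X] [Group Y] :
    NormalEnd ((MonoidHom.inl X Y).comp (MonoidHom.fst X Y)) := by
  intro x h
  ext <;> simp


/-- the case where the composite `H → K → H` is bijective -/
theorem caseA {H : Type*} {M : Type*} {K : Type*} {K' : Type*} [Group H] [Group M] [Group K]
    [Group K'] [Finite H] [Finite M] [Finite K] [Finite K'] (hHn : Nontrivial H) (hK : Indec K)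
    (e : H × M ≃* K × K')
    (hbij : Function.Bijective (fun h : H => (e.symm ((e (h, 1)).1, 1)).1)) :
    Nonempty (H ≃* K) ∧ Nonempty (M ≃* K') := by
  let α : H →* K := (MonoidHom.fst K K').comp (e.toMonoidHom.comp (MonoidHom.inl H M))
  let β : K →* H := (MonoidHom.fst H M).comp (e.symm.toMonoidHom.comp (MonoidHom.inl K K'))
  have hα : ∀ h, α h = (e (h, 1)).1 := fun h => rfl
  have hβ : ∀ k, β k = (e.symm (k, 1)).1 := fun k => rfl
  let f : H → H := fun h => β (α h)
  have hβα : Function.Bijective f := hbij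
  let Q : K × K' →* K × K' :=
    (e.toMonoidHom.comp ((MonoidHom.inl H M).comp (MonoidHom.fst H M))).comp e.symm.toMonoidHom
  have hQ : NormalEnd Q := (normalEnd_projFst H M).conj e
  let γ : K →* K := ((MonoidHom.fst K K').comp Q).comp (MonoidHom.inl K K')
  have hγn : NormalEnd γ := hQ.corner
  have hγ : ∀ k, γ k = α (β k) := fun k => rfl
  have hsemi : ∀ n h, γ^[n] (α h) = α (f^[n] h) := by
    intro n
    induction n with
    | zero => intro h; rfl
    | succ n ih =>
      intro h
      calc γ^[n + 1] (α h) = γ (γ^[n] (α h)) := Function.iterate_succ_apply' _ _ _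
        _ = γ (α (f^[n] h)) := by rw [ih]
        _ = α (f (f^[n] h)) := rfl
        _ = α (f^[n + 1] h) := by rw [Function.iterate_succ_apply']
  have hγb : Function.Bijective γ := by
    rcases fitting hK γ hγn with h1 | ⟨n, hn⟩
    · exact h1
    · exfalso
      have hfb : Function.Bijective (f^[n + 1]) := hβα.iterate (n + 1)
      obtain ⟨x, hx⟩ := exists_ne (1 : H)
      apply hx
      apply hfb.1
      have h1 : ∀ h, f^[n + 1] h = 1 := by
        intro h
        rw [Function.iterate_succ_apply']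
        show β (α (f^[n] h)) = 1
        rw [← hsemi, hn, map_one]
      rw [h1 x, h1 1]
  have hαinj : Function.Injective α := by
    intro a b hab
    apply hβα.1
    show β (α a) = β (α b)
    rw [hab]
  have hαsurj : Function.Surjective α := by
    intro k
    obtain ⟨k', hk'⟩ := hγb.2 k
    exact ⟨β k', by rw [← hγ]; exact hk'⟩
  have hβinj : Function.Injective β := by
    intro a b hab
    apply hγb.1
    rw [hγ, hγ, hab]
  let αe : H ≃* K := MulEquiv.ofBijective α ⟨hαinj, hαsurj⟩
  refine ⟨⟨αe⟩, ?_⟩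
  let μ : M →* K' := (MonoidHom.snd K K').comp (e.toMonoidHom.comp (MonoidHom.inr H M))
  have hμ : ∀ m, μ m = (e (1, m)).2 := fun m => rfl
  have hμinj : Function.Injective μ := by
    rw [injective_iff_map_eq_one]
    intro m hm
    have h1 : e (1, m) = ((e (1, m)).1, 1) := by
      ext
      · rfl
      · exact hm
    have h2 : β (e (1, m)).1 = 1 := by
      rw [hβ, ← h1, e.symm_apply_apply]
    have h3 : (e (1, m)).1 = 1 := by
      apply hβinj; rw [h2, map_one]
    have h4 : e (1, m) = 1 := by rw [h1, h3]; rfl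
    have h5 : ((1 : H), m) = 1 := by apply e.injective; rw [h4, map_one]
    exact (Prod.ext_iff.mp h5).2
  have hcard : Nat.card K' ≤ Nat.card M := by
    have c1 : Nat.card (H × M) = Nat.card (K × K') := Nat.card_congr e.toEquiv
    rw [Nat.card_prod, Nat.card_prod, Nat.card_congr αe.toEquiv] at c1
    exact (Nat.eq_of_mul_eq_mul_left Nat.card_pos c1).ge
  exact ⟨MulEquiv.ofBijective μ (Function.Injective.bijective_of_nat_card_le hμinj hcard)⟩

section Pi

variable {κ : Type} [DecidableEq κ] {B : κ → Type v} [∀ j, Group (B j)]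

/-- keep the coordinates in `S` -/
def mask (S : Finset κ) : (∀ j, B j) →* (∀ j, B j) where
  toFun f := fun j => if j ∈ S then f j else 1
  map_one' := by funext j; simp
  map_mul' f g := by funext j; by_cases h : j ∈ S <;> simp [h]

theorem mask_apply (S : Finset κ) (f : ∀ j, B j) (j : κ) :
    mask S f j = if j ∈ S then f j else 1 := rfl

theorem normalEnd_mask (S : Finset κ) : NormalEnd (mask (B := B) S) := by
  intro x h
  funext j
  by_cases hj : j ∈ S <;> simp [mask_apply, hj]

/-- split off one coordinate -/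
def splitAt (B : κ → Type v) [∀ j, Group (B j)] (j : κ) :
    (∀ i, B i) ≃* B j × (∀ i : {i // i ≠ j}, B i) :=
  { Equiv.piSplitAt j B with map_mul' := fun f g => rfl }

theorem splitAt_symm_mask (j : κ) (f : ∀ i, B i) :
    (splitAt B j).symm (f j, 1) = mask {j} f := by
  funext i
  show (Equiv.piSplitAt j B).symm (f j, 1) i = _
  rw [mask_apply]
  by_cases h : i = j
  · subst h
    simp [Equiv.piSplitAt]
  · simp [Equiv.piSplitAt, h]

theorem ks [Fintype κ] [∀ j, Finite (B j)] (hB : ∀ j, Indec (B j)) {H : Type u} {M : Type w}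
    [Group H] [Group M] [Finite H] [Finite M] (hH : Indec H) (e : H × M ≃* (∀ j, B j)) :
    ∃ j, Nonempty (H ≃* B j) ∧ Nonempty (M ≃* (∀ i : {i // i ≠ j}, B i)) := by
  haveI := hH.1
  let P : Finset κ → (H × M →* H × M) :=
    fun S => (e.symm.toMonoidHom.comp (mask S)).comp e.toMonoidHom
  have hP : ∀ S, NormalEnd (P S) := fun S => (normalEnd_mask (B := B) S).conj e.symm
  let ψ : Finset κ → (H →* H) :=
    fun S => ((MonoidHom.fst H M).comp (P S)).comp (MonoidHom.inl H M)
  have hψn : ∀ S, NormalEnd (ψ S) := fun S => (hP S).corner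
  have hψ : ∀ S h, ψ S h = (e.symm (mask S (e (h, 1)))).1 := fun S h => rfl
  have hψuniv : ∀ h, ψ Finset.univ h = h := by
    intro h
    rw [hψ]
    have : mask Finset.univ (e (h, 1)) = e (h, 1) := by funext j; simp [mask_apply]
    rw [this, e.symm_apply_apply]
  have hψempty : ∀ h, ψ ∅ h = 1 := by
    intro h
    rw [hψ]
    have : mask ∅ (e (h, 1)) = 1 := by funext j; simp [mask_apply]
    rw [this, map_one]; rfl
  have hψins : ∀ (j : κ) (S : Finset κ), j ∉ S → ∀ h, ψ S h * ψ {j} h = ψ (insert j S) h := by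
    intro j S hj h
    have hm : mask S (e (h, 1)) * mask {j} (e (h, 1)) = mask (insert j S) (e (h, 1)) := by
      funext i
      simp only [Pi.mul_apply, mask_apply, Finset.mem_singleton, Finset.mem_insert]
      by_cases h1 : i = j
      · subst h1; simp [hj]
      · by_cases h2 : i ∈ S <;> simp [h1, h2]
    rw [hψ, hψ, hψ, ← Prod.fst_mul, ← map_mul, hm]
  have hind : ∀ S : Finset κ, Function.Bijective (ψ S) →
      ∃ j ∈ S, Function.Bijective (ψ {j}) := by
    intro S
    induction S using Finset.induction_on with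
    | empty =>
      intro hb
      exfalso
      obtain ⟨x, hx⟩ := exists_ne (1 : H)
      apply hx
      apply hb.1
      rw [hψempty, hψempty]
    | insert j S hj ih =>
      intro hb
      rcases two_summand' hH (ψ (insert j S)) (ψ S) (ψ {j}) (hψn _) hb (hψn _)
        (hψins j S hj) with h1 | h1
      · obtain ⟨i, hi, hbi⟩ := ih h1
        exact ⟨i, Finset.mem_insert_of_mem hi, hbi⟩
      · exact ⟨j, Finset.mem_insert_self j S, h1⟩
  have hid : Function.Bijective (ψ Finset.univ) := by
    have : (ψ Finset.univ : H → H) = id := funext hψuniv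
    rw [this]; exact Function.bijective_id
  obtain ⟨j, -, hj⟩ := hind Finset.univ hid
  refine ⟨j, ?_⟩
  apply caseA hH.1 (hB j) (e.trans (splitAt B j))
  have hfun : (fun h : H => ((e.trans (splitAt B j)).symm
      (((e.trans (splitAt B j)) (h, 1)).1, 1)).1) = ψ {j} := by
    funext h
    rw [hψ]
    show (e.symm ((splitAt B j).symm ((splitAt B j (e (h, 1))).1, 1))).1 = _
    have : (splitAt B j (e (h, 1))).1 = e (h, 1) j := rfl
    rw [this, splitAt_symm_mask]
  rw [hfun]; exact hj

end Pi

theorem main'.{u1, u2} : ∀ (c : ℕ) (ι κ : Type) [Fintype ι] [Fintype κ] [DecidableEq ι]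
    [DecidableEq κ] (A : ι → Type u1) (B : κ → Type u2) [∀ i, Group (A i)] [∀ j, Group (B j)]
    [∀ i, Finite (A i)] [∀ j, Finite (B j)],
    Fintype.card ι = c → (∀ i, Indec (A i)) → (∀ j, Indec (B j)) →
    ((∀ i, A i) ≃* (∀ j, B j)) → ∃ σ : ι ≃ κ, ∀ i, Nonempty (A i ≃* B (σ i)) := by
  intro c
  induction c with
  | zero =>
    intro ι κ _ _ _ _ A B _ _ _ _ hc hA hB e
    haveI : IsEmpty ι := Fintype.card_eq_zero_iff.mp hc
    haveI : IsEmpty κ := by
      by_contra hne
      rw [not_isEmpty_iff] at hne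
      obtain ⟨k⟩ := hne
      haveI := (hB k).1
      obtain ⟨b, hb⟩ := exists_ne (1 : B k)
      apply hb
      have h1 : e.symm (Pi.mulSingle k b) = e.symm 1 := Subsingleton.elim _ _
      have h2 := e.symm.injective h1
      have h3 := congrFun h2 k
      simpa using h3
    exact ⟨Equiv.equivOfIsEmpty ι κ, fun i => isEmptyElim i⟩
  | succ c ih =>
    intro ι κ _ _ _ _ A B _ _ _ _ hc hA hB e
    haveI : Nonempty ι := by
      rw [← Fintype.card_pos_iff, hc]; omega
    obtain ⟨i₀⟩ := ‹Nonempty ι›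
    obtain ⟨j₀, ⟨f₀⟩, ⟨g⟩⟩ := ks hB (hA i₀) ((splitAt A i₀).symm.trans e)
    have hc' : Fintype.card {i // i ≠ i₀} = c := by
      have := Fintype.card_congr (Equiv.optionSubtypeNe i₀)
      rw [Fintype.card_option, hc] at this
      omega
    obtain ⟨σ', hσ'⟩ := ih {i // i ≠ i₀} {j // j ≠ j₀} (fun i => A i) (fun j => B j) hc'
      (fun i => hA i) (fun j => hB j) g
    refine ⟨(Equiv.optionSubtypeNe i₀).symm.trans
      ((Equiv.optionCongr σ').trans (Equiv.optionSubtypeNe j₀)), ?_⟩
    intro i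
    by_cases hi : i = i₀
    · subst hi
      have : ((Equiv.optionSubtypeNe i).symm.trans
          ((Equiv.optionCongr σ').trans (Equiv.optionSubtypeNe j₀))) i = j₀ := by
        simp
      rw [this]; exact ⟨f₀⟩
    · have : ((Equiv.optionSubtypeNe i₀).symm.trans
          ((Equiv.optionCongr σ').trans (Equiv.optionSubtypeNe j₀))) i = (σ' ⟨i, hi⟩ : κ) := by
        simp [Equiv.optionSubtypeNe_symm_of_ne hi]
      rw [this]; exact hσ' ⟨i, hi⟩

end Cfsg.Agent.Lib.Lead_KS
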