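import Mathlib
import Cfsg.Prelude.Def_SolvableStructure
import Cfsg.Prelude.Def_Transfer
import Cfsg.Agent.Lib.Lead_SZ
import Cfsg.Agent.Lib.Lead_Coprime
import Cfsg.Agent.Lib.Lead_MinNonNil

/-! Minimal non-abelian groups. -/

namespace Cfsg.Agent.Lib.Lead_MinNonAb

open Cfsg Cfsg.Agent.Lib.Lead_SZ Cfsg.Agent.Lib.Lead_Coprime Cfsg.Agent.Lib.Lead_MinNonNil
open scoped Pointwise

variable {G : Type*} [Group G]

theorem nilpotent_of_isMulCommutative {H : Type*} [Group H] (h : IsMulCommutative H) :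
    Group.IsNilpotent H := by
  letI : CommGroup H := { (inferInstance : Group H) with mul_comm := fun a b => mul_comm' a b }
  infer_instance

/-- a group generated by two commutative subgroups centralizing each other is commutative -/
theorem isMulCommutative_of_sup_eq_top {P Q : Subgroup G} (hP : ∀ a ∈ P, ∀ b ∈ P, a * b = b * a)
    (hQ : ∀ a ∈ Q, ∀ b ∈ Q, a * b = b * a) (hPQ : ∀ a ∈ P, ∀ b ∈ Q, a * b = b * a)
    (htop : P ⊔ Q = ⊤) : IsMulCommutative G := by
  have hcen : ∀ x : G, (∀ a ∈ P, a * x = x * a) → (∀ b ∈ Q, b * x = x * b) →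
      x ∈ Subgroup.center G := by
    intro x h1 h2
    have : Subgroup.centralizer {x} = ⊤ := by
      rw [eq_top_iff, ← htop]
      refine sup_le ?_ ?_
      · intro a ha
        rw [Subgroup.mem_centralizer_iff]
        intro y hy
        rw [Set.mem_singleton_iff] at hy
        subst hy
        exact (h1 a ha).symm
      · intro b hb
        rw [Subgroup.mem_centralizer_iff]
        intro y hy
        rw [Set.mem_singleton_iff] at hy
        subst hy
        exact (h2 b hb).symm
    rw [Subgroup.mem_center_iff]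
    intro g
    have hg : g ∈ Subgroup.centralizer {x} := this ▸ Subgroup.mem_top g
    exact (Subgroup.mem_centralizer_iff.mp hg x rfl).symm
  have hPc : P ≤ Subgroup.center G := fun x hx =>
    hcen x (fun a ha => hP a ha x hx) (fun b hb => (hPQ x hx b hb).symm)
  have hQc : Q ≤ Subgroup.center G := fun y hy =>
    hcen y (fun a ha => hPQ a ha y hy) (fun b hb => hQ b hb y hy)
  have hc : Subgroup.center G = ⊤ := by
    rw [eq_top_iff, ← htop]; exact sup_le hPc hQc
  refine ⟨⟨fun a b => ?_⟩⟩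
  have ha : a ∈ Subgroup.center G := hc ▸ Subgroup.mem_top a
  exact (Subgroup.mem_center_iff.mp ha b).symm

/-- coprime action on an abelian `q`-group which is trivial on elements of order `q` is trivial -/
theorem commute_of_commute_omega [Finite G] {q : ℕ} [Fact q.Prime] (P Q : Subgroup G)
    [IsMulCommutative Q] (hQ : IsPGroup q Q) (hPQ : P ≤ Subgroup.normalizer (Q : Set G))
    (hcop : (Nat.card P).Coprime (Nat.card Q))
    (h : ∀ a ∈ P, ∀ b ∈ Q, b ^ q = 1 → a * b = b * a) : ∀ a ∈ P, ∀ b ∈ Q, a * b = b * a := by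
  have hW : (⁅Q, P⁆ : Subgroup G) = ⊥ := by
    by_contra hne
    have hWQ : ⁅Q, P⁆ ≤ Q := commutator_le_of_le_normalizer Q P hPQ
    have hWq : IsPGroup q (⁅Q, P⁆ : Subgroup G) := hQ.to_le hWQ
    have hcard : q ∣ Nat.card (⁅Q, P⁆ : Subgroup G) := by
      obtain ⟨n, hn⟩ := hWq.exists_card_eq
      have hn0 : n ≠ 0 := by
        intro h0
        rw [h0, pow_zero] at hn
        exact hne (Subgroup.card_eq_one.mp hn)
      rw [hn]; exact dvd_pow_self q hn0
    obtain ⟨w, hw⟩ := exists_prime_orderOf_dvd_card' q hcard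
    have hw1 : (w : G) ^ q = 1 := by
      have := pow_orderOf_eq_one w
      rw [hw] at this
      exact congrArg Subtype.val this
    have hwQ : (w : G) ∈ Q := hWQ w.2
    have hmem : (w : G) ∈ (Q ⊓ Subgroup.centralizer (P : Set G)) ⊓ ⁅Q, P⁆ := by
      refine Subgroup.mem_inf.mpr ⟨Subgroup.mem_inf.mpr ⟨hwQ, ?_⟩, w.2⟩
      rw [Subgroup.mem_centralizer_iff]
      intro a ha
      exact h a ha w hwQ hw1
    rw [abelian_inf_eq_bot P Q hPQ hcop, Subgroup.mem_bot] at hmem
    have : w = 1 := Subtype.ext hmem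
    rw [this, orderOf_one] at hw
    exact (Fact.out : q.Prime).one_lt.ne hw
  have := Subgroup.commutator_eq_bot_iff_le_centralizer.mp hW
  intro a ha b hb
  exact Subgroup.mem_centralizer_iff.mp (this hb) a ha


/-- minimal non-abelian groups -/
theorem structure_minNonAb [Finite G] (hna : ¬ IsMulCommutative G)
    (h : ∀ H : Subgroup G, H ≠ ⊤ → IsMulCommutative H) :
    (∃ p : ℕ, p.Prime ∧ IsPGroup p G) ∨ ∃ p q : ℕ, p.Prime ∧ q.Prime ∧ p ≠ q ∧
      ∃ (P : Sylow p G) (Q : Sylow q G), IsCyclic P ∧ (Q : Subgroup G).Normal ∧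
        IsElementaryAbelian q (Q : Subgroup G) ∧ (P : Subgroup G) ⊔ Q = ⊤ := by
  classical
  by_cases hnil : Group.IsNilpotent G
  · left
    by_contra hcon
    push_neg at hcon
    apply hna
    obtain ⟨e⟩ := (Group.isNilpotent_of_finite_tfae.out 0 4 rfl rfl).mp hnil
    refine ⟨⟨fun a b => ?_⟩⟩
    obtain ⟨f, rfl⟩ := e.surjective a
    obtain ⟨g, rfl⟩ := e.surjective b
    rw [← map_mul, ← map_mul]
    congr 1
    funext p P
    haveI : Fact (p : ℕ).Prime := ⟨Nat.prime_of_mem_primeFactors p.2⟩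
    have hPtop : (P : Subgroup G) ≠ ⊤ := by
      intro htop
      apply hcon p (Nat.prime_of_mem_primeFactors p.2)
      have := P.isPGroup'
      rw [htop] at this
      exact IsPGroup.of_equiv this Subgroup.topEquiv
    haveI := h _ hPtop
    exact mul_comm' (f p P) (g p P)
  · right
    have hmnn : IsMinimalNonNilpotent G :=
      ⟨hnil, fun H hH => nilpotent_of_isMulCommutative (h H hH)⟩
    obtain ⟨p, q, hp, hq, hpq, P, Q, hPc, hQn, hPQ⟩ := structure_minNonNil hmnn
    haveI : Fact p.Prime := ⟨hp⟩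
    haveI : Fact q.Prime := ⟨hq⟩
    refine ⟨p, q, hp, hq, hpq, P, Q, hPc, hQn, ?_, hPQ⟩
    have hQtop : (Q : Subgroup G) ≠ ⊤ := by
      intro htop
      apply hnil
      have := Q.isPGroup'
      rw [htop] at this
      exact (IsPGroup.of_equiv this Subgroup.topEquiv).isNilpotent
    haveI hQc := h _ hQtop
    refine ⟨hQc, ?_⟩
    have hQcomm : ∀ a ∈ (Q : Subgroup G), ∀ b ∈ (Q : Subgroup G), a * b = b * a := by
      intro a ha b hb
      exact congrArg Subtype.val (mul_comm' (⟨a, ha⟩ : (Q : Subgroup G)) ⟨b, hb⟩)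
    have hPcomm : ∀ a ∈ (P : Subgroup G), ∀ b ∈ (P : Subgroup G), a * b = b * a := by
      intro a ha b hb
      haveI := hPc
      letI := IsCyclic.commGroup (α := P)
      exact congrArg Subtype.val (mul_comm (⟨a, ha⟩ : P) ⟨b, hb⟩)
    -- Ω₁(Q)
    let Q₁ : Subgroup G :=
      { carrier := {a | a ∈ (Q : Subgroup G) ∧ a ^ q = 1}
        one_mem' := ⟨Subgroup.one_mem _, one_pow _⟩
        mul_mem' := by
          rintro a b ⟨ha, ha'⟩ ⟨hb, hb'⟩
          refine ⟨Subgroup.mul_mem _ ha hb, ?_⟩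
          have hc : Commute a b := hQcomm a ha b hb
          rw [hc.mul_pow, ha', hb', one_mul]
        inv_mem' := by
          rintro a ⟨ha, ha'⟩
          exact ⟨Subgroup.inv_mem _ ha, by rw [inv_pow, ha', inv_one]⟩ }
    have hQ₁n : Q₁.Normal := by
      constructor
      rintro a ⟨ha, ha'⟩ g
      refine ⟨hQn.conj_mem a ha g, ?_⟩
      rw [conj_pow, ha', mul_one, mul_inv_cancel]
    have hdisj : (P : Subgroup G) ⊓ (Q : Subgroup G) = ⊥ :=
      (IsPGroup.disjoint_of_ne p q hpq _ _ P.isPGroup' Q.isPGroup').eq_bot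
    by_cases hX : (P : Subgroup G) ⊔ Q₁ = ⊤
    · intro a ha
      have hmem : a ∈ (P : Subgroup G) ⊔ Q₁ := hX ▸ Subgroup.mem_top a
      haveI := hQ₁n
      rw [← SetLike.mem_coe, Subgroup.mul_normal] at hmem
      obtain ⟨x, hx, b, hb, hxb⟩ := Set.mem_mul.mp hmem
      have hx' : x ∈ (P : Subgroup G) ⊓ (Q : Subgroup G) := by
        refine Subgroup.mem_inf.mpr ⟨hx, ?_⟩
        have : x = a * b⁻¹ := by rw [← hxb]; group
        rw [this]
        exact Subgroup.mul_mem _ ha (Subgroup.inv_mem _ hb.1)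
      rw [hdisj, Subgroup.mem_bot] at hx'
      rw [hx', one_mul] at hxb
      rw [← hxb]; exact hb.2
    · exfalso
      apply hna
      haveI := h _ hX
      have hPQ₁ : ∀ a ∈ (P : Subgroup G), ∀ b ∈ (Q : Subgroup G), b ^ q = 1 → a * b = b * a := by
        intro a ha b hb hb'
        have h1 : a ∈ (P : Subgroup G) ⊔ Q₁ := Subgroup.mem_sup_left ha
        have h2 : b ∈ (P : Subgroup G) ⊔ Q₁ := Subgroup.mem_sup_right ⟨hb, hb'⟩
        exact congrArg Subtype.val (mul_comm' (⟨a, h1⟩ : ((P : Subgroup G) ⊔ Q₁ : Subgroup G)) ⟨b, h2⟩)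
      have hnorm : (P : Subgroup G) ≤ Subgroup.normalizer ((Q : Subgroup G) : Set G) := by
        rw [Subgroup.normalizer_eq_top_iff.mpr hQn]; exact le_top
      have hcop : (Nat.card (P : Subgroup G)).Coprime (Nat.card (Q : Subgroup G)) := by
        rw [P.card_eq_multiplicity, Q.card_eq_multiplicity]
        exact Nat.Coprime.pow _ _ ((Nat.coprime_primes hp hq).mpr hpq)
      have hall := commute_of_commute_omega (P : Subgroup G) (Q : Subgroup G) Q.isPGroup' hnorm hcop hPQ₁
      exact isMulCommutative_of_sup_eq_top hPcomm hQcomm hall hPQ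

end Cfsg.Agent.Lib.Lead_MinNonAb
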