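import Mathlib

/-! The `N/C` lemma in index form. -/

set_option autoImplicit false

namespace Cfsg.Agent.Lib.Lead_NC

theorem relIndex_dvd_card_mulAut {G : Type*} [Group G] (H : Subgroup G) [Finite H] :
    (Subgroup.centralizer (H : Set G)).relIndex (Subgroup.normalizer (H : Set G)) ∣
      Nat.card (MulAut H) := by
  have key := Subgroup.card_dvd_of_injective _ (QuotientGroup.kerLift_injective H.normalizerMonoidHom)
  rw [Subgroup.normalizerMonoidHom_ker, ← Subgroup.index, ← Subgroup.relIndex] at key
  exact key

theorem card_mulAut_dvd_factorial (H : Type*) [Group H] [Finite H] :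
    Nat.card (MulAut H) ∣ (Nat.card H).factorial := by
  have h := Subgroup.card_dvd_of_injective (MulAut.toPerm (M := H)) (by
    intro a b hab
    ext x
    have := congrArg (fun σ : Equiv.Perm H => σ x) hab
    exact this)
  rwa [Nat.card_perm] at h

theorem relIndex_dvd_factorial {G : Type*} [Group G] (H : Subgroup G) [Finite H] :
    (Subgroup.centralizer (H : Set G)).relIndex (Subgroup.normalizer (H : Set G)) ∣
      (Nat.card H).factorial :=
  (relIndex_dvd_card_mulAut H).trans (card_mulAut_dvd_factorial H)

/-- For a Sylow subgroup that is abelian, `|N(P) : C(P)|` is prime to `p`. -/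
theorem relIndex_not_dvd {G : Type*} [Group G] [Finite G] {p : ℕ} [Fact p.Prime] (P : Sylow p G)
    (hPC : (P : Subgroup G) ≤ Subgroup.centralizer ((P : Subgroup G) : Set G)) :
    ¬ p ∣ (Subgroup.centralizer ((P : Subgroup G) : Set G)).relIndex
      (Subgroup.normalizer ((P : Subgroup G) : Set G)) := by
  intro h
  have h1 := Subgroup.relIndex_dvd_of_le_left (Subgroup.normalizer ((P : Subgroup G) : Set G)) hPC
  have h2 := Subgroup.relIndex_dvd_index_of_le (Subgroup.le_normalizer (H := (P : Subgroup G)))
  exact P.not_dvd_index ((h.trans h1).trans h2)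

end Cfsg.Agent.Lib.Lead_NC
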