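import Mathlib
import Cfsg.Prelude.Def_LocalEven
import Cfsg.Prelude.Def_ConjugacyFunctors
import Cfsg.Agent.Lib.Lead_ActStab
import Cfsg.Agent.Lib.Lead_Ind

/-!
# Normalizer `p`-stability of all sections of a group with a series `H ≤ K ≤ X`
(`H` a `p`-group, `K/H` an abelian `p'`-group, `X/K` a `p`-group), `p` odd; and
"control of strong fusion implies normality" when `C_X(O_p(X)) ≤ O_p(X)`.
-/

namespace Cfsg.Agent.Lib.Lead_NStab

open Cfsg.Agent.Lib.Helper7_NPC Cfsg.Agent.Lib.Helper4_PCore Cfsg.Agent.Lib.Lead_GT1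
  Cfsg.Agent.Lib.Lead_GTb Cfsg.Agent.Lib.Lead_PStab2 Cfsg.Agent.Lib.Lead_ActStab
  Cfsg.Agent.Lib.Lead_Ind
open scoped commutatorElement

universe u

/-- The series data. -/
structure SData (p : ℕ) (X : Type*) [Group X] (H K : Subgroup X) : Prop where
  hHn : H.Normal
  hKn : K.Normal
  hHp : IsPGroup p H
  hHK : H ≤ K
  hab : ⁅K, K⁆ ≤ H
  hcop : (H.relIndex K).Coprime p
  hKi : ∃ j, K.index = p ^ j

section
variable {p : ℕ} [Fact p.Prime] {X : Type*} [Group X] {H K : Subgroup X}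

theorem SData.sub (d : SData p X H K) (M : Subgroup X) :
    SData p ↥M (H.subgroupOf M) (K.subgroupOf M) := by
  have hpp : p.Prime := Fact.out
  haveI := d.hHn
  haveI := d.hKn
  refine ⟨inferInstance, inferInstance, d.hHp.comap_subtype, ?_, ?_, ?_, ?_⟩
  · intro x hx
    exact Subgroup.mem_subgroupOf.2 (d.hHK (Subgroup.mem_subgroupOf.1 hx))
  · rw [Subgroup.commutator_le]
    intro a ha b hb
    rw [Subgroup.mem_subgroupOf] at ha hb ⊢
    apply d.hab
    have : ((⁅a, b⁆ : ↥M) : X) = ⁅(a : X), (b : X)⁆ := by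
      simp [commutatorElement_def]
    rw [this]
    exact Subgroup.commutator_mem_commutator ha hb
  · exact Nat.Coprime.coprime_dvd_left (relIndex_subgroupOf_dvd H K M) d.hcop
  · obtain ⟨j, hj⟩ := d.hKi
    have h1 : (K.subgroupOf M).index ∣ K.index :=
      Subgroup.relIndex_dvd_index_of_normal (H := K) (K := M)
    rw [hj] at h1
    obtain ⟨i, -, hi⟩ := (Nat.dvd_prime_pow hpp).1 h1
    exact ⟨i, hi⟩

theorem SData.map (d : SData p X H K) {Y : Type*} [Group Y] (f : X →* Y)
    (hf : Function.Surjective f) : SData p Y (H.map f) (K.map f) := by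
  have hpp : p.Prime := Fact.out
  haveI := d.hHn
  haveI := d.hKn
  refine ⟨d.hHn.map f hf, d.hKn.map f hf, d.hHp.map f, Subgroup.map_mono d.hHK, ?_, ?_, ?_⟩
  · rw [← Subgroup.map_commutator]
    exact Subgroup.map_mono d.hab
  · rw [Subgroup.relIndex_map_map]
    haveI : (H ⊔ f.ker).Normal := inferInstance
    have e1 : K ⊔ f.ker = K ⊔ (H ⊔ f.ker) := by
      rw [← sup_assoc, sup_eq_left.2 d.hHK]
    rw [e1, Subgroup.relIndex_sup_right]
    exact Nat.Coprime.coprime_dvd_left
      (Subgroup.relIndex_dvd_of_le_left K (le_sup_left : H ≤ H ⊔ f.ker)) d.hcop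
  · obtain ⟨j, hj⟩ := d.hKi
    have h1 : (K.map f).index ∣ K.index := Subgroup.index_map_dvd K hf
    rw [hj] at h1
    obtain ⟨i, -, hi⟩ := (Nat.dvd_prime_pow hpp).1 h1
    exact ⟨i, hi⟩

end

section
variable {p : ℕ} [Fact p.Prime] {X : Type u} [Group X] [Finite X] {H K : Subgroup X}

theorem transport_mem {N : Type*} [Group N] (p : ℕ) (a : N) (C C' : Subgroup N) (hC : C.Normal)
    (hC' : C'.Normal) (h : C = C')
    (hm : (QuotientGroup.mk (s := C) a : N ⧸ C) ∈ Cfsg.pCore p (N ⧸ C)) :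
    (QuotientGroup.mk (s := C') a : N ⧸ C') ∈ Cfsg.pCore p (N ⧸ C') := by
  subst h
  exact hm

theorem centralizer_subgroupOf (P N : Subgroup X) (hPN : P ≤ N) :
    Subgroup.centralizer ((P.subgroupOf N : Subgroup ↥N) : Set ↥N) =
      (Subgroup.centralizer (P : Set X)).subgroupOf N := by
  ext x
  rw [Subgroup.mem_subgroupOf, Subgroup.mem_centralizer_iff, Subgroup.mem_centralizer_iff]
  constructor
  · intro h y hy
    have := h ⟨y, hPN hy⟩ (Subgroup.mem_subgroupOf.2 hy)
    exact congrArg Subtype.val this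
  · intro h y hy
    apply Subtype.ext
    exact h y (Subgroup.mem_subgroupOf.1 hy)

set_option maxHeartbeats 1000000 in
/-- The series data gives normalizer `p`-stability. -/
theorem SData.stable (hp2 : p ≠ 2) (d : SData p X H K) : Cfsg.IsNormalizerPStable p X := by
  haveI := d.hHn
  haveI := d.hKn
  intro P hP g hg hquad
  set N := Subgroup.normalizer (P : Set X) with hN
  have hPN : P ≤ N := Subgroup.le_normalizer
  set V := P.subgroupOf N with hV
  haveI hVn : V.Normal := Subgroup.normal_in_normalizer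
  have hVp : IsPGroup p V := hP.comap_subtype
  have hst := stableOn_subgroup hp2 H K d.hHp d.hab d.hcop d.hKi N V hVp
  have hq : ⁅⁅V, Subgroup.zpowers (⟨g, hg⟩ : ↥N)⁆, Subgroup.zpowers (⟨g, hg⟩ : ↥N)⁆ = ⊥ := by
    rw [← Subgroup.map_eq_bot_iff_of_injective _ N.subtype_injective, Subgroup.map_commutator,
      Subgroup.map_commutator, MonoidHom.map_zpowers, hV, Subgroup.map_subgroupOf_eq_of_le hPN]
    exact hquad
  have h1 := hst ⟨g, hg⟩ hq
  exact transport_mem p (⟨g, hg⟩ : ↥N) _ _ inferInstance inferInstance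
    (centralizer_subgroupOf P N hPN) h1

/-- All sections are normalizer `p`-stable. -/
theorem SData.stable_section (hp2 : p ≠ 2) (d : SData p X H K) (K' R' : Subgroup X)
    [hR' : (R'.subgroupOf K').Normal] : Cfsg.IsNormalizerPStable p (↥K' ⧸ R'.subgroupOf K') :=
  ((d.sub K').map (QuotientGroup.mk' (R'.subgroupOf K'))
    (QuotientGroup.mk'_surjective _)).stable hp2

/-- The series data from: `G/O_p(G)` has a normal `p`-complement and a Sylow `p`-subgroup is a
maximal subgroup. -/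
theorem exists_sdata (hq : Cfsg.HasNormalPComplement p (X ⧸ Cfsg.pCore p X)) (T : Sylow p X)
    (hT : IsCoatom (T : Subgroup X)) : ∃ K : Subgroup X, SData p X (Cfsg.pCore p X) K := by
  have hpp : p.Prime := Fact.out
  haveI hHn : (Cfsg.pCore p X).Normal := pCore_normal p X
  have hHp : IsPGroup p (Cfsg.pCore p X) := pCore_isPGroup
  set H := Cfsg.pCore p X with hH
  rw [hasNormalPComplement_iff_npc] at hq
  obtain ⟨K, hKn, hHK, hcop, hKi⟩ := Cfsg.Agent.Lib.Lead_GT4.exists_K H hq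
  haveI := hKn
  have hHT : H ≤ (T : Subgroup X) := normal_pGroup_le_sylow H hHn hHp T
  have hpel : ∀ x ∈ K, (∃ t, x ^ (p ^ t) = 1) → x ∈ H := fun x hx ⟨t, ht⟩ =>
    Cfsg.Agent.Lib.Lead_PStab2.pElement_mem H K hcop hx t ht
  have hpel' : ∀ x ∈ (T : Subgroup X), ∃ t, x ^ (p ^ t) = 1 := by
    intro x hx
    obtain ⟨t, ht⟩ := T.isPGroup' ⟨x, hx⟩
    exact ⟨t, by simpa using congrArg (fun z : ↥(T : Subgroup X) => (z : X)) ht⟩
  have hbetween : ∀ Y : Subgroup X, H ≤ Y → Y ≤ K →
      (T : Subgroup X) ≤ Subgroup.normalizer (Y : Set X) → Y = H ∨ Y = K := by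
    intro Y hHY hYK hTY
    have hTM : (T : Subgroup X) ≤ Y ⊔ (T : Subgroup X) := le_sup_right
    rcases hT.le_iff.1 hTM with hM | hM
    · right
      apply le_antisymm hYK
      intro k hk
      have h1 : k ∈ (↑(Y ⊔ (T : Subgroup X)) : Set X) := by
        show k ∈ Y ⊔ (T : Subgroup X)
        rw [hM]; trivial
      rw [Subgroup.coe_mul_of_right_le_normalizer_left Y T hTY, Set.mem_mul] at h1
      obtain ⟨y, hy, x, hx, rfl⟩ := h1
      have hxK : x ∈ K := by
        have e : x = y⁻¹ * (y * x) := by group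
        rw [e]
        exact K.mul_mem (K.inv_mem (hYK hy)) hk
      exact Y.mul_mem hy (hHY (hpel x hxK (hpel' x hx)))
    · left
      apply le_antisymm _ hHY
      intro y hy
      have hyT : y ∈ (T : Subgroup X) := by
        rw [← hM]; exact (le_sup_left : Y ≤ Y ⊔ (T : Subgroup X)) hy
      exact hpel y (hYK hy) (hpel' y hyT)
  have hab := Cfsg.Agent.Lib.Lead_GT6.comm_le H K hHp hHK hcop T hbetween
  exact ⟨K, hHn, hKn, hHp, hHK, hab, hcop, hKi⟩

end

section
variable {p : ℕ} [Fact p.Prime] {X : Type u} [Group X] [Finite X]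

/-- If `W(T)` controls strong fusion and `C_X(O_p(X)) ≤ O_p(X)`, then `W(T)` is normal. -/
theorem normal_of_controls (W : ∀ (Q : Type u) [Group Q], Subgroup Q)
    (hW : Cfsg.IsCharPFunctor.{u} p W)
    (hcent : Subgroup.centralizer ((Cfsg.pCore p X : Subgroup X) : Set X) ≤ Cfsg.pCore p X)
    (T : Sylow p X)
    (hc : Cfsg.ControlsStrongFusion p (Cfsg.inducedFunctor (G := X) W (T : Subgroup X))) :
    (Cfsg.inducedFunctor (G := X) W (T : Subgroup X)).Normal := by
  haveI hHn : (Cfsg.pCore p X).Normal := pCore_normal p X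
  have hHp : IsPGroup p (Cfsg.pCore p X) := pCore_isPGroup
  set H := Cfsg.pCore p X with hH
  set U := Cfsg.inducedFunctor (G := X) W (T : Subgroup X) with hU
  obtain ⟨T', hUT', hA⟩ := hc
  have hHT' : H ≤ (T' : Subgroup X) := normal_pGroup_le_sylow H hHn hHp T'
  have hHT : H ≤ (T : Subgroup X) := normal_pGroup_le_sylow H hHn hHp T
  have hTN : (T : Subgroup X) ≤ Subgroup.normalizer (U : Set X) :=
    Subgroup.le_normalizer.trans (W_char (indFun W hW) (T : Subgroup X) T.isPGroup')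
  rw [← Subgroup.normalizer_eq_top_iff, eq_top_iff]
  intro g _
  have hsub : ((H : Subgroup X) : Set X) ⊆ ((T' : Subgroup X) : Set X) := hHT'
  obtain ⟨-, h2⟩ := hA (H : Set X) hsub
  have himg : (fun a => g * a * g⁻¹) '' (H : Set X) ⊆ ((T' : Subgroup X) : Set X) := by
    rintro _ ⟨a, ha, rfl⟩
    exact hHT' (hHn.conj_mem a ha g)
  obtain ⟨x, hx, hxa⟩ := h2 g himg
  have hc1 : x⁻¹ * g ∈ Subgroup.centralizer ((H : Subgroup X) : Set X) := by
    rw [Subgroup.mem_centralizer_iff]
    intro a ha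
    have h3 := hxa a ha
    -- g a g⁻¹ = x a x⁻¹
    have h4 : a * (x⁻¹ * g) = x⁻¹ * (x * a * x⁻¹) * g := by group
    rw [h4, ← h3]
    group
  have h5 : x⁻¹ * g ∈ Subgroup.normalizer (U : Set X) := hTN (hHT (hcent hc1))
  have h6 : g = x * (x⁻¹ * g) := by group
  rw [h6]
  exact Subgroup.mul_mem _ hx h5

end

end Cfsg.Agent.Lib.Lead_NStab
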