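import Mathlib
import Cfsg.Prelude.Def_LocalEven
import Cfsg.Agent.Lib.Lead_OddStab2
import Cfsg.Agent.Lib.Lead_NStab

/-!
# Normalizer p-stability of solvable groups of odd order
-/

namespace Cfsg.Agent.Lib.Lead_OddStab3

open Cfsg.Agent.Lib.Lead_OddStab2 Cfsg.Agent.Lib.Lead_NStab

theorem odd_subgroup {G : Type*} [Group G] [Finite G] (hodd : Odd (Nat.card G)) (H : Subgroup G) :
    Odd (Nat.card ↥H) := hodd.of_dvd_nat (Subgroup.card_subgroup_dvd_card H)

/-- Solvable groups of odd order are `p`-stable in the normalizer form. -/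
theorem oddNStable {G : Type*} [Group G] [Finite G] [Group.IsSolvable G] (hodd : Odd (Nat.card G))
    (p : ℕ) [Fact p.Prime] : Cfsg.IsNormalizerPStable p G := by
  intro P hP g hg hquad
  set N := Subgroup.normalizer (P : Set G) with hN
  have hPN : P ≤ N := Subgroup.le_normalizer
  set V := P.subgroupOf N with hV
  haveI hVn : V.Normal := Subgroup.normal_in_normalizer
  have hVp : IsPGroup p V := hP.comap_subtype
  have hst := oddStable (Γ := ↥N) (odd_subgroup hodd N) p V hVp
  have hq : ⁅⁅V, Subgroup.zpowers (⟨g, hg⟩ : ↥N)⁆, Subgroup.zpowers (⟨g, hg⟩ : ↥N)⁆ = ⊥ := by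
    rw [← Subgroup.map_eq_bot_iff_of_injective _ N.subtype_injective, Subgroup.map_commutator,
      Subgroup.map_commutator, MonoidHom.map_zpowers, hV, Subgroup.map_subgroupOf_eq_of_le hPN]
    exact hquad
  have h1 := hst ⟨g, hg⟩ hq
  exact transport_mem p (⟨g, hg⟩ : ↥N) _ _ inferInstance inferInstance
    (centralizer_subgroupOf P N hPN) h1

/-- Subgroup form. -/
theorem oddNStable_subgroup {G : Type*} [Group G] [Finite G] [Group.IsSolvable G]
    (hodd : Odd (Nat.card G)) (p : ℕ) [Fact p.Prime] (P A : Subgroup G) (hP : IsPGroup p P)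
    (hAN : A ≤ Subgroup.normalizer (P : Set G)) (hquad : ⁅⁅P, A⁆, A⁆ = ⊥) :
    (A.subgroupOf (Subgroup.normalizer (P : Set G))).map
        (QuotientGroup.mk' ((Subgroup.centralizer (P : Set G)).subgroupOf
          (Subgroup.normalizer (P : Set G))))
      ≤ Cfsg.pCore p _ := by
  rintro _ ⟨⟨a, haN⟩, ha, rfl⟩
  have haA : a ∈ A := Subgroup.mem_subgroupOf.1 ha
  have hz : Subgroup.zpowers a ≤ A := Subgroup.zpowers_le.2 haA
  have hq : ⁅⁅P, Subgroup.zpowers a⁆, Subgroup.zpowers a⁆ = ⊥ := by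
    rw [eq_bot_iff, ← hquad]
    exact Subgroup.commutator_mono (Subgroup.commutator_mono le_rfl hz) hz
  exact oddNStable hodd p P hP a haN hq

end Cfsg.Agent.Lib.Lead_OddStab3
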