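import Mathlib

/-! π-parts of elements and a Burnside-type count of classes of π-elements in a coset. -/

namespace Cfsg.Agent.LeadPiClass

open Subgroup

variable {G : Type*} [Group G]

/-- `g` is a π-element. -/
def IsPi (π : Set ℕ) (g : G) : Prop := ∀ q : ℕ, q.Prime → q ∣ orderOf g → q ∈ π

theorem IsPi.of_dvd {π : Set ℕ} {H : Type*} [Group H] {g : G} {h : H} (hg : IsPi π g)
    (hd : orderOf h ∣ orderOf g) : IsPi π h :=
  fun q hq hqd => hg q hq (hqd.trans hd)

theorem IsPi.one (π : Set ℕ) : IsPi π (1 : G) := by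
  intro q hq hqd
  rw [orderOf_one] at hqd
  exact absurd (Nat.dvd_one.mp hqd) hq.ne_one

theorem IsPi.inv {π : Set ℕ} {g : G} (hg : IsPi π g) : IsPi π g⁻¹ :=
  hg.of_dvd (by rw [orderOf_inv])

theorem IsPi.mul {π : Set ℕ} {g h : G} (hg : IsPi π g) (hh : IsPi π h) (hc : Commute g h) :
    IsPi π (g * h) := by
  intro q hq hqd
  have h1 := hqd.trans hc.orderOf_mul_dvd_lcm
  have h2 := h1.trans (Nat.lcm_dvd_mul _ _)
  rcases (hq.dvd_mul).1 h2 with h | h
  · exact hg q hq h
  · exact hh q hq h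

theorem orderOf_conj_eq (c g : G) : orderOf (c * g * c⁻¹) = orderOf g := by
  have := (MulAut.conj c).orderOf_eq g
  simpa [MulAut.conj_apply] using this

theorem IsPi.conj {π : Set ℕ} {g : G} (hg : IsPi π g) (c : G) : IsPi π (c * g * c⁻¹) :=
  hg.of_dvd (by rw [orderOf_conj_eq])

theorem eq_one_of_isPi_of_isPi_compl {π : Set ℕ} {g : G} (h1 : IsPi π g) (h2 : IsPi πᶜ g) :
    g = 1 := by
  rw [← orderOf_eq_one_iff, Nat.eq_one_iff_not_exists_prime_dvd]
  intro p hp hd
  exact h2 p hp hd (h1 p hp hd)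

theorem exists_split (π : Set ℕ) {o : ℕ} (ho : 0 < o) :
    ∃ a b : ℕ, a * b = o ∧ Nat.Coprime a b ∧ (∀ q : ℕ, q.Prime → q ∣ a → q ∈ π) ∧
      (∀ q : ℕ, q.Prime → q ∣ b → q ∉ π) := by
  classical
  let s := o.divisors.filter (fun d => ∀ q : ℕ, q.Prime → q ∣ d → q ∈ π)
  have hs : s.Nonempty := by
    refine ⟨1, Finset.mem_filter.2 ⟨Nat.mem_divisors.2 ⟨one_dvd _, ho.ne'⟩, ?_⟩⟩
    intro q hq hq1
    exact absurd (Nat.dvd_one.mp hq1) hq.ne_one
  obtain ⟨a, ha, hmax⟩ := Finset.exists_max_image s id hs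
  have ha' : a ∣ o ∧ ∀ q : ℕ, q.Prime → q ∣ a → q ∈ π := by
    have := Finset.mem_filter.1 ha
    exact ⟨(Nat.mem_divisors.1 this.1).1, this.2⟩
  obtain ⟨b, hb⟩ := ha'.1
  have hbπ : ∀ q : ℕ, q.Prime → q ∣ b → q ∉ π := by
    intro q hq hqb hqπ
    have hmem : a * q ∈ s := by
      refine Finset.mem_filter.2 ⟨Nat.mem_divisors.2 ⟨?_, ho.ne'⟩, ?_⟩
      · rw [hb]; exact Nat.mul_dvd_mul_left a hqb
      · intro r hr hrd
        rcases (hr.dvd_mul).1 hrd with h | h
        · exact ha'.2 r hr h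
        · rw [(Nat.prime_dvd_prime_iff_eq hr hq).1 h]; exact hqπ
    have h1 := hmax _ hmem
    simp only [id] at h1
    have ha0 : 0 < a := Nat.pos_of_dvd_of_pos ha'.1 ho
    have h2 : a * q ≤ a * 1 := by simpa using h1
    have h3 := Nat.le_of_mul_le_mul_left h2 ha0
    have := hq.two_le
    omega
  refine ⟨a, b, hb.symm, ?_, ha'.2, hbπ⟩
  by_contra hc
  obtain ⟨p, hp, hpa, hpb⟩ := Nat.Prime.not_coprime_iff_dvd.1 hc
  exact hbπ p hp hpb (ha'.2 p hp hpa)

theorem exists_decomp [Finite G] (π : Set ℕ) (g : G) :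
    ∃ p : G × G, p.1 ∈ zpowers g ∧ p.2 ∈ zpowers g ∧ IsPi π p.1 ∧ IsPi πᶜ p.2 ∧
      p.1 * p.2 = g := by
  obtain ⟨a, b, hab, hco, ha, hb⟩ := exists_split π (orderOf_pos g)
  obtain ⟨e, he1, he2⟩ := Nat.chineseRemainder hco 1 0
  obtain ⟨e', he1', he2'⟩ := Nat.chineseRemainder hco 0 1
  have hbe : b ∣ e := (Nat.modEq_zero_iff_dvd).1 he2
  have hae' : a ∣ e' := (Nat.modEq_zero_iff_dvd).1 he1'
  have hu : (g ^ e) ^ a = 1 := by
    rw [← pow_mul]
    apply orderOf_dvd_iff_pow_eq_one.1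
    rw [← hab, mul_comm a b]
    exact Nat.mul_dvd_mul hbe (dvd_refl a)
  have hv : (g ^ e') ^ b = 1 := by
    rw [← pow_mul]
    apply orderOf_dvd_iff_pow_eq_one.1
    rw [← hab]
    exact Nat.mul_dvd_mul hae' (dvd_refl b)
  refine ⟨(g ^ e, g ^ e'), Subgroup.npow_mem_zpowers g e, Subgroup.npow_mem_zpowers g e', ?_, ?_, ?_⟩
  · intro q hq hqd
    exact ha q hq (hqd.trans (orderOf_dvd_of_pow_eq_one hu))
  · intro q hq hqd
    exact hb q hq (hqd.trans (orderOf_dvd_of_pow_eq_one hv))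
  · show g ^ e * g ^ e' = g
    rw [← pow_add]
    have h1 : e + e' ≡ 1 [MOD a] := by simpa using he1.add he1'
    have h2 : e + e' ≡ 1 [MOD b] := by simpa using he2.add he2'
    have h3 : e + e' ≡ 1 [MOD orderOf g] := by
      rw [← hab]
      exact (Nat.modEq_and_modEq_iff_modEq_mul hco).1 ⟨h1, h2⟩
    have := pow_eq_pow_iff_modEq.2 h3
    rw [this, pow_one]

/-- π-part. -/
noncomputable def piPart [Finite G] (π : Set ℕ) (g : G) : G := (exists_decomp π g).choose.1

/-- π'-part. -/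
noncomputable def piCompl [Finite G] (π : Set ℕ) (g : G) : G := (exists_decomp π g).choose.2

variable [Finite G]

theorem piPart_mem (π : Set ℕ) (g : G) : piPart π g ∈ zpowers g :=
  (exists_decomp π g).choose_spec.1

theorem piCompl_mem (π : Set ℕ) (g : G) : piCompl π g ∈ zpowers g :=
  (exists_decomp π g).choose_spec.2.1

theorem isPi_piPart (π : Set ℕ) (g : G) : IsPi π (piPart π g) :=
  (exists_decomp π g).choose_spec.2.2.1

theorem isPi_piCompl (π : Set ℕ) (g : G) : IsPi πᶜ (piCompl π g) :=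
  (exists_decomp π g).choose_spec.2.2.2.1

theorem piPart_mul_piCompl (π : Set ℕ) (g : G) : piPart π g * piCompl π g = g :=
  (exists_decomp π g).choose_spec.2.2.2.2

theorem commute_of_mem_zpowers {g x u : G} (hx : Commute x g) (hu : u ∈ zpowers g) :
    Commute x u := by
  obtain ⟨k, rfl⟩ := Subgroup.mem_zpowers_iff.1 hu
  exact hx.zpow_right k

theorem commute_piPart_piCompl (π : Set ℕ) (g : G) : Commute (piPart π g) (piCompl π g) := by
  have h1 : Commute (piPart π g) g :=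
    (commute_of_mem_zpowers (Commute.refl g) (piPart_mem π g)).symm
  exact commute_of_mem_zpowers h1 (piCompl_mem π g)

theorem decomp_unique {π : Set ℕ} {g x w : G} (hx : IsPi π x) (hw : IsPi πᶜ w)
    (hc : Commute x w) (hg : x * w = g) : x = piPart π g ∧ w = piCompl π g := by
  have hxg : Commute x g := by rw [← hg]; exact (Commute.refl x).mul_right hc
  have hwg : Commute w g := by rw [← hg]; exact hc.symm.mul_right (Commute.refl w)
  have hxu := commute_of_mem_zpowers hxg (piPart_mem π g)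
  have hwv := commute_of_mem_zpowers hwg (piCompl_mem π g)
  have huv := piPart_mul_piCompl π g
  have heq : (piPart π g)⁻¹ * x = piCompl π g * w⁻¹ := by
    have h1 : x = piPart π g * piCompl π g * w⁻¹ := by
      rw [huv, ← hg]; group
    calc (piPart π g)⁻¹ * x = (piPart π g)⁻¹ * (piPart π g * piCompl π g * w⁻¹) := by rw [← h1]
      _ = piCompl π g * w⁻¹ := by group
  have h1 : IsPi π ((piPart π g)⁻¹ * x) :=
    (isPi_piPart π g).inv.mul hx hxu.symm.inv_left
  have h2 : IsPi πᶜ ((piPart π g)⁻¹ * x) := by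
    rw [heq]
    exact (isPi_piCompl π g).mul hw.inv hwv.symm.inv_right
  have h3 := eq_one_of_isPi_of_isPi_compl h1 h2
  have hx' : x = piPart π g := by
    have := inv_mul_eq_one.1 h3
    exact this.symm
  refine ⟨hx', ?_⟩
  rw [hx'] at hg
  exact mul_left_cancel (hg.trans huv.symm)

end Cfsg.Agent.LeadPiClass
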