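import Mathlib
import Cfsg.Agent.Lib.Lead_PiClass

/-! Burnside count of classes of π-elements in a coset of a normal subgroup. -/

namespace Cfsg.Agent.LeadPiClass

open Subgroup

variable {G : Type*} [Group G]

/-- A subset of `G` invariant under conjugation by `N`. -/
structure InvSet (N : Subgroup G) where
  S : G → Prop
  inv : ∀ (n : N) (x : G), S x → S ((n : G) * x * (n : G)⁻¹)

/-- Elements of an invariant set. -/
abbrev InvSet.Elem {N : Subgroup G} (I : InvSet N) : Type _ := {x : G // I.S x}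

instance InvSet.instMulAction {N : Subgroup G} (I : InvSet N) : MulAction N I.Elem where
  smul n x := ⟨(n : G) * x.1 * (n : G)⁻¹, I.inv n x.1 x.2⟩
  one_smul x := Subtype.ext (by
    show ((1 : N) : G) * x.1 * ((1 : N) : G)⁻¹ = x.1
    simp)
  mul_smul a b x := Subtype.ext (by
    show ((a * b : N) : G) * x.1 * ((a * b : N) : G)⁻¹ =
      (a : G) * ((b : G) * x.1 * (b : G)⁻¹) * (a : G)⁻¹
    simp [mul_assoc])

theorem InvSet.smul_val {N : Subgroup G} (I : InvSet N) (n : N) (x : I.Elem) :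
    (n • x).1 = (n : G) * x.1 * (n : G)⁻¹ := rfl

/-- The orbit space. -/
abbrev InvSet.Orb {N : Subgroup G} (I : InvSet N) : Type _ :=
  Quotient (MulAction.orbitRel N I.Elem)

/-- Orbit of an element. -/
def InvSet.orb {N : Subgroup G} (I : InvSet N) (x : I.Elem) : I.Orb :=
  Quotient.mk (MulAction.orbitRel N I.Elem) x

theorem InvSet.orb_eq_iff {N : Subgroup G} (I : InvSet N) (x y : I.Elem) :
    I.orb x = I.orb y ↔ ∃ n : N, (n : G) * y.1 * (n : G)⁻¹ = x.1 := by
  unfold InvSet.orb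
  rw [Quotient.eq]
  show x ∈ MulAction.orbit N y ↔ _
  rw [MulAction.mem_orbit_iff]
  constructor
  · rintro ⟨n, hn⟩
    exact ⟨n, congrArg Subtype.val hn⟩
  · rintro ⟨n, hn⟩
    exact ⟨n, Subtype.ext hn⟩

theorem InvSet.orb_surj {N : Subgroup G} (I : InvSet N) (o : I.Orb) : ∃ x, I.orb x = o :=
  Quotient.exists_rep o

variable [Finite G]


theorem InvSet.burnside {N : Subgroup G} (I : InvSet N) :
    Nat.card {p : N × G // I.S p.2 ∧ Commute (p.1 : G) p.2} = Nat.card I.Orb * Nat.card N := by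
  classical
  haveI : Fintype N := Fintype.ofFinite N
  haveI : Fintype (Quotient (MulAction.orbitRel N I.Elem)) := Fintype.ofFinite _
  haveI : ∀ n : N, Fintype (MulAction.fixedBy I.Elem n) := fun n => Fintype.ofFinite _
  have h := MulAction.sum_card_fixedBy_eq_card_orbits_mul_card_group N I.Elem
  have e : {p : N × G // I.S p.2 ∧ Commute (p.1 : G) p.2} ≃
      Σ n : N, MulAction.fixedBy I.Elem n :=
    { toFun := fun p => ⟨p.1.1, ⟨⟨p.1.2, p.2.1⟩, by
        rw [MulAction.mem_fixedBy]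
        exact Subtype.ext p.2.2.mul_inv_cancel⟩⟩
      invFun := fun q => ⟨(q.1, q.2.1.1), q.2.1.2, by
        have h1 := q.2.2
        rw [MulAction.mem_fixedBy] at h1
        have h2 : (q.1 : G) * q.2.1.1 * (q.1 : G)⁻¹ = q.2.1.1 := congrArg Subtype.val h1
        exact mul_inv_eq_iff_eq_mul.1 h2⟩
      left_inv := fun p => rfl
      right_inv := fun q => rfl }
  rw [Nat.card_congr e, Nat.card_sigma]
  rw [Nat.card_eq_fintype_card (α := Quotient (MulAction.orbitRel N I.Elem)),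
    Nat.card_eq_fintype_card (α := N), ← h]
  exact Finset.sum_congr rfl (fun n _ => Nat.card_eq_fintype_card)

variable (N : Subgroup G) [N.Normal]

/-- π-elements in a coset. -/
def XI (π : Set ℕ) (gbar : G ⧸ N) : InvSet N where
  S x := ((x : G) : G ⧸ N) = gbar ∧ IsPi π x
  inv n x hx := by
    refine ⟨?_, hx.2.conj _⟩
    have hn : ((n : G) : G ⧸ N) = 1 := (QuotientGroup.eq_one_iff _).2 n.2
    rw [QuotientGroup.mk_mul, QuotientGroup.mk_mul, QuotientGroup.mk_inv, hn, hx.1]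
    simp

/-- π-elements of `N`. -/
def YI (π : Set ℕ) : InvSet N where
  S x := x ∈ N ∧ IsPi π x
  inv n x hx := ⟨N.mul_mem (N.mul_mem n.2 hx.1) (N.inv_mem n.2), hx.2.conj _⟩

theorem pairs_le (π : Set ℕ) (gbar : G ⧸ N) :
    Nat.card {p : N × G // (XI N π gbar).S p.2 ∧ Commute (p.1 : G) p.2} ≤
    Nat.card {p : N × G // (YI N π).S p.2 ∧ Commute (p.1 : G) p.2} := by
  classical
  let y0 : G → G := fun u =>
    if h : ∃ y : G, ((y : G) : G ⧸ N) = gbar ∧ Commute y u then h.choose else 1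
  have hy0 : ∀ u y : G, ((y : G) : G ⧸ N) = gbar → Commute y u →
      ((y0 u : G) : G ⧸ N) = gbar ∧ Commute (y0 u) u := by
    intro u y h1 h2
    have h : ∃ y : G, ((y : G) : G ⧸ N) = gbar ∧ Commute y u := ⟨y, h1, h2⟩
    simp only [y0, dif_pos h]
    exact h.choose_spec
  have key : ∀ (n : N) (x : G), ((x : G) : G ⧸ N) = gbar → Commute (n : G) x →
      piPart π (n : G) ∈ N ∧
      (y0 (piPart π (n : G)))⁻¹ * (x * piCompl π (n : G)) ∈ N ∧
      Commute ((y0 (piPart π (n : G)))⁻¹ * (x * piCompl π (n : G))) (piPart π (n : G)) := by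
    intro n x hx hc
    have hzN : zpowers (n : G) ≤ N := (Subgroup.zpowers_le).2 n.2
    have huN := hzN (piPart_mem π (n : G))
    have hvN := hzN (piCompl_mem π (n : G))
    have hxu := commute_of_mem_zpowers hc.symm (piPart_mem π (n : G))
    have hxv := commute_of_mem_zpowers hc.symm (piCompl_mem π (n : G))
    have hy1 : ((x * piCompl π (n : G) : G) : G ⧸ N) = gbar := by
      rw [QuotientGroup.mk_mul, (QuotientGroup.eq_one_iff _).2 hvN, mul_one, hx]
    have hy2 : Commute (x * piCompl π (n : G)) (piPart π (n : G)) :=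
      hxu.mul_left (commute_piPart_piCompl π (n : G)).symm
    obtain ⟨h1, h2⟩ := hy0 _ _ hy1 hy2
    refine ⟨huN, ?_, ?_⟩
    · rw [← QuotientGroup.eq, h1, hy1]
    · exact h2.inv_left.mul_left hy2
  let F : {p : N × G // (XI N π gbar).S p.2 ∧ Commute (p.1 : G) p.2} →
      {p : N × G // (YI N π).S p.2 ∧ Commute (p.1 : G) p.2} := fun p =>
    ⟨(⟨(y0 (piPart π (p.1.1 : G)))⁻¹ * (p.1.2 * piCompl π (p.1.1 : G)),
        (key p.1.1 p.1.2 p.2.1.1 p.2.2).2.1⟩, piPart π (p.1.1 : G)),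
      ⟨(key p.1.1 p.1.2 p.2.1.1 p.2.2).1, isPi_piPart π _⟩,
      (key p.1.1 p.1.2 p.2.1.1 p.2.2).2.2⟩
  refine Nat.card_le_card_of_injective F ?_
  rintro ⟨⟨n, x⟩, ⟨hx1, hx2⟩, hc⟩ ⟨⟨n', x'⟩, ⟨hx1', hx2'⟩, hc'⟩ hF
  have h1 := congrArg (fun q => (q.1.1 : G)) hF
  have h2 := congrArg (fun q => q.1.2) hF
  simp only [F] at h1 h2
  rw [h2] at h1
  have h3 : x * piCompl π (n : G) = x' * piCompl π (n' : G) := mul_left_cancel h1
  have hc1 : Commute x (piCompl π (n : G)) :=
    commute_of_mem_zpowers hc.symm (piCompl_mem π (n : G))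
  have hc2 : Commute x' (piCompl π (n' : G)) :=
    commute_of_mem_zpowers hc'.symm (piCompl_mem π (n' : G))
  obtain ⟨e1, e2⟩ := decomp_unique hx2 (isPi_piCompl π (n : G)) hc1 rfl
  obtain ⟨e1', e2'⟩ := decomp_unique hx2' (isPi_piCompl π (n' : G)) hc2 h3.symm
  have hxx : x = x' := e1.trans e1'.symm
  have hvv : piCompl π (n : G) = piCompl π (n' : G) := e2.trans e2'.symm
  have hnn : (n : G) = (n' : G) := by
    rw [← piPart_mul_piCompl π (n : G), ← piPart_mul_piCompl π (n' : G), h2, hvv]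
  have hnn' : n = n' := Subtype.ext hnn
  subst hnn' hxx
  rfl

theorem orbits_le (π : Set ℕ) (gbar : G ⧸ N) :
    Nat.card (XI N π gbar).Orb ≤ Nat.card (YI N π).Orb := by
  have h := pairs_le N π gbar
  rw [(XI N π gbar).burnside, (YI N π).burnside] at h
  exact Nat.le_of_mul_le_mul_right h Nat.card_pos

end Cfsg.Agent.LeadPiClass
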