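import Mathlib
import Cfsg.Agent.Lib.Lead_PiClass2

/-! `k_π(G) ≤ k_π(N) k_π(G/N)`. -/

namespace Cfsg.Agent.LeadPiClass

open Subgroup

/-- classes of π-elements -/
abbrev PC (H : Type*) [Group H] (π : Set ℕ) : Type _ :=
  {C : ConjClasses H // ∀ q : ℕ, q.Prime → (∃ g : H, ConjClasses.mk g = C ∧ q ∣ orderOf g) → q ∈ π}

theorem pc_isPi {H : Type*} [Group H] {π : Set ℕ} (C : PC H π) {g : H}
    (hg : ConjClasses.mk g = C.1) : IsPi π g :=
  fun q hq hqd => C.2 q hq ⟨g, hg, hqd⟩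

theorem orderOf_eq_of_mk_eq {H : Type*} [Group H] {a b : H}
    (h : ConjClasses.mk a = ConjClasses.mk b) : orderOf a = orderOf b := by
  obtain ⟨c, hc⟩ := isConj_iff.1 (ConjClasses.mk_eq_mk_iff_isConj.1 h)
  rw [← hc, orderOf_conj_eq]

theorem pc_of_isPi {H : Type*} [Group H] {π : Set ℕ} {g : H} (hg : IsPi π g) :
    ∀ q : ℕ, q.Prime → (∃ g' : H, ConjClasses.mk g' = ConjClasses.mk g ∧ q ∣ orderOf g') → q ∈ π := by
  rintro q hq ⟨g', h1, h2⟩
  rw [orderOf_eq_of_mk_eq h1] at h2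
  exact hg q hq h2

variable {G : Type*} [Group G] [Finite G] (N : Subgroup G) [N.Normal]

theorem yorb_le (π : Set ℕ) : Nat.card (YI N π).Orb ≤ Nat.card (PC N π) := by
  classical
  have hrep : ∀ C : PC N π, ∃ u : N, ConjClasses.mk u = C.1 := fun C => ConjClasses.exists_rep C.1
  choose rep hrep using hrep
  have hpi : ∀ C : PC N π, IsPi π ((rep C : N) : G) := by
    intro C
    exact (pc_isPi C (hrep C)).of_dvd (by rw [Subgroup.orderOf_coe])
  let f : PC N π → (YI N π).Orb := fun C => (YI N π).orb ⟨((rep C : N) : G), (rep C).2, hpi C⟩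
  refine Nat.card_le_card_of_surjective f ?_
  intro o
  obtain ⟨⟨x, hxN, hxπ⟩, rfl⟩ := (YI N π).orb_surj o
  have hxπ' : IsPi π (⟨x, hxN⟩ : N) := hxπ.of_dvd (by rw [← Subgroup.orderOf_coe])
  refine ⟨⟨ConjClasses.mk ⟨x, hxN⟩, pc_of_isPi hxπ'⟩, ?_⟩
  show (YI N π).orb _ = (YI N π).orb _
  rw [InvSet.orb_eq_iff]
  have h1 := hrep ⟨ConjClasses.mk ⟨x, hxN⟩, pc_of_isPi hxπ'⟩
  obtain ⟨c, hc⟩ := isConj_iff.1 (ConjClasses.mk_eq_mk_iff_isConj.1 h1.symm)
  exact ⟨c, congrArg Subtype.val hc⟩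

/-- The map on classes of π-elements induced by the quotient map. -/
noncomputable def phi (π : Set ℕ) : PC G π → PC (G ⧸ N) π := fun C =>
  ⟨ConjClasses.map (QuotientGroup.mk' N) C.1, by
    intro q hq h
    obtain ⟨gb, h1, h2⟩ := h
    obtain ⟨g0, hg0⟩ := ConjClasses.exists_rep C.1
    rw [← hg0] at h1
    have h3 : ConjClasses.mk gb = ConjClasses.mk (QuotientGroup.mk' N g0) := h1
    rw [orderOf_eq_of_mk_eq h3] at h2
    exact pc_isPi C hg0 q hq (h2.trans (orderOf_map_dvd _ _))⟩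

theorem fiber_le (π : Set ℕ) (D : PC (G ⧸ N) π) :
    Nat.card {C : PC G π // phi N π C = D} ≤ Nat.card (PC N π) := by
  classical
  obtain ⟨gbar, hgbar⟩ := ConjClasses.exists_rep D.1
  refine le_trans ?_ ((orbits_le N π gbar).trans (yorb_le N π))
  have hx : ∀ C : {C : PC G π // phi N π C = D}, ∃ x : G, ((x : G) : G ⧸ N) = gbar ∧
      ConjClasses.mk x = C.1.1 := by
    rintro ⟨C, hC⟩
    obtain ⟨g0, hg0⟩ := ConjClasses.exists_rep C.1
    have h1 : ConjClasses.mk (QuotientGroup.mk' N g0) = ConjClasses.mk gbar := by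
      have := congrArg Subtype.val hC
      rw [hgbar, ← this]
      show _ = ConjClasses.map (QuotientGroup.mk' N) C.1
      rw [← hg0]
      rfl
    obtain ⟨cb, hcb⟩ := isConj_iff.1 (ConjClasses.mk_eq_mk_iff_isConj.1 h1)
    obtain ⟨c, rfl⟩ := QuotientGroup.mk_surjective cb
    refine ⟨c * g0 * c⁻¹, ?_, ?_⟩
    · rw [← hcb]
      simp
    · rw [← hg0]
      exact (ConjClasses.mk_eq_mk_iff_isConj.2 (isConj_iff.2 ⟨c, rfl⟩)).symm
  choose xf hxf using hx
  let ψ : {C : PC G π // phi N π C = D} → (XI N π gbar).Orb := fun C =>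
    (XI N π gbar).orb ⟨xf C, (hxf C).1, pc_isPi C.1 (hxf C).2⟩
  refine Nat.card_le_card_of_injective ψ ?_
  intro C C' h
  have h' : (XI N π gbar).orb _ = (XI N π gbar).orb _ := h
  rw [InvSet.orb_eq_iff] at h'
  obtain ⟨n, hn⟩ := h'
  have h1 : ConjClasses.mk (xf C') = ConjClasses.mk (xf C) :=
    ConjClasses.mk_eq_mk_iff_isConj.2 (isConj_iff.2 ⟨(n : G), hn⟩)
  rw [(hxf C).2, (hxf C').2] at h1
  exact Subtype.ext (Subtype.ext h1.symm)

theorem main (π : Set ℕ) :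
    Nat.card (PC G π) ≤ Nat.card (PC N π) * Nat.card (PC (G ⧸ N) π) := by
  classical
  haveI : Fintype (PC (G ⧸ N) π) := Fintype.ofFinite _
  rw [← Nat.card_congr (Equiv.sigmaFiberEquiv (phi N π)), Nat.card_sigma]
  refine (Finset.sum_le_card_nsmul _ _ _ (fun D _ => fiber_le N π D)).trans ?_
  rw [Finset.card_univ, smul_eq_mul, Nat.card_eq_fintype_card (α := PC (G ⧸ N) π), mul_comm]

end Cfsg.Agent.LeadPiClass
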