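import Mathlib
import Cfsg.Agent.Lib.Lead_SZ
import Cfsg.Agent.Lib.Lead_SysNorm

/-! Finite groups all of whose conjugacy classes have size 1 or a prime. -/

namespace Cfsg.Agent.Lib.Lead_PrimeClass

open Cfsg.Agent.Lib.Lead_SZ
open scoped commutatorElement

variable {G : Type*} [Group G]

theorem mem_cz {x g : G} : g ∈ Subgroup.centralizer ({x} : Set G) ↔ x * g = g * x := by
  rw [Subgroup.mem_centralizer_iff]
  constructor
  · intro h; exact h x rfl
  · intro h y hy
    rw [Set.mem_singleton_iff] at hy
    rw [hy]; exact h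

theorem mem_center_of_cz_top {x : G} (h : Subgroup.centralizer ({x} : Set G) = ⊤) :
    x ∈ Subgroup.center G := by
  rw [Subgroup.mem_center_iff]
  intro g
  have : g ∈ Subgroup.centralizer ({x} : Set G) := h ▸ Subgroup.mem_top g
  exact (mem_cz.mp this).symm

theorem mem_of_pow_mem {S N : Subgroup G} (hNS : N ≤ S) {u : G} {p : ℕ} (hp : p.Prime)
    (hup : u ^ p ∈ N) {k : ℕ} (hk : ¬ p ∣ k) (huk : u ^ k ∈ S) : u ∈ S := by
  have hcop : Nat.Coprime k p := ((Nat.Prime.coprime_iff_not_dvd hp).mpr hk).symm
  obtain ⟨m, -, hm⟩ := Nat.exists_mul_mod_eq_one_of_coprime hcop hp.one_lt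
  have h1 : k * m = p * (k * m / p) + 1 := by
    have := Nat.div_add_mod (k * m) p
    omega
  have h2 : u ^ (k * m) = (u ^ p) ^ (k * m / p) * u := by
    rw [← pow_mul, ← pow_succ, ← h1]
  have h3 : u = ((u ^ p) ^ (k * m / p))⁻¹ * (u ^ k) ^ m := by
    rw [← pow_mul u k m, h2, inv_mul_cancel_left]
  rw [h3]
  exact S.mul_mem (S.inv_mem (S.pow_mem (hNS hup) _)) (S.pow_mem huk _)

set_option maxHeartbeats 1600000 in
/-- the centralizer of an element `u ∉ M` of order `p` modulo the core `N` of `M` -/
theorem L1 [Finite G]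
    (h : ∀ x : G, (Subgroup.centralizer ({x} : Set G)).index = 1 ∨
      ((Subgroup.centralizer ({x} : Set G)).index).Prime)
    (M N : Subgroup G) [hNn : N.Normal] (p : ℕ) (hp : p.Prime) (hMp : M.index = p)
    (hmemN : ∀ a, a ∈ N ↔ ∀ b : G, b * a * b⁻¹ ∈ M) (hNM : N ≤ M) (hNneM : ¬ M ≤ N)
    (hZN : Subgroup.center G ≤ N) (u : G) (huM : u ∉ M) (hup : u ^ p ∈ N) :
    Subgroup.centralizer ({u} : Set G) = Subgroup.zpowers u ⊔ N ∧
      ((Subgroup.centralizer ({u} : Set G)).index).Prime ∧
      Nat.card G = Nat.card N * p * (Subgroup.centralizer ({u} : Set G)).index ∧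
      Nat.card (Subgroup.zpowers u ⊔ N : Subgroup G) = p * Nat.card N := by
  have huN : u ∉ N := fun hmem => huM (hNM hmem)
  have hpow : ∀ k : ℕ, ¬ p ∣ k → u ^ k ∉ M :=
    fun k hk hmem => huM (mem_of_pow_mem hNM hp hup hk hmem)
  have hcardQ : Nat.card (G ⧸ M) = p := by rw [← Subgroup.index_eq_card, hMp]
  have hinj0 : ∀ a b : ℕ, a ≤ b → b < p →
      ((u ^ a : G) : G ⧸ M) = ((u ^ b : G) : G ⧸ M) → a = b := by
    intro a b hab hb hE
    have h1 := QuotientGroup.eq.mp hE
    have h2 : (u ^ a)⁻¹ * u ^ b = u ^ (b - a) := by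
      rw [inv_mul_eq_iff_eq_mul, ← pow_add]
      congr 1; omega
    rw [h2] at h1
    by_contra hne
    apply hpow (b - a) _ h1
    intro hd
    have := Nat.le_of_dvd (by omega) hd
    omega
  have hinj : Function.Injective (fun i : Fin p => ((u ^ (i : ℕ) : G) : G ⧸ M)) := by
    intro i j hij
    rcases le_total (i : ℕ) (j : ℕ) with hle | hle
    · exact Fin.ext (hinj0 _ _ hle j.2 hij)
    · exact Fin.ext (hinj0 _ _ hle i.2 hij.symm).symm
  have hsurj : Function.Surjective (fun i : Fin p => ((u ^ (i : ℕ) : G) : G ⧸ M)) := by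
    apply (Function.Injective.bijective_of_nat_card_le hinj _).2
    rw [hcardQ, Nat.card_fin]
  have hB : ∀ g : G, ∃ i : ℕ, ∃ m ∈ M, g = u ^ i * m := by
    intro g
    obtain ⟨i, hi⟩ := hsurj (g : G ⧸ M)
    have := QuotientGroup.eq.mp hi
    exact ⟨i, (u ^ (i : ℕ))⁻¹ * g, this, by group⟩
  have hC : ∀ c : G, u * c = c * u → c ∈ Subgroup.zpowers u ⊔ N := by
    intro c hc
    obtain ⟨i, m, hm, rfl⟩ := hB c
    have hmu : u * m = m * u := by
      have h1 : u * (u ^ i * m) = u ^ i * (u * m) := by
        rw [← mul_assoc, ← pow_succ', pow_succ, mul_assoc]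
      rw [h1, mul_assoc] at hc
      exact mul_left_cancel hc
    have hmN : m ∈ N := by
      rw [hmemN]
      intro b
      obtain ⟨j, m', hm', hb'⟩ := hB b⁻¹
      have hb : b = m'⁻¹ * (u ^ j)⁻¹ := by rw [← inv_inv b, hb', mul_inv_rev]
      have h2' : m * u ^ j = u ^ j * m := ((Commute.pow_left (show Commute u m from hmu) j).eq).symm
      have h2 : (u ^ j)⁻¹ * m * u ^ j = m := by rw [mul_assoc, h2', inv_mul_cancel_left]
      have h3 : b * m * b⁻¹ = m'⁻¹ * ((u ^ j)⁻¹ * m * u ^ j) * m' := by rw [hb]; group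
      rw [h3, h2]
      exact M.mul_mem (M.mul_mem (M.inv_mem hm') hm) hm'
    exact Subgroup.mul_mem _
      (Subgroup.mem_sup_left (Subgroup.pow_mem _ (Subgroup.mem_zpowers u) i))
      (Subgroup.mem_sup_right hmN)
  obtain ⟨U, hU⟩ : ∃ U : Subgroup G, U = Subgroup.zpowers u ⊔ N := ⟨_, rfl⟩
  rw [← hU]
  have hNU : N ≤ U := hU ▸ le_sup_right
  have hMuU : Subgroup.centralizer ({u} : Set G) ≤ U := by
    intro c hc; rw [hU]; exact hC c (mem_cz.mp hc)
  haveI : Fact p.Prime := ⟨hp⟩
  have hord : orderOf ((u : G) : G ⧸ N) = p := by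
    apply orderOf_eq_prime
    · rw [← QuotientGroup.mk_pow]; exact (QuotientGroup.eq_one_iff _).mpr hup
    · intro h1; exact huN ((QuotientGroup.eq_one_iff u).mp h1)
  have hcardU : Nat.card U = p * Nat.card N := by
    have h1 := card_map_of_le N U hNU
    have h2 : U.map (QuotientGroup.mk' N) = Subgroup.zpowers ((u : G) : G ⧸ N) := by
      rw [hU, Subgroup.map_sup, MonoidHom.map_zpowers, QuotientGroup.map_mk'_self, sup_bot_eq]
      rfl
    rw [h2, Nat.card_zpowers, hord] at h1
    exact h1.symm
  obtain ⟨r, hr⟩ : ∃ r, r = (Subgroup.centralizer ({u} : Set G)).index := ⟨_, rfl⟩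
  rw [← hr]
  have hrprime : r.Prime := by
    rcases h u with h1 | h1
    · exfalso
      exact huN (hZN (mem_center_of_cz_top (Subgroup.index_eq_one.mp h1)))
    · rw [hr]; exact h1
  have hUidx : U.index = r := by
    have h1 : U.index ∣ r := hr ▸ Subgroup.index_dvd_of_le hMuU
    rcases (Nat.dvd_prime hrprime).mp h1 with h2 | h2
    · exfalso
      have hUtop : U = ⊤ := Subgroup.index_eq_one.mp h2
      have hG : Nat.card G = p * Nat.card N := by rw [← hcardU, hUtop, Subgroup.card_top]
      have hM' : Nat.card M * p = Nat.card G := by rw [← hMp]; exact M.card_mul_index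
      have hMN : Nat.card M = Nat.card N := by
        rw [hG, mul_comm] at hM'
        exact Nat.eq_of_mul_eq_mul_left hp.pos hM'
      exact hNneM (eq_of_le_of_card_eq hNM hMN.symm).ge
    · exact h2
  have hMuU' : Subgroup.centralizer ({u} : Set G) = U := by
    apply eq_of_le_of_card_eq hMuU
    have e1 := (Subgroup.centralizer ({u} : Set G)).card_mul_index
    have e2 := U.card_mul_index
    rw [← hr] at e1
    rw [hUidx] at e2
    exact Nat.eq_of_mul_eq_mul_right hrprime.pos (e1.trans e2.symm)
  refine ⟨hMuU', hrprime, ?_, hcardU⟩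
  have e2 := U.card_mul_index
  rw [hUidx, hcardU] at e2
  rw [← e2]; ring


set_option maxHeartbeats 3200000 in
theorem main [Finite G]
    (h : ∀ x : G, (Subgroup.centralizer ({x} : Set G)).index = 1 ∨
      ((Subgroup.centralizer ({x} : Set G)).index).Prime) :
    Subgroup.upperCentralSeries G 2 = ⊤ ∨
      ∃ p q : ℕ, p.Prime ∧ q.Prime ∧ p ≠ q ∧ Nat.card (G ⧸ Subgroup.center G) = p * q ∧
        ¬ IsMulCommutative (G ⧸ Subgroup.center G) := by
  by_cases hall : ∀ x : G, (Subgroup.centralizer ({x} : Set G)).Normal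
  · left
    rw [eq_top_iff]
    intro a _
    rw [show (2 : ℕ) = 1 + 1 from rfl, Subgroup.mem_upperCentralSeries_succ_iff]
    intro y
    rw [Subgroup.upperCentralSeries_one, Subgroup.mem_center_iff]
    intro z
    suffices hmem : ⁅a, y⁆ ∈ Subgroup.centralizer ({z} : Set G) from mem_cz.mp hmem
    haveI := hall z
    rcases h z with h1 | h1
    · rw [Subgroup.index_eq_one.mp h1]; trivial
    · have hcard : Nat.card (G ⧸ Subgroup.centralizer ({z} : Set G)) =
          (Subgroup.centralizer ({z} : Set G)).index := by rw [← Subgroup.index_eq_card]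
      haveI : Fact ((Subgroup.centralizer ({z} : Set G)).index).Prime := ⟨h1⟩
      haveI : IsCyclic (G ⧸ Subgroup.centralizer ({z} : Set G)) := isCyclic_of_prime_card hcard
      have hcomm : ∀ s t : G ⧸ Subgroup.centralizer ({z} : Set G), s * t = t * s := by
        letI : CommGroup (G ⧸ Subgroup.centralizer ({z} : Set G)) := IsCyclic.commGroup
        exact fun s t => mul_comm s t
      rw [← QuotientGroup.eq_one_iff, commutatorElement_def, QuotientGroup.mk_mul,
        QuotientGroup.mk_mul, QuotientGroup.mk_mul, QuotientGroup.mk_inv, QuotientGroup.mk_inv,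
        hcomm (a : G ⧸ Subgroup.centralizer ({z} : Set G)) y]
      group
  · right
    push_neg at hall
    obtain ⟨x, hxn⟩ := hall
    obtain ⟨M, hM⟩ : ∃ M : Subgroup G, M = Subgroup.centralizer ({x} : Set G) := ⟨_, rfl⟩
    rw [← hM] at hxn
    obtain ⟨p, hpdef⟩ : ∃ p, p = M.index := ⟨_, rfl⟩
    have hMp : p.Prime := by
      rcases h x with h1 | h1
      · exfalso; apply hxn; rw [hM, Subgroup.index_eq_one.mp h1]; infer_instance
      · rw [hpdef, hM]; exact h1
    haveI : Fact p.Prime := ⟨hMp⟩
    obtain ⟨N, hN⟩ : ∃ N : Subgroup G, N = M.normalCore := ⟨_, rfl⟩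
    haveI hNn : N.Normal := hN ▸ Subgroup.normalCore_normal M
    have hNM : N ≤ M := hN ▸ Subgroup.normalCore_le M
    have hNneM : ¬ M ≤ N := by
      intro hle
      apply hxn
      have : M = N := le_antisymm hle hNM
      rw [this]; exact hNn
    have hZM : Subgroup.center G ≤ M := by
      rw [hM]; exact Subgroup.center_le_centralizer _
    have hZN : Subgroup.center G ≤ N := by
      rw [hN, Subgroup.normal_le_normalCore]; exact hZM
    have hmemN : ∀ a, a ∈ N ↔ ∀ b : G, b * a * b⁻¹ ∈ M := by intro a; rw [hN]; rfl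
    -- an element of order `p` modulo `N`
    have hpdvd : p ∣ Nat.card (G ⧸ N) := by
      rw [← Subgroup.index_eq_card, hpdef]; exact Subgroup.index_dvd_of_le hNM
    obtain ⟨ubar, hubar⟩ := exists_prime_orderOf_dvd_card' p hpdvd
    obtain ⟨u₀, rfl⟩ := QuotientGroup.mk_surjective ubar
    have hu₀N : u₀ ∉ N := by
      intro hmem
      have : ((u₀ : G) : G ⧸ N) = 1 := (QuotientGroup.eq_one_iff u₀).mpr hmem
      rw [this, orderOf_one] at hubar
      exact hMp.one_lt.ne hubar
    have hu₀p : u₀ ^ p ∈ N := by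
      rw [← QuotientGroup.eq_one_iff, QuotientGroup.mk_pow, ← hubar, pow_orderOf_eq_one]
    -- every element outside `N` of order `p` modulo `N` centralizes `N`
    have hα : ∀ w, w ∉ N → w ^ p ∈ N → ∀ n ∈ N, w * n = n * w := by
      intro w hw hwp n hn
      obtain ⟨b, hb⟩ : ∃ b, b * w * b⁻¹ ∉ M := by
        by_contra hcon
        push_neg at hcon
        exact hw ((hmemN w).mpr hcon)
      have hwp' : (b * w * b⁻¹) ^ p ∈ N := by rw [conj_pow]; exact hNn.conj_mem _ hwp b
      obtain ⟨h1, -, -, -⟩ := L1 h M N p hMp hpdef.symm hmemN hNM hNneM hZN (b * w * b⁻¹) hb hwp'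
      have hn' : b * n * b⁻¹ ∈ Subgroup.centralizer ({b * w * b⁻¹} : Set G) := by
        rw [h1]; exact Subgroup.mem_sup_right (hNn.conj_mem n hn b)
      have h2 := mem_cz.mp hn'
      have h3 : b * (w * n) * b⁻¹ = b * (n * w) * b⁻¹ := by
        calc b * (w * n) * b⁻¹ = b * w * b⁻¹ * (b * n * b⁻¹) := by group
          _ = b * n * b⁻¹ * (b * w * b⁻¹) := h2
          _ = b * (n * w) * b⁻¹ := by group
      exact mul_left_cancel (mul_right_cancel h3)
    -- conjugate to get u ∉ M
    obtain ⟨b, hb⟩ : ∃ b, b * u₀ * b⁻¹ ∉ M := by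
      by_contra hcon
      push_neg at hcon
      exact hu₀N ((hmemN u₀).mpr hcon)
    obtain ⟨u, hu⟩ : ∃ u, u = b * u₀ * b⁻¹ := ⟨_, rfl⟩
    have huM : u ∉ M := hu ▸ hb
    have hup : u ^ p ∈ N := by rw [hu, conj_pow]; exact hNn.conj_mem _ hu₀p b
    have huN : u ∉ N := fun hmem => huM (hNM hmem)
    obtain ⟨hCu, hrprime, hcardG, hcardU⟩ :=
      L1 h M N p hMp hpdef.symm hmemN hNM hNneM hZN u huM hup
    obtain ⟨r, hr⟩ : ∃ r, r = (Subgroup.centralizer ({u} : Set G)).index := ⟨_, rfl⟩
    rw [← hr] at hrprime hcardG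
    obtain ⟨U, hU⟩ : ∃ U : Subgroup G, U = Subgroup.zpowers u ⊔ N := ⟨_, rfl⟩
    rw [← hU] at hCu hcardU
    have hUidx : U.index = r := by rw [hr, hCu]
    have hNU : N ≤ U := hU ▸ le_sup_right
    -- N abelian
    have hNab : ∀ n₁ ∈ N, ∀ n₂ ∈ N, n₁ * n₂ = n₂ * n₁ := by
      intro n₁ h₁ n₂ h₂
      have hw : u * n₁ ∉ N := by
        intro hmem
        apply huN
        have := N.mul_mem hmem (N.inv_mem h₁)
        simpa using this
      have hwp : (u * n₁) ^ p ∈ N := by
        rw [← QuotientGroup.eq_one_iff, QuotientGroup.mk_pow, QuotientGroup.mk_mul,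
          (QuotientGroup.eq_one_iff n₁).mpr h₁, mul_one, ← QuotientGroup.mk_pow]
        exact (QuotientGroup.eq_one_iff _).mpr hup
      have e1 := hα (u * n₁) hw hwp n₂ h₂
      have e2 := hα u huN hup n₂ h₂
      have : u * (n₁ * n₂) = u * (n₂ * n₁) := by
        rw [← mul_assoc, e1, ← mul_assoc, ← e2, mul_assoc]
      exact mul_left_cancel this
    -- U abelian
    have hUab : ∀ a ∈ U, ∀ b ∈ U, a * b = b * a := by
      have hdec : ∀ a ∈ U, ∃ i : ℤ, ∃ n ∈ N, a = u ^ i * n := by
        intro a ha
        rw [hU, ← SetLike.mem_coe, Subgroup.mul_normal] at ha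
        obtain ⟨s, hs, n, hn, rfl⟩ := Set.mem_mul.mp ha
        obtain ⟨i, rfl⟩ := Subgroup.mem_zpowers_iff.mp hs
        exact ⟨i, n, hn, rfl⟩
      intro a ha b hb
      obtain ⟨i, n, hn, rfl⟩ := hdec a ha
      obtain ⟨j, n', hn', rfl⟩ := hdec b hb
      have c1 : ∀ (k : ℤ) (m : G), m ∈ N → u ^ k * m = m * u ^ k :=
        fun k m hm => ((show Commute u m from hα u huN hup m hm).zpow_left k).eq
      calc u ^ i * n * (u ^ j * n') = u ^ i * (n * u ^ j) * n' := by group
        _ = u ^ i * (u ^ j * n) * n' := by rw [c1 j n hn]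
        _ = (u ^ i * u ^ j) * (n * n') := by group
        _ = (u ^ j * u ^ i) * (n' * n) := by
            rw [hNab n hn n' hn', ← zpow_add, ← zpow_add, add_comm]
        _ = u ^ j * (u ^ i * n') * n := by group
        _ = u ^ j * (n' * u ^ i) * n := by rw [c1 i n' hn']
        _ = u ^ j * n' * (u ^ i * n) := by group
    -- N.relIndex U = p
    have hrelNU : N.relIndex U = p := by
      have e1 := Subgroup.card_mul_index (N.subgroupOf U)
      rw [card_subgroupOf_of_le hNU, hcardU, mul_comm] at e1
      exact Nat.eq_of_mul_eq_mul_right (Nat.card_pos (α := N)) e1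
    -- N = center
    have hNZ : N ≤ Subgroup.center G := by
      by_contra hcon
      obtain ⟨n, hnN, hnZ⟩ := SetLike.not_le_iff_exists.mp hcon
      have hcent : ∀ n' ∈ N, n' ∉ Subgroup.center G →
          Subgroup.centralizer ({n'} : Set G) = U := by
        intro n' hn' hn'Z
        have hle : U ≤ Subgroup.centralizer ({n'} : Set G) := by
          intro a ha; rw [mem_cz]; exact hUab n' (hNU hn') a ha
        have hidx : (Subgroup.centralizer ({n'} : Set G)).index ∣ r :=
          hUidx ▸ Subgroup.index_dvd_of_le hle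
        have hne1 : (Subgroup.centralizer ({n'} : Set G)).index ≠ 1 := by
          intro h1
          exact hn'Z (mem_center_of_cz_top (Subgroup.index_eq_one.mp h1))
        have hidx' : (Subgroup.centralizer ({n'} : Set G)).index = r :=
          ((Nat.dvd_prime hrprime).mp hidx).resolve_left hne1
        symm
        apply eq_of_le_of_card_eq hle
        have e1 := (Subgroup.centralizer ({n'} : Set G)).card_mul_index
        have e2 := U.card_mul_index
        rw [hidx'] at e1
        rw [hUidx] at e2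
        exact Nat.eq_of_mul_eq_mul_right hrprime.pos (e2.trans e1.symm)
      haveI hUn : U.Normal := by
        constructor
        intro a ha g
        have h1 := hcent n hnN hnZ
        have hgn : g * n * g⁻¹ ∈ N := hNn.conj_mem n hnN g
        have hgnZ : g * n * g⁻¹ ∉ Subgroup.center G := by
          intro hz
          apply hnZ
          have := (inferInstance : (Subgroup.center G).Normal).conj_mem _ hz g⁻¹
          simpa [mul_assoc] using this
        have h2 := hcent _ hgn hgnZ
        rw [← h2, mem_cz]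
        rw [← h1, mem_cz] at ha
        calc g * n * g⁻¹ * (g * a * g⁻¹) = g * (n * a) * g⁻¹ := by group
          _ = g * (a * n) * g⁻¹ := by rw [ha]
          _ = g * a * g⁻¹ * (g * n * g⁻¹) := by group
      obtain ⟨t, htU⟩ : ∃ t, t ∉ U := by
        by_contra hcon2
        push_neg at hcon2
        have : U = ⊤ := eq_top_iff.mpr (fun a _ => hcon2 a)
        rw [this, Subgroup.index_top] at hUidx
        exact hrprime.one_lt.ne hUidx
      have hCUt : U ⊓ Subgroup.centralizer ({t} : Set G) ≤ Subgroup.center G := by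
        intro w hw
        obtain ⟨hwU, hwt⟩ := Subgroup.mem_inf.mp hw
        have hle : U ≤ Subgroup.centralizer ({w} : Set G) := by
          intro a ha; rw [mem_cz]; exact hUab w hwU a ha
        have htw : t ∈ Subgroup.centralizer ({w} : Set G) := by
          rw [mem_cz]; exact (mem_cz.mp hwt).symm
        have hidx : (Subgroup.centralizer ({w} : Set G)).index ∣ r :=
          hUidx ▸ Subgroup.index_dvd_of_le hle
        rcases (Nat.dvd_prime hrprime).mp hidx with h1 | h1
        · exact mem_center_of_cz_top (Subgroup.index_eq_one.mp h1)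
        · exfalso
          apply htU
          have heq : U = Subgroup.centralizer ({w} : Set G) := by
            apply eq_of_le_of_card_eq hle
            have e1 := (Subgroup.centralizer ({w} : Set G)).card_mul_index
            have e2 := U.card_mul_index
            rw [h1] at e1
            rw [hUidx] at e2
            exact Nat.eq_of_mul_eq_mul_right hrprime.pos (e2.trans e1.symm)
          rw [heq]; exact htw
      have hs : (Subgroup.centralizer ({t} : Set G)).index.Prime := by
        rcases h t with h1 | h1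
        · exfalso
          exact htU (hNU (hZN (mem_center_of_cz_top (Subgroup.index_eq_one.mp h1))))
        · exact h1
      have hrel : (Subgroup.centralizer ({t} : Set G)).relIndex U ∣
          (Subgroup.centralizer ({t} : Set G)).index :=
        Cfsg.Agent.Lib.Lead_SysNorm.relIndex_dvd_index_of_normal_right _ U
      obtain ⟨D, hD⟩ : ∃ D : Subgroup G, D = U ⊓ Subgroup.centralizer ({t} : Set G) := ⟨_, rfl⟩
      have hDN : D ≤ N := hD ▸ hCUt.trans hZN
      have e1 := Subgroup.relIndex_mul_relIndex D N U hDN hNU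
      have e2 : D.relIndex U = (Subgroup.centralizer ({t} : Set G)).relIndex U := by
        rw [hD, inf_comm, Subgroup.inf_relIndex_right]
      rw [hrelNU, e2] at e1
      rcases (Nat.dvd_prime hs).mp hrel with h1 | h1
      · -- U ≤ C(t)
        have hUle : U ≤ Subgroup.centralizer ({t} : Set G) := Subgroup.relIndex_eq_one.mp h1
        apply htU
        rw [← hCu, mem_cz]
        have huU : u ∈ U := hU ▸ Subgroup.mem_sup_left (Subgroup.mem_zpowers u)
        exact (mem_cz.mp (hUle huU)).symm
      · rw [h1] at e1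
        have hp_dvd : p ∣ (Subgroup.centralizer ({t} : Set G)).index := ⟨_, by rw [← e1, mul_comm]⟩
        have hps : p = (Subgroup.centralizer ({t} : Set G)).index :=
          ((Nat.dvd_prime hs).mp hp_dvd).resolve_left hMp.one_lt.ne'
        rw [← hps] at e1
        have hone : D.relIndex N = 1 := by
          have : D.relIndex N * p = 1 * p := by rw [e1, one_mul]
          exact Nat.eq_of_mul_eq_mul_right hMp.pos this
        have hND : N ≤ D := Subgroup.relIndex_eq_one.mp hone
        exact hnZ (hCUt (hD ▸ hND hnN))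
    have hZeq : Subgroup.center G = N := le_antisymm hZN hNZ
    have hnc : ¬ IsMulCommutative (G ⧸ Subgroup.center G) := by
      intro hc
      apply hxn
      constructor
      intro a ha g
      have hcm : g * a * g⁻¹ * a⁻¹ ∈ Subgroup.center G := by
        rw [← QuotientGroup.eq_one_iff, QuotientGroup.mk_mul, QuotientGroup.mk_mul,
          QuotientGroup.mk_mul, QuotientGroup.mk_inv, QuotientGroup.mk_inv,
          hc.is_comm.comm (g : G ⧸ Subgroup.center G) a]
        group
      have := M.mul_mem (hZM hcm) ha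
      simpa using this
    have hcardQ : Nat.card (G ⧸ Subgroup.center G) = p * r := by
      rw [← Subgroup.index_eq_card, hZeq]
      have e1 := N.card_mul_index
      rw [hcardG, mul_assoc] at e1
      exact Nat.eq_of_mul_eq_mul_left (Nat.card_pos (α := N)) e1
    refine ⟨p, r, hMp, hrprime, ?_, hcardQ, hnc⟩
    intro hpr
    apply hnc
    rw [← hpr, ← pow_two] at hcardQ
    exact ⟨⟨IsPGroup.commutative_of_card_eq_prime_sq hcardQ⟩⟩

end Cfsg.Agent.Lib.Lead_PrimeClass
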