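import Mathlib
import Cfsg.Prelude.Def_OddOrderLocal
import Cfsg.Agent.S1467
import Cfsg.Agent.S1465

/-!
# The Puig series: functoriality and the comparison `L_*(S) ≤ L_*(T) ≤ L(T) ≤ L(S)`
-/

namespace Cfsg.Agent.Lib.Lead_Puig

theorem step_map_le {R R' : Type*} [Group R] [Group R'] (φ : R ≃* R') (X : Subgroup R) :
    (Cfsg.puigStep X).map φ.toMonoidHom ≤ Cfsg.puigStep (X.map φ.toMonoidHom) := by
  rw [Subgroup.map_le_iff_le_comap]
  unfold Cfsg.puigStep
  apply sSup_le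
  rintro A ⟨hAc, hXA⟩
  rw [← Subgroup.map_le_iff_le_comap]
  apply le_sSup
  haveI := hAc
  refine ⟨inferInstance, ?_⟩
  exact (Subgroup.map_mono hXA).trans (Subgroup.le_normalizer_map _)

theorem step_map {R R' : Type*} [Group R] [Group R'] (φ : R ≃* R') (X : Subgroup R) :
    (Cfsg.puigStep X).map φ.toMonoidHom = Cfsg.puigStep (X.map φ.toMonoidHom) := by
  apply le_antisymm (step_map_le φ X)
  have h := step_map_le φ.symm (X.map φ.toMonoidHom)
  have e : (X.map φ.toMonoidHom).map φ.symm.toMonoidHom = X := by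
    rw [Subgroup.map_equiv_eq_comap_symm', MulEquiv.symm_symm]
    exact Subgroup.comap_map_eq_self_of_injective φ.injective X
  rw [e] at h
  rw [Subgroup.map_equiv_eq_comap_symm' φ (Cfsg.puigStep X), ← Subgroup.map_le_iff_le_comap]
  exact h

theorem seq_map {R R' : Type*} [Group R] [Group R'] (φ : R ≃* R') (n : ℕ) :
    (Cfsg.puigSeq R n).map φ.toMonoidHom = Cfsg.puigSeq R' n := by
  induction n with
  | zero =>
    show (⊥ : Subgroup R).map _ = ⊥
    exact Subgroup.map_bot _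
  | succ n ih =>
    show (Cfsg.puigStep (Cfsg.puigSeq R n)).map _ = Cfsg.puigStep (Cfsg.puigSeq R' n)
    rw [step_map, ih]

theorem seq_char (R : Type*) [Group R] (n : ℕ) : (Cfsg.puigSeq R n).Characteristic := by
  rw [Subgroup.characteristic_iff_map_eq]
  intro φ
  exact seq_map φ n

section
variable {G : Type*} [Group G]

/-- The Puig series of a subgroup `H`, viewed inside `G`. -/
def Lr (H : Subgroup G) (n : ℕ) : Subgroup G := (Cfsg.puigSeq ↥H n).map H.subtype

theorem Lr_le (H : Subgroup G) (n : ℕ) : Lr H n ≤ H := Subgroup.map_subtype_le _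

theorem Lr_zero (H : Subgroup G) : Lr H 0 = ⊥ := by
  show (⊥ : Subgroup ↥H).map _ = ⊥
  exact Subgroup.map_bot _

theorem Lr_succ_le (H : Subgroup G) (n : ℕ) (K : Subgroup G)
    (h : ∀ A : Subgroup G, A ≤ H → IsMulCommutative A →
      Lr H n ≤ Subgroup.normalizer (A : Set G) → A ≤ K) :
    Lr H (n + 1) ≤ K := by
  unfold Lr
  rw [Subgroup.map_le_iff_le_comap]
  show Cfsg.puigStep (Cfsg.puigSeq ↥H n) ≤ _
  unfold Cfsg.puigStep
  apply sSup_le
  rintro A' ⟨hA'c, hA'n⟩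
  rw [← Subgroup.map_le_iff_le_comap]
  haveI := hA'c
  apply h (A'.map H.subtype) (Subgroup.map_subtype_le _) inferInstance
  exact (Subgroup.map_mono hA'n).trans (Subgroup.le_normalizer_map _)

theorem le_Lr_succ (H : Subgroup G) (n : ℕ) (A : Subgroup G) (hAH : A ≤ H)
    (hAc : IsMulCommutative A) (hn : Lr H n ≤ Subgroup.normalizer (A : Set G)) :
    A ≤ Lr H (n + 1) := by
  have h1 : A.subgroupOf H ≤ Cfsg.puigSeq ↥H (n + 1) := by
    show _ ≤ Cfsg.puigStep (Cfsg.puigSeq ↥H n)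
    unfold Cfsg.puigStep
    apply le_sSup
    haveI := hAc
    refine ⟨inferInstance, ?_⟩
    intro x hx
    have hx' : (x : G) ∈ Lr H n := ⟨x, hx, rfl⟩
    have hN := hn hx'
    rw [Subgroup.mem_normalizer_iff] at hN ⊢
    intro h
    rw [Subgroup.mem_subgroupOf, Subgroup.mem_subgroupOf]
    exact hN (h : G)
  have h2 := Subgroup.map_mono (f := H.subtype) h1
  rwa [Subgroup.map_subgroupOf_eq_of_le hAH] at h2

theorem Lr_normal (T : Subgroup G) [T.Normal] (n : ℕ) : (Lr T n).Normal := by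
  haveI := seq_char ↥T n
  exact ConjAct.normal_of_characteristic_of_normal

theorem Lr_even_le_succ (H : Subgroup G) (n : ℕ) : Lr H (2 * n) ≤ Lr H (2 * n + 1) :=
  Subgroup.map_mono (Cfsg.Agent.S1467.even_le_succ n)

/-- odd terms contain their centralizer in `H`. -/
theorem centralizer_Lr_le (H : Subgroup G) (n : ℕ) :
    H ⊓ Subgroup.centralizer ((Lr H (2 * n + 1) : Subgroup G) : Set G) ≤ Lr H (2 * n + 1) := by
  intro x hx
  obtain ⟨hxH, hxC⟩ := Subgroup.mem_inf.1 hx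
  have h1 : Subgroup.zpowers x ≤ Lr H (2 * n + 1) := by
    apply le_Lr_succ H (2 * n) (Subgroup.zpowers x) (Subgroup.zpowers_le.2 hxH) inferInstance
    intro y hy
    have hy' := Lr_even_le_succ H n hy
    have hc : x * y = y * x := ((Subgroup.mem_centralizer_iff.1 hxC) y hy').symm
    apply Subgroup.centralizer_le_normalizer _
    rw [Subgroup.mem_centralizer_iff]
    rintro _ ⟨k, rfl⟩
    exact (Commute.zpow_left (show Commute x y from hc) k).eq
  exact h1 (Subgroup.mem_zpowers x)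

end

section
variable {G : Type*} [Group G] [Finite G] [Group.IsSolvable G]

set_option maxHeartbeats 1600000 in
theorem puig_chain (hodd : Odd (Nat.card G)) (p : ℕ) [Fact p.Prime] (hp : p ≠ 2)
    (hO : Cfsg.pPrimeCore p G = ⊥) (S : Sylow p G) :
    ∀ i : ℕ, Lr (S : Subgroup G) (2 * i) ≤ Lr (Cfsg.pCore p G) (2 * i) ∧
      Lr (Cfsg.pCore p G) (2 * i + 1) ≤ Lr (S : Subgroup G) (2 * i + 1) := by
  haveI hTn : (Cfsg.pCore p G).Normal := Cfsg.Agent.Lib.Helper4_PCore.pCore_normal p G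
  have hTS : Cfsg.pCore p G ≤ (S : Subgroup G) := Cfsg.Agent.Lib.Helper4_PCore.pCore_le_sylow S
  have hTp : IsPGroup p (Cfsg.pCore p G) := Cfsg.Agent.Lib.Helper4_PCore.pCore_isPGroup
  have hb : ∀ i : ℕ, Lr (S : Subgroup G) (2 * i) ≤ Lr (Cfsg.pCore p G) (2 * i) →
      Lr (Cfsg.pCore p G) (2 * i + 1) ≤ Lr (S : Subgroup G) (2 * i + 1) := by
    intro i ha
    apply Lr_succ_le
    intro A hAT hAc hn
    exact le_Lr_succ _ _ A (hAT.trans hTS) hAc (ha.trans hn)
  have ha : ∀ i : ℕ, Lr (Cfsg.pCore p G) (2 * i + 1) ≤ Lr (S : Subgroup G) (2 * i + 1) →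
      Lr (S : Subgroup G) (2 * i + 1 + 1) ≤ Lr (Cfsg.pCore p G) (2 * i + 1 + 1) := by
    intro i hbi
    apply Lr_succ_le
    intro A hAS hAc hn
    haveI hPn : (Lr (Cfsg.pCore p G) (2 * i + 1)).Normal := Lr_normal _ _
    have hPp : IsPGroup p (Lr (Cfsg.pCore p G) (2 * i + 1)) := hTp.to_le (Lr_le _ _)
    have hPA : Lr (Cfsg.pCore p G) (2 * i + 1) ≤ Subgroup.normalizer (A : Set G) := hbi.trans hn
    have hS : ∀ B ∈ ({A} : Set (Subgroup G)), IsMulCommutative B ∧ IsPGroup p B ∧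
        Lr (Cfsg.pCore p G) (2 * i + 1) ≤ Subgroup.normalizer (B : Set G) := by
      intro B hB
      rw [Set.mem_singleton_iff] at hB
      subst hB
      exact ⟨hAc, S.isPGroup'.to_le hAS, hPA⟩
    have key := (Cfsg.Agent.S1465.result hodd p hp (Lr (Cfsg.pCore p G) (2 * i + 1)) hPp _ hS).2 hO
      (centralizer_Lr_le (Cfsg.pCore p G) i)
    rw [sSup_singleton] at key
    exact le_Lr_succ _ _ A key hAc hPA
  intro i
  induction i with
  | zero =>
    have h0 : Lr (S : Subgroup G) (2 * 0) ≤ Lr (Cfsg.pCore p G) (2 * 0) := by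
      rw [show 2 * 0 = 0 from rfl, Lr_zero]; exact bot_le
    exact ⟨h0, hb 0 h0⟩
  | succ i ih =>
    have h1 : Lr (S : Subgroup G) (2 * (i + 1)) ≤ Lr (Cfsg.pCore p G) (2 * (i + 1)) := ha i ih.2
    exact ⟨h1, hb (i + 1) h1⟩

end

end Cfsg.Agent.Lib.Lead_Puig
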