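import Mathlib
import Cfsg.Prelude.Def_OddOrderLocal
import Cfsg.Agent.Lib.Lead_Puig
import Cfsg.Agent.Lib.Lead_OddStab4
import Cfsg.Agent.Lib.Helper5_Residual

/-!
# The centre of the Puig subgroup is normal (solvable groups of odd order)
-/

namespace Cfsg.Agent.Lib.Lead_Puig2

open Cfsg.Agent.Lib.Lead_Puig Cfsg.Agent.Lib.Helper4_PCore

section
variable {G : Type*} [Group G]

theorem Lr_one (H : Subgroup G) : Lr H 1 = H := by
  unfold Lr
  have h : Cfsg.puigSeq ↥H 1 = ⊤ := Cfsg.Agent.S1467.puigStep_bot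
  rw [h, ← MonoidHom.range_eq_map, Subgroup.range_subtype]

theorem Lr_conj (H : Subgroup G) (n : ℕ) :
    ∀ g ∈ Subgroup.normalizer (H : Set G), ∀ x ∈ Lr H n, g * x * g⁻¹ ∈ Lr H n := by
  induction n with
  | zero =>
    intro g _ x hx
    rw [Lr_zero, Subgroup.mem_bot] at hx
    rw [hx, mul_one, mul_inv_cancel]
    exact Subgroup.one_mem _
  | succ n ih =>
    intro g hg
    have key : Lr H (n + 1) ≤ (Lr H (n + 1)).comap (MulAut.conj g).toMonoidHom := by
      apply Lr_succ_le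
      intro A hAH hAc hn
      rw [← Subgroup.map_le_iff_le_comap]
      haveI := hAc
      refine le_Lr_succ H n (A.map (MulAut.conj g).toMonoidHom) ?_ inferInstance ?_
      · rintro _ ⟨a, ha, rfl⟩
        exact (Subgroup.mem_normalizer_iff.mp hg a).mp (hAH ha)
      · intro x hx
        have hx' : g⁻¹ * x * g ∈ Lr H n := by
          have := ih g⁻¹ (Subgroup.inv_mem _ hg) x hx
          rwa [inv_inv] at this
        have hxN := hn hx'
        rw [Subgroup.mem_normalizer_iff]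
        intro y
        constructor
        · rintro ⟨a, ha, rfl⟩
          refine ⟨(g⁻¹ * x * g) * a * (g⁻¹ * x * g)⁻¹,
            (Subgroup.mem_normalizer_iff.mp hxN a).mp ha, ?_⟩
          simp only [MulEquiv.coe_toMonoidHom, MulAut.conj_apply]
          group
        · rintro ⟨a, ha, hay⟩
          refine ⟨(g⁻¹ * x * g)⁻¹ * a * (g⁻¹ * x * g), ?_, ?_⟩
          · have := (Subgroup.mem_normalizer_iff.mp (Subgroup.inv_mem _ hxN) a).mp ha
            rwa [inv_inv] at this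
          · simp only [MulEquiv.coe_toMonoidHom, MulAut.conj_apply] at hay ⊢
            have e : y = x⁻¹ * (x * y * x⁻¹) * x := by group
            rw [e, ← hay]; group
    intro x hx
    have := key hx
    rw [Subgroup.mem_comap] at this
    simpa only [MulEquiv.coe_toMonoidHom, MulAut.conj_apply] using this

/-- `L(H)` (upper Puig subgroup) inside `G`. -/
def LU (H : Subgroup G) : Subgroup G := (Cfsg.puigSubgroup ↥H).map H.subtype

/-- `L_*(H)` inside `G`. -/
def LL (H : Subgroup G) : Subgroup G := (Cfsg.puigLower ↥H).map H.subtype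

theorem LU_le (H : Subgroup G) : LU H ≤ H := Subgroup.map_subtype_le _

theorem even_le_LL (H : Subgroup G) (n : ℕ) : Lr H (2 * n) ≤ LL H :=
  Subgroup.map_mono (le_iSup (fun n => Cfsg.puigSeq ↥H (2 * n)) n)

theorem exists_stable [Finite G] (H : Subgroup G) :
    ∃ k : ℕ, ∀ n : ℕ, k ≤ n → Lr H (2 * n) = LL H ∧ Lr H (2 * n + 1) = LU H := by
  obtain ⟨k, hk⟩ := (Cfsg.Agent.S1467.result (G := ↥H)).2.2.2.1
  exact ⟨k, fun n hn => ⟨congrArg (Subgroup.map H.subtype) (hk n hn).1,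
    congrArg (Subgroup.map H.subtype) (hk n hn).2⟩⟩

theorem LL_le_LU [Finite G] (H : Subgroup G) : LL H ≤ LU H :=
  Subgroup.map_mono (Cfsg.Agent.S1467.result (G := ↥H)).2.2.2.2.1

/-- If `L(S) ≤ S₁ ≤ S` then `L(S₁) = L(S)`. -/
theorem LU_eq_of_le [Finite G] (S S₁ : Subgroup G) (h1 : S₁ ≤ S) (h2 : LU S ≤ S₁) :
    LU S₁ = LU S := by
  obtain ⟨k, hk⟩ := exists_stable S
  obtain ⟨k₁, hk₁⟩ := exists_stable S₁
  have hLL : LL S ≤ LU S := LL_le_LU S
  have fU : ∀ A : Subgroup G, A ≤ S → IsMulCommutative A →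
      LL S ≤ Subgroup.normalizer (A : Set G) → A ≤ LU S := by
    intro A hA hAc hn
    rw [← (hk k le_rfl).2]
    apply le_Lr_succ S (2 * k) A hA hAc
    rw [(hk k le_rfl).1]; exact hn
  have fL : ∀ A : Subgroup G, A ≤ S → IsMulCommutative A →
      LU S ≤ Subgroup.normalizer (A : Set G) → A ≤ LL S := by
    intro A hA hAc hn
    rw [← (hk (k + 1) (Nat.le_succ k)).1]
    have e : 2 * (k + 1) = (2 * k + 1) + 1 := by ring
    rw [e]
    apply le_Lr_succ S (2 * k + 1) A hA hAc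
    rw [(hk k le_rfl).2]; exact hn
  have gU : ∀ K : Subgroup G, (∀ A : Subgroup G, A ≤ S → IsMulCommutative A →
      LL S ≤ Subgroup.normalizer (A : Set G) → A ≤ K) → LU S ≤ K := by
    intro K h
    rw [← (hk k le_rfl).2]
    apply Lr_succ_le S (2 * k) K
    intro A hA hAc hn
    apply h A hA hAc
    rw [← (hk k le_rfl).1]; exact hn
  -- first chain
  have hab : ∀ n : ℕ, Lr S₁ (2 * n) ≤ LL S ∧ LU S ≤ Lr S₁ (2 * n + 1) := by
    have hb : ∀ n : ℕ, Lr S₁ (2 * n) ≤ LL S → LU S ≤ Lr S₁ (2 * n + 1) := by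
      intro n ha
      apply gU
      intro A hA hAc hn
      exact le_Lr_succ S₁ (2 * n) A ((fU A hA hAc hn).trans h2) hAc (ha.trans hn)
    have ha : ∀ n : ℕ, LU S ≤ Lr S₁ (2 * n + 1) → Lr S₁ (2 * n + 1 + 1) ≤ LL S := by
      intro n hbn
      apply Lr_succ_le S₁ (2 * n + 1) (LL S)
      intro A hA hAc hn
      exact fL A (hA.trans h1) hAc (hbn.trans hn)
    intro n
    induction n with
    | zero =>
      have h0 : Lr S₁ (2 * 0) ≤ LL S := by
        rw [show 2 * 0 = 0 from rfl, Lr_zero]; exact bot_le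
      exact ⟨h0, hb 0 h0⟩
    | succ n ih =>
      have h3 : Lr S₁ (2 * (n + 1)) ≤ LL S := ha n ih.2
      exact ⟨h3, hb (n + 1) h3⟩
  -- second chain
  have hcd : ∀ n : ℕ, Lr S (2 * n) ≤ Lr S₁ (2 * n) ∧ Lr S₁ (2 * n + 1) ≤ Lr S (2 * n + 1) := by
    have hd : ∀ n : ℕ, Lr S (2 * n) ≤ Lr S₁ (2 * n) → Lr S₁ (2 * n + 1) ≤ Lr S (2 * n + 1) := by
      intro n hc
      apply Lr_succ_le S₁ (2 * n) (Lr S (2 * n + 1))
      intro A hA hAc hn
      exact le_Lr_succ S (2 * n) A (hA.trans h1) hAc (hc.trans hn)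
    have hc : ∀ n : ℕ, Lr S₁ (2 * n + 1) ≤ Lr S (2 * n + 1) →
        Lr S (2 * n + 1 + 1) ≤ Lr S₁ (2 * n + 1 + 1) := by
      intro n hdn
      apply Lr_succ_le S (2 * n + 1) (Lr S₁ (2 * n + 1 + 1))
      intro A hA hAc hn
      have hA2 : A ≤ Lr S (2 * (n + 1)) := le_Lr_succ S (2 * n + 1) A hA hAc hn
      have hA1 : A ≤ S₁ := hA2.trans ((even_le_LL S (n + 1)).trans (hLL.trans h2))
      exact le_Lr_succ S₁ (2 * n + 1) A hA1 hAc (hdn.trans hn)
    intro n
    induction n with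
    | zero =>
      have h0 : Lr S (2 * 0) ≤ Lr S₁ (2 * 0) := by
        rw [show 2 * 0 = 0 from rfl, Lr_zero]; exact bot_le
      exact ⟨h0, hd 0 h0⟩
    | succ n ih =>
      have h3 : Lr S (2 * (n + 1)) ≤ Lr S₁ (2 * (n + 1)) := hc n ih.2
      exact ⟨h3, hd (n + 1) h3⟩
  set m := max k k₁ with hm
  have e1 : Lr S₁ (2 * m + 1) = LU S₁ := (hk₁ m (le_max_right _ _)).2
  have e2 : Lr S (2 * m + 1) = LU S := (hk m (le_max_left _ _)).2
  apply le_antisymm
  · rw [← e1, ← e2]; exact (hcd m).2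
  · rw [← e1]; exact (hab m).2

theorem center_map_map (P : Subgroup G) (K : Subgroup ↥P) :
    ((Subgroup.center ↥K).map K.subtype).map P.subtype =
      K.map P.subtype ⊓ Subgroup.centralizer ((K.map P.subtype : Subgroup G) : Set G) := by
  ext x
  constructor
  · rintro ⟨_, ⟨z, hz, rfl⟩, rfl⟩
    refine Subgroup.mem_inf.2 ⟨⟨(z : ↥P), z.2, rfl⟩, ?_⟩
    rw [Subgroup.mem_centralizer_iff]
    rintro _ ⟨y, hy, rfl⟩
    have h1 := (Subgroup.mem_center_iff.1 hz) ⟨y, hy⟩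
    have h2 := congrArg (fun w : ↥K => ((w : ↥P) : G)) h1
    simpa using h2
  · intro hx
    obtain ⟨⟨y, hy, rfl⟩, hc⟩ := Subgroup.mem_inf.1 hx
    refine ⟨y, ⟨⟨y, hy⟩, ?_, rfl⟩, rfl⟩
    rw [SetLike.mem_coe, Subgroup.mem_center_iff]
    intro w
    apply Subtype.ext; apply Subtype.ext
    have h1 := (Subgroup.mem_centralizer_iff.1 hc) ((w : ↥P) : G) ⟨(w : ↥P), w.2, rfl⟩
    simpa using h1

/-- `Z(L(P))` inside `G`. -/
def ZL (P : Subgroup G) : Subgroup G :=
  LU P ⊓ Subgroup.centralizer ((LU P : Subgroup G) : Set G)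

theorem ZL_eq (P : Subgroup G) :
    ((Subgroup.center ↥(Cfsg.puigSubgroup ↥P)).map (Cfsg.puigSubgroup ↥P).subtype).map P.subtype =
      ZL P := center_map_map P _

theorem Lr_map {H' : Type*} [Group H'] (f : G →* H') (P : Subgroup G)
    (hinj : Set.InjOn f (P : Set G)) (n : ℕ) : Lr (P.map f) n = (Lr P n).map f := by
  have hbij : Function.Bijective (f.subgroupMap P) := by
    refine ⟨?_, f.subgroupMap_surjective P⟩
    intro x y hxy
    apply Subtype.ext
    apply hinj x.2 y.2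
    exact congrArg Subtype.val hxy
  set φ : ↥P ≃* ↥(P.map f) := MulEquiv.ofBijective (f.subgroupMap P) hbij with hφ
  have h := seq_map φ n
  unfold Lr
  rw [← h, Subgroup.map_map, Subgroup.map_map]
  rfl

theorem LU_map [Finite G] {H' : Type*} [Group H'] [Finite H'] (f : G →* H') (P : Subgroup G)
    (hinj : Set.InjOn f (P : Set G)) : LU (P.map f) = (LU P).map f := by
  obtain ⟨k, hk⟩ := exists_stable P
  obtain ⟨k', hk'⟩ := exists_stable (P.map f)
  rw [← (hk (max k k') (le_max_left _ _)).2, ← (hk' (max k k') (le_max_right _ _)).2]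
  exact Lr_map f P hinj _

theorem ZL_map [Finite G] {H' : Type*} [Group H'] [Finite H'] (f : G →* H') (P : Subgroup G)
    (hinj : Set.InjOn f (P : Set G)) : ZL (P.map f) = (ZL P).map f := by
  unfold ZL
  rw [LU_map f P hinj]
  apply le_antisymm
  · intro y hy
    obtain ⟨⟨x, hx, rfl⟩, hc⟩ := Subgroup.mem_inf.1 hy
    refine ⟨x, Subgroup.mem_inf.2 ⟨hx, ?_⟩, rfl⟩
    rw [Subgroup.mem_centralizer_iff]
    intro x' hx'
    apply hinj (P.mul_mem (LU_le P hx') (LU_le P hx)) (P.mul_mem (LU_le P hx) (LU_le P hx'))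
    rw [map_mul, map_mul]
    exact (Subgroup.mem_centralizer_iff.1 hc) (f x') ⟨x', hx', rfl⟩
  · rintro _ ⟨x, hx, rfl⟩
    obtain ⟨hx1, hx2⟩ := Subgroup.mem_inf.1 hx
    refine Subgroup.mem_inf.2 ⟨⟨x, hx1, rfl⟩, ?_⟩
    rw [Subgroup.mem_centralizer_iff]
    rintro _ ⟨x', hx', rfl⟩
    rw [← map_mul, ← map_mul, (Subgroup.mem_centralizer_iff.1 hx2) x' hx']

end

end Cfsg.Agent.Lib.Lead_Puig2
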