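import Mathlib
import Cfsg.Prelude.Def_OddOrderLocal
import Cfsg.Agent.Lib.Lead_Puig2

/-!
# `Z(L(S))` is normal in a solvable group of odd order with `O_{p'}(G) = 1`
-/

namespace Cfsg.Agent.Lib.Lead_Puig3

open Cfsg.Agent.Lib.Lead_Puig Cfsg.Agent.Lib.Lead_Puig2 Cfsg.Agent.Lib.Helper4_PCore

section
variable {G : Type*} [Group G] [Finite G] [Group.IsSolvable G]

set_option maxHeartbeats 1600000 in
theorem ZL_normal (hodd : Odd (Nat.card G)) (p : ℕ) [Fact p.Prime] (hp : p ≠ 2)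
    (hO : Cfsg.pPrimeCore p G = ⊥) (S : Sylow p G) : (ZL (S : Subgroup G)).Normal := by
  set T := Cfsg.pCore p G with hT
  haveI hTn : T.Normal := pCore_normal p G
  have hTS : T ≤ (S : Subgroup G) := pCore_le_sylow S
  have hTp : IsPGroup p T := pCore_isPGroup
  obtain ⟨kT, hkT⟩ := exists_stable T
  obtain ⟨kS, hkS⟩ := exists_stable (S : Subgroup G)
  obtain ⟨k, hkdef⟩ : ∃ k, k = max kT kS + 1 := ⟨_, rfl⟩
  have hkT' : kT ≤ k := by rw [hkdef]; exact (le_max_left _ _).trans (Nat.le_succ _)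
  have hkS' : kS ≤ k := by rw [hkdef]; exact (le_max_right _ _).trans (Nat.le_succ _)
  have hk1 : 1 ≤ k := by rw [hkdef]; exact Nat.le_add_left 1 _
  have hLT : Lr T (2 * k + 1) = LU T := (hkT k hkT').2
  have hLS : Lr (S : Subgroup G) (2 * k + 1) = LU (S : Subgroup G) := (hkS k hkS').2
  haveI hLTn : (LU T).Normal := by rw [← hLT]; exact Lr_normal T _
  have hLTS : LU T ≤ LU (S : Subgroup G) := by
    rw [← hLT, ← hLS]; exact (puig_chain hodd p hp hO S k).2
  set ZT := Subgroup.centralizer ((LU T : Subgroup G) : Set G) with hZT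
  haveI hZTn : ZT.Normal := Subgroup.normal_centralizer
  have hcl : T ⊓ ZT ≤ LU T := by
    intro z hz
    rw [← hLT]
    apply centralizer_Lr_le T k
    rw [hLT]; exact hz
  have hZTp : IsPGroup p ZT := by
    apply Cfsg.Agent.Lib.Lead_OddStab4.isPGroup_of_centralizes hO ZT
    intro z hz c hc
    exact ((Subgroup.mem_centralizer_iff.1 hc) z (hcl hz)).symm
  have hZTT : ZT ≤ T := le_pCore ZT hZTn hZTp
  have hZTLT : ZT ≤ LU T := fun z hz => hcl (Subgroup.mem_inf.2 ⟨hZTT hz, hz⟩)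
  have hZTc : ∀ a ∈ ZT, ∀ b ∈ ZT, a * b = b * a := fun a ha b hb =>
    (Subgroup.mem_centralizer_iff.1 hb) a (hZTLT ha)
  have hZTcomm : IsMulCommutative ZT := ⟨⟨fun a b => Subtype.ext (hZTc a a.2 b b.2)⟩⟩
  have hZle : ZL (S : Subgroup G) ≤ ZT := by
    intro z hz
    have hzc := (Subgroup.mem_inf.1 hz).2
    rw [hZT, Subgroup.mem_centralizer_iff]
    intro h hh
    exact (Subgroup.mem_centralizer_iff.1 hzc) h (hLTS hh)
  have hZTS : ZT ≤ (S : Subgroup G) := hZTT.trans hTS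
  have hZTtop : ∀ s : G, s ∈ Subgroup.normalizer (ZT : Set G) := by
    intro s
    rw [Subgroup.mem_normalizer_iff]
    intro h
    constructor
    · intro hh; exact hZTn.conj_mem h hh s
    · intro hh
      have := hZTn.conj_mem _ hh s⁻¹
      have e : s⁻¹ * (s * h * s⁻¹) * s⁻¹⁻¹ = h := by group
      rwa [e] at this
  have hZT2 : ZT ≤ Lr (S : Subgroup G) (2 * k) := by
    have h2 : ZT ≤ Lr (S : Subgroup G) (1 + 1) :=
      le_Lr_succ (S : Subgroup G) 1 ZT hZTS hZTcomm (fun s _ => hZTtop s)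
    have h3 : Lr (S : Subgroup G) (2 * 1) ≤ Lr (S : Subgroup G) (2 * k) :=
      Subgroup.map_mono (Cfsg.Agent.S1467.even_monotone hk1)
    exact h2.trans h3
  set C := Subgroup.centralizer (ZT : Set G) with hC
  haveI hCn : C.Normal := Subgroup.normal_centralizer
  set π := QuotientGroup.mk' C with hπ
  set D := (Cfsg.pCore p (G ⧸ C)).comap π with hD
  haveI hDn : D.Normal := (pCore_normal p _).comap π
  have hLSD : LU (S : Subgroup G) ≤ D := by
    rw [← hLS]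
    apply Lr_succ_le (S : Subgroup G) (2 * k) D
    intro A hAS hAc hn
    have hS1 : ∀ B ∈ ({A} : Set (Subgroup G)), IsMulCommutative B ∧ IsPGroup p B ∧
        ZT ≤ Subgroup.normalizer (B : Set G) := by
      intro B hB
      rw [Set.mem_singleton_iff] at hB
      subst hB
      exact ⟨hAc, S.isPGroup'.to_le hAS, hZT2.trans hn⟩
    have key := (Cfsg.Agent.S1465.result hodd p hp ZT hZTp _ hS1).1
    rw [sSup_singleton] at key
    intro a ha
    exact key ⟨a, ha, rfl⟩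
  set S₁ := (S : Subgroup G) ⊓ D with hS₁
  have hS₁S : S₁ ≤ (S : Subgroup G) := inf_le_left
  have hLS₁ : LU (S : Subgroup G) ≤ S₁ := le_inf (LU_le _) hLSD
  have hLUeq : LU S₁ = LU (S : Subgroup G) := LU_eq_of_le (S : Subgroup G) S₁ hS₁S hLS₁
  have hN1 : ∀ g ∈ Subgroup.normalizer (S₁ : Set G), ∀ z ∈ ZL (S : Subgroup G),
      g * z * g⁻¹ ∈ ZL (S : Subgroup G) := by
    obtain ⟨k₁, hk₁⟩ := exists_stable S₁
    have hL1 : Lr S₁ (2 * k₁ + 1) = LU (S : Subgroup G) := by rw [(hk₁ k₁ le_rfl).2, hLUeq]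
    intro g hg z hz
    obtain ⟨hz1, hz2⟩ := Subgroup.mem_inf.1 hz
    refine Subgroup.mem_inf.2 ⟨?_, ?_⟩
    · rw [← hL1] at hz1 ⊢
      exact Lr_conj S₁ _ g hg z hz1
    · rw [Subgroup.mem_centralizer_iff]
      intro y hy
      have hy' : g⁻¹ * y * g ∈ LU (S : Subgroup G) := by
        rw [← hL1] at hy ⊢
        have := Lr_conj S₁ _ g⁻¹ (Subgroup.inv_mem _ hg) y hy
        rwa [inv_inv] at this
      have hc := (Subgroup.mem_centralizer_iff.1 hz2) _ hy'
      calc y * (g * z * g⁻¹) = g * ((g⁻¹ * y * g) * z) * g⁻¹ := by group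
        _ = g * (z * (g⁻¹ * y * g)) * g⁻¹ := by rw [hc]
        _ = g * z * g⁻¹ * y := by group
  have hN2 : ∀ c ∈ C, ∀ z ∈ ZL (S : Subgroup G), c * z * c⁻¹ = z := by
    intro c hc z hz
    have := (Subgroup.mem_centralizer_iff.1 hc) z (hZle hz)
    rw [← this]; group
  have hDdec : ∀ d ∈ D, ∃ s ∈ S₁, ∃ c ∈ C, d = s * c := by
    intro d hd
    have hOP : Cfsg.pCore p (G ⧸ C) ≤ (S : Subgroup G).map π := by
      rw [← Sylow.coe_mapSurjective (QuotientGroup.mk'_surjective C) S]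
      exact pCore_le_sylow _
    obtain ⟨s, hsS, hsd⟩ := hOP hd
    have hcC : s⁻¹ * d ∈ C := QuotientGroup.eq.1 hsd
    refine ⟨s, Subgroup.mem_inf.2 ⟨hsS, ?_⟩, s⁻¹ * d, hcC, by group⟩
    show π s ∈ Cfsg.pCore p (G ⧸ C)
    rw [hsd]; exact hd
  have hfr := Sylow.normalizer_sup_eq_top (Cfsg.Agent.Lib.Helper5_Residual.sylowInfNormal S D)
  rw [Cfsg.Agent.Lib.Helper5_Residual.map_sylowInfNormal] at hfr
  constructor
  intro z hz g
  have hg : g ∈ ((Subgroup.normalizer (S₁ : Set G) ⊔ D : Subgroup G) : Set G) := by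
    rw [hfr]; trivial
  rw [Subgroup.mul_normal] at hg
  obtain ⟨n, hn, d, hd, rfl⟩ := hg
  obtain ⟨s, hs, c, hc, rfl⟩ := hDdec d hd
  have h1 : c * z * c⁻¹ = z := hN2 c hc z hz
  have h2 : s * z * s⁻¹ ∈ ZL (S : Subgroup G) := hN1 s (Subgroup.le_normalizer hs) z hz
  have h3 := hN1 n hn _ h2
  have e : n * (s * c) * z * (n * (s * c))⁻¹ = n * (s * (c * z * c⁻¹) * s⁻¹) * n⁻¹ := by group
  rw [e, h1]
  exact h3

end

end Cfsg.Agent.Lib.Lead_Puig3
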