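import Mathlib
import Cfsg.Prelude.Def_PLocal
import Cfsg.Agent.S0650
import Cfsg.Agent.Lib.Lead_SZ
import Cfsg.Agent.Lib.Lead_Coprime
import Cfsg.Agent.Lib.Lead_Replacement

/-! The rank statement in Glauberman's replacement theorem. -/

namespace Cfsg.Agent.Lib.Lead_ReplOmega

open Cfsg.Agent.Lib.Lead_Coprime Cfsg.Agent.S0650 Cfsg.Agent.Lib.Lead_Replacement

/-- a counting lemma for subgroups normalizing `Z` -/
theorem card_le_of_sup_inf {G : Type*} [Group G] [Finite G] (X Y Z : Subgroup G)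
    (hX : X ≤ Subgroup.normalizer (Z : Set G)) (hY : Y ≤ Subgroup.normalizer (Z : Set G))
    (h1 : X ⊔ Z ≤ Y ⊔ Z) (h2 : Z ⊓ X ≤ Z ⊓ Y) : Nat.card X ≤ Nat.card Y := by
  have r1 := relIndex_sup_of_le_normalizer X Z hX
  have r2 := relIndex_sup_of_le_normalizer Y Z hY
  have c1 : Nat.card (Z ⊓ X : Subgroup G) * Z.relIndex X = Nat.card X := by
    have := Subgroup.relIndex_mul_relIndex ⊥ (Z ⊓ X) X bot_le inf_le_right
    rwa [Subgroup.relIndex_bot_left, Subgroup.relIndex_bot_left,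
      Subgroup.inf_relIndex_right] at this
  have c2 : Nat.card (Z ⊓ Y : Subgroup G) * Z.relIndex Y = Nat.card Y := by
    have := Subgroup.relIndex_mul_relIndex ⊥ (Z ⊓ Y) Y bot_le inf_le_right
    rwa [Subgroup.relIndex_bot_left, Subgroup.relIndex_bot_left,
      Subgroup.inf_relIndex_right] at this
  have h3 : Z.relIndex (X ⊔ Z) ≤ Z.relIndex (Y ⊔ Z) := by
    have h4 := Subgroup.relIndex_mul_relIndex Z (X ⊔ Z) (Y ⊔ Z) le_sup_right h1
    have h5 : Z.relIndex (Y ⊔ Z) ≠ 0 :=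
      (Subgroup.index_ne_zero_of_finite : (Z.subgroupOf (Y ⊔ Z)).index ≠ 0)
    exact Nat.le_of_dvd (Nat.pos_of_ne_zero h5) (Dvd.intro _ h4)
  rw [← c1, ← c2, ← r1, ← r2]
  exact Nat.mul_le_mul (Subgroup.card_le_of_le h2) h3

/-- the subgroup of elements of order dividing `p` in an abelian subgroup -/
def omSub {S : Type*} [Group S] (p : ℕ) (X : Subgroup S)
    (hX : ∀ a ∈ X, ∀ b ∈ X, a * b = b * a) : Subgroup S where
  carrier := {y | y ∈ X ∧ y ^ p = 1}
  one_mem' := ⟨X.one_mem, one_pow _⟩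
  mul_mem' := by
    rintro a b ⟨ha, ha'⟩ ⟨hb, hb'⟩
    refine ⟨X.mul_mem ha hb, ?_⟩
    rw [(show Commute a b from hX a ha b hb).mul_pow, ha', hb', one_mul]
  inv_mem' := by
    rintro a ⟨ha, ha'⟩
    exact ⟨X.inv_mem ha, by rw [inv_pow, ha', inv_one]⟩

theorem mem_omSub {S : Type*} [Group S] (p : ℕ) (X : Subgroup S)
    (hX : ∀ a ∈ X, ∀ b ∈ X, a * b = b * a) (y : S) :
    y ∈ omSub p X hX ↔ y ∈ X ∧ y ^ p = 1 := Iff.rfl

theorem omegaOne_eq {S : Type*} [Group S] (p : ℕ) (X : Subgroup S)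
    (hX : ∀ a ∈ X, ∀ b ∈ X, a * b = b * a) : Cfsg.omegaOne p X = omSub p X hX := by
  apply le_antisymm
  · unfold Cfsg.omegaOne
    rw [Subgroup.closure_le]
    intro y hy
    exact hy
  · intro y hy
    exact Subgroup.subset_closure hy

theorem pr_pow_left {S : Type*} [Group S] {A A₁ : Subgroup S} (h : Pair A A₁) {a c : S}
    (ha : a ∈ A) (hc : c ∈ A₁) (n : ℕ) : pr (c ^ n) a = (pr c a) ^ n := by
  induction n with
  | zero => simp [pr_one_left]
  | succ n ih =>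
    rw [pow_succ, pr_mul_left h (A₁.pow_mem hc n) hc ha, ih, pow_succ]

theorem omega_card {S : Type*} [Group S] [Finite S] {p : ℕ} [Fact p.Prime] (hS : IsPGroup p S)
    (hp2 : p ≠ 2) (B : Subgroup S) [B.Normal] (A : Subgroup S)
    (hA : IsMulCommutative A) (hBA : ⁅B, B⁆ ≤ A)
    (hnot : ¬ B ≤ Subgroup.normalizer (A : Set S))
    (x : S) (hx : x ∈ B)
    (hxN : x ∈ Subgroup.normalizer ((Subgroup.normalizer (A : Set S)) : Set S))
    (hxA : x ∉ Subgroup.normalizer (A : Set S))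
    (A₁ : Subgroup S) (hA₁ : A₁ = A.map (MulAut.conj x).toMonoidHom)
    (C : Subgroup S) (hC : C = Subgroup.closure {g : S | ∃ a ∈ A, g = a * x * a⁻¹ * x⁻¹})
    (T : Subgroup S) (hT : T = (A ⊓ A₁) ⊔ C) :
    Nat.card (Cfsg.omegaOne p A) ≤ Nat.card (Cfsg.omegaOne p T) := by
  classical
  obtain ⟨-, hTc, -, -, -, -, hTN, -, -, -⟩ :=
    main hS B (fun h => absurd h hp2) A hA hBA hnot x hx hxN hxA A₁ hA₁ x⁻¹ rfl C hC T hT
  have mem_A₁ : ∀ u, u ∈ A₁ ↔ ∃ a ∈ A, x * a * x⁻¹ = u := by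
    intro u; rw [hA₁, Subgroup.mem_map]; rfl
  have σ_mem : ∀ a ∈ A, x * a * x⁻¹ ∈ A₁ := fun a ha => (mem_A₁ _).2 ⟨a, ha, rfl⟩
  have commA : ∀ a ∈ A, ∀ a' ∈ A, a * a' = a' * a :=
    fun a ha a' ha' => Subgroup.mul_comm_of_mem_isMulCommutative A ha ha'
  have commT : ∀ a ∈ T, ∀ a' ∈ T, a * a' = a' * a :=
    fun a ha a' ha' => Subgroup.mul_comm_of_mem_isMulCommutative T ha ha'
  have commA₁ : ∀ c ∈ A₁, ∀ c' ∈ A₁, c * c' = c' * c := by
    intro c hc c' hc'
    obtain ⟨a, ha, rfl⟩ := (mem_A₁ c).1 hc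
    obtain ⟨a', ha', rfl⟩ := (mem_A₁ c').1 hc'
    have := commA a ha a' ha'
    calc x * a * x⁻¹ * (x * a' * x⁻¹) = x * (a * a') * x⁻¹ := by group
      _ = x * (a' * a) * x⁻¹ := by rw [this]
      _ = _ := by group
  have hxinvN : x⁻¹ ∈ Subgroup.normalizer ((Subgroup.normalizer (A : Set S)) : Set S) :=
    Subgroup.inv_mem _ hxN
  have hAN : A ≤ Subgroup.normalizer (A : Set S) := Subgroup.le_normalizer
  have conjN : ∀ n ∈ Subgroup.normalizer (A : Set S),
      x * n * x⁻¹ ∈ Subgroup.normalizer (A : Set S) :=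
    fun n hn => (Subgroup.mem_normalizer_iff.1 hxN n).1 hn
  have conjN' : ∀ n ∈ Subgroup.normalizer (A : Set S),
      x⁻¹ * n * x ∈ Subgroup.normalizer (A : Set S) := by
    intro n hn
    have := (Subgroup.mem_normalizer_iff.1 hxinvN n).1 hn
    rwa [inv_inv] at this
  have hA₁N : A₁ ≤ Subgroup.normalizer (A : Set S) := by
    intro c hc
    obtain ⟨a, ha, rfl⟩ := (mem_A₁ c).1 hc
    exact conjN a (hAN ha)
  have nA : ∀ n ∈ Subgroup.normalizer (A : Set S), ∀ a ∈ A, n * a * n⁻¹ ∈ A :=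
    fun n hn a ha => (Subgroup.mem_normalizer_iff.1 hn a).1 ha
  have nA₁ : ∀ n ∈ Subgroup.normalizer (A : Set S), ∀ c ∈ A₁, n * c * n⁻¹ ∈ A₁ := by
    intro n hn c hc
    obtain ⟨a, ha, rfl⟩ := (mem_A₁ c).1 hc
    have h1 := nA _ (conjN' n hn) a ha
    have e : n * (x * a * x⁻¹) * n⁻¹ = x * (x⁻¹ * n * x * a * (x⁻¹ * n * x)⁻¹) * x⁻¹ := by group
    rw [e]; exact σ_mem _ h1
  have hP : Pair A A₁ := ⟨commA, commA₁, fun a ha c hc => nA c (hA₁N hc) a ha,
    fun a ha c hc => nA₁ a (hAN ha) c hc⟩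
  have hDT : A ⊓ A₁ ≤ T := by rw [hT]; exact le_sup_left
  have hCT : C ≤ T := by rw [hT]; exact le_sup_right
  have g_eq : ∀ a : S, a * x * a⁻¹ * x⁻¹ = a * (x * a * x⁻¹)⁻¹ := fun a => by group
  have g_C : ∀ a ∈ A, a * x * a⁻¹ * x⁻¹ ∈ C := fun a ha => by
    rw [hC]; exact Subgroup.subset_closure ⟨a, ha, rfl⟩
  -- the normalizer of `A` normalizes `Ω₁(A)`
  have hNΩ : Subgroup.normalizer (A : Set S) ≤
      Subgroup.normalizer ((omSub p A commA : Subgroup S) : Set S) := by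
    have key : ∀ n ∈ Subgroup.normalizer (A : Set S), ∀ y ∈ omSub p A commA,
        n * y * n⁻¹ ∈ omSub p A commA := by
      intro n hn y hy
      refine ⟨nA n hn y hy.1, ?_⟩
      rw [conj_pow, hy.2]; group
    intro n hn
    exact mem_normalizer_of_conj_mem (key n hn) (fun u hu => by
      have := key n⁻¹ (Subgroup.inv_mem _ hn) u hu
      rwa [inv_inv] at this)
  -- `g a` has order dividing `p`
  have hg : ∀ a ∈ A, a ^ p = 1 → (a * x * a⁻¹ * x⁻¹) ^ p = 1 := by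
    intro a ha hap
    rw [g_eq a]
    have hc : (x * a * x⁻¹)⁻¹ ∈ A₁ := A₁.inv_mem (σ_mem a ha)
    have hcp : ((x * a * x⁻¹)⁻¹) ^ p = 1 := by
      rw [inv_pow, conj_pow, hap]; group
    rw [pow_nf hP ha hc, hap, hcp, mul_one, mul_one]
    have hodd : Nat.Coprime p 2 := (Nat.coprime_primes Fact.out Nat.prime_two).2 hp2
    have hdvd : p ∣ ∑ i ∈ Finset.range p, i := by
      have h1 : p ∣ (∑ i ∈ Finset.range p, i) * 2 := by
        rw [Finset.sum_range_id_mul_two]; exact dvd_mul_right _ _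
      exact hodd.dvd_of_dvd_mul_right h1
    obtain ⟨t, ht⟩ := hdvd
    rw [ht, pow_mul, ← pr_pow_left hP ha hc, hcp, pr_one_left, one_pow]
  have h1 : Nat.card (omSub p A₁ commA₁) ≤ Nat.card (omSub p T commT) := by
    apply card_le_of_sup_inf _ _ (omSub p A commA)
    · exact fun y hy => hNΩ (hA₁N hy.1)
    · exact fun y hy => hNΩ (hTN hy.1)
    · refine sup_le ?_ le_sup_right
      intro c hc
      obtain ⟨a, ha, rfl⟩ := (mem_A₁ c).1 hc.1
      have hap : a ^ p = 1 := by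
        have h2 := hc.2
        rw [conj_pow] at h2
        have e : a ^ p = x⁻¹ * (x * a ^ p * x⁻¹) * x := by group
        rw [e, h2]; group
      have e : x * a * x⁻¹ = (a * x * a⁻¹ * x⁻¹)⁻¹ * a := by group
      rw [e]
      refine Subgroup.mul_mem _ (Subgroup.inv_mem _ (Subgroup.mem_sup_left ?_))
        (Subgroup.mem_sup_right ⟨ha, hap⟩)
      exact ⟨hCT (g_C a ha), hg a ha hap⟩
    · rintro y ⟨hy1, hy2⟩
      exact ⟨hy1, hDT ⟨hy1.1, hy2.1⟩, hy1.2⟩
  have h2 : Nat.card (omSub p A commA) ≤ Nat.card (omSub p A₁ commA₁) := by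
    have hle : (omSub p A commA).map (MulAut.conj x).toMonoidHom ≤ omSub p A₁ commA₁ := by
      rintro _ ⟨a, ha, rfl⟩
      refine ⟨σ_mem a ha.1, ?_⟩
      show (x * a * x⁻¹) ^ p = 1
      rw [conj_pow, ha.2]; group
    have := Subgroup.card_le_of_le hle
    rwa [Subgroup.card_map_of_injective (MulAut.conj x).injective] at this
  rw [omegaOne_eq p A commA, omegaOne_eq p T commT]
  exact h2.trans h1

/-- The replacement theorem with the rank statement, `B` normal. -/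
theorem repl_normal {S : Type*} [Group S] [Finite S] {p : ℕ} [Fact p.Prime] (hp : p ≠ 2)
    (hS : IsPGroup p S) (A B : Subgroup S) [B.Normal] (hA : IsMulCommutative A)
    (hBA : ⁅B, B⁆ ≤ A) (hBnA : ¬ B ≤ Subgroup.normalizer (A : Set S)) :
    ∃ T : Subgroup S, IsMulCommutative T ∧ Nat.card T = Nat.card A ∧ A ⊓ B < T ⊓ B ∧
      T ≤ Subgroup.normalizer (A : Set S) ∧ T ≤ Subgroup.normalClosure (A : Set S) ∧
      Monoid.exponent T ∣ Monoid.exponent A ∧
      Nat.card (Cfsg.omegaOne p A) ≤ Nat.card (Cfsg.omegaOne p T) := by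
  classical
  have hlt : Subgroup.normalizer (A : Set S) < Subgroup.normalizer (A : Set S) ⊔ B := by
    refine lt_of_le_not_ge le_sup_left (fun h => hBnA (le_sup_right.trans h))
  obtain ⟨y, hyM, hyN, hyNN⟩ := exists_mem_normalizer_not_mem (hS.to_subgroup _) hlt
  have hy' : y ∈ ((Subgroup.normalizer (A : Set S) ⊔ B : Subgroup S) : Set S) := hyM
  rw [Subgroup.mul_normal] at hy'
  obtain ⟨n, hn, b, hb, rfl⟩ := Set.mem_mul.1 hy'
  have hbN : b ∈ Subgroup.normalizer ((Subgroup.normalizer (A : Set S)) : Set S) := by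
    have h3 := Subgroup.mul_mem _ (Subgroup.inv_mem _ (Subgroup.le_normalizer hn)) hyNN
    rwa [inv_mul_cancel_left] at h3
  have hbA : b ∉ Subgroup.normalizer (A : Set S) := fun h => hyN (Subgroup.mul_mem _ hn h)
  obtain ⟨r1, r2, -, r4, -, -, r7, -, -, r10⟩ :=
    main hS B (fun h => absurd h hp) A hA hBA hBnA b hb hbN hbA _ rfl b⁻¹ rfl _ rfl _ rfl
  have r11 := omega_card hS hp B A hA hBA hBnA b hb hbN hbA _ rfl _ rfl _ rfl
  refine ⟨_, r2, r1, r4, r7, ?_, r10 hp, r11⟩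
  haveI : (Subgroup.normalClosure (A : Set S)).Normal := Subgroup.normalClosure_normal
  have hAle : A ≤ Subgroup.normalClosure (A : Set S) := Subgroup.subset_normalClosure
  refine sup_le (inf_le_left.trans hAle) ?_
  rw [Subgroup.closure_le]
  rintro _ ⟨a, ha, rfl⟩
  have e : a * b * a⁻¹ * b⁻¹ = a * (b * a⁻¹ * b⁻¹) := by group
  rw [e]
  exact Subgroup.mul_mem _ (hAle ha)
    (Subgroup.normalClosure_normal.conj_mem _ (Subgroup.inv_mem _ (hAle ha)) b)

end Cfsg.Agent.Lib.Lead_ReplOmega
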