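import Mathlib
import Cfsg.Prelude.Def_PLocal
import Cfsg.Agent.Lib.Lead_GTc2
import Cfsg.Agent.Lib.Lead_Ind
import Cfsg.Agent.Lib.Lead_ActStab
import Cfsg.Agent.Lib.Helper1_Thompson
import Cfsg.Agent.Lib.Helper4_MaxNormAb0
import Cfsg.Agent.S0654

/-!
# Thompson's normal `p`-complement theorem (elementary abelian version of `J`), `p` odd
-/

namespace Cfsg.Agent.Lib.Lead_ThompNPC

open Cfsg.Agent.Lib.Helper7_NPC Cfsg.Agent.Lib.Helper4_PCore Cfsg.Agent.Lib.Lead_GT1
  Cfsg.Agent.Lib.Lead_GTb Cfsg.Agent.Lib.Lead_GTc Cfsg.Agent.Lib.Lead_GTc2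
  Cfsg.Agent.Lib.Lead_Ind Cfsg.Agent.Lib.Lead_ZJ Cfsg.Agent.Lib.Helper1_Thompson
  Cfsg.Agent.Lib.Helper5_Residual Cfsg.Agent.Lib.Lead_PStab2
open scoped Pointwise commutatorElement

universe u

section functors
variable (p : ℕ) [Fact p.Prime]

theorem thompson_isCharPFunctor :
    Cfsg.IsCharPFunctor.{u} p (fun (Q : Type u) [Group Q] => Cfsg.thompsonSubgroup p Q) := by
  have hpp : p.Prime := Fact.out
  refine ⟨?_, ?_⟩
  · intro Q _ _ hQ hnt
    obtain ⟨A, hA⟩ := exists_maxEA (G := Q) p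
    haveI : Nontrivial ↥(Subgroup.center Q) := hQ.center_nontrivial
    obtain ⟨k, hk⟩ := IsPGroup.iff_card.1 (hQ.to_subgroup (Subgroup.center Q))
    have h1 : 1 < Nat.card ↥(Subgroup.center Q) := Finite.one_lt_card
    have hk0 : k ≠ 0 := by
      rintro rfl
      rw [pow_zero] at hk
      omega
    have hdvd : p ∣ Nat.card ↥(Subgroup.center Q) := by
      rw [hk]; exact dvd_pow_self p hk0
    obtain ⟨z, hz⟩ := exists_prime_orderOf_dvd_card' p hdvd
    have hz1 : (z : Q) ^ p = 1 := by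
      have := pow_orderOf_eq_one z
      rw [hz] at this
      exact_mod_cast congrArg Subtype.val this
    have hzne : (z : Q) ≠ 1 := by
      intro h
      have : z = 1 := Subtype.ext h
      rw [this, orderOf_one] at hz
      exact hpp.one_lt.ne hz
    have hzA : (z : Q) ∈ A := by
      apply mem_of_centralizes_maxEA p hA (z : Q) hz1
      intro a _
      exact ((Subgroup.mem_center_iff.1 z.2) a).symm
    intro h0
    have h0' : Cfsg.thompsonSubgroup p Q = ⊥ := h0
    have : (z : Q) ∈ Cfsg.thompsonSubgroup p Q := le_thompson p hA hzA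
    rw [h0', Subgroup.mem_bot] at this
    exact hzne this
  · intro Q R _ _ _ _ φ
    exact thompson_map_equiv p φ

theorem center_isCharPFunctor :
    Cfsg.IsCharPFunctor.{u} p (fun (Q : Type u) [Group Q] => Subgroup.center Q) := by
  refine ⟨?_, ?_⟩
  · intro Q _ _ hQ hnt
    haveI : Nontrivial ↥(Subgroup.center Q) := hQ.center_nontrivial
    exact (Subgroup.nontrivial_iff_ne_bot _).1 inferInstance
  · intro Q R _ _ _ _ φ
    ext y
    constructor
    · rintro ⟨x, hx, rfl⟩
      have hx' : x ∈ Subgroup.center Q := hx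
      show φ x ∈ Subgroup.center R
      rw [Subgroup.mem_center_iff]
      intro r
      obtain ⟨q, rfl⟩ := φ.surjective r
      show φ q * φ x = φ x * φ q
      rw [← map_mul, ← map_mul, (Subgroup.mem_center_iff.1 hx') q]
    · intro hy
      have hy' : y ∈ Subgroup.center R := hy
      refine ⟨φ.symm y, ?_, by simp⟩
      show φ.symm y ∈ Subgroup.center Q
      rw [Subgroup.mem_center_iff]
      intro q
      apply φ.injective
      rw [map_mul, map_mul, φ.apply_symm_apply]
      exact (Subgroup.mem_center_iff.1 hy') (φ q)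

end functors

section
variable {G : Type u} [Group G]

theorem inducedFunctor_center (P : Subgroup G) :
    Cfsg.inducedFunctor (G := G) (fun (Q : Type u) [Group Q] => Subgroup.center Q) P =
      P ⊓ Subgroup.centralizer (P : Set G) := by
  unfold Cfsg.inducedFunctor
  ext x
  constructor
  · rintro ⟨z, hz, rfl⟩
    have hz' : z ∈ Subgroup.center ↥P := hz
    refine ⟨z.2, ?_⟩
    show (z : G) ∈ Subgroup.centralizer (P : Set G)
    rw [Subgroup.mem_centralizer_iff]
    intro y hy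
    have := (Subgroup.mem_center_iff.1 hz') ⟨y, hy⟩
    exact congrArg Subtype.val this
  · rintro ⟨hxP, hxC⟩
    have hxC' : x ∈ Subgroup.centralizer (P : Set G) := hxC
    refine ⟨⟨x, hxP⟩, ?_, rfl⟩
    show (⟨x, hxP⟩ : ↥P) ∈ Subgroup.center ↥P
    rw [Subgroup.mem_center_iff]
    intro y
    apply Subtype.ext
    exact (Subgroup.mem_centralizer_iff.1 hxC') y y.2

/-- `J(R) = J(S)` when `J(S) ≤ R ≤ S`. -/
theorem thompson_eq_of_le [Finite G] (p : ℕ) (S R : Subgroup G) (hRS : R ≤ S)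
    (hJR : Cfsg.thompsonSubgroupOf p S ≤ R) :
    Cfsg.thompsonSubgroupOf p R = Cfsg.thompsonSubgroupOf p S := by
  have e1 : Cfsg.thompsonSubgroupOf p R = sSup (FE p R) := thompsonE_eq p R
  have e2 : Cfsg.thompsonSubgroupOf p S = sSup (FE p S) := thompsonE_eq p S
  rw [e1, e2]
  -- a member of `FE p S`
  have hfin : {V : Subgroup G | V ≤ S ∧ Cfsg.IsElementaryAbelian p V}.Finite := Set.toFinite _
  obtain ⟨U₀, ⟨hU1, hU2⟩, hmax⟩ := Set.exists_max_image _ (fun V : Subgroup G => Nat.card V) hfin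
    ⟨⊥, bot_le, inferInstance, fun a ha => by rw [Subgroup.mem_bot.1 ha, one_pow]⟩
  have hU₀ : U₀ ∈ FE p S := ⟨hU1, hU2, fun V hV hVc => hmax V ⟨hV, hVc⟩⟩
  have hU₀R : U₀ ≤ R := by
    refine le_trans ?_ hJR
    rw [e2]; exact le_sSup hU₀
  have hset : FE p R = FE p S := by
    ext U
    constructor
    · rintro ⟨hUR, hUe, hUm⟩
      refine ⟨hUR.trans hRS, hUe, ?_⟩
      intro V hV hVc
      exact (hU₀.2.2 V hV hVc).trans (hUm U₀ hU₀R hU₀.2.1)
    · rintro ⟨hUS, hUe, hUm⟩
      have hUR : U ≤ R := by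
        refine le_trans ?_ hJR
        rw [e2]; exact le_sSup ⟨hUS, hUe, hUm⟩
      exact ⟨hUR, hUe, fun V hV hVc => hUm V (hV.trans hRS) hVc⟩
  rw [hset]

end

section endgame
variable {p : ℕ} [Fact p.Prime]

/-- The two functors of Thompson's theorem. -/
noncomputable def funJ (p : ℕ) [Fact p.Prime] : WFun0.{u} p :=
  indFun _ (thompson_isCharPFunctor.{u} p)

noncomputable def funZ (p : ℕ) [Fact p.Prime] : WFun0.{u} p :=
  indFun _ (center_isCharPFunctor.{u} p)

theorem funJ_W {X : Type u} [Group X] (R : Subgroup X) :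
    (funJ.{u} p).W X R = Cfsg.thompsonSubgroupOf p R := rfl

theorem funZ_W {X : Type u} [Group X] (R : Subgroup X) :
    (funZ.{u} p).W X R = R ⊓ Subgroup.centralizer (R : Set X) := inducedFunctor_center R

set_option maxHeartbeats 4000000 in
theorem endgame (hp2 : p ≠ 2) {X : Type u} [Group X] [Finite X] (hE : EndConfig p X)
    (hH : Hyp2 (funJ.{u} p) (funZ.{u} p) X) : NPC p X := by
  have hpp : p.Prime := Fact.out
  by_contra hno
  obtain ⟨H, K, hHn, hKn, hHp, hHO, hHK, hab, hcop, hKi, hcent, hco⟩ := hE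
  haveI := hHn
  haveI := hKn
  obtain ⟨S⟩ : Nonempty (Sylow p X) := inferInstance
  have hS := hco S
  obtain ⟨h1, h2⟩ := hH S
  rw [funJ_W] at h1
  rw [funZ_W] at h2
  have hHS : H ≤ (S : Subgroup X) := normal_pGroup_le_sylow H hHn hHp S
  -- `N(J) = S`
  have hSNJ : (S : Subgroup X) ≤
      Subgroup.normalizer ((Cfsg.thompsonSubgroupOf p (S : Subgroup X) : Subgroup X) : Set X) :=
    Subgroup.le_normalizer.trans (W_char (funJ.{u} p) (S : Subgroup X) S.isPGroup')
  have hNJ : Subgroup.normalizer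
      ((Cfsg.thompsonSubgroupOf p (S : Subgroup X) : Subgroup X) : Set X) = S := by
    rcases hS.le_iff.1 hSNJ with h | h
    · exact absurd (npc_of_eq_top h h1) hno
    · exact h
  have hSCZ : (S : Subgroup X) ≤ Subgroup.centralizer
      ((((S : Subgroup X) ⊓ Subgroup.centralizer ((S : Subgroup X) : Set X) : Subgroup X)) :
        Set X) := by
    intro s hs
    rw [Subgroup.mem_centralizer_iff]
    intro z hz
    exact ((Subgroup.mem_centralizer_iff.1 hz.2) s hs).symm
  have hCZ : Subgroup.centralizer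
      ((((S : Subgroup X) ⊓ Subgroup.centralizer ((S : Subgroup X) : Set X) : Subgroup X)) :
        Set X) = S := by
    rcases hS.le_iff.1 hSCZ with h | h
    · exact absurd (npc_of_eq_top h h2) hno
    · exact h
  -- `W₁ = Ω₁ Z J(S)` is normal
  have hc' : Subgroup.centralizer (Cfsg.pCore p X : Set X) ≤ Cfsg.pCore p X := by
    rw [← hHO]; exact hcent
  have hst : ∀ (P : Subgroup X) [P.Normal], IsPGroup p P → Cfsg.IsPStableOn p P :=
    fun P _ hP => ps2 hp2 H K hHp hab hcop hKi P hP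
  have hW₁char := Cfsg.Agent.S0654.result hp2 hc' hst S
  set W₁ := (Cfsg.omegaCenterThompson p ↥(S : Subgroup X)).map (S : Subgroup X).subtype with hW₁
  haveI hW₁n : W₁.Normal := inferInstance
  set C₁ := Subgroup.centralizer (W₁ : Set X) with hC₁
  haveI hC₁n : C₁.Normal := Subgroup.normal_centralizer
  set J := Cfsg.thompsonSubgroupOf p (S : Subgroup X) with hJ
  have hJS : J ≤ (S : Subgroup X) := Subgroup.map_subtype_le _
  have hW₁le : W₁ ≤ J ⊓ Subgroup.centralizer (J : Set X) := by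
    rw [hW₁, omegaCenterThompson_eq, hJ]
    have e2 : Cfsg.thompsonSubgroupOf p (S : Subgroup X) = sSup (FE p (S : Subgroup X)) :=
      thompsonE_eq p _
    rw [e2]
    exact Zd_le _ _
  have hJC₁ : J ≤ C₁ := by
    intro j hj
    rw [hC₁, Subgroup.mem_centralizer_iff]
    intro w hw
    exact ((Subgroup.mem_centralizer_iff.1 (hW₁le hw).2) j hj).symm
  -- Frattini
  have hfr : Subgroup.normalizer ((((S : Subgroup X) ⊓ C₁ : Subgroup X)) : Set X) ⊔ C₁ = ⊤ := by
    have := Sylow.normalizer_sup_eq_top (sylowInfNormal S C₁)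
    rwa [map_sylowInfNormal] at this
  have hRp : IsPGroup p ↥((S : Subgroup X) ⊓ C₁ : Subgroup X) := S.isPGroup'.to_le inf_le_left
  have hNR : Subgroup.normalizer ((((S : Subgroup X) ⊓ C₁ : Subgroup X)) : Set X) ≤
      (S : Subgroup X) := by
    have h3 := W_char (funJ.{u} p) ((S : Subgroup X) ⊓ C₁) hRp
    rw [funJ_W, thompson_eq_of_le p (S : Subgroup X) ((S : Subgroup X) ⊓ C₁) inf_le_left
      (le_inf hJS hJC₁)] at h3
    exact h3.trans (le_of_eq hNJ)
  have htop : (S : Subgroup X) ⊔ C₁ = ⊤ := by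
    rw [eq_top_iff, ← hfr]
    exact sup_le_sup_right hNR C₁
  -- elements of `Ω₁ Z(S)` are central in `X`
  have hcentral : ∀ z : X, z ∈ (S : Subgroup X) → z ∈ Subgroup.centralizer ((S : Subgroup X) : Set X) →
      z ^ p = 1 → ∀ x : X, x * z = z * x := by
    intro z hzS hzC hzp x
    -- `z ∈ W₁`
    have hzW : z ∈ W₁ := by
      rw [hW₁, omegaCenterThompson_eq]
      unfold Zd
      apply Subgroup.subset_closure
      have e2 : sSup (FE p (S : Subgroup X)) = J := (thompsonE_eq p _).symm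
      rw [e2]
      refine ⟨⟨?_, ?_⟩, hzp⟩
      · -- `z ∈ J`
        obtain ⟨A, hA⟩ := exists_maxEA (G := ↥(S : Subgroup X)) p
        have hzA : (⟨z, hzS⟩ : ↥(S : Subgroup X)) ∈ A := by
          apply mem_of_centralizes_maxEA p hA
          · apply Subtype.ext
            simpa using hzp
          · intro a _
            apply Subtype.ext
            exact ((Subgroup.mem_centralizer_iff.1 hzC) a a.2).symm
        exact ⟨⟨z, hzS⟩, le_thompson p hA hzA, rfl⟩
      · show z ∈ Subgroup.centralizer (J : Set X)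
        rw [Subgroup.mem_centralizer_iff]
        intro j hj
        exact (Subgroup.mem_centralizer_iff.1 hzC) j (hJS hj)
    have hx : x ∈ (((S : Subgroup X) ⊔ C₁ : Subgroup X) : Set X) := by
      show x ∈ (S : Subgroup X) ⊔ C₁
      rw [htop]; trivial
    rw [Subgroup.mul_normal] at hx
    obtain ⟨s, hs, c, hc, rfl⟩ := Set.mem_mul.1 hx
    have e1 : s * z = z * s := ((Subgroup.mem_centralizer_iff.1 hzC) s hs)
    have e2 : c * z = z * c := ((Subgroup.mem_centralizer_iff.1 hc) z hzW).symm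
    calc s * c * z = s * (c * z) := by group
      _ = s * (z * c) := by rw [e2]
      _ = (s * z) * c := by group
      _ = (z * s) * c := by rw [e1]
      _ = z * (s * c) := by group
  -- `Z₀ = Z(H)`
  set Z₀ := H ⊓ Subgroup.centralizer (H : Set X) with hZ₀
  haveI hCHn : (Subgroup.centralizer (H : Set X)).Normal := Subgroup.normal_centralizer
  haveI hZ₀n : Z₀.Normal := inferInstance
  haveI hZ₀c : IsMulCommutative ↥Z₀ := by
    refine ⟨⟨fun a b => ?_⟩⟩
    apply Subtype.ext
    exact ((Subgroup.mem_centralizer_iff.1 a.2.2) b b.2.1).symm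
  have hZ₀p : IsPGroup p ↥Z₀ := hHp.to_le inf_le_left
  -- complement of `H` in `K`
  have hcopK : (Nat.card ↥(H.subgroupOf K)).Coprime (H.subgroupOf K).index := by
    rw [Cfsg.Agent.Lib.Lead_SZ.card_subgroupOf_of_le hHK]
    obtain ⟨a, ha⟩ := IsPGroup.iff_card.1 hHp
    rw [ha]
    exact (Nat.Coprime.pow_right a hcop).symm
  obtain ⟨Q₀, hQ₀⟩ := Subgroup.exists_right_complement'_of_coprime hcopK
  set Q := Q₀.map K.subtype with hQ
  have hQK : Q ≤ K := Subgroup.map_subtype_le _
  have hcardQ : Nat.card ↥Q = H.relIndex K := by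
    rw [hQ, Subgroup.card_map_of_injective K.subtype_injective, ← hQ₀.symm.index_eq_card]
    rfl
  have hKHQ : ∀ k ∈ K, ∃ h ∈ H, ∃ q ∈ Q, k = h * q := by
    intro k hk
    obtain ⟨⟨a, b⟩, hab', -⟩ := hQ₀.existsUnique ⟨k, hk⟩
    refine ⟨(a : ↥K), Subgroup.mem_subgroupOf.1 a.2, (b : ↥K), ⟨b, b.2, rfl⟩, ?_⟩
    have := congrArg Subtype.val hab'
    simpa using this.symm
  -- `[Z₀, K] = 1`
  have hYbot : ⁅Z₀, K⁆ = ⊥ := by
    by_contra hYne
    set Y := ⁅Z₀, K⁆ with hY
    haveI hYn : Y.Normal := inferInstance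
    have hYZ₀ : Y ≤ Z₀ := Subgroup.commutator_le_left Z₀ K
    have hYS : Y ≤ (S : Subgroup X) := hYZ₀.trans (inf_le_left.trans hHS)
    haveI : Group.IsNilpotent ↥(S : Subgroup X) := S.isPGroup'.isNilpotent
    have hAne : Y.subgroupOf (S : Subgroup X) ≠ ⊥ := by
      intro h0
      apply hYne
      rw [eq_bot_iff]
      intro y hy
      have : (⟨y, hYS hy⟩ : ↥(S : Subgroup X)) ∈ Y.subgroupOf (S : Subgroup X) :=
        Subgroup.mem_subgroupOf.2 hy
      rw [h0, Subgroup.mem_bot] at this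
      exact Subgroup.mem_bot.2 (congrArg Subtype.val this)
    obtain ⟨a, haY, haZ, ha1⟩ := Cfsg.Agent.Lib.Helper4_MaxNormAb0.normal_inf_center
      (Y.subgroupOf (S : Subgroup X)) hAne
    set y : X := (a : X) with hy
    have hyY : y ∈ Y := Subgroup.mem_subgroupOf.1 haY
    have hyS : y ∈ (S : Subgroup X) := a.2
    have hyC : y ∈ Subgroup.centralizer ((S : Subgroup X) : Set X) := by
      rw [Subgroup.mem_centralizer_iff]
      intro s hs
      have := (Subgroup.mem_center_iff.1 haZ) ⟨s, hs⟩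
      exact congrArg Subtype.val this
    have hy1 : y ≠ 1 := fun h => ha1 (Subtype.ext h)
    -- a power of order `p`
    obtain ⟨t, ht⟩ := S.isPGroup' a
    have ht' : y ^ (p ^ t) = 1 := by
      have := congrArg Subtype.val ht
      simpa using this
    obtain ⟨j, -, hj⟩ := (Nat.dvd_prime_pow hpp).1 (orderOf_dvd_of_pow_eq_one ht')
    have hj0 : j ≠ 0 := by
      rintro rfl
      rw [pow_zero, orderOf_eq_one_iff] at hj
      exact hy1 hj
    obtain ⟨i, rfl⟩ := Nat.exists_eq_succ_of_ne_zero hj0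
    set y' := y ^ (p ^ i) with hy'
    have hy'p : y' ^ p = 1 := by
      rw [hy', ← pow_mul, ← pow_succ, ← hj]
      exact pow_orderOf_eq_one y
    have hy'1 : y' ≠ 1 := by
      intro h
      have h3 : orderOf y ∣ p ^ i := orderOf_dvd_of_pow_eq_one h
      rw [hj] at h3
      have := (Nat.pow_dvd_pow_iff_le_right hpp.one_lt).1 h3
      omega
    have hy'Y : y' ∈ Y := Y.pow_mem hyY _
    have hy'S : y' ∈ (S : Subgroup X) := Subgroup.pow_mem _ hyS _
    have hy'C : y' ∈ Subgroup.centralizer ((S : Subgroup X) : Set X) :=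
      Subgroup.pow_mem _ hyC _
    have hy'cent := hcentral y' hy'S hy'C hy'p
    -- `y' ∈ [Z₀, Q]`
    have hYQ : Y ≤ ⁅Z₀, Q⁆ := by
      rw [hY, Subgroup.commutator_le]
      intro z hz k hk
      obtain ⟨h, hh, q, hq, rfl⟩ := hKHQ k hk
      have e0 : z * h = h * z := ((Subgroup.mem_centralizer_iff.1 hz.2) h hh).symm
      have hzq : ⁅z, q⁆ ∈ Z₀ := by
        rw [commutatorElement_def]
        have : z * q * z⁻¹ * q⁻¹ = z * (q * z⁻¹ * q⁻¹) := by group
        rw [this]
        exact Z₀.mul_mem hz (hZ₀n.conj_mem z⁻¹ (Z₀.inv_mem hz) q)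
      have e1 : h * ⁅z, q⁆ = ⁅z, q⁆ * h := (Subgroup.mem_centralizer_iff.1 hzq.2) h hh
      have e2 : ⁅z, h * q⁆ = ⁅z, q⁆ := by
        have e3 : ⁅z, h * q⁆ = h * ⁅z, q⁆ * h⁻¹ := by
          rw [commutatorElement_def, commutatorElement_def]
          have : z * (h * q) * z⁻¹ * (h * q)⁻¹ = (z * h) * q * z⁻¹ * q⁻¹ * h⁻¹ := by group
          rw [this, e0]
          group
        rw [e3, e1]
        group
      rw [e2]
      exact Subgroup.commutator_mem_commutator hz hq
    have hQZ : Q ≤ Subgroup.normalizer (Z₀ : Set X) := by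
      rw [Subgroup.normalizer_eq_top]; exact le_top
    have hcopQ : (Nat.card ↥Q).Coprime (Nat.card ↥Z₀) := by
      rw [hcardQ]
      obtain ⟨b, hb⟩ := IsPGroup.iff_card.1 hZ₀p
      rw [hb]
      exact Nat.Coprime.pow_right b hcop
    have hbot := Cfsg.Agent.Lib.Lead_Coprime.abelian_inf_eq_bot Q Z₀ hQZ hcopQ
    have hmem : y' ∈ (Z₀ ⊓ Subgroup.centralizer (Q : Set X)) ⊓ ⁅Z₀, Q⁆ := by
      refine ⟨⟨hYZ₀ hy'Y, ?_⟩, hYQ hy'Y⟩
      show y' ∈ Subgroup.centralizer (Q : Set X)
      rw [Subgroup.mem_centralizer_iff]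
      intro q _
      exact hy'cent q
    rw [hbot, Subgroup.mem_bot] at hmem
    exact hy'1 hmem
  -- `K ≤ C(Z(S)) = S`
  have hKS : K ≤ (S : Subgroup X) := by
    rw [← hCZ]
    intro k hk
    rw [Subgroup.mem_centralizer_iff]
    intro z hz
    -- `z ∈ Z₀`
    have hzZ₀ : z ∈ Z₀ := by
      have hzCH : z ∈ Subgroup.centralizer (H : Set X) := by
        rw [Subgroup.mem_centralizer_iff]
        intro h hh
        exact (Subgroup.mem_centralizer_iff.1 hz.2) h (hHS hh)
      exact ⟨hcent hzCH, hzCH⟩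
    have h3 : ⁅z, k⁆ ∈ ⁅Z₀, K⁆ := Subgroup.commutator_mem_commutator hzZ₀ hk
    rw [hYbot, Subgroup.mem_bot, commutatorElement_eq_one_iff_mul_comm] at h3
    exact h3
  -- `X` is a `p`-group
  apply hno
  apply npc_of_pGroup
  obtain ⟨k, hk⟩ := hKi
  obtain ⟨a, ha⟩ := IsPGroup.iff_card.1 (S.isPGroup'.to_le hKS)
  apply IsPGroup.of_card (n := a + k)
  rw [← Subgroup.card_mul_index K, ha, hk, pow_add]

end endgame

end Cfsg.Agent.Lib.Lead_ThompNPC
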