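import Mathlib
import Cfsg.Prelude.Def_PLocal
import Cfsg.Agent.Lib.Lead_ThompNPC
import Cfsg.Agent.Lib.Lead_ZJmap
import Cfsg.Agent.S0658

/-!
# The functors `Z(J_a(·))` and `Ω₁ Z(J_e(·))` as characteristic `p`-functors on subgroups
-/

set_option autoImplicit false

namespace Cfsg.Agent.Lib.Lead_SC1

open Cfsg.Agent.Lib.Lead_GTb Cfsg.Agent.Lib.Lead_ThompNPC Cfsg.Agent.Lib.Helper1_Thompson

universe u

section
variable {X Y : Type*} [Group X] [Group Y]

theorem omegaOne_le' (p : ℕ) (K : Subgroup X) : Cfsg.omegaOne p K ≤ K := by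
  unfold Cfsg.omegaOne
  rw [Subgroup.closure_le]
  intro x hx
  exact hx.1

theorem omegaOne_map (p : ℕ) (f : X →* Y) (K : Subgroup X) (hinj : Set.InjOn f (K : Set X)) :
    Cfsg.omegaOne p (K.map f) = (Cfsg.omegaOne p K).map f := by
  unfold Cfsg.omegaOne
  rw [MonoidHom.map_closure]
  congr 1
  ext y
  constructor
  · rintro ⟨⟨x, hx, rfl⟩, hy⟩
    refine ⟨x, ⟨hx, ?_⟩, rfl⟩
    apply hinj (K.pow_mem hx p) K.one_mem
    rw [map_pow, hy, map_one]
  · rintro ⟨x, ⟨hx, hxp⟩, rfl⟩
    exact ⟨⟨x, hx, rfl⟩, by rw [← map_pow, hxp, map_one]⟩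

theorem center_map (f : X →* Y) (R J : Subgroup X) (hJR : J ≤ R) (hinj : Set.InjOn f (R : Set X)) :
    J.map f ⊓ Subgroup.centralizer ((J.map f : Subgroup Y) : Set Y) =
      (J ⊓ Subgroup.centralizer (J : Set X)).map f := by
  ext y
  constructor
  · rintro ⟨⟨x, hx, rfl⟩, hc⟩
    refine ⟨x, ⟨hx, ?_⟩, rfl⟩
    show x ∈ Subgroup.centralizer (J : Set X)
    rw [Subgroup.mem_centralizer_iff]
    intro j hj
    have h1 := Subgroup.mem_centralizer_iff.1 hc (f j) ⟨j, hj, rfl⟩
    apply hinj (R.mul_mem (hJR hj) (hJR hx)) (R.mul_mem (hJR hx) (hJR hj))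
    rw [map_mul, map_mul]
    exact h1
  · rintro ⟨x, ⟨hx, hc⟩, rfl⟩
    refine ⟨⟨x, hx, rfl⟩, ?_⟩
    show f x ∈ Subgroup.centralizer ((J.map f : Subgroup Y) : Set Y)
    rw [Subgroup.mem_centralizer_iff]
    rintro _ ⟨j, hj, rfl⟩
    have h1 := Subgroup.mem_centralizer_iff.1 hc j hj
    rw [← map_mul, ← map_mul, h1]

end

variable (p : ℕ) [Fact p.Prime]

/-- The functor `Z(J_a(·))` (abelian version). -/
noncomputable def zA : WFun0.{u} p where
  W := fun X _ R => Cfsg.centerThompsonAOf R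
  le := fun X _ R => by
    unfold Cfsg.centerThompsonAOf Cfsg.thompsonSubgroupAOf
    exact inf_le_left.trans (Subgroup.map_subtype_le _)
  ne_bot := fun X _ _ R hRp hR => Cfsg.Agent.S0658.ZJ_ne_bot R hRp hR
  map := fun X Y _ _ _ _ f R _ hinj => Cfsg.Agent.Lib.Lead_ZJmap.centerThompsonA_map f R hinj

theorem thompsonOf_le {X : Type u} [Group X] (R : Subgroup X) :
    Cfsg.thompsonSubgroupOf p R ≤ R := by
  unfold Cfsg.thompsonSubgroupOf
  exact Subgroup.map_subtype_le _

/-- The functor `Ω₁ Z(J_e(·))` (elementary abelian version). -/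
noncomputable def zE : WFun0.{u} p where
  W := fun X _ R => Cfsg.omegaOne p (Cfsg.centerThompsonOf p R)
  le := fun X _ R => by
    refine (omegaOne_le' p _).trans ?_
    unfold Cfsg.centerThompsonOf
    exact inf_le_left.trans (thompsonOf_le p R)
  ne_bot := fun X _ _ R hRp hR => by
    have hpp : p.Prime := Fact.out
    haveI : Nontrivial ↥R := (Subgroup.nontrivial_iff_ne_bot R).2 hR
    obtain ⟨A, hA⟩ := exists_maxEA (G := ↥R) p
    haveI : Nontrivial ↥(Subgroup.center ↥R) := hRp.center_nontrivial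
    obtain ⟨k, hk⟩ := IsPGroup.iff_card.1 (hRp.to_subgroup (Subgroup.center ↥R))
    have h1 : 1 < Nat.card ↥(Subgroup.center ↥R) := Finite.one_lt_card
    have hk0 : k ≠ 0 := by
      rintro rfl
      rw [pow_zero] at hk
      omega
    have hdvd : p ∣ Nat.card ↥(Subgroup.center ↥R) := by
      rw [hk]; exact dvd_pow_self p hk0
    obtain ⟨z, hz⟩ := exists_prime_orderOf_dvd_card' p hdvd
    have hz1 : (z : ↥R) ^ p = 1 := by
      have := pow_orderOf_eq_one z
      rw [hz] at this
      exact_mod_cast congrArg Subtype.val this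
    have hzne : (z : ↥R) ≠ 1 := by
      intro h
      have : z = 1 := Subtype.ext h
      rw [this, orderOf_one] at hz
      exact hpp.one_lt.ne hz
    have hzA : (z : ↥R) ∈ A := by
      apply mem_of_centralizes_maxEA p hA (z : ↥R) hz1
      intro a _
      exact ((Subgroup.mem_center_iff.1 z.2) a).symm
    have hzJ : (z : ↥R) ∈ Cfsg.thompsonSubgroup p ↥R := le_thompson p hA hzA
    intro h0
    have hmem : (((z : ↥R) : X)) ∈ Cfsg.omegaOne p (Cfsg.centerThompsonOf p R) := by
      unfold Cfsg.omegaOne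
      apply Subgroup.subset_closure
      refine ⟨⟨⟨(z : ↥R), hzJ, rfl⟩, ?_⟩, ?_⟩
      · show (((z : ↥R) : X)) ∈ Subgroup.centralizer ((Cfsg.thompsonSubgroupOf p R : Subgroup X) : Set X)
        rw [Subgroup.mem_centralizer_iff]
        intro j hj
        have hjR : j ∈ R := thompsonOf_le p R hj
        have := (Subgroup.mem_center_iff.1 z.2) ⟨j, hjR⟩
        exact congrArg Subtype.val this
      · have := congrArg Subtype.val hz1
        simpa using this
    rw [h0, Subgroup.mem_bot] at hmem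
    apply hzne
    exact Subtype.ext hmem
  map := fun X Y _ _ _ _ f R hRp hinj => by
    have hJ : Cfsg.thompsonSubgroupOf p (R.map f) = (Cfsg.thompsonSubgroupOf p R).map f :=
      (funJ.{u} p).map X Y f R hRp hinj
    have hc : Cfsg.centerThompsonOf p (R.map f) = (Cfsg.centerThompsonOf p R).map f := by
      unfold Cfsg.centerThompsonOf
      rw [hJ]
      exact center_map f R _ (thompsonOf_le p R) hinj
    rw [hc]
    apply omegaOne_map
    apply hinj.mono
    unfold Cfsg.centerThompsonOf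
    exact inf_le_left.trans (thompsonOf_le p R)

theorem zA_W {X : Type u} [Group X] (R : Subgroup X) :
    (zA.{u} p).W X R = Cfsg.centerThompsonAOf R := rfl

theorem zE_W {X : Type u} [Group X] (R : Subgroup X) :
    (zE.{u} p).W X R = Cfsg.omegaOne p (Cfsg.centerThompsonOf p R) := rfl

end Cfsg.Agent.Lib.Lead_SC1
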