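import Mathlib
import Cfsg.Prelude.Def_TwoFusion
import Cfsg.Agent.Lib.Lead_GTc2
import Cfsg.Agent.Lib.Lead_RelSyl
import Cfsg.Agent.Lib.Lead_CtrlFus3
import Cfsg.Agent.Lib.Lead_Replacement
import Cfsg.Agent.Lib.Lead_NStab

/-!
# The Glauberman–Thompson reduction for strongly closed subgroups
-/

set_option autoImplicit false

namespace Cfsg.Agent.Lib.Lead_SC2

open Cfsg.Agent.Lib.Helper7_NPC Cfsg.Agent.Lib.Helper4_PCore Cfsg.Agent.Lib.Lead_GT1
open Cfsg.Agent.Lib.Lead_GT2 (normalizer_map_mk map_conj_eq_of_mem_normalizer)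
open Cfsg.Agent.Lib.Lead_GT3 (ee ee_le le_ee)
open Cfsg.Agent.Lib.Lead_GTb Cfsg.Agent.Lib.Lead_GTc Cfsg.Agent.Lib.Lead_GTc2
open Cfsg.Agent.Lib.Lead_RelSyl (exists_conj_le mem_normalizer_of_conj_mem)
open Cfsg.Agent.Lib.Lead_CtrlFus3 (mem_sup_of_normalizes)

universe u

variable {p : ℕ} [Fact p.Prime] (𝒵 : WFun0.{u} p)

/-- The hypothesis: every Sylow subgroup has a strongly closed subgroup `D` such that `N(Z(D))`
has a normal `p`-complement. -/
def HypSC (G : Type u) [Group G] : Prop :=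
  ∀ P : Sylow p G, ∃ D : Subgroup G, Cfsg.IsStronglyClosed D (P : Subgroup G) ∧
    NPC p ↥(Subgroup.normalizer ((𝒵.W G D : Subgroup G) : Set G))

section
variable {G : Type u} [Group G] [Finite G]

omit [Finite G] [Fact p.Prime] in
theorem sc_normal {D P : Subgroup G} (h : Cfsg.IsStronglyClosed D P) (u : G) (hu : u ∈ P) (y : G)
    (hy : y ∈ D) : u * y * u⁻¹ ∈ D :=
  h.2 y hy u (P.mul_mem (P.mul_mem hu (h.1 hy)) (P.inv_mem hu))

theorem hypsc_sub (hG : HypSC 𝒵 G) (M : Subgroup G) (P : Sylow p G)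
    (hPM : (P : Subgroup G) ≤ M) : HypSC 𝒵 ↥M := by
  intro R
  obtain ⟨P₂, hP₂⟩ := exists_sylow_map_subtype M P hPM R
  obtain ⟨D, hDsc, hDn⟩ := hG P₂
  have hP₂M : (P₂ : Subgroup G) ≤ M := by rw [hP₂]; exact Subgroup.map_subtype_le _
  have hDM : D ≤ M := hDsc.1.trans hP₂M
  have hDp : IsPGroup p D := P₂.isPGroup'.to_le hDsc.1
  refine ⟨D.subgroupOf M, ⟨?_, ?_⟩, ?_⟩
  · intro x hx
    have h1 : (x : G) ∈ (P₂ : Subgroup G) := hDsc.1 (Subgroup.mem_subgroupOf.1 hx)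
    rw [hP₂] at h1
    obtain ⟨y, hy, hyx⟩ := h1
    have : y = x := Subtype.ext hyx
    rwa [← this]
  · intro x hx g hg
    rw [Subgroup.mem_subgroupOf]
    have h1 : ((g * x * g⁻¹ : ↥M) : G) ∈ (P₂ : Subgroup G) := by
      rw [hP₂]; exact ⟨_, hg, rfl⟩
    have h2 : (g : G) * (x : G) * (g : G)⁻¹ ∈ (P₂ : Subgroup G) := by simpa using h1
    have := hDsc.2 (x : G) (Subgroup.mem_subgroupOf.1 hx) (g : G) h2
    simpa using this
  · apply npc_normalizer_sub 𝒵 M (D.subgroupOf M) hDp.comap_subtype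
    rw [Subgroup.map_subgroupOf_eq_of_le hDM]
    exact hDn

set_option maxHeartbeats 1000000 in
theorem hypsc_quot (D₀ : Subgroup G) [hDn₀ : D₀.Normal] (hD : (Nat.card D₀).Coprime p)
    (hG : HypSC 𝒵 G) : HypSC 𝒵 (G ⧸ D₀) := by
  intro Pb
  obtain ⟨P', hcoe, hinj⟩ := exists_sylow_quot D₀ hD Pb
  obtain ⟨D, hDsc, hDn⟩ := hG P'
  have hDp : IsPGroup p D := P'.isPGroup'.to_le hDsc.1
  refine ⟨D.map (QuotientGroup.mk' D₀), ⟨?_, ?_⟩, ?_⟩
  · rw [hcoe]; exact Subgroup.map_mono hDsc.1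
  · rintro _ ⟨x, hx, rfl⟩ gb hgb
    obtain ⟨g, rfl⟩ := QuotientGroup.mk'_surjective D₀ gb
    rw [hcoe] at hgb
    obtain ⟨y, hy, hyg⟩ := hgb
    have hyg' : QuotientGroup.mk' D₀ y = QuotientGroup.mk' D₀ (g * x * g⁻¹) := by
      rw [hyg, map_mul, map_mul, map_inv]
    have hmem : g * x * g⁻¹ ∈ (P' : Subgroup G) ⊔ D₀ := by
      have h1 : y⁻¹ * (g * x * g⁻¹) ∈ D₀ := by
        rw [← QuotientGroup.eq_one_iff, ← QuotientGroup.mk'_apply, map_mul, map_inv, hyg',
          inv_mul_cancel]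
      have e : g * x * g⁻¹ = y * (y⁻¹ * (g * x * g⁻¹)) := by group
      rw [e]
      exact mul_mem (Subgroup.mem_sup_left hy) (Subgroup.mem_sup_right h1)
    have hU : ¬ p ∣ (P' : Subgroup G).relIndex ((P' : Subgroup G) ⊔ D₀) := fun h =>
      P'.not_dvd_index (dvd_trans h (Dvd.intro _ (Subgroup.relIndex_mul_index le_sup_left)))
    have hBp : IsPGroup p (Subgroup.zpowers (g * x * g⁻¹)) := by
      have h1 : IsPGroup p (Subgroup.zpowers x) :=
        P'.isPGroup'.to_le (Subgroup.zpowers_le.2 (hDsc.1 hx))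
      have h2 := h1.map (MulAut.conj g).toMonoidHom
      rw [MonoidHom.map_zpowers] at h2
      exact h2
    obtain ⟨k, hkK, hk⟩ := exists_conj_le ((P' : Subgroup G) ⊔ D₀) (P' : Subgroup G)
      (Subgroup.zpowers (g * x * g⁻¹)) P'.isPGroup' hU (Subgroup.zpowers_le.2 hmem) hBp
    have hk' : k⁻¹ ∈ D₀ ⊔ (P' : Subgroup G) := by rw [sup_comm]; exact inv_mem hkK
    obtain ⟨d, hd, u, hu, hkdu⟩ := mem_sup_of_normalizes D₀ (P' : Subgroup G)
      (fun b _ a ha => hDn₀.conj_mem a ha b) k⁻¹ hk'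
    have hkeq : k = u⁻¹ * d⁻¹ := by
      have : k = (k⁻¹)⁻¹ := by group
      rw [this, hkdu]; group
    have h3 := hk (g * x * g⁻¹) (Subgroup.mem_zpowers _)
    have h4 : d⁻¹ * g * x * (d⁻¹ * g)⁻¹ ∈ (P' : Subgroup G) := by
      have h5 : u * (k * (g * x * g⁻¹) * k⁻¹) * u⁻¹ ∈ (P' : Subgroup G) :=
        mul_mem (mul_mem hu h3) (inv_mem hu)
      have e : u * (k * (g * x * g⁻¹) * k⁻¹) * u⁻¹ = d⁻¹ * g * x * (d⁻¹ * g)⁻¹ := by
        rw [hkeq]; group
      rwa [e] at h5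
    have h6 := hDsc.2 x hx (d⁻¹ * g) (by simpa [mul_assoc] using h4)
    refine ⟨d⁻¹ * g * x * (d⁻¹ * g)⁻¹, h6, ?_⟩
    have hd1 : QuotientGroup.mk' D₀ d = 1 := by
      rw [QuotientGroup.mk'_apply, QuotientGroup.eq_one_iff]; exact hd
    simp only [map_mul, map_inv, hd1, inv_one, one_mul]
  · rw [𝒵.map G (G ⧸ D₀) (QuotientGroup.mk' D₀) D hDp (hinj.mono hDsc.1)]
    exact npc_map_surj (QuotientGroup.mk' D₀) (normalizer_map_mk D₀ hD _
      (hDp.to_le (𝒵.le G D))) hDn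

set_option maxHeartbeats 1600000 in
theorem hypsc_nrm (H : Subgroup G) (hHp : IsPGroup p H) (hHne : H ≠ ⊥)
    (hM1 : ∀ Q : Subgroup G, IsPGroup p Q → Q ≠ ⊥ → ee p H < ee p Q →
        NPC p ↥(Subgroup.normalizer (Q : Set G)))
    (hG : HypSC 𝒵 G) : HypSC 𝒵 ↥(Subgroup.normalizer (H : Set G)) := by
  have hpp : p.Prime := Fact.out
  set N := Subgroup.normalizer (H : Set G) with hN
  intro R
  set R' := (R : Subgroup ↥N).map N.subtype with hR'
  have hR'p : IsPGroup p R' := R.isPGroup'.map _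
  have hR'N : R' ≤ N := Subgroup.map_subtype_le _
  have hHR' : H ≤ R' := by
    intro h hh
    have hhN : h ∈ N := Subgroup.le_normalizer hh
    have hHNn : (H.subgroupOf N).Normal := Subgroup.normal_in_normalizer
    have h1 : H.subgroupOf N ≤ (R : Subgroup ↥N) :=
      normal_pGroup_le_sylow (H.subgroupOf N) hHNn (hHp.comap_subtype) R
    exact ⟨⟨h, hhN⟩, h1 (Subgroup.mem_subgroupOf.2 hh), rfl⟩
  obtain ⟨P', hRP'⟩ := hR'p.exists_le_sylow
  obtain ⟨D, hDsc, hDn⟩ := hG P'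
  have hDp : IsPGroup p D := P'.isPGroup'.to_le hDsc.1
  set E := D ⊓ R' with hE
  have hEN : E ≤ N := inf_le_right.trans hR'N
  have hEp : IsPGroup p E := hDp.to_le inf_le_left
  refine ⟨E.subgroupOf N, ⟨?_, ?_⟩, ?_⟩
  · intro x hx
    have h1 : (x : G) ∈ R' := (Subgroup.mem_subgroupOf.1 hx).2
    obtain ⟨y, hy, hyx⟩ := h1
    have : y = x := Subtype.ext hyx
    rwa [← this]
  · intro x hx g hg
    rw [Subgroup.mem_subgroupOf]
    have h1 : ((g * x * g⁻¹ : ↥N) : G) ∈ R' := ⟨_, hg, rfl⟩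
    have h2 : (g : G) * (x : G) * (g : G)⁻¹ ∈ R' := by simpa using h1
    have h3 := hDsc.2 (x : G) (Subgroup.mem_subgroupOf.1 hx).1 (g : G) (hRP' h2)
    have h4 : (g : G) * (x : G) * (g : G)⁻¹ ∈ E := ⟨h3, h2⟩
    simpa using h4
  · apply npc_normalizer_sub 𝒵 N (E.subgroupOf N) hEp.comap_subtype
    rw [Subgroup.map_subgroupOf_eq_of_le hEN]
    by_cases hEq : R' = P'
    · have : E = D := by rw [hE, hEq]; exact inf_eq_left.2 hDsc.1
      rw [this]; exact hDn
    by_cases hD0 : D = ⊥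
    · have : E = D := by rw [hE, hD0, bot_inf_eq]
      rw [this]; exact hDn
    have hlt2 : R' < (P' : Subgroup G) := lt_of_le_of_ne hRP' hEq
    -- `P' ∩ N ≤ R'`
    have hPN : (P' : Subgroup G) ⊓ N ≤ R' := by
      have hQp : IsPGroup p (((P' : Subgroup G) ⊓ N).subgroupOf N) :=
        (P'.isPGroup'.to_le inf_le_left).comap_subtype
      have hRQ : (R : Subgroup ↥N) ≤ ((P' : Subgroup G) ⊓ N).subgroupOf N := by
        intro x hx
        rw [Subgroup.mem_subgroupOf]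
        exact ⟨hRP' ⟨x, hx, rfl⟩, x.2⟩
      have heq := R.is_maximal' hQp hRQ
      intro x hx
      have : (⟨x, hx.2⟩ : ↥N) ∈ ((P' : Subgroup G) ⊓ N).subgroupOf N :=
        Subgroup.mem_subgroupOf.2 hx
      rw [heq] at this
      exact ⟨_, this, rfl⟩
    -- `E ≠ ⊥`
    have hEne : E ≠ ⊥ := by
      by_cases hDH : D ≤ H
      · have : E = D := by rw [hE]; exact inf_eq_left.2 (hDH.trans hHR')
        rw [this]; exact hD0
      · have hLP : D ⊔ H ≤ (P' : Subgroup G) := sup_le hDsc.1 (hHR'.trans hRP')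
        have hLp : IsPGroup p (D ⊔ H : Subgroup G) := P'.isPGroup'.to_le hLP
        have hHL : H < D ⊔ H := by
          refine lt_of_le_of_ne le_sup_right ?_
          intro h0
          apply hDH
          rw [h0]; exact le_sup_left
        obtain ⟨y', hy'L, hy'H, hy'N⟩ :=
          Cfsg.Agent.Lib.Lead_Replacement.exists_mem_normalizer_not_mem hLp hHL
        obtain ⟨d, hd, h, hh, hy'dh⟩ := mem_sup_of_normalizes D H
          (fun b hb a ha => sc_normal hDsc b (hRP' (hHR' hb)) a ha) y' hy'L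
        have hdN : d ∈ N := by
          have e : d = y' * h⁻¹ := by rw [hy'dh]; group
          rw [e]
          exact mul_mem hy'N (inv_mem (Subgroup.le_normalizer hh))
        have hdE : d ∈ E := ⟨hd, hPN ⟨hDsc.1 hd, hdN⟩⟩
        intro h0
        rw [h0, Subgroup.mem_bot] at hdE
        apply hy'H
        rw [hy'dh, hdE, one_mul]
        exact hh
    obtain ⟨y, hyP, hyR, hyN⟩ :=
      Cfsg.Agent.Lib.Lead_Replacement.exists_mem_normalizer_not_mem P'.isPGroup' hlt2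
    set T := R' ⊔ Subgroup.zpowers y with hT
    have hTP : T ≤ (P' : Subgroup G) := sup_le hRP' (Subgroup.zpowers_le.2 hyP)
    have hTp : IsPGroup p T := P'.isPGroup'.to_le hTP
    have hTN : T ≤ Subgroup.normalizer (R' : Set G) :=
      sup_le Subgroup.le_normalizer (Subgroup.zpowers_le.2 hyN)
    have hRT : R' < T := by
      refine lt_of_le_of_ne le_sup_left ?_
      intro h0
      apply hyR
      rw [h0]
      exact (le_sup_right : Subgroup.zpowers y ≤ T) (Subgroup.mem_zpowers y)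
    have hcardR : Nat.card R' = p ^ ee p H := by
      rw [hR', Subgroup.card_map_of_injective N.subtype_injective, R.card_eq_multiplicity]
      rfl
    obtain ⟨k, hk⟩ := IsPGroup.iff_card.1 hTp
    have hklt : ee p H < k := by
      have := Cfsg.Agent.Lib.Lead_SZ.card_lt hRT
      rw [hcardR, hk] at this
      exact (Nat.pow_lt_pow_iff_right hpp.one_lt).1 this
    have hTE : T ≤ Subgroup.normalizer (E : Set G) := by
      intro t ht
      apply mem_normalizer_of_conj_mem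
      intro e he
      refine ⟨sc_normal hDsc t (hTP ht) e he.1, ?_⟩
      exact (Subgroup.mem_normalizer_iff.1 (hTN ht) e).1 he.2
    have hQp : IsPGroup p (𝒵.W G E) := hEp.to_le (𝒵.le G E)
    have hQne : 𝒵.W G E ≠ ⊥ := 𝒵.ne_bot G E hEp hEne
    apply hM1 _ hQp hQne
    have h5 : k ≤ ee p (𝒵.W G E) := le_ee _ T (hTE.trans (W_char 𝒵 E hEp)) k hk
    omega

theorem hypsc_quotP (H : Subgroup G) [hHnorm : H.Normal] (hHp : IsPGroup p H) (hHne : H ≠ ⊥)
    (hM2 : ∀ Q : Subgroup G, IsPGroup p Q → Q ≠ ⊥ → ee p H ≤ ee p Q → Nat.card H < Nat.card Q →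
        NPC p ↥(Subgroup.normalizer (Q : Set G))) :
    HypSC 𝒵 (G ⧸ H) := by
  intro Pb
  exact ⟨Pb, ⟨le_rfl, fun x _ g hg => hg⟩, (hyp2_quotP 𝒵 𝒵 H hHp hHne hM2 Pb).1⟩

end

/-- The hypothesis class. -/
def hclassSC : HClass.{u} p where
  hyp := fun X _ => HypSC 𝒵 X
  sub := fun _ _ _ M P hPM h => hypsc_sub 𝒵 h M P hPM
  quot := fun _ _ _ D _ hD h => hypsc_quot 𝒵 D hD h
  nrm := fun _ _ _ H hHp hHne hM1 h => hypsc_nrm 𝒵 H hHp hHne hM1 h
  quotP := fun _ _ _ H _ hHp hHne hM2 => hypsc_quotP 𝒵 H hHp hHne hM2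

/-- The hypothesis for one Sylow subgroup gives it for all. -/
theorem hypsc_of_single {G : Type u} [Group G] [Finite G] (P : Sylow p G) (D : Subgroup G)
    (hDsc : Cfsg.IsStronglyClosed D (P : Subgroup G))
    (hDn : NPC p ↥(Subgroup.normalizer ((𝒵.W G D : Subgroup G) : Set G))) : HypSC 𝒵 G := by
  intro P₂
  obtain ⟨g, hg⟩ := MulAction.exists_smul_eq G P₂ P
  have hcoe : (P : Subgroup G) = (P₂ : Subgroup G).map (MulAut.conj g).toMonoidHom := by
    rw [← hg, Sylow.coe_subgroup_smul]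
    rfl
  set φ := (MulAut.conj g).toMonoidHom with hφ
  have hφs : Function.Surjective φ := (MulAut.conj g).surjective
  have hφi : Function.Injective φ := (MulAut.conj g).injective
  set D₂ := D.comap φ with hD₂
  have hmap : D₂.map φ = D := Subgroup.map_comap_eq_self_of_surjective hφs D
  have hD₂P : D₂ ≤ (P₂ : Subgroup G) := by
    intro x hx
    have h1 : φ x ∈ (P : Subgroup G) := hDsc.1 hx
    rw [hcoe] at h1
    obtain ⟨y, hy, hyx⟩ := h1
    have : y = x := hφi hyx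
    rwa [← this]
  have hD₂p : IsPGroup p D₂ := P₂.isPGroup'.to_le hD₂P
  refine ⟨D₂, ⟨hD₂P, ?_⟩, ?_⟩
  · intro x hx h hh
    show φ (h * x * h⁻¹) ∈ D
    have h1 : φ (h * x * h⁻¹) ∈ (P : Subgroup G) := by rw [hcoe]; exact ⟨_, hh, rfl⟩
    rw [map_mul, map_mul, map_inv] at h1 ⊢
    exact hDsc.2 (φ x) hx (φ h) h1
  · have hW : 𝒵.W G D = (𝒵.W G D₂).map φ := by
      rw [← hmap]
      exact 𝒵.map G G φ D₂ hD₂p hφi.injOn
    refine npc_comap_inj φ hφi ?_ hDn
    intro x hx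
    rw [hW]
    exact Subgroup.le_normalizer_map φ ⟨x, hx, rfl⟩

/-- The end configuration is handled by a `ZJ`-type theorem. -/
theorem hend_sc (hp2 : p ≠ 2)
    (hn : ∀ (X : Type u) [Group X] [Finite X] (S : Sylow p X) (D : Subgroup X),
      Cfsg.IsStronglyClosed D (S : Subgroup X) → Cfsg.IsNormalizerPStable p X →
      Subgroup.centralizer ((Cfsg.pCore p X : Subgroup X) : Set X) ≤ Cfsg.pCore p X →
      (𝒵.W X D).Normal)
    (X : Type u) [Group X] [Finite X] (hE : EndConfig p X) (hH : HypSC 𝒵 X) : NPC p X := by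
  obtain ⟨H, K, hHn, hKn, hHp, hHO, hHK, hab, hcop, hKi, hcent, hco⟩ := hE
  have d : Cfsg.Agent.Lib.Lead_NStab.SData p X H K := ⟨hHn, hKn, hHp, hHK, hab, hcop, hKi⟩
  have hst := d.stable hp2
  have hc' : Subgroup.centralizer ((Cfsg.pCore p X : Subgroup X) : Set X) ≤ Cfsg.pCore p X := by
    rw [← hHO]; exact hcent
  obtain ⟨S⟩ : Nonempty (Sylow p X) := inferInstance
  obtain ⟨D, hDsc, hDn⟩ := hH S
  have hnorm := hn X S D hDsc hst hc'
  exact npc_of_eq_top (Subgroup.normalizer_eq_top_iff.2 hnorm) hDn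

/-- The generic theorem. -/
theorem main_sc (hp2 : p ≠ 2)
    (hn : ∀ (X : Type u) [Group X] [Finite X] (S : Sylow p X) (D : Subgroup X),
      Cfsg.IsStronglyClosed D (S : Subgroup X) → Cfsg.IsNormalizerPStable p X →
      Subgroup.centralizer ((Cfsg.pCore p X : Subgroup X) : Set X) ≤ Cfsg.pCore p X →
      (𝒵.W X D).Normal)
    {G : Type u} [Group G] [Finite G] (P : Sylow p G) (D : Subgroup G)
    (hDsc : Cfsg.IsStronglyClosed D (P : Subgroup G))
    (hDn : NPC p ↥(Subgroup.normalizer ((𝒵.W G D : Subgroup G) : Set G))) : NPC p G :=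
  main_c (hclassSC 𝒵) (fun X _ _ hE hH => hend_sc 𝒵 hp2 hn X hE hH) G
    (hypsc_of_single 𝒵 P D hDsc hDn)

end Cfsg.Agent.Lib.Lead_SC2
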