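import Mathlib
import Cfsg.Prelude.Def_TwoFusion
import Cfsg.Prelude.Def_LocalEven
import Cfsg.Prelude.Def_Local
import Cfsg.Prelude.Def_PLocal
import Cfsg.Agent.Lib.Lead_GTc2
import Cfsg.Agent.Lib.Lead_RelSyl
import Cfsg.Agent.Lib.Lead_CtrlFus3
import Cfsg.Agent.Lib.Lead_SC1
import Cfsg.Agent.Lib.Helper3_LStar3
import Cfsg.Agent.Lib.Helper5_PPrime

/-!
# Local factorisation `X = O_{p'}(X) N_X(Z(D))` for `p`-constrained `p`-stable `X`
-/

set_option autoImplicit false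

namespace Cfsg.Agent.Lib.Lead_SF1

open Cfsg.Agent.Lib.Helper4_PCore
open Cfsg.Agent.Lib.Lead_GT2 (normalizer_map_mk)
open Cfsg.Agent.Lib.Lead_GTb Cfsg.Agent.Lib.Lead_GTc2
open Cfsg.Agent.Lib.Lead_RelSyl (exists_conj_le)
open Cfsg.Agent.Lib.Lead_CtrlFus3 (mem_sup_of_normalizes)

universe u

variable {p : ℕ} [Fact p.Prime]

section
variable {X : Type u} [Group X] [Finite X]

theorem inf_eq_bot_of_coprime (V D : Subgroup X) (hV : IsPGroup p V)
    (hD : (Nat.card D).Coprime p) : V ⊓ D = ⊥ := by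
  have h1 : IsPGroup p ↥(V ⊓ D) := hV.to_le inf_le_left
  obtain ⟨n, hn⟩ := h1.exists_card_eq
  have h2 : Nat.card ↥(V ⊓ D) ∣ Nat.card D := Subgroup.card_dvd_of_le inf_le_right
  have h3 : (Nat.card ↥(V ⊓ D)).Coprime p := Nat.Coprime.coprime_dvd_left h2 hD
  have hpp : p.Prime := Fact.out
  rcases Nat.eq_zero_or_pos n with h0 | h0
  · rw [h0, pow_zero] at hn
    exact Subgroup.card_eq_one.1 hn
  · exfalso
    rw [hn] at h3
    have h4 : Nat.Coprime p p := (Nat.coprime_pow_left_iff h0 p p).1 h3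
    rw [Nat.coprime_self] at h4
    exact hpp.one_lt.ne' h4

theorem injOn_mk (D : Subgroup X) [D.Normal] (hD : (Nat.card D).Coprime p) (V : Subgroup X)
    (hV : IsPGroup p V) : Set.InjOn (QuotientGroup.mk' D) (V : Set X) := by
  intro x hx y hy hxy
  have h1 : x⁻¹ * y ∈ D := by
    rw [← QuotientGroup.eq_one_iff, ← QuotientGroup.mk'_apply, map_mul, map_inv, hxy,
      inv_mul_cancel]
  have h2 : x⁻¹ * y ∈ V ⊓ D := ⟨V.mul_mem (V.inv_mem hx) hy, h1⟩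
  rw [inf_eq_bot_of_coprime V D hV hD, Subgroup.mem_bot] at h2
  exact inv_mul_eq_one.1 h2

/-- every `p`-subgroup of a quotient by a normal `p'`-subgroup is the image of a `p`-subgroup -/
theorem exists_lift_pgroup (D : Subgroup X) [hDn : D.Normal] (hD : (Nat.card D).Coprime p)
    (Vb : Subgroup (X ⧸ D)) (hVb : IsPGroup p Vb) :
    ∃ V₀ : Subgroup X, IsPGroup p V₀ ∧ V₀.map (QuotientGroup.mk' D) = Vb := by
  obtain ⟨Pb, hPb⟩ := hVb.exists_le_sylow
  obtain ⟨P', hcoe, hinj⟩ := exists_sylow_quot D hD Pb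
  refine ⟨(P' : Subgroup X) ⊓ Vb.comap (QuotientGroup.mk' D), P'.isPGroup'.to_le inf_le_left, ?_⟩
  apply le_antisymm
  · rintro _ ⟨x, hx, rfl⟩
    exact hx.2
  · intro y hy
    have h1 : y ∈ (Pb : Subgroup (X ⧸ D)) := hPb hy
    rw [hcoe] at h1
    obtain ⟨x, hx, rfl⟩ := h1
    exact ⟨x, ⟨hx, hy⟩, rfl⟩

theorem comm_le_of_normalizes (V A : Subgroup X) (hA : A ≤ Subgroup.normalizer (V : Set X)) :
    ⁅V, A⁆ ≤ V := by
  rw [Subgroup.commutator_le]
  intro v hv z hz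
  have h1 : z * v⁻¹ * z⁻¹ ∈ V := (Subgroup.mem_normalizer_iff.1 (hA hz) v⁻¹).1 (V.inv_mem hv)
  rw [commutatorElement_def]
  have e : v * z * v⁻¹ * z⁻¹ = v * (z * v⁻¹ * z⁻¹) := by group
  rw [e]
  exact V.mul_mem hv h1

/-- `p`-stability on normal `p`-subgroups of a quotient by a normal `p'`-subgroup -/
theorem stab_quot (D : Subgroup X) [hDn : D.Normal] (hD : (Nat.card D).Coprime p)
    (hst : Cfsg.IsNormalizerPStable p X) (Vb : Subgroup (X ⧸ D)) [hVn : Vb.Normal]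
    (hVb : IsPGroup p Vb) : Cfsg.IsPStableOn p Vb := by
  intro ab hquad
  obtain ⟨V₀, hV₀p, hV₀⟩ := exists_lift_pgroup D hD Vb hVb
  have hNtop : Subgroup.normalizer ((Vb : Subgroup (X ⧸ D)) : Set (X ⧸ D)) = ⊤ :=
    Subgroup.normalizer_eq_top_iff.2 hVn
  have hnm := normalizer_map_mk D hD V₀ hV₀p
  rw [hV₀, hNtop] at hnm
  have hab : ab ∈ (Subgroup.normalizer (V₀ : Set X)).map (QuotientGroup.mk' D) := by
    rw [← hnm]; trivial
  obtain ⟨a, ha, rfl⟩ := hab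
  have hza : Subgroup.zpowers a ≤ Subgroup.normalizer (V₀ : Set X) := Subgroup.zpowers_le.2 ha
  have hq : ⁅⁅V₀, Subgroup.zpowers a⁆, Subgroup.zpowers a⁆ = ⊥ := by
    have h1 : ⁅⁅V₀, Subgroup.zpowers a⁆, Subgroup.zpowers a⁆ ≤ V₀ :=
      (Subgroup.commutator_mono (comm_le_of_normalizes V₀ _ hza) le_rfl).trans
        (comm_le_of_normalizes V₀ _ hza)
    have h2 : ⁅⁅V₀, Subgroup.zpowers a⁆, Subgroup.zpowers a⁆ ≤ D := by
      have h3 : (⁅⁅V₀, Subgroup.zpowers a⁆, Subgroup.zpowers a⁆).map (QuotientGroup.mk' D) = ⊥ := by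
        rw [Subgroup.map_commutator, Subgroup.map_commutator, MonoidHom.map_zpowers, hV₀]
        exact hquad
      rw [Subgroup.map_eq_bot_iff, QuotientGroup.ker_mk'] at h3
      exact h3
    have h4 := le_inf h1 h2
    rw [inf_eq_bot_of_coprime V₀ D hV₀p hD] at h4
    exact le_bot_iff.1 h4
  have h := hst V₀ hV₀p a ha hq
  have hker : (Subgroup.centralizer (V₀ : Set X)).subgroupOf (Subgroup.normalizer (V₀ : Set X)) ≤
      (Subgroup.centralizer ((Vb : Subgroup (X ⧸ D)) : Set (X ⧸ D))).comap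
        ((QuotientGroup.mk' D).comp (Subgroup.normalizer (V₀ : Set X)).subtype) := by
    intro x hx
    rw [Subgroup.mem_subgroupOf] at hx
    rw [Subgroup.mem_comap, Subgroup.mem_centralizer_iff]
    intro y hy
    rw [← hV₀] at hy
    obtain ⟨v, hv, rfl⟩ := hy
    have h1 := Subgroup.mem_centralizer_iff.1 hx v hv
    show (QuotientGroup.mk' D) v * (QuotientGroup.mk' D) (x : X) =
      (QuotientGroup.mk' D) (x : X) * (QuotientGroup.mk' D) v
    rw [← map_mul, ← map_mul, h1]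
  let ψ : (↥(Subgroup.normalizer (V₀ : Set X)) ⧸
      (Subgroup.centralizer (V₀ : Set X)).subgroupOf (Subgroup.normalizer (V₀ : Set X))) →*
      ((X ⧸ D) ⧸ Subgroup.centralizer ((Vb : Subgroup (X ⧸ D)) : Set (X ⧸ D))) :=
    QuotientGroup.map _ _ ((QuotientGroup.mk' D).comp (Subgroup.normalizer (V₀ : Set X)).subtype)
      hker
  have hsurj : Function.Surjective ψ := by
    intro q
    obtain ⟨y, rfl⟩ := QuotientGroup.mk_surjective q
    have hy : y ∈ (Subgroup.normalizer (V₀ : Set X)).map (QuotientGroup.mk' D) := by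
      rw [← hnm]; trivial
    obtain ⟨n, hn, rfl⟩ := hy
    exact ⟨QuotientGroup.mk ⟨n, hn⟩, rfl⟩
  have himg : (Cfsg.pCore p (↥(Subgroup.normalizer (V₀ : Set X)) ⧸
      (Subgroup.centralizer (V₀ : Set X)).subgroupOf (Subgroup.normalizer (V₀ : Set X)))).map ψ ≤
      Cfsg.pCore p ((X ⧸ D) ⧸ Subgroup.centralizer ((Vb : Subgroup (X ⧸ D)) : Set (X ⧸ D))) := by
    apply le_pCore
    · exact (pCore_normal p _).map ψ hsurj
    · exact pCore_isPGroup.map ψ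
  exact himg ⟨_, h, rfl⟩

/-- `p`-constraint gives `C(O_p) ≤ O_p` modulo `O_{p'}` -/
theorem constrained_quot (hcon : Cfsg.IsPConstrained p X) :
    Subgroup.centralizer ((Cfsg.pCore p (X ⧸ Cfsg.pPrimeCore p X) :
      Subgroup (X ⧸ Cfsg.pPrimeCore p X)) : Set (X ⧸ Cfsg.pPrimeCore p X)) ≤
      Cfsg.pCore p (X ⧸ Cfsg.pPrimeCore p X) := by
  have hDc : (Nat.card (Cfsg.pPrimeCore p X)).Coprime p :=
    Cfsg.Agent.Lib.Helper5_PPrime.pPrimeCore_coprime p X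
  obtain ⟨P₀⟩ : Nonempty (Sylow p ↥(Cfsg.pPrimePCore p X)) := inferInstance
  have hP₀p : IsPGroup p ((P₀ : Subgroup ↥(Cfsg.pPrimePCore p X)).map
      (Cfsg.pPrimePCore p X).subtype) := P₀.isPGroup'.map _
  have h1 : Cfsg.pPrimePCore p X ≤ (P₀ : Subgroup ↥(Cfsg.pPrimePCore p X)).map
      (Cfsg.pPrimePCore p X).subtype ⊔ Cfsg.pPrimeCore p X :=
    Cfsg.Agent.Lib.Helper3_LStar3.pPrimePCore_le_sup p (Cfsg.pPrimePCore p X) le_rfl P₀
  have hP₀le : (P₀ : Subgroup ↥(Cfsg.pPrimePCore p X)).map (Cfsg.pPrimePCore p X).subtype ≤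
      Cfsg.pPrimePCore p X := Subgroup.map_subtype_le _
  have hmapY : (Cfsg.pPrimePCore p X).map (QuotientGroup.mk' (Cfsg.pPrimeCore p X)) =
      Cfsg.pCore p (X ⧸ Cfsg.pPrimeCore p X) := by
    unfold Cfsg.pPrimePCore
    exact Subgroup.map_comap_eq_self_of_surjective
      (QuotientGroup.mk'_surjective (Cfsg.pPrimeCore p X)) _
  have hmapP : ((P₀ : Subgroup ↥(Cfsg.pPrimePCore p X)).map
      (Cfsg.pPrimePCore p X).subtype).map (QuotientGroup.mk' (Cfsg.pPrimeCore p X)) =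
      Cfsg.pCore p (X ⧸ Cfsg.pPrimeCore p X) := by
    apply le_antisymm
    · rw [← hmapY]; exact Subgroup.map_mono hP₀le
    · rw [← hmapY]
      refine (Subgroup.map_mono h1).trans ?_
      rw [Subgroup.map_sup]
      have h2 : (Cfsg.pPrimeCore p X).map (QuotientGroup.mk' (Cfsg.pPrimeCore p X)) = ⊥ := by
        rw [Subgroup.map_eq_bot_iff, QuotientGroup.ker_mk']
      rw [h2, sup_bot_eq]
  have h3 : Subgroup.centralizer ((Cfsg.pCore p (X ⧸ Cfsg.pPrimeCore p X) :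
      Subgroup (X ⧸ Cfsg.pPrimeCore p X)) : Set (X ⧸ Cfsg.pPrimeCore p X)) =
      (Subgroup.centralizer (((P₀ : Subgroup ↥(Cfsg.pPrimePCore p X)).map
        (Cfsg.pPrimePCore p X).subtype : Subgroup X) : Set X)).map
        (QuotientGroup.mk' (Cfsg.pPrimeCore p X)) := by
    rw [← hmapP]
    exact centralizer_map_mk (Cfsg.pPrimeCore p X) hDc _ hP₀p
  rw [h3, ← hmapY]
  exact Subgroup.map_mono (hcon P₀)

/-- strong closure passes to quotients by normal `p'`-subgroups -/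
theorem sc_quot (D₀ : Subgroup X) [hDn₀ : D₀.Normal] (hD : (Nat.card D₀).Coprime p)
    (P' : Sylow p X) (D : Subgroup X) (hDsc : Cfsg.IsStronglyClosed D (P' : Subgroup X)) :
    Cfsg.IsStronglyClosed (D.map (QuotientGroup.mk' D₀))
      ((P' : Subgroup X).map (QuotientGroup.mk' D₀)) := by
  refine ⟨Subgroup.map_mono hDsc.1, ?_⟩
  rintro _ ⟨x, hx, rfl⟩ gb hgb
  obtain ⟨g, rfl⟩ := QuotientGroup.mk'_surjective D₀ gb
  obtain ⟨y, hy, hyg⟩ := hgb
  have hyg' : QuotientGroup.mk' D₀ y = QuotientGroup.mk' D₀ (g * x * g⁻¹) := by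
    rw [hyg, map_mul, map_mul, map_inv]
  have hmem : g * x * g⁻¹ ∈ (P' : Subgroup X) ⊔ D₀ := by
    have h1 : y⁻¹ * (g * x * g⁻¹) ∈ D₀ := by
      rw [← QuotientGroup.eq_one_iff, ← QuotientGroup.mk'_apply, map_mul, map_inv, hyg',
        inv_mul_cancel]
    have e : g * x * g⁻¹ = y * (y⁻¹ * (g * x * g⁻¹)) := by group
    rw [e]
    exact mul_mem (Subgroup.mem_sup_left hy) (Subgroup.mem_sup_right h1)
  have hU : ¬ p ∣ (P' : Subgroup X).relIndex ((P' : Subgroup X) ⊔ D₀) := fun h =>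
    P'.not_dvd_index (dvd_trans h (Dvd.intro _ (Subgroup.relIndex_mul_index le_sup_left)))
  have hBp : IsPGroup p (Subgroup.zpowers (g * x * g⁻¹)) := by
    have h1 : IsPGroup p (Subgroup.zpowers x) :=
      P'.isPGroup'.to_le (Subgroup.zpowers_le.2 (hDsc.1 hx))
    have h2 := h1.map (MulAut.conj g).toMonoidHom
    rw [MonoidHom.map_zpowers] at h2
    exact h2
  obtain ⟨k, hkK, hk⟩ := exists_conj_le ((P' : Subgroup X) ⊔ D₀) (P' : Subgroup X)
    (Subgroup.zpowers (g * x * g⁻¹)) P'.isPGroup' hU (Subgroup.zpowers_le.2 hmem) hBp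
  have hk' : k⁻¹ ∈ D₀ ⊔ (P' : Subgroup X) := by rw [sup_comm]; exact inv_mem hkK
  obtain ⟨d, hd, u, hu, hkdu⟩ := mem_sup_of_normalizes D₀ (P' : Subgroup X)
    (fun b _ a ha => hDn₀.conj_mem a ha b) k⁻¹ hk'
  have hkeq : k = u⁻¹ * d⁻¹ := by
    have : k = (k⁻¹)⁻¹ := by group
    rw [this, hkdu]; group
  have h3 := hk (g * x * g⁻¹) (Subgroup.mem_zpowers _)
  have h4 : d⁻¹ * g * x * (d⁻¹ * g)⁻¹ ∈ (P' : Subgroup X) := by
    have h5 : u * (k * (g * x * g⁻¹) * k⁻¹) * u⁻¹ ∈ (P' : Subgroup X) :=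
      mul_mem (mul_mem hu h3) (inv_mem hu)
    have e : u * (k * (g * x * g⁻¹) * k⁻¹) * u⁻¹ = d⁻¹ * g * x * (d⁻¹ * g)⁻¹ := by
      rw [hkeq]; group
    rwa [e] at h5
  have h6 := hDsc.2 x hx (d⁻¹ * g) (by simpa [mul_assoc] using h4)
  refine ⟨d⁻¹ * g * x * (d⁻¹ * g)⁻¹, h6, ?_⟩
  have hd1 : QuotientGroup.mk' D₀ d = 1 := by
    rw [QuotientGroup.mk'_apply, QuotientGroup.eq_one_iff]; exact hd
  simp only [map_mul, map_inv, hd1, inv_one, one_mul]

/-- the local factorisation -/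
theorem local_factor (𝒵 : WFun0.{u} p)
    (hn : ∀ (Y : Type u) [Group Y] [Finite Y] (S : Sylow p Y) (D : Subgroup Y),
      Cfsg.IsStronglyClosed D (S : Subgroup Y) →
      (∀ (V : Subgroup Y) [V.Normal], IsPGroup p V → Cfsg.IsPStableOn p V) →
      Subgroup.centralizer ((Cfsg.pCore p Y : Subgroup Y) : Set Y) ≤ Cfsg.pCore p Y →
      (𝒵.W Y D).Normal)
    (hst : Cfsg.IsNormalizerPStable p X) (hcon : Cfsg.IsPConstrained p X)
    (R : Sylow p X) (D₁ : Subgroup X) (hD₁ : Cfsg.IsStronglyClosed D₁ (R : Subgroup X)) (h : X) :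
    ∃ k ∈ Cfsg.pPrimeCore p X, ∃ n ∈ Subgroup.normalizer ((𝒵.W X D₁ : Subgroup X) : Set X),
      h = k * n := by
  have hDc : (Nat.card (Cfsg.pPrimeCore p X)).Coprime p :=
    Cfsg.Agent.Lib.Helper5_PPrime.pPrimeCore_coprime p X
  have hsc := sc_quot (Cfsg.pPrimeCore p X) hDc R D₁ hD₁
  have hnorm := hn (X ⧸ Cfsg.pPrimeCore p X)
    (R.mapSurjective (QuotientGroup.mk'_surjective (Cfsg.pPrimeCore p X)))
    (D₁.map (QuotientGroup.mk' (Cfsg.pPrimeCore p X))) hsc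
    (fun V _ hV => stab_quot (Cfsg.pPrimeCore p X) hDc hst V hV) (constrained_quot hcon)
  have hD₁p : IsPGroup p D₁ := R.isPGroup'.to_le hD₁.1
  have hinj := injOn_mk (Cfsg.pPrimeCore p X) hDc D₁ hD₁p
  rw [𝒵.map X (X ⧸ Cfsg.pPrimeCore p X) (QuotientGroup.mk' (Cfsg.pPrimeCore p X)) D₁ hD₁p hinj]
    at hnorm
  have hW₀p : IsPGroup p (𝒵.W X D₁) := hD₁p.to_le (𝒵.le X D₁)
  have hnm := normalizer_map_mk (Cfsg.pPrimeCore p X) hDc (𝒵.W X D₁) hW₀p
  rw [Subgroup.normalizer_eq_top_iff.2 hnorm] at hnm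
  have hmem : QuotientGroup.mk' (Cfsg.pPrimeCore p X) h ∈
      (Subgroup.normalizer ((𝒵.W X D₁ : Subgroup X) : Set X)).map
        (QuotientGroup.mk' (Cfsg.pPrimeCore p X)) := by
    rw [← hnm]; trivial
  obtain ⟨n, hn', hnh⟩ := hmem
  refine ⟨h * n⁻¹, ?_, n, hn', by group⟩
  rw [← QuotientGroup.eq_one_iff, ← QuotientGroup.mk'_apply, map_mul, map_inv, hnh,
    mul_inv_cancel]

end

end Cfsg.Agent.Lib.Lead_SF1
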