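import Mathlib
import Cfsg.Agent.Lib.Lead_SF1

/-!
# Control of strong fusion in a `p`-constrained `p`-stable local subgroup
-/

set_option autoImplicit false

namespace Cfsg.Agent.Lib.Lead_SF2

open Cfsg.Agent.Lib.Helper4_PCore
open Cfsg.Agent.Lib.Lead_GTb Cfsg.Agent.Lib.Lead_GTc2
open Cfsg.Agent.Lib.Lead_RelSyl (exists_conj_le)
open Cfsg.Agent.Lib.Lead_CtrlFus3 (mem_sup_of_normalizes)
open Cfsg.Agent.Lib.Lead_SF1

universe u

variable {p : ℕ} [Fact p.Prime]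

section
variable {X : Type u} [Group X] [Finite X]

theorem sc_le_normalizer {D₁ R : Subgroup X} (h : Cfsg.IsStronglyClosed D₁ R) :
    R ≤ Subgroup.normalizer (D₁ : Set X) := by
  intro r hr
  rw [Subgroup.mem_normalizer_iff]
  intro u
  constructor
  · intro hu
    exact h.2 u hu r (R.mul_mem (R.mul_mem hr (h.1 hu)) (R.inv_mem hr))
  · intro hu
    have h1 := h.2 (r * u * r⁻¹) hu r⁻¹ (by
      have e : r⁻¹ * (r * u * r⁻¹) * r⁻¹⁻¹ = r⁻¹ * (r * u * r⁻¹) * r := by group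
      rw [e]
      exact R.mul_mem (R.mul_mem (R.inv_mem hr) (h.1 hu)) hr)
    have e : r⁻¹ * (r * u * r⁻¹) * r⁻¹⁻¹ = u := by group
    rwa [e] at h1

/-- fusion in `R` is controlled by `M` when `X = K M` with `K` a normal `p'`-subgroup -/
theorem local_fusion (K M R : Subgroup X) [hKn : K.Normal] (hK : (Nat.card K).Coprime p)
    (hRp : IsPGroup p R) (hRsyl : ¬ p ∣ R.index) (hRM : R ≤ M)
    (hfac : ∀ h : X, ∃ k ∈ K, ∃ n ∈ M, h = k * n)
    (A : Set X) (hA : A ⊆ R) (h : X) (hAh : ∀ a ∈ A, h * a * h⁻¹ ∈ R) :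
    ∃ x ∈ M, ∀ a ∈ A, x * a * x⁻¹ = h * a * h⁻¹ := by
  obtain ⟨k, hk, n, hn, rfl⟩ := hfac h
  have hBR : Subgroup.closure A ≤ R := (Subgroup.closure_le R).2 hA
  -- conjugation by `k * n` maps the closure into `R`
  have hBh : ∀ b ∈ Subgroup.closure A, (k * n) * b * (k * n)⁻¹ ∈ R := by
    intro b hb
    have h1 : (Subgroup.closure A).map (MulAut.conj (k * n)).toMonoidHom ≤ R := by
      rw [MonoidHom.map_closure, Subgroup.closure_le]
      rintro _ ⟨a, ha, rfl⟩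
      exact hAh a ha
    exact h1 ⟨b, hb, rfl⟩
  set B' : Subgroup X := (Subgroup.closure A).map (MulAut.conj n).toMonoidHom with hB'
  have hB'p : IsPGroup p B' := (hRp.to_le hBR).map _
  have hB'L : B' ≤ (M ⊓ K) ⊔ R := by
    rintro _ ⟨b, hb, rfl⟩
    have hr := hBh b hb
    have hbM : n * b * n⁻¹ ∈ M := M.mul_mem (M.mul_mem hn (hRM (hBR hb))) (M.inv_mem hn)
    have e : (MulAut.conj n).toMonoidHom b =
        (k⁻¹ * ((k * n) * b * (k * n)⁻¹) * k * ((k * n) * b * (k * n)⁻¹)⁻¹) *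
          ((k * n) * b * (k * n)⁻¹) := by
      show n * b * n⁻¹ = _
      group
    rw [e]
    refine Subgroup.mul_mem _ (Subgroup.mem_sup_left ⟨?_, ?_⟩) (Subgroup.mem_sup_right hr)
    · have e2 : k⁻¹ * ((k * n) * b * (k * n)⁻¹) * k * ((k * n) * b * (k * n)⁻¹)⁻¹ =
          (n * b * n⁻¹) * ((k * n) * b * (k * n)⁻¹)⁻¹ := by group
      rw [e2]
      exact M.mul_mem hbM (M.inv_mem (hRM hr))
    · have e2 : k⁻¹ * ((k * n) * b * (k * n)⁻¹) * k * ((k * n) * b * (k * n)⁻¹)⁻¹ =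
          k⁻¹ * (((k * n) * b * (k * n)⁻¹) * k * ((k * n) * b * (k * n)⁻¹)⁻¹) := by group
      rw [e2]
      exact K.mul_mem (K.inv_mem hk) (hKn.conj_mem k hk _)
  have hU : ¬ p ∣ R.relIndex ((M ⊓ K) ⊔ R) := fun hd =>
    hRsyl (dvd_trans hd (Subgroup.relIndex_dvd_index_of_le le_sup_right))
  obtain ⟨l, hl, hlB⟩ := exists_conj_le ((M ⊓ K) ⊔ R) R B' hRp hU hB'L hB'p
  obtain ⟨c, hc, r, hr, rfl⟩ := mem_sup_of_normalizes (M ⊓ K) R
    (fun b hb a ha => ⟨M.mul_mem (M.mul_mem (hRM hb) ha.1) (M.inv_mem (hRM hb)),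
      hKn.conj_mem a ha.2 b⟩) l hl
  -- m = r⁻¹ c r
  have hm : r⁻¹ * c * r ∈ M ⊓ K := by
    refine ⟨M.mul_mem (M.mul_mem (M.inv_mem (hRM hr)) hc.1) (hRM hr), ?_⟩
    have := hKn.conj_mem c hc.2 r⁻¹
    simpa using this
  refine ⟨(r⁻¹ * c * r) * n, M.mul_mem hm.1 hn, ?_⟩
  intro a ha
  have haB : a ∈ Subgroup.closure A := Subgroup.subset_closure ha
  have h1 : (r⁻¹ * c * r * n) * a * (r⁻¹ * c * r * n)⁻¹ ∈ R := by
    have h2 := hlB (n * a * n⁻¹) ⟨a, haB, rfl⟩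
    have e : (r⁻¹ * c * r * n) * a * (r⁻¹ * c * r * n)⁻¹ =
        r⁻¹ * ((c * r) * (n * a * n⁻¹) * (c * r)⁻¹) * r := by group
    rw [e]
    exact R.mul_mem (R.mul_mem (R.inv_mem hr) h2) hr
  have h2 : (k * n) * a * (k * n)⁻¹ ∈ R := hAh a ha
  apply injOn_mk K hK R hRp h1 h2
  have hk1 : QuotientGroup.mk' K k = 1 := by
    rw [QuotientGroup.mk'_apply, QuotientGroup.eq_one_iff]; exact hk
  have hm1 : QuotientGroup.mk' K (r⁻¹ * c * r) = 1 := by
    rw [QuotientGroup.mk'_apply, QuotientGroup.eq_one_iff]; exact hm.2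
  simp only [map_mul, map_inv, hk1, hm1, one_mul, inv_one]

end

section
variable {G : Type u} [Group G] [Finite G]

/-- the local step, in the ambient group -/
theorem local_G (𝒵 : WFun0.{u} p)
    (hn : ∀ (Y : Type u) [Group Y] [Finite Y] (S : Sylow p Y) (D : Subgroup Y),
      Cfsg.IsStronglyClosed D (S : Subgroup Y) →
      (∀ (V : Subgroup Y) [V.Normal], IsPGroup p V → Cfsg.IsPStableOn p V) →
      Subgroup.centralizer ((Cfsg.pCore p Y : Subgroup Y) : Set Y) ≤ Cfsg.pCore p Y →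
      (𝒵.W Y D).Normal)
    (N R D₂ : Subgroup G) (hst : Cfsg.IsNormalizerPStable p ↥N) (hcon : Cfsg.IsPConstrained p ↥N)
    (hRN : R ≤ N) (hRp : IsPGroup p R) (hRsyl : ¬ p ∣ R.relIndex N)
    (hD₂ : Cfsg.IsStronglyClosed D₂ R)
    (A : Set G) (h : G) (hh : h ∈ N) (hA : A ⊆ R) (hAh : ∀ a ∈ A, h * a * h⁻¹ ∈ R) :
    ∃ x ∈ N ⊓ Subgroup.normalizer ((𝒵.W G D₂ : Subgroup G) : Set G),
      ∀ a ∈ A, x * a * x⁻¹ = h * a * h⁻¹ := by
  have hRXp : IsPGroup p (R.subgroupOf N) := hRp.comap_subtype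
  have hidx : ¬ p ∣ (R.subgroupOf N).index := hRsyl
  have hcoe : ((hRXp.toSylow hidx : Sylow p ↥N) : Subgroup ↥N) = R.subgroupOf N :=
    IsPGroup.toSylow_coe hRXp hidx
  have hD₁ : Cfsg.IsStronglyClosed (D₂.subgroupOf N)
      ((hRXp.toSylow hidx : Sylow p ↥N) : Subgroup ↥N) := by
    rw [hcoe]
    refine ⟨fun x hx => ?_, fun x hx g hg => ?_⟩
    · rw [Subgroup.mem_subgroupOf] at hx ⊢
      exact hD₂.1 hx
    · rw [Subgroup.mem_subgroupOf] at hx hg ⊢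
      have := hD₂.2 (x : G) hx (g : G) (by simpa using hg)
      simpa using this
  have hfac := local_factor 𝒵 hn hst hcon (hRXp.toSylow hidx) (D₂.subgroupOf N) hD₁
  have hD₁p : IsPGroup p (D₂.subgroupOf N) := (hRp.to_le hD₂.1).comap_subtype
  have hRM : R.subgroupOf N ≤
      Subgroup.normalizer ((𝒵.W ↥N (D₂.subgroupOf N) : Subgroup ↥N) : Set ↥N) := by
    rw [hcoe] at hD₁
    exact (sc_le_normalizer hD₁).trans (W_char 𝒵 _ hD₁p)
  have hDc : (Nat.card (Cfsg.pPrimeCore p ↥N)).Coprime p :=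
    Cfsg.Agent.Lib.Helper5_PPrime.pPrimeCore_coprime p ↥N
  obtain ⟨x, hxM, hx⟩ := local_fusion (Cfsg.pPrimeCore p ↥N)
    (Subgroup.normalizer ((𝒵.W ↥N (D₂.subgroupOf N) : Subgroup ↥N) : Set ↥N))
    (R.subgroupOf N) hDc hRXp hidx hRM hfac
    {a : ↥N | (a : G) ∈ A} (fun a ha => by
      rw [SetLike.mem_coe, Subgroup.mem_subgroupOf]; exact hA ha) ⟨h, hh⟩
    (fun a ha => by
      rw [Subgroup.mem_subgroupOf]
      have := hAh (a : G) ha
      simpa using this)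
  have hW : 𝒵.W G D₂ = (𝒵.W ↥N (D₂.subgroupOf N)).map N.subtype := by
    rw [← W_subtype 𝒵 N (D₂.subgroupOf N) hD₁p,
      Subgroup.map_subgroupOf_eq_of_le (hD₂.1.trans hRN)]
  refine ⟨(x : G), ⟨x.2, ?_⟩, ?_⟩
  · rw [hW]
    exact Subgroup.le_normalizer_map N.subtype ⟨x, hxM, rfl⟩
  · intro a ha
    have h1 := hx ⟨a, hRN (hA ha)⟩ ha
    have h2 := congrArg Subtype.val h1
    simpa using h2

end

end Cfsg.Agent.Lib.Lead_SF2
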