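import Mathlib
import Cfsg.Prelude.Def_ConjugacyFunctors
import Cfsg.Prelude.Def_EvenType
import Cfsg.Agent.Lib.Lead_SF2
import Cfsg.Agent.Lib.Lead_SZ
import Cfsg.Agent.Lib.Helper4_MaxNormAb0

/-!
# The conjugacy functor attached to a strongly closed subgroup, and control of strong fusion
-/

set_option autoImplicit false

namespace Cfsg.Agent.Lib.Lead_SF3

open Cfsg.Agent.Lib.Lead_GTb
open Cfsg.Agent.Lib.Lead_SF1 Cfsg.Agent.Lib.Lead_SF2

universe u

variable {p : ℕ} [Fact p.Prime]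

section
variable {G : Type u} [Group G]

/-- the part of `Q` fused into `D` -/
def DQ (D Q : Subgroup G) : Subgroup G :=
  Subgroup.closure {x | x ∈ Q ∧ ∃ g : G, g * x * g⁻¹ ∈ D}

theorem DQ_le (D Q : Subgroup G) : DQ D Q ≤ Q :=
  (Subgroup.closure_le Q).2 (fun _ hx => hx.1)

theorem DQ_map (D Q : Subgroup G) (g : G) :
    DQ D (Q.map (MulAut.conj g).toMonoidHom) = (DQ D Q).map (MulAut.conj g).toMonoidHom := by
  unfold DQ
  rw [MonoidHom.map_closure]
  congr 1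
  ext y
  constructor
  · rintro ⟨⟨x, hx, rfl⟩, ⟨t, ht⟩⟩
    refine ⟨x, ⟨hx, t * g, ?_⟩, rfl⟩
    have e : t * g * x * (t * g)⁻¹ = t * ((MulAut.conj g).toMonoidHom x) * t⁻¹ := by
      show _ = t * (g * x * g⁻¹) * t⁻¹
      group
    rw [e]; exact ht
  · rintro ⟨x, ⟨hx, t, ht⟩, rfl⟩
    refine ⟨⟨x, hx, rfl⟩, t * g⁻¹, ?_⟩
    have e : t * g⁻¹ * ((MulAut.conj g).toMonoidHom x) * (t * g⁻¹)⁻¹ = t * x * t⁻¹ := by
      show t * g⁻¹ * (g * x * g⁻¹) * (t * g⁻¹)⁻¹ = _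
      group
    rw [e]; exact ht

theorem DQ_of_le {D P Q : Subgroup G} (hD : Cfsg.IsStronglyClosed D P) (hQ : Q ≤ P) :
    DQ D Q = Q ⊓ D := by
  apply le_antisymm
  · unfold DQ
    rw [Subgroup.closure_le]
    rintro x ⟨hx, g, hg⟩
    refine ⟨hx, ?_⟩
    have e : g⁻¹ * (g * x * g⁻¹) * g⁻¹⁻¹ = x := by group
    have h1 := hD.2 (g * x * g⁻¹) hg g⁻¹ (by rw [e]; exact hQ hx)
    rwa [e] at h1
  · intro x hx
    exact Subgroup.subset_closure ⟨hx.1, 1, by simpa using hx.2⟩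

open Classical in
/-- the conjugacy functor `Q ↦ Z(D_Q)` -/
noncomputable def WD (𝒵 : WFun0.{u} p) (D : Subgroup G) (Q : Subgroup G) : Subgroup G :=
  if DQ D Q = ⊥ then Q else 𝒵.W G (DQ D Q)

theorem mem_map_conj (H : Subgroup G) (u z : G) :
    z ∈ H.map (MulAut.conj u).toMonoidHom ↔ u⁻¹ * z * u ∈ H := by
  constructor
  · rintro ⟨x, hx, rfl⟩
    have e : u⁻¹ * ((MulAut.conj u).toMonoidHom x) * u = x := by
      show u⁻¹ * (u * x * u⁻¹) * u = x
      group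
    rw [e]; exact hx
  · intro hz
    refine ⟨u⁻¹ * z * u, hz, ?_⟩
    show u * (u⁻¹ * z * u) * u⁻¹ = z
    group

variable [Finite G]

theorem WD_conj (𝒵 : WFun0.{u} p) (D : Subgroup G) : Cfsg.IsConjugacyFunctor p (WD 𝒵 D) := by
  intro Q hQ
  refine ⟨?_, ?_, ?_⟩
  · unfold WD
    split_ifs with h
    · exact le_rfl
    · exact (𝒵.le G _).trans (DQ_le D Q)
  · intro hne
    unfold WD
    split_ifs with h
    · exact hne
    · exact 𝒵.ne_bot G _ (hQ.to_le (DQ_le D Q)) h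
  · intro g
    unfold WD
    rw [DQ_map]
    have hiff : (DQ D Q).map (MulAut.conj g).toMonoidHom = ⊥ ↔ DQ D Q = ⊥ :=
      Subgroup.map_eq_bot_iff_of_injective _ (MulAut.conj g).injective
    by_cases h : DQ D Q = ⊥
    · rw [if_pos h, if_pos (hiff.2 h)]
    · rw [if_neg h, if_neg (fun h' => h (hiff.1 h'))]
      exact 𝒵.map G G (MulAut.conj g).toMonoidHom (DQ D Q) (hQ.to_le (DQ_le D Q))
        (MulAut.conj g).injective.injOn

/-- a nontrivial strongly closed subgroup meets the normalizer in `P` of every subgroup of `P` -/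
theorem inf_ne_bot (P : Sylow p G) (D : Subgroup G) (hD : Cfsg.IsStronglyClosed D (P : Subgroup G))
    (hDne : D ≠ ⊥) (T : Subgroup G) (hTP : T ≤ (P : Subgroup G)) :
    ((P : Subgroup G) ⊓ Subgroup.normalizer (T : Set G)) ⊓ D ≠ ⊥ := by
  haveI : Group.IsNilpotent ↥(P : Subgroup G) := P.isPGroup'.isNilpotent
  haveI hAn : (D.subgroupOf (P : Subgroup G)).Normal := by
    refine ⟨fun d hd r => ?_⟩
    rw [Subgroup.mem_subgroupOf] at hd ⊢
    have h1 : (r : G) * (d : G) * (r : G)⁻¹ ∈ (P : Subgroup G) := (r * d * r⁻¹).2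
    have := hD.2 (d : G) hd (r : G) h1
    simpa using this
  have hAne : D.subgroupOf (P : Subgroup G) ≠ ⊥ := by
    obtain ⟨d, hd1⟩ := (Subgroup.ne_bot_iff_exists_ne_one).mp hDne
    intro hbot
    have h1 : (⟨(d : G), hD.1 d.2⟩ : ↥(P : Subgroup G)) ∈ D.subgroupOf (P : Subgroup G) := by
      rw [Subgroup.mem_subgroupOf]; exact d.2
    rw [hbot, Subgroup.mem_bot] at h1
    apply hd1
    have := congrArg Subtype.val h1
    exact Subtype.ext (by simpa using this)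
  obtain ⟨a, haA, haZ, ha1⟩ :=
    Cfsg.Agent.Lib.Helper4_MaxNormAb0.normal_inf_center (D.subgroupOf (P : Subgroup G)) hAne
  rw [Subgroup.mem_subgroupOf] at haA
  have hcomm : ∀ s ∈ (P : Subgroup G), (a : G) * s = s * (a : G) := by
    intro s hs
    have h1 := Subgroup.mem_center_iff.1 haZ ⟨s, hs⟩
    have h2 := congrArg Subtype.val h1
    simpa using h2.symm
  have haN : (a : G) ∈ Subgroup.normalizer (T : Set G) := by
    rw [Subgroup.mem_normalizer_iff]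
    intro t
    constructor
    · intro ht
      have e : (a : G) * t * (a : G)⁻¹ = t := by
        rw [hcomm t (hTP ht)]; group
      rw [e]; exact ht
    · intro ht
      have h1 := hcomm _ (hTP ht)
      have e : t = (a : G) * t * (a : G)⁻¹ := by
        have h2 : (a : G)⁻¹ * ((a : G) * ((a : G) * t * (a : G)⁻¹)) =
            (a : G)⁻¹ * (((a : G) * t * (a : G)⁻¹) * (a : G)) := by rw [h1]
        have e1 : (a : G)⁻¹ * ((a : G) * ((a : G) * t * (a : G)⁻¹)) = (a : G) * t * (a : G)⁻¹ := by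
          group
        have e2 : (a : G)⁻¹ * (((a : G) * t * (a : G)⁻¹) * (a : G)) = t := by group
        rw [e1, e2] at h2
        exact h2.symm
      rw [e]; exact ht
  intro hbot
  have h1 : (a : G) ∈ ((P : Subgroup G) ⊓ Subgroup.normalizer (T : Set G)) ⊓ D :=
    ⟨⟨a.2, haN⟩, haA⟩
  rw [hbot, Subgroup.mem_bot] at h1
  exact ha1 (Subtype.ext (by simpa using h1))

/-- the local hypothesis of the well-placed local-to-global theorem -/
theorem hloc_WD (𝒵 : WFun0.{u} p)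
    (hn : ∀ (Y : Type u) [Group Y] [Finite Y] (S : Sylow p Y) (D : Subgroup Y),
      Cfsg.IsStronglyClosed D (S : Subgroup Y) →
      (∀ (V : Subgroup Y) [V.Normal], IsPGroup p V → Cfsg.IsPStableOn p V) →
      Subgroup.centralizer ((Cfsg.pCore p Y : Subgroup Y) : Set Y) ≤ Cfsg.pCore p Y →
      (𝒵.W Y D).Normal)
    (P : Sylow p G) (D : Subgroup G) (hD : Cfsg.IsStronglyClosed D (P : Subgroup G))
    (hDne : D ≠ ⊥)
    (hst : ∀ N : Subgroup G, Cfsg.IsNormalizerPStable p ↥N)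
    (hc : ∀ U : Subgroup G, U ≤ (P : Subgroup G) → U ≠ ⊥ →
      Cfsg.IsPConstrained p ↥(Subgroup.normalizer (U : Set G)))
    (T : Subgroup G) (hTne : T ≠ ⊥) (hT : Cfsg.IsWellPlaced p (WD 𝒵 D) (P : Subgroup G) T) :
    Cfsg.ControlsStrongFusionIn p (WD 𝒵 D) (Subgroup.normalizer (T : Set G)) := by
  obtain ⟨hTP, hwp⟩ := hT
  have h0 : ¬ p ∣ ((P : Subgroup G) ⊓ Subgroup.normalizer (T : Set G)).relIndex
      (Subgroup.normalizer (T : Set G)) := hwp 0
  refine ⟨(P : Subgroup G) ⊓ Subgroup.normalizer (T : Set G), inf_le_right,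
    P.isPGroup'.to_le inf_le_left, h0, ?_⟩
  intro A h hh hA hAh
  have hWD : WD 𝒵 D ((P : Subgroup G) ⊓ Subgroup.normalizer (T : Set G)) =
      𝒵.W G (((P : Subgroup G) ⊓ Subgroup.normalizer (T : Set G)) ⊓ D) := by
    unfold WD
    rw [DQ_of_le hD inf_le_left, if_neg (inf_ne_bot P D hD hDne T hTP)]
  rw [hWD]
  have hsc : Cfsg.IsStronglyClosed (((P : Subgroup G) ⊓ Subgroup.normalizer (T : Set G)) ⊓ D)
      ((P : Subgroup G) ⊓ Subgroup.normalizer (T : Set G)) :=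
    ⟨inf_le_left, fun x hx g hg => ⟨hg, hD.2 x hx.2 g hg.1⟩⟩
  exact local_G 𝒵 hn (Subgroup.normalizer (T : Set G))
    ((P : Subgroup G) ⊓ Subgroup.normalizer (T : Set G))
    (((P : Subgroup G) ⊓ Subgroup.normalizer (T : Set G)) ⊓ D) (hst _) (hc T hTP hTne)
    inf_le_right (P.isPGroup'.to_le inf_le_left) h0 hsc A h hh hA
    (fun a ha => hAh ⟨a, ha, rfl⟩)

/-- from control of strong fusion by the functor to the statement about `N(Z(D))` -/
theorem global_of_ctrl (𝒵 : WFun0.{u} p) (P : Sylow p G) (D : Subgroup G)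
    (hD : Cfsg.IsStronglyClosed D (P : Subgroup G)) (hDne : D ≠ ⊥)
    (hctl : Cfsg.ControlsStrongFusionIn p (WD 𝒵 D) ⊤) (A : Set G)
    (hA : A ⊆ ((P : Subgroup G) : Set G)) :
    Cfsg.ControlsStrongFusionOf (Subgroup.normalizer ((𝒵.W G D : Subgroup G) : Set G))
      (P : Subgroup G) A := by
  obtain ⟨T', -, hT'p, hT'idx, hT'⟩ := hctl
  refine ⟨hA, fun g hg => ?_⟩
  have hidx : ¬ p ∣ T'.index := by rwa [Subgroup.relIndex_top_right] at hT'idx
  obtain ⟨u, hu⟩ := MulAction.exists_smul_eq G P (hT'p.toSylow hidx)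
  have hcoe : ((u • P : Sylow p G) : Subgroup G) = T' := by
    rw [hu]; exact IsPGroup.toSylow_coe hT'p hidx
  rw [Sylow.coe_subgroup_smul] at hcoe
  have hmem : ∀ y, y ∈ T' ↔ u⁻¹ * y * u ∈ (P : Subgroup G) := fun y => by
    rw [← hcoe]; exact Cfsg.Agent.Lib.Lead_SZ.mem_conj_smul u y _
  have hT'eq : T' = (P : Subgroup G).map (MulAut.conj u).toMonoidHom := by
    ext y
    rw [hmem, mem_map_conj]
  have hWP : WD 𝒵 D (P : Subgroup G) = 𝒵.W G D := by
    unfold WD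
    rw [DQ_of_le hD le_rfl, inf_eq_right.2 hD.1, if_neg hDne]
  have hWT' : WD 𝒵 D T' = (𝒵.W G D).map (MulAut.conj u).toMonoidHom := by
    rw [hT'eq, ((WD_conj 𝒵 D) (P : Subgroup G) P.isPGroup').2.2 u, hWP]
  have hA' : (fun a => u * a * u⁻¹) '' A ⊆ (T' : Set G) := by
    rintro _ ⟨a, ha, rfl⟩
    rw [SetLike.mem_coe, hmem]
    have e : u⁻¹ * (u * a * u⁻¹) * u = a := by group
    rw [e]; exact hA ha
  have hg' : (fun a => (u * g * u⁻¹) * a * (u * g * u⁻¹)⁻¹) '' ((fun a => u * a * u⁻¹) '' A) ⊆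
      (T' : Set G) := by
    rintro _ ⟨_, ⟨a, ha, rfl⟩, rfl⟩
    rw [SetLike.mem_coe, hmem]
    have e : u⁻¹ * ((u * g * u⁻¹) * (u * a * u⁻¹) * (u * g * u⁻¹)⁻¹) * u = g * a * g⁻¹ := by group
    rw [e]; exact hg ⟨a, ha, rfl⟩
  obtain ⟨x', hx'N, hx'⟩ := hT' _ (u * g * u⁻¹) (Subgroup.mem_top _) hA' hg'
  have hx'N2 : x' ∈ Subgroup.normalizer
      (((𝒵.W G D).map (MulAut.conj u).toMonoidHom : Subgroup G) : Set G) := by
    rw [← hWT']; exact hx'N.2
  refine ⟨u⁻¹ * x' * u, ?_, ?_⟩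
  · rw [Subgroup.mem_normalizer_iff]
    intro y
    have h1 := (Subgroup.mem_normalizer_iff.1 hx'N2) (u * y * u⁻¹)
    rw [mem_map_conj, mem_map_conj] at h1
    have e1 : u⁻¹ * (u * y * u⁻¹) * u = y := by group
    have e2 : u⁻¹ * (x' * (u * y * u⁻¹) * x'⁻¹) * u = u⁻¹ * x' * u * y * (u⁻¹ * x' * u)⁻¹ := by
      group
    rw [e1, e2] at h1
    exact h1
  · intro a ha
    have h1 := hx' (u * a * u⁻¹) ⟨a, ha, rfl⟩
    have e : u⁻¹ * x' * u * a * (u⁻¹ * x' * u)⁻¹ = u⁻¹ * (x' * (u * a * u⁻¹) * x'⁻¹) * u := by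
      group
    rw [e, h1]
    group

/-- the trivial case `D = ⊥` -/
theorem global_bot (𝒵 : WFun0.{u} p) (P : Sylow p G) (A : Set G)
    (hA : A ⊆ ((P : Subgroup G) : Set G)) :
    Cfsg.ControlsStrongFusionOf (Subgroup.normalizer ((𝒵.W G (⊥ : Subgroup G) : Subgroup G) : Set G))
      (P : Subgroup G) A := by
  refine ⟨hA, fun g _ => ⟨g, ?_, fun a _ => rfl⟩⟩
  have h1 : 𝒵.W G (⊥ : Subgroup G) = ⊥ := le_bot_iff.1 (𝒵.le G ⊥)
  rw [h1, Subgroup.mem_normalizer_iff]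
  intro y
  rw [Subgroup.mem_bot, Subgroup.mem_bot, conj_eq_one_iff]

end

end Cfsg.Agent.Lib.Lead_SF3
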