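import Mathlib
import Cfsg.Agent.S0023
import Cfsg.Agent.S0024
import Cfsg.Agent.S0025
import Cfsg.Agent.S1280
import Cfsg.Agent.S1282
import Cfsg.Agent.Lib.Lead_HT5

/-!
# Signalizer functors: the Transitivity Theorem
-/

namespace Cfsg.Agent.Lib.Lead_Sig

open Cfsg
open scoped Pointwise

section basic
variable {G : Type*} [Group G]

/-- Conjugate of a subgroup. -/
abbrev cj (c : G) (Q : Subgroup G) : Subgroup G := Q.map (MulAut.conj c).toMonoidHom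

theorem mem_cj {c x : G} {Q : Subgroup G} : x ∈ cj c Q ↔ c⁻¹ * x * c ∈ Q := by
  constructor
  · rintro ⟨y, hy, rfl⟩
    have e : c⁻¹ * ((MulAut.conj c).toMonoidHom y) * c = y := by
      show c⁻¹ * (c * y * c⁻¹) * c = y
      group
    rw [e]
    exact hy
  · intro h
    refine ⟨c⁻¹ * x * c, h, ?_⟩
    show c * (c⁻¹ * x * c) * c⁻¹ = x
    group

theorem cj_one (Q : Subgroup G) : cj 1 Q = Q := by
  ext x
  rw [mem_cj]
  simp

theorem cj_mul (c d : G) (Q : Subgroup G) : cj (c * d) Q = cj c (cj d Q) := by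
  ext x
  rw [mem_cj, mem_cj, mem_cj]
  have e : (c * d)⁻¹ * x * (c * d) = d⁻¹ * (c⁻¹ * x * c) * d := by group
  rw [e]

theorem cj_mono (c : G) {Q R : Subgroup G} (h : Q ≤ R) : cj c Q ≤ cj c R :=
  Subgroup.map_mono h

theorem cj_inv_cj (c : G) (Q : Subgroup G) : cj c⁻¹ (cj c Q) = Q := by
  rw [← cj_mul, inv_mul_cancel, cj_one]

theorem cj_cj_inv (c : G) (Q : Subgroup G) : cj c (cj c⁻¹ Q) = Q := by
  rw [← cj_mul, mul_inv_cancel, cj_one]

theorem card_cj (c : G) (Q : Subgroup G) : Nat.card (cj c Q) = Nat.card Q :=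
  Subgroup.card_map_of_injective (MulAut.conj c).injective

theorem isPGroup_cj {q : ℕ} (c : G) {Q : Subgroup G} (h : IsPGroup q Q) : IsPGroup q (cj c Q) :=
  h.map _

theorem inv_iff_le_normalizer (A U : Subgroup G) :
    (∀ b ∈ A, ∀ u ∈ U, b * u * b⁻¹ ∈ U) ↔ A ≤ Subgroup.normalizer (U : Set G) := by
  constructor
  · intro h b hb
    rw [Subgroup.mem_normalizer_iff]
    intro u
    constructor
    · exact h b hb u
    · intro hu
      have := h b⁻¹ (A.inv_mem hb) _ hu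
      have e : b⁻¹ * (b * u * b⁻¹) * b⁻¹⁻¹ = u := by group
      rwa [e] at this
  · intro h b hb u hu
    exact (Subgroup.mem_normalizer_iff.1 (h hb) u).1 hu

end basic

section family
variable {G : Type*} [Group G] [Finite G] {p : ℕ} [Fact p.Prime] {A : Subgroup G}
  {θ : G → Subgroup G}

theorem mem_sigInf {c : G} : c ∈ signalizerInf A θ ↔ ∀ a ∈ A, a ≠ 1 → c ∈ θ a := by
  unfold signalizerInf
  rw [Subgroup.mem_iInf]
  constructor
  · intro h a ha ha1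
    exact h ⟨a, ha, ha1⟩
  · intro h a
    exact h a.1 a.2.1 a.2.2

theorem sigInf_commute (hθ : IsSignalizerFunctor p A θ) {c : G} (hc : c ∈ signalizerInf A θ)
    {b : G} (hb : b ∈ A) : b * c = c * b := by
  by_cases hb1 : b = 1
  · rw [hb1, one_mul, mul_one]
  · have h1 := hθ.1 b hb hb1 (mem_sigInf.1 hc b hb hb1)
    exact (Subgroup.mem_centralizer_singleton_iff.1 h1).symm

theorem sub_mem {U V : Subgroup G} (hU : U ∈ signalizerFamily p A θ) (hVU : V ≤ U)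
    (hV : ∀ b ∈ A, ∀ u ∈ V, b * u * b⁻¹ ∈ V) : V ∈ signalizerFamily p A θ := by
  obtain ⟨h1, h2, _, h4⟩ := hU
  refine ⟨?_, ?_, hV, ?_⟩
  · haveI := h1
    exact solvable_of_solvable_injective (Subgroup.inclusion_injective hVU)
  · intro hd
    exact h2 (hd.trans (Subgroup.card_dvd_of_le hVU))
  · intro a ha ha1
    exact (inf_le_inf_right _ hVU).trans (h4 a ha ha1)

theorem conj_mem (hθ : IsSignalizerFunctor p A θ) {c : G} (hc : c ∈ signalizerInf A θ)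
    {U : Subgroup G} (hU : U ∈ signalizerFamily p A θ) : cj c U ∈ signalizerFamily p A θ := by
  obtain ⟨h1, h2, h3, h4⟩ := hU
  refine ⟨?_, ?_, ?_, ?_⟩
  · haveI := h1
    exact solvable_of_surjective
      (f := (MulAut.conj c).toMonoidHom.subgroupMap U)
      (MonoidHom.subgroupMap_surjective _ _)
  · rw [card_cj]
    exact h2
  · intro b hb u hu
    rw [mem_cj] at hu ⊢
    have hbc := sigInf_commute hθ hc hb
    have e : c⁻¹ * (b * u * b⁻¹) * c = b * (c⁻¹ * u * c) * b⁻¹ := by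
      have h5 : c⁻¹ * b = b * c⁻¹ := by
        calc c⁻¹ * b = c⁻¹ * (b * c) * c⁻¹ := by group
          _ = c⁻¹ * (c * b) * c⁻¹ := by rw [hbc]
          _ = b * c⁻¹ := by group
      have h6 : b⁻¹ * c = c * b⁻¹ := by
        calc b⁻¹ * c = b⁻¹ * (c * b) * b⁻¹ := by group
          _ = b⁻¹ * (b * c) * b⁻¹ := by rw [hbc]
          _ = c * b⁻¹ := by group
      calc c⁻¹ * (b * u * b⁻¹) * c = (c⁻¹ * b) * u * (b⁻¹ * c) := by group
        _ = (b * c⁻¹) * u * (c * b⁻¹) := by rw [h5, h6]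
        _ = b * (c⁻¹ * u * c) * b⁻¹ := by group
    rw [e]
    exact h3 b hb _ hu
  · intro a ha ha1
    rintro x ⟨hx1, hx2⟩
    have hca : c ∈ θ a := mem_sigInf.1 hc a ha ha1
    have hca' : a * c = c * a := sigInf_commute hθ hc ha
    have hx1' : c⁻¹ * x * c ∈ U := mem_cj.1 hx1
    have hx2' : x * a = a * x := Subgroup.mem_centralizer_singleton_iff.1 hx2
    have h5 : c⁻¹ * x * c ∈ Subgroup.centralizer ({a} : Set G) := by
      rw [Subgroup.mem_centralizer_singleton_iff]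
      have h6 : c⁻¹ * a = a * c⁻¹ := by
        calc c⁻¹ * a = c⁻¹ * (a * c) * c⁻¹ := by group
          _ = c⁻¹ * (c * a) * c⁻¹ := by rw [hca']
          _ = a * c⁻¹ := by group
      calc c⁻¹ * x * c * a = c⁻¹ * x * (c * a) := by group
        _ = c⁻¹ * x * (a * c) := by rw [hca']
        _ = c⁻¹ * (x * a) * c := by group
        _ = c⁻¹ * (a * x) * c := by rw [hx2']
        _ = (c⁻¹ * a) * x * c := by group
        _ = (a * c⁻¹) * x * c := by rw [h6]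
        _ = a * (c⁻¹ * x * c) := by group
    have h7 : c⁻¹ * x * c ∈ θ a := h4 a ha ha1 ⟨hx1', h5⟩
    have e : x = c * (c⁻¹ * x * c) * c⁻¹ := by group
    rw [e]
    exact (θ a).mul_mem ((θ a).mul_mem hca h7) ((θ a).inv_mem hca)

end family

section trans
variable {G : Type*} [Group G] [Finite G] {p : ℕ} [Fact p.Prime] {A : Subgroup G}
  {θ : G → Subgroup G}

/-- Maximal `q`-subgroups in the family of `θ`. -/
def IsMaxQ (p : ℕ) (A : Subgroup G) (θ : G → Subgroup G) (q : ℕ) (Q : Subgroup G) : Prop :=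
  Q ∈ signalizerFamily p A θ ∧ IsPGroup q ↥Q ∧
    ∀ R ∈ signalizerFamily p A θ, IsPGroup q ↥R → Q ≤ R → R = Q

theorem exists_max (q : ℕ) {R : Subgroup G} (hR : R ∈ signalizerFamily p A θ)
    (hRq : IsPGroup q ↥R) : ∃ T, IsMaxQ p A θ q T ∧ R ≤ T := by
  let S : Set (Subgroup G) := {T | T ∈ signalizerFamily p A θ ∧ IsPGroup q ↥T ∧ R ≤ T}
  have hS : S.Nonempty := ⟨R, hR, hRq, le_rfl⟩
  obtain ⟨T, hTS, hTmin⟩ := WellFounded.has_min
    (InvImage.wf (fun T : Subgroup G => Nat.card G - Nat.card T) Nat.lt_wfRel.wf) S hS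
  refine ⟨T, ⟨hTS.1, hTS.2.1, ?_⟩, hTS.2.2⟩
  intro T' hT' hT'q hle
  have h1 := hTmin T' ⟨hT', hT'q, hTS.2.2.trans hle⟩
  have h2 : Nat.card T ≤ Nat.card T' := Subgroup.card_le_of_le hle
  have h3 : Nat.card T' ≤ Nat.card G := Subgroup.card_le_card_group T'
  have h4 : ¬ (Nat.card G - Nat.card T' < Nat.card G - Nat.card T) := h1
  have h5 : Nat.card T' ≤ Nat.card T := by omega
  exact (Cfsg.Agent.Lib.Lead_SZ.eq_of_le_of_card_eq hle (le_antisymm h2 h5)).symm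

theorem max_conj (hθ : IsSignalizerFunctor p A θ) {q : ℕ} {c : G}
    (hc : c ∈ signalizerInf A θ) {Q : Subgroup G} (hQ : IsMaxQ p A θ q Q) :
    IsMaxQ p A θ q (cj c Q) := by
  refine ⟨conj_mem hθ hc hQ.1, isPGroup_cj c hQ.2.1, ?_⟩
  intro R hR hRq hle
  have hc' : c⁻¹ ∈ signalizerInf A θ := Subgroup.inv_mem _ hc
  have h1 : Q ≤ cj c⁻¹ R := by
    have := cj_mono c⁻¹ hle
    rwa [cj_inv_cj] at this
  have h2 := hQ.2.2 (cj c⁻¹ R) (conj_mem hθ hc' hR) (isPGroup_cj c⁻¹ hRq) h1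
  rw [← h2, cj_cj_inv]

omit [Finite G] [Fact p.Prime] in
theorem le_centralizer_of_mem (hA : IsElementaryAbelian p A) {a : G} (ha : a ∈ A) :
    A ≤ Subgroup.centralizer ({a} : Set G) := by
  intro b hb
  rw [Subgroup.mem_centralizer_singleton_iff]
  have := hA.1.is_comm.comm (⟨b, hb⟩ : ↥A) ⟨a, ha⟩
  exact congrArg Subtype.val this

theorem card_coprime (hA : IsElementaryAbelian p A) {H : Subgroup G}
    (hH : ¬ p ∣ Nat.card ↥H) : (Nat.card ↥A).Coprime (Nat.card ↥H) := by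
  have hp : p.Prime := Fact.out
  have hAp : IsPGroup p ↥A := by
    intro x
    refine ⟨1, ?_⟩
    apply Subtype.ext
    rw [pow_one, Subgroup.coe_pow, Subgroup.coe_one]
    exact hA.2 x x.2
  obtain ⟨k, hk⟩ := IsPGroup.iff_card.1 hAp
  rw [hk]
  exact Nat.Coprime.pow_left _ ((Nat.Prime.coprime_iff_not_dvd hp).2 hH)

set_option maxHeartbeats 1000000 in
/-- One half of the main step of the transitivity theorem. -/
theorem step (hA : IsElementaryAbelian p A) (hθ : IsSignalizerFunctor p A θ) (q : ℕ)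
    [Fact q.Prime] {Q D H : Subgroup G} (hQ : IsMaxQ p A θ q Q) (hDQ : D ≤ Q)
    (hAD : A ≤ Subgroup.normalizer (D : Set G)) {a : G} (haA : a ∈ A) (ha1 : a ≠ 1)
    (hT : ¬ (Subgroup.normalizer (D : Set G) ⊓ Q ⊓ Subgroup.centralizer {a} ≤ D))
    (hHW : H ∈ signalizerFamily p A θ) (hDH : D ≤ H)
    (hXH : θ a ⊓ Subgroup.normalizer (D : Set G) ≤ H) :
    ∃ R : Sylow q ↥H, A ≤ Subgroup.normalizer (((R : Subgroup ↥H).map H.subtype : Subgroup G) : Set G) ∧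
      Nat.card ↥D < Nat.card ↥(((R : Subgroup ↥H).map H.subtype) ⊓ Q : Subgroup G) := by
  set T : Subgroup G := Subgroup.normalizer (D : Set G) ⊓ Q ⊓ Subgroup.centralizer {a} with hTdef
  have hAQ : A ≤ Subgroup.normalizer (Q : Set G) := (inv_iff_le_normalizer A Q).1 hQ.1.2.2.1
  have hTθ : T ≤ θ a := by
    intro x hx
    exact hQ.1.2.2.2 a haA ha1 ⟨hx.1.2, hx.2⟩
  have hTH : T ≤ H := fun x hx => hXH ⟨hTθ hx, hx.1.1⟩
  have hTQ : T ≤ Q := fun x hx => hx.1.2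
  have hAT : A ≤ Subgroup.normalizer (T : Set G) := by
    intro b hb
    have h1 : b ∈ Subgroup.normalizer ((Subgroup.normalizer (D : Set G) : Subgroup G) : Set G) :=
      Subgroup.le_normalizer (hAD hb)
    have h2 : b ∈ Subgroup.normalizer ((Subgroup.centralizer ({a} : Set G) : Subgroup G) : Set G) :=
      Subgroup.le_normalizer (le_centralizer_of_mem hA haA hb)
    exact Cfsg.Agent.Lib.Lead_HT5.mem_normalizer_inf'
      (Cfsg.Agent.Lib.Lead_HT5.mem_normalizer_inf' h1 (hAQ hb)) h2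
  set S : Subgroup G := D ⊔ T with hSdef
  have hSH : S ≤ H := sup_le hDH hTH
  have hSQ : S ≤ Q := sup_le hDQ hTQ
  have hSq : IsPGroup q ↥S := hQ.2.1.to_le hSQ
  have hAS : A ≤ Subgroup.normalizer (S : Set G) := fun b hb =>
    Cfsg.Agent.Lib.Lead_HT3.mem_normalizer_sup (hAD hb) (hAT hb)
  have hAH : A ≤ Subgroup.normalizer (H : Set G) := (inv_iff_le_normalizer A H).1 hHW.2.2.1
  obtain ⟨R, hSR, hAR⟩ := Cfsg.Agent.S0025.result A H hAH (card_coprime hA hHW.2.1)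
    (Or.inr hHW.1) q S hSH hSq hAS
  refine ⟨R, hAR, ?_⟩
  have hDS : D < S := by
    refine lt_of_le_of_ne le_sup_left ?_
    intro h
    apply hT
    rw [h]
    exact le_sup_right
  have h1 : Nat.card ↥D < Nat.card ↥S := Cfsg.Agent.Lib.Lead_SZ.card_lt hDS
  have h2 : Nat.card ↥S ≤ Nat.card ↥(((R : Subgroup ↥H).map H.subtype) ⊓ Q : Subgroup G) :=
    Subgroup.card_le_of_le (le_inf hSR hSQ)
  omega

end trans

section main
variable {G : Type*} [Group G] [Finite G] {p : ℕ} [Fact p.Prime] {A : Subgroup G}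
  {θ : G → Subgroup G}

omit [Finite G] in
/-- Transport of the conjugation of Sylow subgroups of `H` to subgroups of `G`. -/
theorem map_smul_sylow {q : ℕ} {H : Subgroup G} (c : ↥H) (R₁ R₂ : Sylow q ↥H)
    (h : MulAut.conj c • R₁ = R₂) :
    cj (c : G) ((R₁ : Subgroup ↥H).map H.subtype) = (R₂ : Subgroup ↥H).map H.subtype := by
  ext x
  rw [mem_cj]
  constructor
  · rintro ⟨y, hy, hyx⟩
    have hx : x ∈ H := by
      have e : x = (c : G) * ((c : G)⁻¹ * x * c) * (c : G)⁻¹ := by group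
      rw [e, ← hyx]
      exact H.mul_mem (H.mul_mem c.2 y.2) (H.inv_mem c.2)
    refine ⟨⟨x, hx⟩, ?_, rfl⟩
    rw [← h]
    show (⟨x, hx⟩ : ↥H) ∈ MulAut.conj c • (R₁ : Subgroup ↥H)
    rw [Subgroup.mem_pointwise_smul_iff_inv_smul_mem]
    have e : (MulAut.conj c)⁻¹ • (⟨x, hx⟩ : ↥H) = y := by
      apply Subtype.ext
      rw [← map_inv, MulAut.smul_def, MulAut.conj_apply]
      simp only [Subgroup.coe_mul, Subgroup.coe_inv, inv_inv]
      exact hyx.symm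
    rw [e]
    exact hy
  · rintro ⟨y, hy, rfl⟩
    rw [← h] at hy
    have hy' : y ∈ MulAut.conj c • (R₁ : Subgroup ↥H) := hy
    rw [Subgroup.mem_pointwise_smul_iff_inv_smul_mem] at hy'
    refine ⟨(MulAut.conj c)⁻¹ • y, hy', ?_⟩
    rw [← map_inv, MulAut.smul_def, MulAut.conj_apply]
    simp only [Subgroup.coe_subtype, Subgroup.coe_mul, Subgroup.coe_inv, inv_inv]

set_option maxHeartbeats 2000000 in
theorem transitivity_aux (hA : IsElementaryAbelian p A) (hA3 : p ^ 3 ≤ Nat.card ↥A)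
    (hθ : IsSolvableSignalizerFunctor p A θ) (q : ℕ) [Fact q.Prime] (hqp : q ≠ p) :
    ∀ k : ℕ, ∀ Q₁ Q₂ : Subgroup G, IsMaxQ p A θ q Q₁ → IsMaxQ p A θ q Q₂ →
      Nat.card G - Nat.card ↥(Q₁ ⊓ Q₂ : Subgroup G) = k →
      ∃ c ∈ signalizerInf A θ, cj c Q₁ = Q₂ := by
  intro k
  induction k using Nat.strong_induction_on with
  | _ k ih =>
  intro Q₁ Q₂ hQ₁ hQ₂ hk
  have hp : p.Prime := Fact.out
  have IH : ∀ R₁ R₂ : Subgroup G, IsMaxQ p A θ q R₁ → IsMaxQ p A θ q R₂ →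
      Nat.card ↥(Q₁ ⊓ Q₂ : Subgroup G) < Nat.card ↥(R₁ ⊓ R₂ : Subgroup G) →
      ∃ c ∈ signalizerInf A θ, cj c R₁ = R₂ := by
    intro R₁ R₂ h1 h2 hlt
    refine ih (Nat.card G - Nat.card ↥(R₁ ⊓ R₂ : Subgroup G)) ?_ R₁ R₂ h1 h2 rfl
    have := Subgroup.card_le_card_group (R₁ ⊓ R₂)
    omega
  by_cases hD₁ : Q₁ ⊓ Q₂ = Q₁
  · have hle : Q₁ ≤ Q₂ := inf_eq_left.1 hD₁
    have := hQ₁.2.2 Q₂ hQ₂.1 hQ₂.2.1 hle
    exact ⟨1, Subgroup.one_mem _, by rw [cj_one, this]⟩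
  by_cases hD₂ : Q₁ ⊓ Q₂ = Q₂
  · have hle : Q₂ ≤ Q₁ := inf_eq_right.1 hD₂
    have := hQ₂.2.2 Q₁ hQ₁.1 hQ₁.2.1 hle
    exact ⟨1, Subgroup.one_mem _, by rw [cj_one, this]⟩
  have hAQ₁ : A ≤ Subgroup.normalizer (Q₁ : Set G) := (inv_iff_le_normalizer A Q₁).1 hQ₁.1.2.2.1
  have hAQ₂ : A ≤ Subgroup.normalizer (Q₂ : Set G) := (inv_iff_le_normalizer A Q₂).1 hQ₂.1.2.2.1
  obtain ⟨a, haA, ha1, hT1, hT2⟩ := Cfsg.Agent.S1282.result p A hA hA3 q hqp Q₁ Q₂
    hQ₁.2.1 hQ₂.2.1 hAQ₁ hAQ₂ hD₁ hD₂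
  set D : Subgroup G := Q₁ ⊓ Q₂ with hD
  have hAD : A ≤ Subgroup.normalizer (D : Set G) := fun b hb =>
    Cfsg.Agent.Lib.Lead_HT5.mem_normalizer_inf' (hAQ₁ hb) (hAQ₂ hb)
  have hDW : D ∈ signalizerFamily p A θ :=
    sub_mem hQ₁.1 inf_le_left ((inv_iff_le_normalizer A D).2 hAD)
  set X : Subgroup G := θ a ⊓ Subgroup.normalizer (D : Set G) with hX
  have hAθ : A ≤ Subgroup.normalizer ((θ a : Subgroup G) : Set G) :=
    (inv_iff_le_normalizer A (θ a)).1 (hθ.1.2.2.1 a haA ha1)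
  have hAND : A ≤ Subgroup.normalizer ((Subgroup.normalizer (D : Set G) : Subgroup G) : Set G) :=
    hAD.trans Subgroup.le_normalizer
  have hAX : A ≤ Subgroup.normalizer (X : Set G) := fun b hb =>
    Cfsg.Agent.Lib.Lead_HT5.mem_normalizer_inf' (hAθ hb) (hAND hb)
  have hXW : X ∈ signalizerFamily p A θ := by
    refine ⟨?_, ?_, (inv_iff_le_normalizer A X).2 hAX, ?_⟩
    · haveI := hθ.2 a haA ha1
      exact solvable_of_solvable_injective
        (Subgroup.inclusion_injective (inf_le_left : X ≤ θ a))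
    · intro hd
      exact hθ.1.2.1 a haA ha1 (hd.trans (Subgroup.card_dvd_of_le inf_le_left))
    · intro b hb hb1
      exact (inf_le_inf_right _ inf_le_left).trans (hθ.1.2.2.2 a haA ha1 b hb hb1)
  have hA2 : p ^ 2 ≤ Nat.card ↥A := le_trans (Nat.pow_le_pow_right hp.pos (by norm_num)) hA3
  have hHW : D ⊔ X ∈ signalizerFamily p A θ :=
    Cfsg.Agent.S1280.result p A hA hA2 θ hθ D X hDW hXW inf_le_right
  set H : Subgroup G := D ⊔ X with hH
  obtain ⟨R₁, hAR₁, hc₁⟩ := step hA hθ.1 q hQ₁ inf_le_left hAD haA ha1 hT1 hHW le_sup_left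
    le_sup_right
  obtain ⟨R₂, hAR₂, hc₂⟩ := step hA hθ.1 q hQ₂ inf_le_right hAD haA ha1 hT2 hHW le_sup_left
    le_sup_right
  have hAH : A ≤ Subgroup.normalizer (H : Set G) := (inv_iff_le_normalizer A H).1 hHW.2.2.1
  obtain ⟨c, hcA, hcR⟩ := Cfsg.Agent.S0024.result A H hAH (card_coprime hA hHW.2.1)
    (Or.inr hHW.1) q R₁ R₂ hAR₁ hAR₂
  have hcC : (c : G) ∈ signalizerInf A θ := by
    rw [mem_sigInf]
    intro b hb hb1
    apply hHW.2.2.2 b hb hb1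
    refine ⟨c.2, Subgroup.mem_centralizer_singleton_iff.2 ?_⟩
    exact (Subgroup.mem_centralizer_iff.1 hcA b hb).symm
  have hRR := map_smul_sylow c R₁ R₂ hcR
  set R₁' : Subgroup G := (R₁ : Subgroup ↥H).map H.subtype with hR₁'
  set R₂' : Subgroup G := (R₂ : Subgroup ↥H).map H.subtype with hR₂'
  have hR₁W : R₁' ∈ signalizerFamily p A θ :=
    sub_mem hHW (Subgroup.map_subtype_le _) ((inv_iff_le_normalizer A R₁').2 hAR₁)
  have hR₂W : R₂' ∈ signalizerFamily p A θ :=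
    sub_mem hHW (Subgroup.map_subtype_le _) ((inv_iff_le_normalizer A R₂').2 hAR₂)
  have hR₁q : IsPGroup q ↥R₁' := R₁.isPGroup'.map _
  have hR₂q : IsPGroup q ↥R₂' := R₂.isPGroup'.map _
  obtain ⟨P₁, hP₁, hRP₁⟩ := exists_max q hR₁W hR₁q
  obtain ⟨P₂, hP₂, hRP₂⟩ := exists_max q hR₂W hR₂q
  -- Q₁ ~ P₁
  have hc₁' : Nat.card ↥D < Nat.card ↥(R₁' ⊓ Q₁ : Subgroup G) := hc₁
  have hc₂' : Nat.card ↥D < Nat.card ↥(R₂' ⊓ Q₂ : Subgroup G) := hc₂
  obtain ⟨c₁, hc₁C, hc₁e⟩ := IH Q₁ P₁ hQ₁ hP₁ (by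
    have h1 : Nat.card ↥(R₁' ⊓ Q₁ : Subgroup G) ≤ Nat.card ↥(Q₁ ⊓ P₁ : Subgroup G) :=
      Subgroup.card_le_of_le (le_inf inf_le_right (inf_le_left.trans hRP₁))
    omega)
  -- P₂ ~ Q₂
  obtain ⟨c₂, hc₂C, hc₂e⟩ := IH P₂ Q₂ hP₂ hQ₂ (by
    have h1 : Nat.card ↥(R₂' ⊓ Q₂ : Subgroup G) ≤ Nat.card ↥(P₂ ⊓ Q₂ : Subgroup G) :=
      Subgroup.card_le_of_le (le_inf (inf_le_left.trans hRP₂) inf_le_right)
    omega)
  -- cj c P₁ ~ P₂
  have hP₁' : IsMaxQ p A θ q (cj (c : G) P₁) := max_conj hθ.1 hcC hP₁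
  obtain ⟨c₃, hc₃C, hc₃e⟩ := IH (cj (c : G) P₁) P₂ hP₁' hP₂ (by
    have h0 : R₂' ≤ cj (c : G) P₁ := by
      rw [← hRR]
      exact cj_mono _ hRP₁
    have h1 : Nat.card ↥(R₂' ⊓ Q₂ : Subgroup G) ≤ Nat.card ↥(cj (c : G) P₁ ⊓ P₂ : Subgroup G) :=
      Subgroup.card_le_of_le (le_inf (inf_le_left.trans h0) (inf_le_left.trans hRP₂))
    omega)
  refine ⟨c₂ * (c₃ * ((c : G) * c₁)), ?_, ?_⟩
  · exact Subgroup.mul_mem _ hc₂C (Subgroup.mul_mem _ hc₃C (Subgroup.mul_mem _ hcC hc₁C))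
  · rw [cj_mul, cj_mul, cj_mul, hc₁e, hc₃e, hc₂e]

/-- **Transitivity Theorem.** -/
theorem transitivity (hA : IsElementaryAbelian p A) (hA3 : p ^ 3 ≤ Nat.card ↥A)
    (hθ : IsSolvableSignalizerFunctor p A θ) (q : ℕ) [Fact q.Prime] (hqp : q ≠ p)
    {Q₁ Q₂ : Subgroup G} (hQ₁ : IsMaxQ p A θ q Q₁) (hQ₂ : IsMaxQ p A θ q Q₂) :
    ∃ c ∈ signalizerInf A θ, cj c Q₁ = Q₂ :=
  transitivity_aux hA hA3 hθ q hqp _ Q₁ Q₂ hQ₁ hQ₂ rfl

end main

section sylow
variable {G : Type*} [Group G] [Finite G] {p : ℕ} [Fact p.Prime] {A : Subgroup G}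
  {θ : G → Subgroup G}

set_option maxHeartbeats 1000000 in
/-- A maximal `q`-member of the family meets, after conjugation, each member in a Sylow
`q`-subgroup. -/
theorem sylow_conj (hA : IsElementaryAbelian p A) (hA3 : p ^ 3 ≤ Nat.card ↥A)
    (hθ : IsSolvableSignalizerFunctor p A θ) (q : ℕ) [Fact q.Prime] (hqp : q ≠ p)
    {Q : Subgroup G} (hQ : IsMaxQ p A θ q Q) {H : Subgroup G}
    (hHW : H ∈ signalizerFamily p A θ) :
    ∃ c ∈ signalizerInf A θ, ∃ S : Sylow q ↥H,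
      (S : Subgroup ↥H).map H.subtype = cj c Q ⊓ H := by
  have hAH : A ≤ Subgroup.normalizer (H : Set G) := (inv_iff_le_normalizer A H).1 hHW.2.2.1
  obtain ⟨R, hAR⟩ := Cfsg.Agent.S0023.result A H hAH (card_coprime hA hHW.2.1)
    (Or.inr hHW.1) q
  set R' : Subgroup G := (R : Subgroup ↥H).map H.subtype with hR'
  have hRW : R' ∈ signalizerFamily p A θ :=
    sub_mem hHW (Subgroup.map_subtype_le _) ((inv_iff_le_normalizer A R').2 hAR)
  have hRq : IsPGroup q ↥R' := R.isPGroup'.map _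
  obtain ⟨P, hP, hRP⟩ := exists_max q hRW hRq
  obtain ⟨c, hcC, hce⟩ := transitivity hA hA3 hθ q hqp hQ hP
  refine ⟨c, hcC, R, ?_⟩
  rw [hce]
  have h1 : (R : Subgroup ↥H) ≤ (P ⊓ H).subgroupOf H := by
    intro x hx
    rw [Subgroup.mem_subgroupOf]
    exact ⟨hRP ⟨x, hx, rfl⟩, x.2⟩
  have h2 : IsPGroup q ↥((P ⊓ H).subgroupOf H) := (hP.2.1.to_le inf_le_left).comap_subtype
  have h3 := R.is_maximal' h2 h1
  rw [← h3, Subgroup.map_subgroupOf_eq_of_le inf_le_right]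

omit [Fact p.Prime] in
theorem sigInf_mono {B : Subgroup G} (hBA : B ≤ A) : signalizerInf A θ ≤ signalizerInf B θ := by
  intro x hx
  rw [mem_sigInf] at hx ⊢
  intro b hb hb1
  exact hx b (hBA hb) hb1

theorem sigInf_mem (hθ : IsSolvableSignalizerFunctor p A θ) {B : Subgroup G} (hBA : B ≤ A)
    (hB : B ≠ ⊥) : signalizerInf B θ ∈ signalizerFamily p A θ := by
  obtain ⟨b₀, hb₀, hb₀1⟩ := (Subgroup.ne_bot_iff_exists_ne_one).1 hB |>.imp
    (fun b hb => hb) |> fun ⟨b, hb⟩ => (⟨(b : G), b.2, fun h => hb (Subtype.ext h)⟩ :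
      ∃ b₀ : G, b₀ ∈ B ∧ b₀ ≠ 1)
  have hle : signalizerInf B θ ≤ θ b₀ := fun x hx => mem_sigInf.1 hx b₀ hb₀ hb₀1
  refine ⟨?_, ?_, ?_, ?_⟩
  · haveI := hθ.2 b₀ (hBA hb₀) hb₀1
    exact solvable_of_solvable_injective (Subgroup.inclusion_injective hle)
  · intro hd
    exact hθ.1.2.1 b₀ (hBA hb₀) hb₀1 (hd.trans (Subgroup.card_dvd_of_le hle))
  · intro a ha x hx
    rw [mem_sigInf] at hx ⊢
    intro b hb hb1
    exact hθ.1.2.2.1 b (hBA hb) hb1 a ha x (hx b hb hb1)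
  · intro a ha ha1
    exact (inf_le_inf_right _ hle).trans (hθ.1.2.2.2 b₀ (hBA hb₀) hb₀1 a ha ha1)

set_option maxHeartbeats 1000000 in
theorem sylow_centralizer (hA : IsElementaryAbelian p A) (hA3 : p ^ 3 ≤ Nat.card ↥A)
    (hθ : IsSolvableSignalizerFunctor p A θ) (q : ℕ) [Fact q.Prime] (hqp : q ≠ p)
    {Q : Subgroup G} (hQ : IsMaxQ p A θ q Q) {B : Subgroup G} (hBA : B ≤ A) (hB : B ≠ ⊥) :
    ∃ S : Sylow q ↥(signalizerInf B θ),
      (S : Subgroup ↥(signalizerInf B θ)).map (signalizerInf B θ).subtype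
        = Q ⊓ Subgroup.centralizer (B : Set G) := by
  set H : Subgroup G := signalizerInf B θ with hH
  have hHW : H ∈ signalizerFamily p A θ := sigInf_mem hθ hBA hB
  obtain ⟨c, hcC, S, hS⟩ := sylow_conj hA hA3 hθ q hqp hQ hHW
  have hcH : c ∈ H := sigInf_mono hBA hcC
  let c' : ↥H := ⟨c⁻¹, H.inv_mem hcH⟩
  refine ⟨MulAut.conj c' • S, ?_⟩
  rw [← map_smul_sylow c' S (MulAut.conj c' • S) rfl, hS]
  ext x
  rw [mem_cj]
  show (c⁻¹)⁻¹ * x * c⁻¹ ∈ cj c Q ⊓ H ↔ x ∈ Q ⊓ Subgroup.centralizer (B : Set G)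
  rw [Subgroup.mem_inf, Subgroup.mem_inf, mem_cj]
  have e : c⁻¹ * ((c⁻¹)⁻¹ * x * c⁻¹) * c = x := by group
  rw [e]
  have hiff : (c⁻¹)⁻¹ * x * c⁻¹ ∈ H ↔ x ∈ H := by
    constructor
    · intro h
      have := H.mul_mem (H.mul_mem (H.inv_mem hcH) h) hcH
      rwa [e] at this
    · intro h
      rw [inv_inv]
      exact H.mul_mem (H.mul_mem hcH h) (H.inv_mem hcH)
  rw [hiff]
  constructor
  · rintro ⟨hxQ, hxH⟩
    refine ⟨hxQ, ?_⟩
    rw [Subgroup.mem_centralizer_iff]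
    intro b hb
    by_cases hb1 : b = 1
    · rw [hb1, one_mul, mul_one]
    · have h1 := hθ.1.1 b (hBA hb) hb1 (mem_sigInf.1 hxH b hb hb1)
      exact (Subgroup.mem_centralizer_singleton_iff.1 h1).symm
  · rintro ⟨hxQ, hxB⟩
    refine ⟨hxQ, ?_⟩
    rw [hH, mem_sigInf]
    intro b hb hb1
    apply hQ.1.2.2.2 b (hBA hb) hb1
    refine ⟨hxQ, Subgroup.mem_centralizer_singleton_iff.2 ?_⟩
    exact (Subgroup.mem_centralizer_iff.1 hxB b hb).symm

set_option maxHeartbeats 1000000 in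
/-- A solvable signalizer functor all of whose values are `q`-groups is complete. -/
theorem complete_of_qgroups (hA : IsElementaryAbelian p A) (hA3 : p ^ 3 ≤ Nat.card ↥A)
    (hθ : IsSolvableSignalizerFunctor p A θ) (q : ℕ) [Fact q.Prime]
    (hq : ∀ a ∈ A, a ≠ 1 → IsPGroup q ↥(θ a)) : IsCompleteSignalizerFunctor p A θ := by
  have hp : p.Prime := Fact.out
  refine ⟨hθ.1, ?_⟩
  by_cases hqp : q = p
  · refine ⟨⊥, ?_, ?_, ?_⟩
    · intro b _ x hx
      rw [Subgroup.mem_bot] at hx ⊢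
      rw [hx]
      group
    · rw [Subgroup.card_bot]
      exact hp.one_lt.ne' ∘ Nat.dvd_one.1
    · intro a ha ha1
      rw [bot_inf_eq]
      symm
      have h1 := hq a ha ha1
      rw [hqp] at h1
      rcases h1.card_eq_or_dvd with h2 | h2
      · exact Subgroup.card_eq_one.1 h2
      · exact absurd h2 (hθ.1.2.1 a ha ha1)
  · have hbW : (⊥ : Subgroup G) ∈ signalizerFamily p A θ := by
      refine ⟨inferInstance, ?_, ?_, ?_⟩
      · rw [Subgroup.card_bot]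
        exact hp.one_lt.ne' ∘ Nat.dvd_one.1
      · intro b _ x hx
        rw [Subgroup.mem_bot] at hx ⊢
        rw [hx]
        group
      · intro a _ _
        rw [bot_inf_eq]
        exact bot_le
    obtain ⟨Q, hQ, -⟩ := exists_max q hbW (IsPGroup.of_bot)
    refine ⟨Q, hQ.1.2.2.1, hQ.1.2.1, ?_⟩
    intro a ha ha1
    apply le_antisymm (hQ.1.2.2.2 a ha ha1)
    have hHW : θ a ∈ signalizerFamily p A θ :=
      ⟨hθ.2 a ha ha1, hθ.1.2.1 a ha ha1, hθ.1.2.2.1 a ha ha1,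
        fun b hb hb1 => hθ.1.2.2.2 a ha ha1 b hb hb1⟩
    obtain ⟨c, hcC, S, hS⟩ := sylow_conj hA hA3 hθ q hqp hQ hHW
    have hStop : (S : Subgroup ↥(θ a)) = ⊤ := by
      have h1 := S.is_maximal' (Q := ⊤) ((hq a ha ha1).to_subgroup ⊤) le_top
      exact h1.symm
    rw [hStop, ← MonoidHom.range_eq_map, Subgroup.range_subtype] at hS
    have hca : c ∈ θ a := mem_sigInf.1 hcC a ha ha1
    intro x hx
    refine ⟨?_, hθ.1.1 a ha ha1 hx⟩
    have h1 : c * x * c⁻¹ ∈ θ a := (θ a).mul_mem ((θ a).mul_mem hca hx) ((θ a).inv_mem hca)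
    have h2 : c * x * c⁻¹ ∈ cj c Q ⊓ θ a := by
      rw [← hS]
      exact h1
    have h3 := mem_cj.1 h2.1
    have e : c⁻¹ * (c * x * c⁻¹) * c = x := by group
    rwa [e] at h3

end sylow

end Cfsg.Agent.Lib.Lead_Sig
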