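import Mathlib

/-! Isaacs: subgroups generated by small classes. -/

namespace Cfsg.Agent.LeadSmallClass

open Subgroup

variable {G : Type*} [Group G]

theorem relIndex_mul_card' [Finite G] {H K : Subgroup G} (h : H ≤ K) :
    H.relIndex K * Nat.card H = Nat.card K := by
  have h1 := Subgroup.card_mul_index (H.subgroupOf K)
  rw [Nat.card_congr (Subgroup.subgroupOfEquivOfLe h).toEquiv] at h1
  rw [mul_comm]; exact h1

theorem relIndex_sup_normal'' [Finite G] (H N : Subgroup G) [N.Normal] :
    H.relIndex (H ⊔ N) = H.relIndex N := by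
  have h1 := Subgroup.relIndex_mul_relIndex (H ⊓ N) H (H ⊔ N) inf_le_left le_sup_left
  have h2 := Subgroup.relIndex_mul_relIndex (H ⊓ N) N (H ⊔ N) inf_le_right le_sup_right
  rw [Subgroup.inf_relIndex_left] at h1
  rw [Subgroup.inf_relIndex_right, Subgroup.relIndex_sup_right] at h2
  have h0 : 0 < N.relIndex H := Nat.pos_of_ne_zero Subgroup.index_ne_zero_of_finite
  have : N.relIndex H * H.relIndex (H ⊔ N) = N.relIndex H * H.relIndex N := by
    rw [h1, ← h2, mul_comm]
  exact Nat.eq_of_mul_eq_mul_left h0 this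

/-- Size of the `H`-class of `g`. -/
theorem card_class [Finite G] (H : Subgroup G) (g : G) :
    Nat.card {y : G // ∃ h ∈ H, h * g * h⁻¹ = y} = (centralizer ({g} : Set G)).relIndex H := by
  letI : MulAction H G :=
    MulAction.compHom G ((MulAut.conj : G →* MulAut G).comp H.subtype)
  have hsm : ∀ (h : H) (y : G), h • y = (h : G) * y * (h : G)⁻¹ := fun h y => rfl
  have hst : MulAction.stabilizer H g = (centralizer ({g} : Set G)).subgroupOf H := by
    ext h
    rw [MulAction.mem_stabilizer_iff, hsm, Subgroup.mem_subgroupOf, Subgroup.mem_centralizer_iff]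
    constructor
    · intro h1 y hy
      rw [Set.mem_singleton_iff] at hy
      subst hy
      exact (mul_inv_eq_iff_eq_mul.1 h1).symm
    · intro h1
      exact mul_inv_eq_iff_eq_mul.2 (h1 g rfl).symm
  show _ = ((centralizer ({g} : Set G)).subgroupOf H).index
  rw [← hst, MulAction.index_stabilizer, ← Nat.card_coe_set_eq]
  apply Nat.card_congr
  refine Equiv.subtypeEquivRight ?_
  intro y
  rw [MulAction.mem_orbit_iff]
  constructor
  · rintro ⟨h, hh, rfl⟩
    exact ⟨⟨h, hh⟩, rfl⟩
  · rintro ⟨h, rfl⟩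
    exact ⟨h.1, h.2, rfl⟩

/-- Key lemma: `[K, x] ≤ Z(G)` for abelian normal `K` and `x` of minimal class size. -/
theorem comm_mem_center [Finite G] (K : Subgroup G) [hK : K.Normal]
    (hKab : ∀ a ∈ K, ∀ b ∈ K, a * b = b * a) (m : ℕ)
    (hmin : ∀ y : G, 1 < (centralizer ({y} : Set G)).index → m ≤ (centralizer ({y} : Set G)).index)
    (x : G) (hx : (centralizer ({x} : Set G)).index = m) (k0 : G) (hk0 : k0 ∈ K) :
    k0 * x * k0⁻¹ * x⁻¹ ∈ Subgroup.center G := by
  by_contra hc
  obtain ⟨c, hcdef⟩ : ∃ c, c = k0 * x * k0⁻¹ * x⁻¹ := ⟨_, rfl⟩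
  rw [← hcdef] at hc
  have hcK : c ∈ K := by
    have h1 : x * k0⁻¹ * x⁻¹ ∈ K := hK.conj_mem _ (K.inv_mem hk0) x
    have h2 := K.mul_mem hk0 h1
    rw [hcdef]
    simpa [mul_assoc] using h2
  obtain ⟨D, hD⟩ : ∃ D, D = centralizer ({x} : Set G) := ⟨_, rfl⟩
  obtain ⟨Cc, hCc⟩ : ∃ Cc, Cc = centralizer ({c} : Set G) := ⟨_, rfl⟩
  have hmemD : ∀ d, d ∈ D ↔ x * d = d * x := by
    intro d
    rw [hD, Subgroup.mem_centralizer_iff]
    constructor
    · intro h; exact h x rfl
    · intro h y hy
      rw [Set.mem_singleton_iff] at hy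
      subst hy; exact h
  have hmemC : ∀ d, d ∈ Cc ↔ c * d = d * c := by
    intro d
    rw [hCc, Subgroup.mem_centralizer_iff]
    constructor
    · intro h; exact h c rfl
    · intro h y hy
      rw [Set.mem_singleton_iff] at hy
      subst hy; exact h
  have hCc1 : 1 < Cc.index := by
    have h0 : Cc.index ≠ 0 := Subgroup.index_ne_zero_of_finite
    have h1 : Cc.index ≠ 1 := by
      intro h
      rw [Subgroup.index_eq_one] at h
      apply hc
      rw [Subgroup.mem_center_iff]
      intro g
      have : g ∈ Cc := by rw [h]; trivial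
      exact ((hmemC g).1 this).symm
    omega
  have hCcm : m ≤ Cc.index := by rw [hCc]; rw [hCc] at hCc1; exact hmin c hCc1
  have hKCc : K ≤ Cc := by
    intro k hk
    rw [hmemC]
    exact hKab _ hcK _ hk
  obtain ⟨B, hB⟩ : ∃ B, B = D ⊓ Cc := ⟨_, rfl⟩
  obtain ⟨E, hE⟩ : ∃ E, E = B ⊔ K := ⟨_, rfl⟩
  have hBD : B ≤ D := by rw [hB]; exact inf_le_left
  have hBE : B ≤ E := by rw [hE]; exact le_sup_left
  have hECc : E ≤ Cc := by rw [hE, hB]; exact sup_le inf_le_right hKCc
  have hd : D.relIndex K ≤ Cc.relIndex D := by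
    have h1 : Cc.index ≤ E.index :=
      Nat.le_of_dvd (Nat.pos_of_ne_zero Subgroup.index_ne_zero_of_finite)
        (Subgroup.index_dvd_of_le hECc)
    have h2 : D.index ≤ E.index := by rw [hD, hx]; exact hCcm.trans h1
    have h3 : Nat.card E ≤ Nat.card D := by
      have e1 := E.card_mul_index
      have e2 := D.card_mul_index
      by_contra hlt
      push_neg at hlt
      have hpos : 0 < E.index := Nat.pos_of_ne_zero Subgroup.index_ne_zero_of_finite
      have : Nat.card D * D.index < Nat.card E * E.index :=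
        Nat.mul_lt_mul_of_lt_of_le hlt h2 hpos
      omega
    have h4 : B.relIndex E = D.relIndex K := by
      rw [hE, relIndex_sup_normal'' B K, ← Subgroup.inf_relIndex_right B K,
        ← Subgroup.inf_relIndex_right D K]
      congr 1
      rw [hB]
      ext g
      simp only [Subgroup.mem_inf]
      constructor
      · rintro ⟨⟨h1, -⟩, h3⟩; exact ⟨h1, h3⟩
      · rintro ⟨h1, h3⟩; exact ⟨⟨h1, hKCc h3⟩, h3⟩
    have h5 : B.relIndex D = Cc.relIndex D := by
      rw [hB, inf_comm, Subgroup.inf_relIndex_right]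
    have h6 := relIndex_mul_card' hBE
    have h7 := relIndex_mul_card' hBD
    rw [← h4, ← h5]
    have hBpos : 0 < Nat.card B := Nat.card_pos
    exact Nat.le_of_mul_le_mul_right (by rw [h6, h7]; exact h3) hBpos
  -- the injection
  have hc1 : c ≠ 1 := by
    intro h; apply hc; rw [h]; exact Subgroup.one_mem _
  have hlt : Cc.relIndex D + 1 ≤ D.relIndex K := by
    rw [hCc, hD, ← card_class, ← card_class, ← Finite.card_option]
    rw [← hD]
    let f : Option {y : G // ∃ d ∈ D, d * c * d⁻¹ = y} → {z : G // ∃ k ∈ K, k * x * k⁻¹ = z} :=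
      fun o => match o with
        | none => ⟨x, 1, K.one_mem, by simp⟩
        | some y => ⟨y.1 * x, by
            obtain ⟨d, hd, hdy⟩ := y.2
            have hdx : x * d = d * x := (hmemD d).1 hd
            have hdx' : d * x * d⁻¹ = x := by rw [← hdx]; group
            refine ⟨d * k0 * d⁻¹, hK.conj_mem k0 hk0 d, ?_⟩
            rw [← hdy, hcdef]
            have e1 : x⁻¹ * d⁻¹ = d⁻¹ * x⁻¹ := by
              rw [← mul_inv_rev, ← mul_inv_rev, hdx]
            calc d * k0 * d⁻¹ * x * (d * k0 * d⁻¹)⁻¹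
                = d * k0 * (d⁻¹ * x * d) * k0⁻¹ * d⁻¹ := by group
              _ = d * k0 * x * k0⁻¹ * d⁻¹ := by
                  have : d⁻¹ * x * d = x := by rw [mul_assoc, hdx]; group
                  rw [this]
              _ = d * (k0 * x * k0⁻¹ * x⁻¹) * d⁻¹ * x := by
                  have : d * (k0 * x * k0⁻¹ * x⁻¹) * d⁻¹ * x
                      = d * k0 * x * k0⁻¹ * (x⁻¹ * d⁻¹) * x := by group
                  rw [this, e1]; group⟩
    refine Nat.card_le_card_of_injective f ?_
    intro o1 o2 h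
    match o1, o2, h with
    | none, none, _ => rfl
    | none, some y, h =>
      exfalso
      have h1 : x = y.1 * x := congrArg Subtype.val h
      have h2 : y.1 = 1 := by
        have := mul_right_cancel (a := 1) (b := x) (c := y.1) (by rw [one_mul]; exact h1)
        exact this.symm
      obtain ⟨d, hd, hdy⟩ := y.2
      rw [h2] at hdy
      apply hc1
      have : c = d⁻¹ * (d * c * d⁻¹) * d := by group
      rw [this, hdy]; group
    | some y, none, h =>
      exfalso
      have h1 : y.1 * x = x := congrArg Subtype.val h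
      have h2 : y.1 = 1 := by
        have := mul_right_cancel (a := y.1) (b := x) (c := 1) (by rw [one_mul]; exact h1)
        exact this
      obtain ⟨d, hd, hdy⟩ := y.2
      rw [h2] at hdy
      apply hc1
      have : c = d⁻¹ * (d * c * d⁻¹) * d := by group
      rw [this, hdy]; group
    | some y, some y', h =>
      have h1 : y.1 * x = y'.1 * x := congrArg Subtype.val h
      have h2 : y.1 = y'.1 := mul_right_cancel h1
      exact congrArg some (Subtype.ext h2)
  omega

end Cfsg.Agent.LeadSmallClass
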