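import Mathlib
import Cfsg.Agent.Lib.Lead_SmallClass

/-! Isaacs: subgroups generated by small classes, main theorem. -/

namespace Cfsg.Agent.LeadSmallClass

open Subgroup

variable {G : Type*} [Group G]

theorem central_cancel {z1 z2 : G} (hz1 : z1 ∈ Subgroup.center G) (hz2 : z2 ∈ Subgroup.center G)
    (g h : G) : (z1 * g) * (z2 * h) * (z1 * g)⁻¹ * (z2 * h)⁻¹ = g * h * g⁻¹ * h⁻¹ := by
  have c1 : ∀ w, w * z1 = z1 * w := fun w => Subgroup.mem_center_iff.1 hz1 w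
  have c2 : ∀ w, w * z2 = z2 * w := fun w => Subgroup.mem_center_iff.1 hz2 w
  have k1 : ∀ w, z1 * w * z1⁻¹ = w := fun w => by rw [← c1 w]; group
  have k2 : ∀ w, z2 * w * z2⁻¹ = w := fun w => by rw [← c2 w]; group
  calc (z1 * g) * (z2 * h) * (z1 * g)⁻¹ * (z2 * h)⁻¹
      = z1 * (g * (z2 * h) * g⁻¹) * z1⁻¹ * (z2 * h)⁻¹ := by group
    _ = g * (z2 * h) * g⁻¹ * (z2 * h)⁻¹ := by rw [k1]
    _ = (g * z2) * h * g⁻¹ * h⁻¹ * z2⁻¹ := by group
    _ = z2 * (g * h * g⁻¹ * h⁻¹) * z2⁻¹ := by rw [c2 g]; group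
    _ = g * h * g⁻¹ * h⁻¹ := k2 _

theorem main [Finite G] (A : Subgroup G) [hAn : A.Normal] (hA : IsMulCommutative A)
    (hCA : Subgroup.centralizer (A : Set G) = A) (m : ℕ)
    (hmin : ∀ x : G, 1 < (Subgroup.centralizer ({x} : Set G)).index →
      m ≤ (Subgroup.centralizer ({x} : Set G)).index) :
    Subgroup.upperCentralSeries ↥(Subgroup.closure {x : G |
      (Subgroup.centralizer ({x} : Set G)).index = 1 ∨
      (Subgroup.centralizer ({x} : Set G)).index = m}) 3 = ⊤ := by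
  have hAab : ∀ a ∈ A, ∀ b ∈ A, a * b = b * a := by
    intro a ha b hb
    have := hA.is_comm.comm ⟨a, ha⟩ ⟨b, hb⟩
    exact congrArg Subtype.val this
  have hi : ∀ g ∈ Subgroup.closure {x : G |
      (Subgroup.centralizer ({x} : Set G)).index = 1 ∨
      (Subgroup.centralizer ({x} : Set G)).index = m}, ∀ a ∈ A,
      a * g * a⁻¹ * g⁻¹ ∈ Subgroup.center G := by
    intro g hg
    induction hg using Subgroup.closure_induction with
    | mem x hx =>
      intro a ha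
      rcases hx with h | h
      · rw [Subgroup.index_eq_one] at h
        have h1 : a ∈ Subgroup.centralizer ({x} : Set G) := by rw [h]; trivial
        have h2 : x * a = a * x := (Subgroup.mem_centralizer_iff.1 h1) x rfl
        have : a * x * a⁻¹ * x⁻¹ = 1 := by rw [← h2]; group
        rw [this]; exact Subgroup.one_mem _
      · exact comm_mem_center A hAab m hmin x h a ha
    | one =>
      intro a _
      have : a * 1 * a⁻¹ * (1 : G)⁻¹ = 1 := by group
      rw [this]; exact Subgroup.one_mem _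
    | mul x y _ _ hx hy =>
      intro a ha
      have z1 := hx a ha
      have z2 := hy a ha
      have e : a * (x * y) * a⁻¹ * (x * y)⁻¹ =
          (a * x * a⁻¹ * x⁻¹) * (x * (a * y * a⁻¹ * y⁻¹) * x⁻¹) := by group
      have e2 : x * (a * y * a⁻¹ * y⁻¹) * x⁻¹ = a * y * a⁻¹ * y⁻¹ := by
        rw [Subgroup.mem_center_iff.1 z2 x]; group
      rw [e, e2]
      exact Subgroup.mul_mem _ z1 z2
    | inv x _ hx =>
      intro a ha
      have z1 := hx a ha
      have e : a * x⁻¹ * a⁻¹ * x⁻¹⁻¹ = x⁻¹ * (a * x * a⁻¹ * x⁻¹)⁻¹ * x := by group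
      have e2 : x⁻¹ * (a * x * a⁻¹ * x⁻¹)⁻¹ * x = (a * x * a⁻¹ * x⁻¹)⁻¹ := by
        have z1' := Subgroup.inv_mem _ z1
        rw [Subgroup.mem_center_iff.1 z1' x⁻¹]; group
      rw [e, e2]
      exact Subgroup.inv_mem _ z1
  have hii : ∀ g ∈ Subgroup.closure {x : G |
      (Subgroup.centralizer ({x} : Set G)).index = 1 ∨
      (Subgroup.centralizer ({x} : Set G)).index = m}, ∀ h ∈ Subgroup.closure {x : G |
      (Subgroup.centralizer ({x} : Set G)).index = 1 ∨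
      (Subgroup.centralizer ({x} : Set G)).index = m}, g * h * g⁻¹ * h⁻¹ ∈ A := by
    intro g hg h hh
    rw [← hCA, Subgroup.mem_centralizer_iff]
    intro a ha
    have z1 := hi g hg a ha
    have z2 := hi h hh a ha
    have e1 : a * (g * h * g⁻¹ * h⁻¹) * a⁻¹ =
        ((a * g * a⁻¹ * g⁻¹) * g) * ((a * h * a⁻¹ * h⁻¹) * h) *
          ((a * g * a⁻¹ * g⁻¹) * g)⁻¹ * ((a * h * a⁻¹ * h⁻¹) * h)⁻¹ := by group
    have e2 := central_cancel z1 z2 g h
    rw [e2] at e1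
    exact mul_inv_eq_iff_eq_mul.1 e1
  rw [eq_top_iff]
  intro x _
  rw [Subgroup.mem_upperCentralSeries_succ_iff]
  intro y
  rw [Subgroup.mem_upperCentralSeries_succ_iff]
  intro z
  rw [Subgroup.mem_upperCentralSeries_succ_iff]
  intro w
  rw [Subgroup.upperCentralSeries_zero, Subgroup.mem_bot]
  apply Subtype.ext
  have h1 := hii x.1 x.2 y.1 y.2
  have h2 := hi z.1 z.2 _ h1
  have h3 : (x.1 * y.1 * x.1⁻¹ * y.1⁻¹ * z.1 * (x.1 * y.1 * x.1⁻¹ * y.1⁻¹)⁻¹ * z.1⁻¹) * w.1 *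
      (x.1 * y.1 * x.1⁻¹ * y.1⁻¹ * z.1 * (x.1 * y.1 * x.1⁻¹ * y.1⁻¹)⁻¹ * z.1⁻¹)⁻¹ * w.1⁻¹ = 1 := by
    rw [← Subgroup.mem_center_iff.1 h2 w.1]; group
  simpa [commutatorElement_def] using h3

end Cfsg.Agent.LeadSmallClass
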