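import Mathlib
import Cfsg.Agent.Lib.Lead_SmallClass2
import Cfsg.Agent.Lib.Helper4_MaxNormAb3

/-! Ishikawa's theorem via Isaacs' argument. -/

namespace Cfsg.Agent.LeadSmallClass

open Subgroup

variable {G : Type*} [Group G]

theorem four_comm [Finite G] (A : Subgroup G) [hAn : A.Normal] (hA : IsMulCommutative A)
    (hCA : Subgroup.centralizer (A : Set G) = A) (m : ℕ)
    (hmin : ∀ x : G, 1 < (Subgroup.centralizer ({x} : Set G)).index →
      m ≤ (Subgroup.centralizer ({x} : Set G)).index) :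
    ∀ g ∈ Subgroup.closure {x : G |
      (Subgroup.centralizer ({x} : Set G)).index = 1 ∨
      (Subgroup.centralizer ({x} : Set G)).index = m}, ∀ h ∈ Subgroup.closure {x : G |
      (Subgroup.centralizer ({x} : Set G)).index = 1 ∨
      (Subgroup.centralizer ({x} : Set G)).index = m}, ∀ k ∈ Subgroup.closure {x : G |
      (Subgroup.centralizer ({x} : Set G)).index = 1 ∨
      (Subgroup.centralizer ({x} : Set G)).index = m},
      (g * h * g⁻¹ * h⁻¹) * k * (g * h * g⁻¹ * h⁻¹)⁻¹ * k⁻¹ ∈ Subgroup.center G := by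
  have hAab : ∀ a ∈ A, ∀ b ∈ A, a * b = b * a := by
    intro a ha b hb
    have := hA.is_comm.comm ⟨a, ha⟩ ⟨b, hb⟩
    exact congrArg Subtype.val this
  have hi : ∀ g ∈ Subgroup.closure {x : G |
      (Subgroup.centralizer ({x} : Set G)).index = 1 ∨
      (Subgroup.centralizer ({x} : Set G)).index = m}, ∀ a ∈ A,
      a * g * a⁻¹ * g⁻¹ ∈ Subgroup.center G := by
    intro g hg
    induction hg using Subgroup.closure_induction with
    | mem x hx =>
      intro a ha
      rcases hx with h | h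
      · rw [Subgroup.index_eq_one] at h
        have h1 : a ∈ Subgroup.centralizer ({x} : Set G) := by rw [h]; trivial
        have h2 : x * a = a * x := (Subgroup.mem_centralizer_iff.1 h1) x rfl
        have : a * x * a⁻¹ * x⁻¹ = 1 := by rw [← h2]; group
        rw [this]; exact Subgroup.one_mem _
      · exact comm_mem_center A hAab m hmin x h a ha
    | one =>
      intro a _
      have : a * 1 * a⁻¹ * (1 : G)⁻¹ = 1 := by group
      rw [this]; exact Subgroup.one_mem _
    | mul x y _ _ hx hy =>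
      intro a ha
      have z1 := hx a ha
      have z2 := hy a ha
      have e : a * (x * y) * a⁻¹ * (x * y)⁻¹ =
          (a * x * a⁻¹ * x⁻¹) * (x * (a * y * a⁻¹ * y⁻¹) * x⁻¹) := by group
      have e2 : x * (a * y * a⁻¹ * y⁻¹) * x⁻¹ = a * y * a⁻¹ * y⁻¹ := by
        rw [Subgroup.mem_center_iff.1 z2 x]; group
      rw [e, e2]
      exact Subgroup.mul_mem _ z1 z2
    | inv x _ hx =>
      intro a ha
      have z1 := hx a ha
      have e : a * x⁻¹ * a⁻¹ * x⁻¹⁻¹ = x⁻¹ * (a * x * a⁻¹ * x⁻¹)⁻¹ * x := by group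
      have e2 : x⁻¹ * (a * x * a⁻¹ * x⁻¹)⁻¹ * x = (a * x * a⁻¹ * x⁻¹)⁻¹ := by
        have z1' := Subgroup.inv_mem _ z1
        rw [Subgroup.mem_center_iff.1 z1' x⁻¹]; group
      rw [e, e2]
      exact Subgroup.inv_mem _ z1
  have hii : ∀ g ∈ Subgroup.closure {x : G |
      (Subgroup.centralizer ({x} : Set G)).index = 1 ∨
      (Subgroup.centralizer ({x} : Set G)).index = m}, ∀ h ∈ Subgroup.closure {x : G |
      (Subgroup.centralizer ({x} : Set G)).index = 1 ∨
      (Subgroup.centralizer ({x} : Set G)).index = m}, g * h * g⁻¹ * h⁻¹ ∈ A := by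
    intro g hg h hh
    rw [← hCA, Subgroup.mem_centralizer_iff]
    intro a ha
    have z1 := hi g hg a ha
    have z2 := hi h hh a ha
    have e1 : a * (g * h * g⁻¹ * h⁻¹) * a⁻¹ =
        ((a * g * a⁻¹ * g⁻¹) * g) * ((a * h * a⁻¹ * h⁻¹) * h) *
          ((a * g * a⁻¹ * g⁻¹) * g)⁻¹ * ((a * h * a⁻¹ * h⁻¹) * h)⁻¹ := by group
    have e2 := central_cancel z1 z2 g h
    rw [e2] at e1
    exact mul_inv_eq_iff_eq_mul.1 e1
  intro g hg h hh k hk
  exact hi k hk _ (hii g hg h hh)

theorem exists_max_normal_abelian [Finite G] : ∃ A : Subgroup G, A.Normal ∧ IsMulCommutative A ∧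
    ∀ B : Subgroup G, B.Normal → IsMulCommutative B → A ≤ B → B = A := by
  have hbot : IsMulCommutative (⊥ : Subgroup G) :=
    ⟨⟨fun a b => Subtype.ext (by
      show (a : G) * (b : G) = (b : G) * (a : G)
      rw [Subgroup.mem_bot.1 a.2, Subgroup.mem_bot.1 b.2])⟩⟩
  have hne : {A : Subgroup G | A.Normal ∧ IsMulCommutative A}.Nonempty :=
    ⟨⊥, inferInstance, hbot⟩
  obtain ⟨A, hA, hmax⟩ := (wellFounded_gt (α := Subgroup G)).has_min _ hne
  refine ⟨A, hA.1, hA.2, fun B hBn hBc hAB => ?_⟩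
  by_contra hne'
  exact hmax B ⟨hBn, hBc⟩ (lt_of_le_of_ne hAB (fun h => hne' h.symm))

theorem ishikawa {P : Type*} [Group P] [Finite P] {p : ℕ} [Fact p.Prime] (hP : IsPGroup p P)
    (m : ℕ) (h : ∀ x : P, (Subgroup.centralizer ({x} : Set P)).index = 1 ∨
      (Subgroup.centralizer ({x} : Set P)).index = m) :
    Subgroup.upperCentralSeries P 3 = ⊤ := by
  obtain ⟨A, hAn, hAc, hmax⟩ := exists_max_normal_abelian (G := P)
  haveI := hAn
  have hCA := Cfsg.Agent.Lib.Helper4_MaxNormAb3.self_cent hP A hAc hmax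
  have hmin : ∀ x : P, 1 < (Subgroup.centralizer ({x} : Set P)).index →
      m ≤ (Subgroup.centralizer ({x} : Set P)).index := by
    intro x hx
    rcases h x with h1 | h1
    · omega
    · exact h1.ge
  have hmem : ∀ x : P, x ∈ Subgroup.closure {x : P |
      (Subgroup.centralizer ({x} : Set P)).index = 1 ∨
      (Subgroup.centralizer ({x} : Set P)).index = m} := fun x => Subgroup.subset_closure (h x)
  have key := four_comm A hAc hCA m hmin
  rw [eq_top_iff]
  intro x _
  rw [Subgroup.mem_upperCentralSeries_succ_iff]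
  intro y
  rw [Subgroup.mem_upperCentralSeries_succ_iff]
  intro z
  rw [Subgroup.mem_upperCentralSeries_succ_iff]
  intro w
  rw [Subgroup.upperCentralSeries_zero, Subgroup.mem_bot]
  have h2 := key x (hmem x) y (hmem y) z (hmem z)
  have h3 : (x * y * x⁻¹ * y⁻¹ * z * (x * y * x⁻¹ * y⁻¹)⁻¹ * z⁻¹) * w *
      (x * y * x⁻¹ * y⁻¹ * z * (x * y * x⁻¹ * y⁻¹)⁻¹ * z⁻¹)⁻¹ * w⁻¹ = 1 := by
    rw [← Subgroup.mem_center_iff.1 h2 w]; group
  simpa [commutatorElement_def] using h3

end Cfsg.Agent.LeadSmallClass
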