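import Mathlib

/-!
# A ring identity for quadratic elements normalizing `2`-groups (`p ≥ 5`)
-/

namespace Cfsg.Agent.Lib.Lead_TwoQuad

theorem eq_zero_of_nat_mul {E : Type*} [Ring E] (p : ℕ) [Fact p.Prime] (hchar : (p : E) = 0)
    (n : ℕ) (hn : n.Coprime p) (z : E) (h : (n : E) * z = 0) : z = 0 := by
  have hp1 : 1 < p := (Fact.out : p.Prime).one_lt
  obtain ⟨m, -, hm⟩ := Nat.exists_mul_mod_eq_one_of_coprime hn hp1
  have e : n * m = p * (n * m / p) + 1 := by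
    have := Nat.div_add_mod (n * m) p
    rw [hm] at this; exact this.symm
  have e' : ((n * m : ℕ) : E) = 1 := by
    rw [e]; push_cast; rw [hchar, zero_mul, zero_add]
  have e2 : ((n * m : ℕ) : E) = (m : E) * (n : E) := by
    rw [Nat.cast_mul]; exact (Nat.cast_commute n (m : E)).eq
  calc z = ((n * m : ℕ) : E) * z := by rw [e', one_mul]
    _ = (m : E) * ((n : E) * z) := by rw [e2, mul_assoc]
    _ = 0 := by rw [h, mul_zero]

theorem subA {E : Type*} [Ring E] (a b ω : E) (haa : a * a = 0) (hbb : b * b = 0)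
    (hωω : ω * ω = 1) (hωa : ω * a = a * ω) (hωb : ω * b = b * ω)
    (R1 : (1 - b) * (1 + a) = ω * ((1 - a) * (1 + b))) :
    (1 + ω) * (4 * (a - b)) = 0 ∧ (1 - ω) * (2 - b * a - a * b) = 0 := by
  have h1 : (1 + ω) * ω = 1 + ω := by rw [add_mul, one_mul, hωω, add_comm]
  have h2 : (1 - ω) * ω = -(1 - ω) := by rw [sub_mul, one_mul, hωω]; abel
  have hE1 : (1 + ω) * (2 * a - 2 * b - b * a + a * b) = 0 := by
    have e : 2 * a - 2 * b - b * a + a * b = (1 - b) * (1 + a) - (1 - a) * (1 + b) := by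
      noncomm_ring
    rw [e, mul_sub, R1, ← mul_assoc, h1, sub_self]
  have hE1' : (1 - ω) * (2 - b * a - a * b) = 0 := by
    have e : 2 - b * a - a * b = (1 - b) * (1 + a) + (1 - a) * (1 + b) := by
      rw [show (2 : E) = 1 + 1 by norm_num]; noncomm_ring
    rw [e, mul_add, R1, ← mul_assoc, h2, neg_mul, neg_add_cancel]
  refine ⟨?_, hE1'⟩
  have cεa : (1 + ω) * a = a * (1 + ω) := by rw [add_mul, mul_add, hωa, one_mul, mul_one]
  have cεb : (1 + ω) * b = b * (1 + ω) := by rw [add_mul, mul_add, hωb, one_mul, mul_one]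
  have hi : (1 + ω) * (-(2 * (a * b)) - a * b * a) = 0 := by
    have h : (1 + ω) * (a * (2 * a - 2 * b - b * a + a * b)) = 0 := by
      rw [← mul_assoc, cεa, mul_assoc, hE1, mul_zero]
    have e : a * (2 * a - 2 * b - b * a + a * b) =
        2 * (a * a) - 2 * (a * b) - a * b * a + (a * a) * b := by noncomm_ring
    rw [e, haa] at h
    have e2 : 2 * (0 : E) - 2 * (a * b) - a * b * a + 0 * b = -(2 * (a * b)) - a * b * a := by
      noncomm_ring
    rwa [e2] at h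
  have hii : (1 + ω) * (-(2 * (b * a)) + a * b * a) = 0 := by
    have h : (1 + ω) * ((2 * a - 2 * b - b * a + a * b) * a) = 0 := by
      rw [← mul_assoc, hE1, zero_mul]
    have e : (2 * a - 2 * b - b * a + a * b) * a =
        2 * (a * a) - 2 * (b * a) - b * (a * a) + a * b * a := by noncomm_ring
    rw [e, haa] at h
    have e2 : 2 * (0 : E) - 2 * (b * a) - b * 0 + a * b * a = -(2 * (b * a)) + a * b * a := by
      noncomm_ring
    rwa [e2] at h
  have hiii : (1 + ω) * (2 * (a * b) + 2 * (b * a)) = 0 := by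
    have e : (1 + ω) * (2 * (a * b) + 2 * (b * a)) =
        -((1 + ω) * (-(2 * (a * b)) - a * b * a) + (1 + ω) * (-(2 * (b * a)) + a * b * a)) := by
      noncomm_ring
    rw [e, hi, hii, add_zero, neg_zero]
  have hiv : (1 + ω) * (4 * (a - b) - 4 * (b * a)) = 0 := by
    have e : (1 + ω) * (4 * (a - b) - 4 * (b * a)) =
        2 * ((1 + ω) * (2 * a - 2 * b - b * a + a * b)) -
          (1 + ω) * (2 * (a * b) + 2 * (b * a)) := by noncomm_ring
    rw [e, hE1, hiii, mul_zero, sub_zero]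
  have hv : (1 + ω) * (4 * (b * a)) = 0 := by
    have h : (1 + ω) * (b * (4 * (a - b) - 4 * (b * a))) = 0 := by
      rw [← mul_assoc, cεb, mul_assoc, hiv, mul_zero]
    have e : b * (4 * (a - b) - 4 * (b * a)) = 4 * (b * a) - 4 * (b * b) - 4 * ((b * b) * a) := by
      noncomm_ring
    rw [e, hbb] at h
    have e2 : 4 * (b * a) - 4 * (0 : E) - 4 * (0 * a) = 4 * (b * a) := by noncomm_ring
    rwa [e2] at h
  have e : (1 + ω) * (4 * (a - b)) =
      (1 + ω) * (4 * (a - b) - 4 * (b * a)) + (1 + ω) * (4 * (b * a)) := by noncomm_ring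
  rw [e, hiv, hv, add_zero]

theorem lemQ {E : Type*} [Ring E] (p : ℕ) [Fact p.Prime] (hp5 : 5 ≤ p) (hchar : (p : E) = 0)
    (a b ω ω₂ : E) (haa : a * a = 0) (hbb : b * b = 0)
    (hωω : ω * ω = 1) (hω₂ω₂ : ω₂ * ω₂ = 1)
    (hωa : ω * a = a * ω) (hωb : ω * b = b * ω) (hω₂a : ω₂ * a = a * ω₂) (hω₂b : ω₂ * b = b * ω₂)
    (hωω₂ : ω * ω₂ = ω₂ * ω)
    (R1 : (1 - b) * (1 + a) = ω * ((1 - a) * (1 + b)))
    (R2 : (1 - 2 * b) * (1 + 2 * a) = ω₂ * ((1 - 2 * a) * (1 + 2 * b))) : a = b := by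
  have hpp : p.Prime := Fact.out
  obtain ⟨A1, A1'⟩ := subA a b ω haa hbb hωω hωa hωb R1
  have haa2 : (2 * a) * (2 * a) = 0 := by
    have : (2 * a) * (2 * a) = 4 * (a * a) := by noncomm_ring
    rw [this, haa, mul_zero]
  have hbb2 : (2 * b) * (2 * b) = 0 := by
    have : (2 * b) * (2 * b) = 4 * (b * b) := by noncomm_ring
    rw [this, hbb, mul_zero]
  have hω₂a2 : ω₂ * (2 * a) = (2 * a) * ω₂ := by rw [two_mul, mul_add, add_mul, hω₂a]
  have hω₂b2 : ω₂ * (2 * b) = (2 * b) * ω₂ := by rw [two_mul, mul_add, add_mul, hω₂b]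
  obtain ⟨A2, A2'⟩ := subA (2 * a) (2 * b) ω₂ haa2 hbb2 hω₂ω₂ hω₂a2 hω₂b2 R2
  have hcomm : (1 - ω₂) * (1 - ω) = (1 - ω) * (1 - ω₂) := by
    have e1 : (1 - ω₂) * (1 - ω) = 1 - ω - ω₂ + ω₂ * ω := by noncomm_ring
    have e2 : (1 - ω) * (1 - ω₂) = 1 - ω - ω₂ + ω * ω₂ := by noncomm_ring
    rw [e1, e2, hωω₂]
  have hB : 6 * ((1 - ω) * (1 - ω₂)) = 0 := by
    have h1 : ((1 - ω) * (1 - ω₂)) * (2 - b * a - a * b) = 0 := by
      rw [← hcomm, mul_assoc, A1', mul_zero]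
    have h2 : ((1 - ω) * (1 - ω₂)) * (2 - 2 * b * (2 * a) - 2 * a * (2 * b)) = 0 := by
      rw [mul_assoc, A2', mul_zero]
    have e : 6 * ((1 - ω) * (1 - ω₂)) =
        4 * (((1 - ω) * (1 - ω₂)) * (2 - b * a - a * b)) -
          ((1 - ω) * (1 - ω₂)) * (2 - 2 * b * (2 * a) - 2 * a * (2 * b)) := by noncomm_ring
    rw [e, h1, h2, mul_zero, sub_zero]
  have h192 : (192 : E) * (a - b) = 0 := by
    have e : (192 : E) * (a - b) =
        12 * ((1 + ω₂) * ((1 + ω) * (4 * (a - b)))) + 12 * ((1 - ω₂) * ((1 + ω) * (4 * (a - b)))) +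
          6 * ((1 - ω) * ((1 + ω₂) * (4 * (2 * a - 2 * b)))) +
          8 * ((6 * ((1 - ω) * (1 - ω₂))) * (a - b)) := by noncomm_ring
    rw [e, A1, A2, hB]
    simp
  have hcop : Nat.Coprime 192 p := by
    rw [Nat.coprime_comm, Nat.Prime.coprime_iff_not_dvd hpp]
    intro hd
    have h192' : (192 : ℕ) = 2 ^ 6 * 3 := by norm_num
    rw [h192'] at hd
    rcases (Nat.Prime.dvd_mul hpp).1 hd with h | h
    · have := Nat.le_of_dvd (by norm_num) (hpp.dvd_of_dvd_pow h)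
      omega
    · have := Nat.le_of_dvd (by norm_num) h
      omega
  have h0 : a - b = 0 := by
    apply eq_zero_of_nat_mul p hchar 192 hcop
    have : ((192 : ℕ) : E) = (192 : E) := by norm_num
    rw [this]; exact h192
  exact sub_eq_zero.1 h0

end Cfsg.Agent.Lib.Lead_TwoQuad
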