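import Mathlib
import Cfsg.Agent.Lib.Lead_OddQuad2
import Cfsg.Agent.Lib.Lead_TwoQuad

/-!
# A quadratic `p`-element (`p ≥ 5`) normalizing a `2`-group centralizes it
-/

namespace Cfsg.Agent.Lib.Lead_TwoQuad2

open Cfsg.Agent.Lib.Lead_OddQuad Cfsg.Agent.Lib.Lead_OddQuad2 Cfsg.Agent.Lib.Lead_QuadRing
  Cfsg.Agent.Lib.Lead_PStab2 Cfsg.Agent.Lib.Lead_TwoQuad
open scoped commutatorElement

theorem frat_ne_self {G : Type*} [Group G] [Finite G] {p : ℕ} [Fact p.Prime] (R : Subgroup G)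
    (hRp : IsPGroup p R) (hne : R ≠ ⊥) : frat p R R ≠ R := by
  intro h
  have hWV : ⁅R, R⁆ ≤ R := by
    rw [Subgroup.commutator_le]
    intro a ha b hb
    rw [commutatorElement_def]
    exact R.mul_mem (R.mul_mem (R.mul_mem ha hb) (R.inv_mem ha)) (R.inv_mem hb)
  have hW : ⁅R, R⁆ ≠ R := comm_ne R R le_rfl hRp hne
  have hne' : (⁅R, R⁆).subgroupOf R ≠ ⊤ := by
    intro h1
    rw [Subgroup.subgroupOf_eq_top] at h1
    exact hW (le_antisymm hWV h1)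
  obtain ⟨M, hM, hWM⟩ := Cfsg.Agent.Lib.Helper7_Conj.exists_coatom_ge _ hne'
  obtain ⟨hMn, hMi⟩ := Cfsg.Agent.Lib.Helper7_PFrattini.coatom_normal_index hRp M hM
  have hle : frat p R R ≤ M.map R.subtype := by
    unfold frat
    refine sup_le ?_ ?_
    · intro x hx
      exact ⟨⟨x, hWV hx⟩, hWM (Subgroup.mem_subgroupOf.2 hx), rfl⟩
    · rw [Subgroup.closure_le]
      rintro _ ⟨v, hv, rfl⟩
      refine ⟨⟨v, hv⟩ ^ p, ?_, by simp⟩
      have := M.pow_index_mem (⟨v, hv⟩ : ↥R)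
      rwa [hMi] at this
  apply hM.1
  rw [eq_top_iff]
  intro x _
  have hx : (x : G) ∈ frat p R R := by rw [h]; exact x.2
  obtain ⟨y, hy, hyx⟩ := hle hx
  have : y = x := Subtype.ext hyx
  rwa [← this]

set_option maxHeartbeats 3200000 in
/-- A quadratic `p`-element, `p ≥ 5`, normalizing a `2`-group centralizes it. -/
theorem main_M2 {E : Type*} [Ring E] {Γ : Type*} [Group Γ] [Finite Γ] (ρ : Γ →* E)
    (hρ : Function.Injective ρ) (p : ℕ) [hp : Fact p.Prime] (hp5 : 5 ≤ p)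
    (hchar : (p : E) = 0) (x : Γ) (t : ℕ) (hxt : x ^ (p ^ t) = 1)
    (hquad : (ρ x - 1) * (ρ x - 1) = 0) :
    ∀ n : ℕ, ∀ R : Subgroup Γ, IsPGroup 2 R → Nat.card R = n →
      (∀ g ∈ R, x * g * x⁻¹ ∈ R) → (∀ g ∈ R, x⁻¹ * g * x ∈ R) → ∀ g ∈ R, x * g = g * x := by
  haveI h2f : Fact (Nat.Prime 2) := ⟨Nat.prime_two⟩
  have hp2 : p ≠ 2 := by omega
  have hrp : (2 : ℕ) ≠ p := by omega
  intro n
  induction n using Nat.strong_induction_on with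
  | _ n ih =>
  intro R hRr hcard hi1 hi2
  have IH : ∀ R₁ : Subgroup Γ, R₁ ≤ R → R₁ ≠ R → (∀ g ∈ R₁, x * g * x⁻¹ ∈ R₁) →
      (∀ g ∈ R₁, x⁻¹ * g * x ∈ R₁) → ∀ g ∈ R₁, x * g = g * x := by
    intro R₁ hle hne h1 h2
    have hlt : Nat.card R₁ < Nat.card R :=
      Cfsg.Agent.Lib.Lead_SZ.card_lt (lt_of_le_of_ne hle hne)
    exact ih (Nat.card R₁) (hcard ▸ hlt) R₁ (hRr.to_le hle) rfl h1 h2
  obtain ⟨k, hk⟩ := hRr.exists_card_eq
  have hpowR : ∀ g ∈ R, g ^ (2 ^ k) = 1 := by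
    intro g hg
    have h1 : (⟨g, hg⟩ : ↥R) ^ Nat.card ↥R = 1 := pow_card_eq_one'
    rw [hk] at h1
    simpa using congrArg Subtype.val h1
  have hrcop : (2 ^ k).Coprime p :=
    Nat.Coprime.pow_left _ ((Nat.coprime_primes Nat.prime_two hp.out).2 hrp)
  by_cases hab : ∀ g ∈ R, ∀ h ∈ R, g * h = h * g
  · have key := quad_comm ρ p hp2 hchar R
      (fun a ha b hb => by rw [← map_mul, ← map_mul, hab a ha b hb])
      (2 ^ k) hrcop (fun g hg => by rw [← map_pow, hpowR g hg, map_one]) x hi1 hi2 hquad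
    intro g hg
    exact hρ (by rw [map_mul, map_mul]; exact key g hg)
  -- the nonabelian case
  have cm_mem : ∀ g ∈ R, x⁻¹ * g⁻¹ * x * g ∈ R := fun g hg =>
    R.mul_mem (hi2 g⁻¹ (R.inv_mem hg)) hg
  have hcop : ∀ g ∈ R, x * (x⁻¹ * g⁻¹ * x * g) = (x⁻¹ * g⁻¹ * x * g) * x → x * g = g * x := by
    intro g hg hc
    have h1 : x⁻¹ * g⁻¹ * x * g = 1 := cop hrp x g t k hxt (hpowR _ (cm_mem g hg)) hc
    calc x * g = g * x * (x⁻¹ * g⁻¹ * x * g) := by group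
      _ = g * x := by rw [h1, mul_one]
  set M₀ : Subgroup Γ := Subgroup.closure {c | ∃ g ∈ R, c = x⁻¹ * g⁻¹ * x * g} with hM₀
  have hM₀le : M₀ ≤ R := by
    rw [hM₀, Subgroup.closure_le]
    rintro _ ⟨g, hg, rfl⟩
    exact cm_mem g hg
  have hM₀i1 : ∀ z ∈ M₀, x * z * x⁻¹ ∈ M₀ := by
    apply Cfsg.Agent.Lib.Lead_Coprime.conj_mem_closure_of_forall
    rintro _ ⟨g, hg, rfl⟩
    apply Subgroup.subset_closure
    exact ⟨x * g * x⁻¹, hi1 g hg, by group⟩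
  have hM₀i2 : ∀ z ∈ M₀, x⁻¹ * z * x ∈ M₀ := by
    have h := Cfsg.Agent.Lib.Lead_Coprime.conj_mem_closure_of_forall
      (S := {c | ∃ g ∈ R, c = x⁻¹ * g⁻¹ * x * g}) (g := x⁻¹) (by
        rintro _ ⟨g, hg, rfl⟩
        apply Subgroup.subset_closure
        exact ⟨x⁻¹ * g * x, hi2 g hg, by group⟩)
    intro z hz
    have := h z hz
    rwa [inv_inv] at this
  by_cases hM : M₀ = R
  swap
  · have h1 := IH M₀ hM₀le hM hM₀i1 hM₀i2
    intro g hg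
    exact hcop g hg (h1 _ (Subgroup.subset_closure ⟨g, hg, rfl⟩))
  -- the commutator subgroup
  have hR'le : ⁅R, R⁆ ≤ R := by
    rw [Subgroup.commutator_le]
    intro a ha b hb
    rw [commutatorElement_def]
    exact R.mul_mem (R.mul_mem (R.mul_mem ha hb) (R.inv_mem ha)) (R.inv_mem hb)
  have hRne : R ≠ ⊥ := by
    rintro rfl
    apply hab
    intro g hg h hh
    rw [Subgroup.mem_bot] at hg hh
    rw [hg, hh]
  set Φ := frat 2 R R with hΦ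
  have hΦle : Φ ≤ R := by
    rw [hΦ]; unfold frat
    refine sup_le hR'le ?_
    rw [Subgroup.closure_le]
    rintro _ ⟨v, hv, rfl⟩
    exact R.pow_mem hv 2
  have hΦne : Φ ≠ R := frat_ne_self R hRr hRne
  have hR'Φ : ⁅R, R⁆ ≤ Φ := le_sup_left
  have hsqΦ : ∀ g ∈ R, g * g ∈ Φ := fun g hg => by
    have : g ^ 2 ∈ Φ :=
      (le_sup_right : _ ≤ frat 2 R R) (Subgroup.subset_closure ⟨g, hg, rfl⟩)
    rwa [pow_two] at this
  have hΦinv : ∀ w : Γ, (∀ g ∈ R, w * g * w⁻¹ ∈ R) → (∀ g ∈ R, w⁻¹ * g * w ∈ R) →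
      ∀ z ∈ Φ, w * z * w⁻¹ ∈ Φ := by
    intro w hw1 hw2 z hz
    have hmap : Φ.map (MulAut.conj w).toMonoidHom ≤ Φ := by
      rw [hΦ]; unfold frat
      rw [Subgroup.map_sup]
      apply sup_le_sup
      · rw [Subgroup.map_commutator, map_conj_eq w R hw1 hw2]
      · rw [MonoidHom.map_closure]
        apply Subgroup.closure_mono
        rintro _ ⟨_, ⟨v, hv, rfl⟩, rfl⟩
        refine ⟨w * v * w⁻¹, hw1 v hv, ?_⟩
        show w * v ^ 2 * w⁻¹ = (w * v * w⁻¹) ^ 2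
        rw [conj_pow]
    exact hmap ⟨z, hz, rfl⟩
  have hΦi1 := hΦinv x hi1 hi2
  have hΦi2 : ∀ z ∈ Φ, x⁻¹ * z * x ∈ Φ := by
    have h := hΦinv x⁻¹ (fun g hg => by rw [inv_inv]; exact hi2 g hg)
      (fun g hg => by rw [inv_inv]; exact hi1 g hg)
    intro z hz
    have := h z hz
    rwa [inv_inv] at this
  have hxΦ := IH Φ hΦle hΦne hΦi1 hΦi2
  have hcenΦ : ∀ z ∈ Φ, ∀ g ∈ R, z * g = g * z := by
    have hX : Subgroup.zpowers x ≤ Subgroup.centralizer ((Φ : Subgroup Γ) : Set Γ) := by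
      rw [Subgroup.zpowers_le, Subgroup.mem_centralizer_iff]
      intro z hz
      exact (hxΦ z hz).symm
    have h3 : ⁅⁅R, Subgroup.zpowers x⁆, Φ⁆ = ⊥ := by
      apply Subgroup.commutator_commutator_eq_bot_of_rotate
      · have : ⁅Subgroup.zpowers x, Φ⁆ = ⊥ :=
          Subgroup.commutator_eq_bot_iff_le_centralizer.2 hX
        rw [this]; exact Subgroup.commutator_bot_left _
      · have h1 : ⁅Φ, R⁆ ≤ Φ := (Subgroup.commutator_mono hΦle le_rfl).trans hR'Φ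
        rw [eq_bot_iff]
        calc ⁅⁅Φ, R⁆, Subgroup.zpowers x⁆ ≤ ⁅Φ, Subgroup.zpowers x⁆ :=
              Subgroup.commutator_mono h1 le_rfl
          _ = ⁅Subgroup.zpowers x, Φ⁆ := Subgroup.commutator_comm _ _
          _ = ⊥ := Subgroup.commutator_eq_bot_iff_le_centralizer.2 hX
    have hRX0 : M₀ ≤ ⁅R, Subgroup.zpowers x⁆ := by
      rw [hM₀, Subgroup.closure_le]
      rintro _ ⟨g, hg, rfl⟩
      rw [Subgroup.commutator_comm]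
      have := Subgroup.commutator_mem_commutator
        (Subgroup.inv_mem _ (Subgroup.mem_zpowers x)) (R.inv_mem hg)
      rw [commutatorElement_def, inv_inv, inv_inv] at this
      exact this
    have hRX : R ≤ ⁅R, Subgroup.zpowers x⁆ := fun g hg => hRX0 (by rw [hM]; exact hg)
    have h4 : ⁅R, Φ⁆ = ⊥ := by
      rw [eq_bot_iff, ← h3]
      exact Subgroup.commutator_mono hRX le_rfl
    intro z hz g hg
    have h5 := Subgroup.commutator_mem_commutator hg hz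
    rw [h4, Subgroup.mem_bot, commutatorElement_def] at h5
    calc z * g = (g * z * g⁻¹ * z⁻¹)⁻¹ * (g * z) := by group
      _ = g * z := by rw [h5, inv_one, one_mul]
  have hcen : ∀ z ∈ ⁅R, R⁆, ∀ g ∈ R, z * g = g * z := fun z hz => hcenΦ z (hR'Φ hz)
  have hβmem : ∀ u ∈ R, ∀ v ∈ R, u * v * u⁻¹ * v⁻¹ ∈ ⁅R, R⁆ := by
    intro u hu v hv
    have := Subgroup.commutator_mem_commutator hu hv
    rwa [commutatorElement_def] at this
  have hinv : ∀ g : Γ, (ρ g - 1) * (ρ g - 1) = 0 → ρ g⁻¹ = 1 - (ρ g - 1) := by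
    intro g hg
    have h1 : ρ g * ρ g⁻¹ = 1 := by rw [← map_mul, mul_inv_cancel, map_one]
    have h2 : (1 - (ρ g - 1)) * ρ g = 1 := by
      have : (1 - (ρ g - 1)) * ρ g = 1 - (ρ g - 1) * (ρ g - 1) := by noncomm_ring
      rw [this, hg, sub_zero]
    calc ρ g⁻¹ = ((1 - (ρ g - 1)) * ρ g) * ρ g⁻¹ := by rw [h2, one_mul]
      _ = (1 - (ρ g - 1)) * (ρ g * ρ g⁻¹) := by rw [mul_assoc]
      _ = 1 - (ρ g - 1) := by rw [h1, mul_one]
  have relK : ∀ w : Γ, (∀ g ∈ R, w⁻¹ * g * w ∈ R) → (∀ z ∈ Φ, w * z = z * w) →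
      (ρ w - 1) * (ρ w - 1) = 0 →
      ∀ y ∈ R, ∃ κ ∈ ⁅R, R⁆, κ * κ = 1 ∧ w * κ = κ * w ∧
        (1 - ρ y * (ρ w - 1) * ρ y⁻¹) * (1 + (ρ w - 1)) =
          ρ κ * ((1 - (ρ w - 1)) * (1 + ρ y * (ρ w - 1) * ρ y⁻¹)) := by
    intro w hw2 hwΦ hwq y hy
    obtain ⟨y₁, hy₁⟩ : ∃ y₁, y₁ = w⁻¹ * y * w := ⟨_, rfl⟩
    have hy₁R : y₁ ∈ R := hy₁ ▸ hw2 y hy
    obtain ⟨κ, hκ⟩ : ∃ κ, κ = y⁻¹ * y₁ * y⁻¹⁻¹ * y₁⁻¹ := ⟨_, rfl⟩
    have hκR' : κ ∈ ⁅R, R⁆ := hκ ▸ hβmem y⁻¹ (R.inv_mem hy) y₁ hy₁R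
    have hκΦ := hR'Φ hκR'
    have hsq : y₁ * y₁ = y * y := by
      have h1 := hwΦ (y * y) (hsqΦ y hy)
      rw [hy₁]
      calc w⁻¹ * y * w * (w⁻¹ * y * w) = w⁻¹ * (y * y * w) := by group
        _ = w⁻¹ * (w * (y * y)) := by rw [h1]
        _ = y * y := by group
    have hκy₁ : κ * y₁ = y₁ * κ := hcenΦ κ hκΦ y₁ hy₁R
    have hκyi : κ * y⁻¹ = y⁻¹ * κ := hcenΦ κ hκΦ y⁻¹ (R.inv_mem hy)
    have hκy : κ * y = y * κ := hcenΦ κ hκΦ y hy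
    have hcc : (y₁ * y⁻¹) * (y₁ * y⁻¹) = κ := by
      have e1 : y⁻¹ * y₁ = κ * y₁ * y⁻¹ := by rw [hκ]; group
      calc (y₁ * y⁻¹) * (y₁ * y⁻¹) = y₁ * (y⁻¹ * y₁) * y⁻¹ := by group
        _ = y₁ * (κ * y₁ * y⁻¹) * y⁻¹ := by rw [e1]
        _ = y₁ * (κ * y₁) * y⁻¹ * y⁻¹ := by group
        _ = y₁ * (y₁ * κ) * y⁻¹ * y⁻¹ := by rw [hκy₁]
        _ = (y₁ * y₁) * κ * y⁻¹ * y⁻¹ := by group
        _ = (y * y) * κ * y⁻¹ * y⁻¹ := by rw [hsq]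
        _ = y * y * (κ * y⁻¹) * y⁻¹ := by group
        _ = y * y * (y⁻¹ * κ) * y⁻¹ := by rw [hκyi]
        _ = y * κ * y⁻¹ := by group
        _ = κ * y * y⁻¹ := by rw [← hκy]
        _ = κ := by group
    have hκκ : κ * κ = 1 := by
      have hb := bl R hcen (R.inv_mem hy) (R.inv_mem hy) hy₁R
      rw [← hκ] at hb
      rw [← hb]
      have hz : y⁻¹ * y⁻¹ ∈ Φ := by
        have := Φ.inv_mem (hsqΦ y hy)
        rwa [mul_inv_rev] at this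
      have := hcenΦ _ hz y₁ hy₁R
      rw [this]; group
    have hwκ : w * κ = κ * w := hwΦ κ hκΦ
    refine ⟨κ, hκR', hκκ, hwκ, ?_⟩
    obtain ⟨A, hA⟩ : ∃ A, A = ρ w - 1 := ⟨_, rfl⟩
    rw [← hA]
    have hyy : ρ y * ρ y⁻¹ = 1 := by rw [← map_mul, mul_inv_cancel, map_one]
    have hw : ρ w = 1 + A := by rw [hA]; abel
    have hwi : ρ w⁻¹ = 1 - A := by rw [hA]; exact hinv w hwq
    have hρc : ρ (y₁ * y⁻¹) = (1 - A) * (1 + ρ y * A * ρ y⁻¹) := by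
      have e : y₁ * y⁻¹ = w⁻¹ * (y * w * y⁻¹) := by rw [hy₁]; group
      rw [e, map_mul, map_mul, map_mul, hwi, hw]
      congr 1
      rw [mul_add, add_mul, mul_one, hyy]
    have hρci : ρ (y₁ * y⁻¹)⁻¹ = (1 - ρ y * A * ρ y⁻¹) * (1 + A) := by
      have e : (y₁ * y⁻¹)⁻¹ = (y * w⁻¹ * y⁻¹) * w := by rw [hy₁]; group
      rw [e, map_mul, map_mul, map_mul, hwi, hw]
      congr 1
      rw [mul_sub, sub_mul, mul_one, hyy]
    have hci : κ * (y₁ * y⁻¹) = (y₁ * y⁻¹)⁻¹ := by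
      have h1 : κ * (y₁ * y⁻¹) * (y₁ * y⁻¹) = 1 := by rw [mul_assoc, hcc, hκκ]
      exact eq_inv_of_mul_eq_one_left h1
    rw [← hρci, ← hρc, ← map_mul, hci]
  intro g hg
  obtain ⟨κ₁, hκ₁R', hκ₁κ₁, hxκ₁, hR1⟩ := relK x hi2 hxΦ hquad g hg
  have hx2q : (ρ (x * x) - 1) * (ρ (x * x) - 1) = 0 := by
    have e : ρ (x * x) - 1 = 2 * (ρ x - 1) + (ρ x - 1) * (ρ x - 1) := by
      rw [map_mul]; noncomm_ring
    rw [e, hquad, add_zero]
    have : 2 * (ρ x - 1) * (2 * (ρ x - 1)) = 4 * ((ρ x - 1) * (ρ x - 1)) := by noncomm_ring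
    rw [this, hquad, mul_zero]
  obtain ⟨κ₂, hκ₂R', hκ₂κ₂, hxκ₂, hR2⟩ := relK (x * x)
    (fun g hg => by
      have := hi2 _ (hi2 g hg)
      have e : (x * x)⁻¹ * g * (x * x) = x⁻¹ * (x⁻¹ * g * x) * x := by group
      rw [e]; exact this)
    (fun z hz => by
      have h1 := hxΦ z hz
      calc x * x * z = x * (x * z) := by group
        _ = x * (z * x) := by rw [h1]
        _ = (x * z) * x := by group
        _ = z * x * x := by rw [h1]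
        _ = z * (x * x) := by group) hx2q g hg
  obtain ⟨a, ha⟩ : ∃ a, a = ρ x - 1 := ⟨_, rfl⟩
  obtain ⟨b, hb⟩ : ∃ b, b = ρ g * a * ρ g⁻¹ := ⟨_, rfl⟩
  have e2 : ρ (x * x) - 1 = 2 * a := by
    rw [ha, map_mul]
    have : ρ x * ρ x - 1 = 2 * (ρ x - 1) + (ρ x - 1) * (ρ x - 1) := by noncomm_ring
    rw [this, hquad, add_zero]
  rw [e2] at hR2
  rw [← ha] at hR1
  have e3 : ρ g * (2 * a) * ρ g⁻¹ = 2 * b := by rw [hb]; noncomm_ring
  rw [e3] at hR2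
  rw [← hb] at hR1
  have haa : a * a = 0 := by rw [ha]; exact hquad
  have hgg : ρ g * ρ g⁻¹ = 1 := by rw [← map_mul, mul_inv_cancel, map_one]
  have hgg' : ρ g⁻¹ * ρ g = 1 := by rw [← map_mul, inv_mul_cancel, map_one]
  have hbb : b * b = 0 := by
    rw [hb]
    calc ρ g * a * ρ g⁻¹ * (ρ g * a * ρ g⁻¹) = ρ g * a * (ρ g⁻¹ * ρ g) * a * ρ g⁻¹ := by
          noncomm_ring
      _ = ρ g * (a * a) * ρ g⁻¹ := by rw [hgg', mul_one]; noncomm_ring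
      _ = 0 := by rw [haa, mul_zero, zero_mul]
  have comm_a : ∀ κ : Γ, x * κ = κ * x → ρ κ * a = a * ρ κ := by
    intro κ h
    rw [ha, mul_sub, sub_mul, mul_one, one_mul, ← map_mul, ← map_mul, h]
  have comm_b : ∀ κ ∈ ⁅R, R⁆, x * κ = κ * x → ρ κ * b = b * ρ κ := by
    intro κ hκ h
    have h1 : ρ κ * ρ g = ρ g * ρ κ := by rw [← map_mul, ← map_mul, hcen κ hκ g hg]
    have h2 : ρ κ * ρ g⁻¹ = ρ g⁻¹ * ρ κ := by
      rw [← map_mul, ← map_mul, hcen κ hκ g⁻¹ (R.inv_mem hg)]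
    have h3 := comm_a κ h
    rw [hb]
    calc ρ κ * (ρ g * a * ρ g⁻¹) = (ρ κ * ρ g) * a * ρ g⁻¹ := by noncomm_ring
      _ = ρ g * (ρ κ * a) * ρ g⁻¹ := by rw [h1]; noncomm_ring
      _ = ρ g * a * (ρ κ * ρ g⁻¹) := by rw [h3]; noncomm_ring
      _ = ρ g * a * ρ g⁻¹ * ρ κ := by rw [h2]; noncomm_ring
  have hab : a = b := lemQ p hp5 hchar a b (ρ κ₁) (ρ κ₂) haa hbb
    (by rw [← map_mul, hκ₁κ₁, map_one]) (by rw [← map_mul, hκ₂κ₂, map_one])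
    (comm_a κ₁ hxκ₁) (comm_b κ₁ hκ₁R' hxκ₁) (comm_a κ₂ (hxΦ κ₂ (hR'Φ hκ₂R'))) (comm_b κ₂ hκ₂R' (hxΦ κ₂ (hR'Φ hκ₂R')))
    (by rw [← map_mul, ← map_mul, hcen κ₁ hκ₁R' κ₂ (hR'le hκ₂R')]) hR1 hR2
  have h1 : a * ρ g = ρ g * a := by
    have h : ρ g * a * ρ g⁻¹ = a := by rw [← hb]; exact hab.symm
    calc a * ρ g = (ρ g * a * ρ g⁻¹) * ρ g := by rw [h]
      _ = ρ g * a * (ρ g⁻¹ * ρ g) := by noncomm_ring
      _ = ρ g * a := by rw [hgg', mul_one]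
  apply hρ
  rw [map_mul, map_mul]
  have hx : ρ x = 1 + a := by rw [ha]; abel
  rw [hx, add_mul, mul_add, one_mul, mul_one, h1]

end Cfsg.Agent.Lib.Lead_TwoQuad2
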