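import Mathlib
import Cfsg.Prelude.Def_PLocal
import Cfsg.Agent.Lib.Lead_OddStab2
import Cfsg.Agent.Lib.Lead_TwoQuad2

/-!
# p-stability of solvable groups: `p ≥ 5`, or `p` odd with abelian Sylow 2-subgroups
-/

namespace Cfsg.Agent.Lib.Lead_StabG

open Cfsg.Agent.Lib.Helper4_PCore Cfsg.Agent.Lib.Lead_PStable Cfsg.Agent.Lib.Lead_QuadAct
  Cfsg.Agent.Lib.Lead_PStab2 Cfsg.Agent.Lib.Lead_OddQuad2 Cfsg.Agent.Lib.Lead_OddStab
  Cfsg.Agent.Lib.Lead_OddStab2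
open scoped commutatorElement

/-- The version of `quad_comm_conj` for an `r`-group `Q` (mod the kernel) in place of an abelian
`p'`-group. -/
theorem quad_comm_conj_g {Γ : Type*} [Group Γ] [Finite Γ] {p r : ℕ} [Fact p.Prime] [Fact r.Prime]
    (hp2 : p ≠ 2) (hcase : r ≠ 2 ∨ 5 ≤ p) (hrp : r ≠ p)
    (U : Subgroup Γ) [hU : U.Normal] (hUc : ∀ x ∈ U, ∀ y ∈ U, x * y = y * x)
    (hUp : ∀ x ∈ U, x ^ p = 1)
    (Q : Subgroup Γ)
    (hQr : ∀ x ∈ Q, ∃ k, ∀ u ∈ U, x ^ (r ^ k) * u * (x ^ (r ^ k))⁻¹ = u)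
    (a : Γ) (t : ℕ) (hat : a ^ (p ^ t) = 1)
    (ha : ∀ x ∈ Q, a * x * a⁻¹ ∈ Q) (ha' : ∀ x ∈ Q, a⁻¹ * x * a ∈ Q)
    (hquad : ∀ u ∈ U, a * (a * u * a⁻¹ * u⁻¹) * a⁻¹ = a * u * a⁻¹ * u⁻¹) :
    ∀ x ∈ Q, ∀ u ∈ U, (a * x) * u * (a * x)⁻¹ = (x * a) * u * (x * a)⁻¹ := by
  letI : CommGroup ↥U :=
    { (inferInstance : Group ↥U) with
      mul_comm := fun x y => Subtype.ext (hUc x x.2 y y.2) }
  have hθ : ∀ (g : Γ) (u : ↥U), ((MulAut.conjNormal g u : ↥U) : Γ) = g * u * g⁻¹ :=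
    fun g u => MulAut.conjNormal_apply g u
  have hext : ∀ g g' : Γ, (∀ u ∈ U, g * u * g⁻¹ = g' * u * g'⁻¹) →
      (MulAut.conjNormal g : MulAut ↥U) = MulAut.conjNormal g' := by
    intro g g' h
    ext u
    rw [hθ, hθ]
    exact h u u.2
  set θ : Γ →* MulAut ↥U := MulAut.conjNormal with hθdef
  set ρ : MulAut ↥U →* AddMonoid.End (Additive ↥U) := linAut ↥U with hρ
  have hρa : ∀ (e : MulAut ↥U) (u : ↥U), ρ e (Additive.ofMul u) = Additive.ofMul (e u) :=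
    fun e u => rfl
  have hUp' : ∀ u : ↥U, u ^ p = 1 := fun u => Subtype.ext (by simpa using hUp u u.2)
  have hchar : ((p : ℕ) : AddMonoid.End (Additive ↥U)) = 0 := by
    ext u
    rw [AddMonoid.End.natCast_apply]
    obtain ⟨u', rfl⟩ := Additive.ofMul.surjective u
    rw [← ofMul_pow, hUp']
    rfl
  have hquad' : ∀ u : ↥U, θ a (θ a u / u) = θ a u / u := by
    intro u
    apply Subtype.ext
    rw [hθ]
    have e : (((θ a u : ↥U) / u : ↥U) : Γ) = a * u * a⁻¹ * (u : Γ)⁻¹ := by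
      rw [div_eq_mul_inv]
      simp only [Subgroup.coe_mul, Subgroup.coe_inv, hθ]
    rw [e]
    exact hquad u u.2
  have hq : (ρ (θ a) - 1) * (ρ (θ a) - 1) = 0 := by
    have e0 : ∀ (f : AddMonoid.End (Additive ↥U)) (v : Additive ↥U), (f - 1) v = f v - v :=
      fun f v => rfl
    refine AddMonoidHom.ext fun u => ?_
    obtain ⟨u', rfl⟩ := Additive.ofMul.surjective u
    show (ρ (θ a) - 1) ((ρ (θ a) - 1) (Additive.ofMul u')) = 0
    have e1 : (ρ (θ a) - 1) (Additive.ofMul u') = Additive.ofMul (θ a u' / u') := by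
      rw [e0, hρa, ofMul_div]
    rw [e1, e0, hρa, hquad']
    exact sub_self _
  have hisP : IsPGroup r ↥(Q.map θ) := by
    rintro ⟨_, x, hx, rfl⟩
    obtain ⟨k, hk⟩ := hQr x hx
    refine ⟨k, Subtype.ext ?_⟩
    show (θ x) ^ (r ^ k) = 1
    rw [← map_pow, ← map_one θ]
    apply hext
    intro u hu
    rw [hk u hu]; simp
  have hA1 : ∀ g ∈ Q.map θ, θ a * g * (θ a)⁻¹ ∈ Q.map θ := by
    rintro _ ⟨x, hx, rfl⟩
    exact ⟨a * x * a⁻¹, ha x hx, by rw [map_mul, map_mul, map_inv]⟩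
  have hA2 : ∀ g ∈ Q.map θ, (θ a)⁻¹ * g * θ a ∈ Q.map θ := by
    rintro _ ⟨x, hx, rfl⟩
    exact ⟨a⁻¹ * x * a, ha' x hx, by rw [map_mul, map_mul, map_inv]⟩
  have hat' : (θ a) ^ (p ^ t) = 1 := by rw [← map_pow, hat, map_one]
  have key : ∀ g ∈ Q.map θ, θ a * g = g * θ a := by
    by_cases hr2 : r = 2
    · rcases hcase with h | hp5
      · exact absurd hr2 h
      · subst hr2
        exact Cfsg.Agent.Lib.Lead_TwoQuad2.main_M2 ρ (linAut_injective ↥U) p hp5 hchar (θ a) t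
          hat' hq (Nat.card ↥(Q.map θ)) (Q.map θ) hisP rfl hA1 hA2
    · exact main_M ρ (linAut_injective ↥U) p r hp2 hr2 hrp hchar (θ a) t
        hat' hq (Nat.card ↥(Q.map θ)) (Q.map θ) hisP rfl hA1 hA2
  intro x hx u hu
  have h1 := key (θ x) ⟨x, hx, rfl⟩
  rw [← map_mul, ← map_mul] at h1
  have h2 := congrArg (fun e : MulAut ↥U => ((e ⟨u, hu⟩ : ↥U) : Γ)) h1
  simp only [hθ] at h2
  exact h2

section
variable {G : Type*} [Group G] [Finite G] {p : ℕ} [Fact p.Prime]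

set_option maxHeartbeats 1600000 in
/-- Key claim: `p'`-powers of the commutators `[a, x]`, `x ∈ L`, centralize every normal
`p`-subgroup `V₁ ≤ V` (on which `a` acts quadratically). -/
theorem claimG (hp2 : p ≠ 2) {r : ℕ} [Fact r.Prime] (hrp : r ≠ p)
    (V N L : Subgroup G) [hNn : N.Normal] (hVN : V ≤ N)
    (hNV : ∀ V₁ : Subgroup G, V₁.Normal → V₁ ≤ V → V₁ ≠ ⊥ → ⁅V₁, N⁆ ≠ V₁)
    (K : ℕ) (hL : ∀ l ∈ L, l ^ (r ^ K) ∈ N)
    (hcase : (r ≠ 2 ∨ 5 ≤ p) ∨ (∀ x ∈ L, ∀ y ∈ L, (x * y)⁻¹ * (y * x) ∈ N)) (a : G) (t : ℕ) (hat : a ^ (p ^ t) = 1)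
    (haL1 : ∀ l ∈ L, a * l * a⁻¹ ∈ L) (haL2 : ∀ l ∈ L, a⁻¹ * l * a ∈ L) :
    ∀ n : ℕ, ∀ V₁ : Subgroup G, V₁.Normal → IsPGroup p V₁ → V₁ ≤ V → Nat.card V₁ = n →
      (∀ v ∈ V₁, a * (a * v * a⁻¹ * v⁻¹) * a⁻¹ = a * v * a⁻¹ * v⁻¹) →
      ∀ x ∈ L, ∀ y ∈ Subgroup.zpowers ((x * a)⁻¹ * (a * x)), (orderOf y).Coprime p →
        y ∈ Subgroup.centralizer (V₁ : Set G) := by
  intro n
  induction n using Nat.strong_induction_on with
  | _ n ih =>
  intro V₁ hV₁n hV₁p hV₁V hcard hq x hx y hy hycop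
  by_cases hbot : V₁ = ⊥
  · subst hbot
    rw [Subgroup.mem_centralizer_iff]
    intro h hh
    have : h = 1 := by simpa using hh
    rw [this, one_mul, mul_one]
  haveI := hV₁n
  have hV₁N : V₁ ≤ N := hV₁V.trans hVN
  set V₂ := frat p V₁ N with hV₂
  haveI hV₂n : V₂.Normal := frat_normal p V₁ N
  have hV₂le : V₂ ≤ V₁ := frat_le p V₁ N
  have hV₂ne : V₂ ≠ V₁ := frat_ne' V₁ N hV₁p (hNV V₁ hV₁n hV₁V hbot)
  have hlt : Nat.card V₂ < Nat.card V₁ :=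
    Cfsg.Agent.Lib.Lead_SZ.card_lt (lt_of_le_of_ne hV₂le hV₂ne)
  have hy2 : y ∈ Subgroup.centralizer (V₂ : Set G) :=
    ih (Nat.card V₂) (hcard ▸ hlt) V₂ hV₂n (hV₁p.to_le hV₂le) (hV₂le.trans hV₁V) rfl
      (fun v hv => hq v (hV₂le hv)) x hx y hy hycop
  -- the quotient
  set π := QuotientGroup.mk' V₂ with hπ
  have hπs : Function.Surjective π := QuotientGroup.mk'_surjective V₂
  haveI hUn : (V₁.map π).Normal := hV₁n.map π hπs
  have hmem : ∀ g : G, π g = 1 ↔ g ∈ V₂ := fun g => QuotientGroup.eq_one_iff g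
  have hcomm_mem : ∀ v ∈ V₁, ∀ h ∈ N, v * h * v⁻¹ * h⁻¹ ∈ V₂ := by
    intro v hv h hh
    have := Subgroup.commutator_mem_commutator hv hh
    rw [commutatorElement_def] at this
    exact (le_sup_left : ⁅V₁, N⁆ ≤ frat p V₁ N) this
  have hpow_mem : ∀ v ∈ V₁, v ^ p ∈ V₂ := fun v hv =>
    (le_sup_right : _ ≤ frat p V₁ N) (Subgroup.subset_closure ⟨v, hv, rfl⟩)
  have hNtriv : ∀ h ∈ N, ∀ v ∈ V₁, π h * π v * (π h)⁻¹ = π v := by
    intro h hh v hv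
    have h1 : π (v * h * v⁻¹ * h⁻¹) = 1 := (hmem _).2 (hcomm_mem v hv h hh)
    simp only [map_mul, map_inv] at h1
    have h2 : π v * π h = π h * π v := by
      calc π v * π h = (π v * π h * (π v)⁻¹ * (π h)⁻¹) * (π h * π v) := by group
        _ = π h * π v := by rw [h1, one_mul]
    rw [← h2]; group
  have hUc : ∀ x ∈ V₁.map π, ∀ y ∈ V₁.map π, x * y = y * x := by
    rintro _ ⟨v, hv, rfl⟩ _ ⟨w, hw, rfl⟩
    have := hNtriv w (hV₁N hw) v hv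
    calc π v * π w = (π w * π v * (π w)⁻¹) * π w := by rw [this]
      _ = π w * π v := by group
  have hUp : ∀ x ∈ V₁.map π, x ^ p = 1 := by
    rintro _ ⟨v, hv, rfl⟩
    rw [← map_pow]
    exact (hmem _).2 (hpow_mem v hv)
  have hLa1 : ∀ x ∈ L.map π, π a * x * (π a)⁻¹ ∈ L.map π := by
    rintro _ ⟨l, hl, rfl⟩
    exact ⟨a * l * a⁻¹, haL1 l hl, by simp only [map_mul, map_inv]⟩
  have hLa2 : ∀ x ∈ L.map π, (π a)⁻¹ * x * π a ∈ L.map π := by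
    rintro _ ⟨l, hl, rfl⟩
    exact ⟨a⁻¹ * l * a, haL2 l hl, by simp only [map_mul, map_inv]⟩
  have hqa : ∀ u ∈ V₁.map π, π a * (π a * u * (π a)⁻¹ * u⁻¹) * (π a)⁻¹ = π a * u * (π a)⁻¹ * u⁻¹ := by
    rintro _ ⟨v, hv, rfl⟩
    have := congrArg π (hq v hv)
    simpa only [map_mul, map_inv] using this
  have hpowtriv : ∀ x ∈ L.map π, ∀ u ∈ V₁.map π, x ^ (r ^ K) * u * (x ^ (r ^ K))⁻¹ = u := by
    rintro _ ⟨l, hl, rfl⟩ _ ⟨v, hv, rfl⟩
    rw [← map_pow]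
    exact hNtriv _ (hL l hl) v hv
  have key : ∀ x ∈ L.map π, ∀ u ∈ V₁.map π,
      (π a * x) * u * (π a * x)⁻¹ = (x * π a) * u * (x * π a)⁻¹ := by
    rcases hcase with hc | hc
    · exact quad_comm_conj_g (Γ := G ⧸ V₂) hp2 hc hrp (V₁.map π) hUc hUp (L.map π)
        (fun x hx => ⟨K, hpowtriv x hx⟩) (π a) t (by rw [← map_pow, hat, map_one]) hLa1 hLa2 hqa
    · have hrcop : (r ^ K).Coprime p :=
        Nat.Coprime.pow_left _ ((Nat.coprime_primes (Fact.out : r.Prime) (Fact.out : p.Prime)).2 hrp)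
      refine quad_comm_conj (Γ := G ⧸ V₂) hp2 (V₁.map π) hUc hUp (L.map π) ?_ (r ^ K) hrcop
        hpowtriv (π a) hLa1 hLa2 hqa
      rintro _ ⟨l, hl, rfl⟩ _ ⟨l', hl', rfl⟩ _ ⟨v, hv, rfl⟩
      have hn := hc l hl l' hl'
      have h1 := hNtriv _ hn v hv
      have e : π l' * π l = π l * π l' * π ((l * l')⁻¹ * (l' * l)) := by
        simp only [map_mul, map_inv]; group
      rw [e]
      calc π l * π l' * π v * (π l * π l')⁻¹
          = π l * π l' * (π ((l * l')⁻¹ * (l' * l)) * π v * (π ((l * l')⁻¹ * (l' * l)))⁻¹) *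
            (π l * π l')⁻¹ := by rw [h1]
        _ = π l * π l' * π ((l * l')⁻¹ * (l' * l)) * π v *
            (π l * π l' * π ((l * l')⁻¹ * (l' * l)))⁻¹ := by group
  -- the commutator `c` acts trivially on `V₁ / V₂`
  set c := (x * a)⁻¹ * (a * x) with hc
  set Cen : Subgroup G := (Subgroup.centralizer ((V₁.map π : Subgroup (G ⧸ V₂)) : Set (G ⧸ V₂))).comap π
    with hCen
  have hcCen : c ∈ Cen := by
    rw [hCen, Subgroup.mem_comap, Subgroup.mem_centralizer_iff]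
    rintro _ ⟨v, hv, rfl⟩
    have h1 := key (π x) ⟨x, hx, rfl⟩ (π v) ⟨v, hv, rfl⟩
    have e : π c = (π x * π a)⁻¹ * (π a * π x) := by
      rw [hc]; simp only [map_mul, map_inv]
    rw [e]
    calc π v * ((π x * π a)⁻¹ * (π a * π x))
        = (π x * π a)⁻¹ * ((π x * π a) * π v * (π x * π a)⁻¹) * (π a * π x) := by group
      _ = (π x * π a)⁻¹ * ((π a * π x) * π v * (π a * π x)⁻¹) * (π a * π x) := by rw [h1]
      _ = (π x * π a)⁻¹ * (π a * π x) * π v := by group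
  have hzc : Subgroup.zpowers c ≤ Cen := Subgroup.zpowers_le.2 hcCen
  have hzy : Subgroup.zpowers y ≤ Cen := Subgroup.zpowers_le.2 (hzc hy)
  have hquad_y : ⁅⁅V₁, Subgroup.zpowers y⁆, Subgroup.zpowers y⁆ = ⊥ := by
    have s1 : ⁅V₁, Subgroup.zpowers y⁆ ≤ V₂ := by
      rw [Subgroup.commutator_le]
      intro v hv z hz
      have hz' := hzy hz
      rw [hCen, Subgroup.mem_comap, Subgroup.mem_centralizer_iff] at hz'
      have h1 := hz' (π v) ⟨v, hv, rfl⟩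
      rw [commutatorElement_def, ← hmem]
      simp only [map_mul, map_inv]
      rw [h1]; group
    have s2 : ⁅V₂, Subgroup.zpowers y⁆ = ⊥ := by
      rw [Subgroup.commutator_eq_bot_iff_le_centralizer]
      intro v hv
      rw [Subgroup.mem_centralizer_iff]
      intro z hz
      have hz' : z ∈ Subgroup.centralizer (V₂ : Set G) :=
        (Subgroup.zpowers_le.2 hy2 : Subgroup.zpowers y ≤ _) hz
      rw [Subgroup.mem_centralizer_iff] at hz'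
      exact (hz' v hv).symm
    rw [eq_bot_iff]
    calc ⁅⁅V₁, Subgroup.zpowers y⁆, Subgroup.zpowers y⁆
        ≤ ⁅V₂, Subgroup.zpowers y⁆ := Subgroup.commutator_mono s1 le_rfl
      _ = ⊥ := s2
  exact coprime_quad_trivial V₁ hV₁p y hycop hquad_y


end

section
variable {Γ : Type*} [Group Γ] [Finite Γ]

set_option maxHeartbeats 1600000 in
/-- **p-stability of solvable groups**, `p ≥ 5` or `p` odd with abelian Sylow `2`-subgroups. -/
theorem stableG [Group.IsSolvable Γ] (p : ℕ) [Fact p.Prime] (hp2 : p ≠ 2)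
    (h2 : 5 ≤ p ∨ ∀ T : Sylow 2 Γ, IsMulCommutative T)
    (V : Subgroup Γ) [hVn : V.Normal] (hVp : IsPGroup p V) : Cfsg.IsPStableOn p V := by
  have hpp : p.Prime := Fact.out
  apply stableOn_of_pElements V hVp
  rintro a ⟨t, hat⟩ hquad
  have hq : ∀ v ∈ V, a * (a * v * a⁻¹ * v⁻¹) * a⁻¹ = a * v * a⁻¹ * v⁻¹ := by
    intro v hv
    have h1 : ⁅v, a⁆ ∈ ⁅V, Subgroup.zpowers a⁆ :=
      Subgroup.commutator_mem_commutator hv (Subgroup.mem_zpowers a)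
    have h2 : ⁅⁅v, a⁆, a⁆ = 1 := by
      have := Subgroup.commutator_mem_commutator h1 (Subgroup.mem_zpowers a)
      rwa [hquad, Subgroup.mem_bot] at this
    rw [commutatorElement_def, commutatorElement_def] at h2
    obtain ⟨w, hw⟩ : ∃ w, w = v * a * v⁻¹ * a⁻¹ := ⟨_, rfl⟩
    rw [← hw] at h2
    have h3 : w * a = a * w := by
      calc w * a = (w * a * w⁻¹ * a⁻¹) * (a * w) := by group
        _ = a * w := by rw [h2, one_mul]
    have e : a * v * a⁻¹ * v⁻¹ = w⁻¹ := by rw [hw]; group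
    rw [e]
    calc a * w⁻¹ * a⁻¹ = w⁻¹ * (w * a) * w⁻¹ * a⁻¹ := by group
      _ = w⁻¹ * (a * w) * w⁻¹ * a⁻¹ := by rw [h3]
      _ = w⁻¹ := by group
  set C := Subgroup.centralizer (V : Set Γ) with hC
  set π := QuotientGroup.mk' C with hπ
  have hπs : Function.Surjective π := QuotientGroup.mk'_surjective C
  set O := Cfsg.pCore p (Γ ⧸ C) with hO
  haveI hOn : O.Normal := pCore_normal p _
  set π₂ := QuotientGroup.mk' O with hπ₂
  set ψ : Γ →* (Γ ⧸ C) ⧸ O := π₂.comp π with hψ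
  have hψs : Function.Surjective ψ := (QuotientGroup.mk'_surjective O).comp hπs
  set N : Subgroup Γ := O.comap π with hN
  haveI hNn : N.Normal := hOn.comap π
  have hψ1 : ∀ g, ψ g = 1 ↔ g ∈ N := by
    intro g
    show π₂ (π g) = 1 ↔ π g ∈ O
    exact QuotientGroup.eq_one_iff (π g)
  suffices h : ψ a = 1 from (hψ1 a).1 h
  have hOQ : Cfsg.pCore p ((Γ ⧸ C) ⧸ O) = ⊥ := pCore_quot_pCore p (Γ ⧸ C)
  have hâ : (ψ a) ^ (p ^ t) = 1 := by rw [← map_pow, hat, map_one]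
  have hVN : V ≤ N := by
    intro v hv
    show π v ∈ O
    exact le_pCore (V.map π) (hVn.map π hπs) (hVp.map π) ⟨v, hv, rfl⟩
  have hCN : C ≤ N := by
    intro c hc
    show π c ∈ O
    have : π c = 1 := (QuotientGroup.eq_one_iff c).2 hc
    rw [this]; exact Subgroup.one_mem _
  have hNV : ∀ V₁ : Subgroup Γ, V₁.Normal → V₁ ≤ V → V₁ ≠ ⊥ → ⁅V₁, N⁆ ≠ V₁ :=
    fun V₁ h1 h2 h3 => comm_ne_of_pcore V hVp V₁ h1 h2 h3
  -- `ψ a` centralizes every `q`-core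
  have hcent : ∀ q : Nat.Primes, Cfsg.pCore (q : ℕ) ((Γ ⧸ C) ⧸ O) ≤
      Subgroup.centralizer ({ψ a} : Set ((Γ ⧸ C) ⧸ O)) := by
    intro q
    haveI : Fact (q : ℕ).Prime := ⟨q.2⟩
    intro h hh
    rw [Subgroup.mem_centralizer_iff]
    intro z hz
    rw [Set.mem_singleton_iff] at hz
    rw [hz]
    by_cases hqp : (q : ℕ) = p
    · rw [hqp, hOQ, Subgroup.mem_bot] at hh
      rw [hh, mul_one, one_mul]
    -- the main case
    obtain ⟨g, rfl⟩ := hψs h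
    set L : Subgroup Γ := (Cfsg.pCore (q : ℕ) ((Γ ⧸ C) ⧸ O)).comap ψ with hL
    have hgL : g ∈ L := hh
    have hLn : L.Normal := (pCore_normal (q : ℕ) _).comap ψ
    obtain ⟨K, hK⟩ := (pCore_isPGroup (G := (Γ ⧸ C) ⧸ O) (p := (q : ℕ))).exists_card_eq
    have hLr : ∀ l ∈ L, l ^ ((q : ℕ) ^ K) ∈ N := by
      intro l hl
      have h1 : (⟨ψ l, hl⟩ : ↥(Cfsg.pCore (q : ℕ) ((Γ ⧸ C) ⧸ O))) ^
          Nat.card ↥(Cfsg.pCore (q : ℕ) ((Γ ⧸ C) ⧸ O)) = 1 := pow_card_eq_one'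
      rw [hK] at h1
      have h2' : (ψ l) ^ ((q : ℕ) ^ K) = 1 := by simpa using congrArg Subtype.val h1
      exact (hψ1 _).1 (by rw [map_pow]; exact h2')
    have hcase : ((q : ℕ) ≠ 2 ∨ 5 ≤ p) ∨ (∀ x ∈ L, ∀ y ∈ L, (x * y)⁻¹ * (y * x) ∈ N) := by
      by_cases hq2 : (q : ℕ) = 2
      · rcases h2 with h5 | hab
        · exact Or.inl (Or.inr h5)
        · right
          intro x hx y hy
          haveI : Fact (Nat.Prime 2) := ⟨Nat.prime_two⟩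
          obtain ⟨T⟩ : Nonempty (Sylow 2 Γ) := inferInstance
          have hOT : Cfsg.pCore 2 ((Γ ⧸ C) ⧸ O) ≤ (T : Subgroup Γ).map ψ := by
            rw [← Sylow.coe_mapSurjective hψs T]
            exact pCore_le_sylow _
          have hx' : ψ x ∈ Cfsg.pCore 2 ((Γ ⧸ C) ⧸ O) := by
            have := hx
            rwa [hL, Subgroup.mem_comap, hq2] at this
          have hy' : ψ y ∈ Cfsg.pCore 2 ((Γ ⧸ C) ⧸ O) := by
            have := hy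
            rwa [hL, Subgroup.mem_comap, hq2] at this
          obtain ⟨t₁, ht₁, e₁⟩ := hOT hx'
          obtain ⟨t₂, ht₂, e₂⟩ := hOT hy'
          have hc : t₁ * t₂ = t₂ * t₁ := by
            have := @mul_comm' _ _ (hab T) (⟨t₁, ht₁⟩ : T) ⟨t₂, ht₂⟩
            exact congrArg Subtype.val this
          rw [← hψ1, map_mul, map_inv, map_mul, map_mul, ← e₁, ← e₂, ← map_mul, ← map_mul, hc,
            inv_mul_cancel]
      · exact Or.inl (Or.inl hq2)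
    obtain ⟨c, hc⟩ : ∃ c, c = (g * a)⁻¹ * (a * g) := ⟨_, rfl⟩
    obtain ⟨c₁, h1, c₂, h2, hdec, ⟨t', hp1⟩, hp2'⟩ := exists_p_decomp p c
    have hc2 : c₂ ∈ C := by
      rw [hc] at h2
      exact claimG hp2 (r := (q : ℕ)) hqp V N L hVN hNV K hLr hcase a t hat
        (fun l hl => hLn.conj_mem l hl a)
        (fun l hl => by
          have := hLn.conj_mem l hl a⁻¹
          rwa [inv_inv] at this)
        (Nat.card V) V hVn hVp le_rfl rfl hq g hgL c₂ h2 hp2'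
    have hψc2 : ψ c₂ = 1 := (hψ1 c₂).2 (hCN hc2)
    have hψc : ψ c = ψ c₁ := by rw [hdec, map_mul, hψc2, mul_one]
    have hψcL : ψ c ∈ Cfsg.pCore (q : ℕ) ((Γ ⧸ C) ⧸ O) := by
      have e : ψ c = ((ψ a)⁻¹ * (ψ g)⁻¹ * (ψ a)⁻¹⁻¹) * ψ g := by
        rw [hc]; simp only [map_mul, map_inv]; group
      rw [e]
      exact Subgroup.mul_mem _ ((pCore_normal (q : ℕ) _).conj_mem _ (Subgroup.inv_mem _ hh) _) hh
    obtain ⟨k₂, hk₂⟩ := (pCore_isPGroup (G := (Γ ⧸ C) ⧸ O) (p := (q : ℕ))) ⟨ψ c, hψcL⟩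
    have hk₂' : (ψ c) ^ ((q : ℕ) ^ k₂) = 1 := by simpa using congrArg Subtype.val hk₂
    have hp1' : (ψ c) ^ (p ^ t') = 1 := by rw [hψc, ← map_pow, hp1, map_one]
    have hc1 : ψ c = 1 := eq_one_of_pow hqp hp1' hk₂'
    have e2 : ψ c = (ψ g * ψ a)⁻¹ * (ψ a * ψ g) := by
      rw [hc]; simp only [map_mul, map_inv]
    rw [e2] at hc1
    exact (inv_mul_eq_one.1 hc1).symm
  have hF : ψ a ∈ Subgroup.centralizer
      ((Cfsg.Agent.Lib.Lead_Fitting.F0 ((Γ ⧸ C) ⧸ O) : Subgroup ((Γ ⧸ C) ⧸ O)) : Set ((Γ ⧸ C) ⧸ O)) := by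
    rw [Subgroup.mem_centralizer_iff]
    intro h hh
    have hle : Cfsg.Agent.Lib.Lead_Fitting.F0 ((Γ ⧸ C) ⧸ O) ≤
        Subgroup.centralizer ({ψ a} : Set ((Γ ⧸ C) ⧸ O)) := iSup_le hcent
    have := hle hh
    rw [Subgroup.mem_centralizer_iff] at this
    exact (this (ψ a) rfl).symm
  rw [← Cfsg.Agent.Lib.Lead_Fitting.fitting_eq] at hF
  have hF2 : ψ a ∈ Cfsg.fittingSubgroup ((Γ ⧸ C) ⧸ O) := Cfsg.Agent.S0044.result hF
  rw [Cfsg.Agent.Lib.Lead_Fitting.fitting_eq] at hF2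
  have hF3 := Cfsg.Agent.Lib.Lead_Fitting.F0_le ((Γ ⧸ C) ⧸ O) p hF2
  rw [hOQ, bot_sup_eq] at hF3
  obtain ⟨hYn, hYc⟩ := Cfsg.Agent.Lib.Lead_Fitting.Y_spec ((Γ ⧸ C) ⧸ O) p
  have h1 : orderOf (ψ a) ∣ p ^ t := orderOf_dvd_of_pow_eq_one hâ
  have h2 : orderOf (ψ a) ∣ Nat.card ↥(Cfsg.Agent.Lib.Lead_Fitting.Y ((Γ ⧸ C) ⧸ O) p) := by
    have := orderOf_dvd_natCard (⟨ψ a, hF3⟩ : ↥(Cfsg.Agent.Lib.Lead_Fitting.Y ((Γ ⧸ C) ⧸ O) p))
    rwa [Subgroup.orderOf_mk] at this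
  have h3 : orderOf (ψ a) = 1 :=
    Nat.eq_one_of_dvd_coprimes (Nat.Coprime.pow_right t hYc) h2 h1
  exact orderOf_eq_one_iff.1 h3


end

end Cfsg.Agent.Lib.Lead_StabG
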