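import Mathlib
import Cfsg.Prelude.Def_PLocal
import Cfsg.Agent.Lib.Lead_StabG
import Cfsg.Agent.Lib.Helper6_HallHigman
import Cfsg.Agent.Lib.Lead_Coprime

/-!
# p-stability of p-solvable groups, `p ≥ 5`
-/

set_option autoImplicit false

namespace Cfsg.Agent.Lib.Lead_StabSep

open Cfsg.Agent.Lib.Helper7_PSolvable

/-- The dual of Hall–Higman Lemma 1.2.3: in a `p`-solvable group with trivial `p`-core, the
`p'`-core contains its centralizer. -/
theorem centralizer_pPrimeCore_le {H : Type*} [Group H] [Finite H] {p : ℕ} [hfact : Fact p.Prime]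
    (hsol : Cfsg.IsPSolvable p H) (hO : Cfsg.pCore p H = ⊥) :
    Subgroup.centralizer (Cfsg.pPrimeCore p H : Set H) ≤ Cfsg.pPrimeCore p H := by
  classical
  have hp := hfact.out
  set P : Subgroup H := Cfsg.pPrimeCore p H with hP
  have hPn : P.Normal := Cfsg.Agent.Lib.Helper5_PPrime.pPrimeCore_normal p H
  have hPp : (Nat.card P).Coprime p := Cfsg.Agent.Lib.Helper5_PPrime.pPrimeCore_coprime p H
  set C : Subgroup H := Subgroup.centralizer (P : Set H) with hC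
  have hCn : C.Normal := Subgroup.normal_centralizer
  set Z : Subgroup H := C ⊓ P with hZ
  have hZn : Z.Normal := inferInstance
  have hZp : (Nat.card Z).Coprime p :=
    Nat.Coprime.coprime_dvd_left (Subgroup.card_dvd_of_le inf_le_right) hPp
  by_contra hcon
  have hCZ : ¬ C ≤ Z := fun h => hcon (h.trans inf_le_right)
  set N : Subgroup (H ⧸ Z) := C.map (QuotientGroup.mk' Z) with hN
  have hNn : N.Normal := Subgroup.Normal.map hCn _ (QuotientGroup.mk'_surjective Z)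
  have hN1 : N ≠ ⊥ := by
    intro h
    apply hCZ
    intro c hc
    have h1 : (QuotientGroup.mk' Z) c ∈ N := Subgroup.mem_map_of_mem _ hc
    rw [h, Subgroup.mem_bot] at h1
    have h2 : c ∈ (QuotientGroup.mk' Z).ker := h1
    rwa [QuotientGroup.ker_mk'] at h2
  obtain ⟨Kb, hKbn, hKbN, hKb1, hKbc⟩ :=
    Cfsg.Agent.Lib.Helper6_HallHigman.exists_normal_PorC_le hp
      (Cfsg.Agent.Lib.Helper7_PSolvable.quotient hp hsol Z) N hN1
  set D : Subgroup H := Kb.comap (QuotientGroup.mk' Z) with hD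
  have hDn : D.Normal := hKbn.comap _
  have hZD : Z ≤ D := Cfsg.Agent.Lib.Lead_Hall.le_comap_mk Z Kb
  have hDC : D ≤ C := by
    intro d hd
    have h1 : (QuotientGroup.mk' Z) d ∈ N := hKbN hd
    obtain ⟨c, hc, hcd⟩ := h1
    have h3 : c⁻¹ * d ∈ Z := by
      rw [← QuotientGroup.ker_mk' Z, MonoidHom.mem_ker, map_mul, map_inv, hcd]
      group
    have h4 : d = c * (c⁻¹ * d) := by group
    rw [h4]
    exact C.mul_mem hc h3.1
  have hDcard : Nat.card D = Nat.card Kb * Nat.card Z :=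
    Cfsg.Agent.Lib.Lead_Hall.card_comap_mk Z Kb
  have hmapD : D.map (QuotientGroup.mk' Z) = Kb :=
    Subgroup.map_comap_eq_self_of_surjective (QuotientGroup.mk'_surjective Z) Kb
  have hDZ : ¬ D ≤ Z := by
    intro h
    apply hKb1
    rw [eq_bot_iff, ← hmapD]
    rintro _ ⟨d, hd, rfl⟩
    rw [Subgroup.mem_bot]
    have : d ∈ (QuotientGroup.mk' Z).ker := by rw [QuotientGroup.ker_mk']; exact h hd
    exact this
  rcases hKbc with ⟨m, hm⟩ | hcop
  · -- `D / Z` is a `p`-group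
    have hcop' : (p ^ m).Coprime (Nat.card Z) := Nat.Coprime.pow_left m hZp.symm
    obtain ⟨K, hKD, hKcard, hKdec⟩ :=
      Cfsg.Agent.Lib.Lead_Hall.exists_complement_in Z D hZD (p ^ m) (by rw [hDcard, hm]) hcop'
    have hKn : K.Normal := by
      refine ⟨fun k hk h => ?_⟩
      have h1 : h * k * h⁻¹ ∈ D := hDn.conj_mem k (hKD hk) h
      obtain ⟨z', hz', k', hk', hzk⟩ := hKdec _ h1
      have hkm : k ^ (p ^ m) = 1 := by
        have := pow_card_eq_one' (G := K) (x := ⟨k, hk⟩)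
        rw [hKcard] at this
        exact congrArg Subtype.val this
      have hk'm : k' ^ (p ^ m) = 1 := by
        have := pow_card_eq_one' (G := K) (x := ⟨k', hk'⟩)
        rw [hKcard] at this
        exact congrArg Subtype.val this
      have hcomm : Commute z' k' := by
        have hk'C : k' ∈ C := hDC (hKD hk')
        have := Subgroup.mem_centralizer_iff.mp hk'C z' hz'.2
        exact this
      have h2 : (h * k * h⁻¹) ^ (p ^ m) = 1 := by rw [conj_pow, hkm]; group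
      rw [hzk, hcomm.mul_pow, hk'm, mul_one] at h2
      have h3 : orderOf z' ∣ p ^ m := orderOf_dvd_of_pow_eq_one h2
      have h4 : orderOf z' ∣ Nat.card Z := by
        have := orderOf_dvd_natCard (⟨z', hz'⟩ : Z)
        rwa [Subgroup.orderOf_mk] at this
      have h5 : orderOf z' = 1 :=
        Nat.eq_one_of_dvd_coprimes hcop' h3 h4
      rw [orderOf_eq_one_iff] at h5
      rw [hzk, h5, one_mul]
      exact hk'
    have hKle : K ≤ Cfsg.pCore p H :=
      Cfsg.Agent.Lib.Helper7_PCore.le_pCore hKn (IsPGroup.of_card hKcard)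
    rw [hO, le_bot_iff] at hKle
    have hm1 : p ^ m = 1 := by rw [← hKcard, hKle, Subgroup.card_bot]
    apply hKb1
    exact Subgroup.card_eq_one.mp (hm ▸ hm1)
  · -- `D` is a normal `p'`-subgroup
    have hDp : (Nat.card D).Coprime p := by
      rw [hDcard]; exact Nat.Coprime.mul_left hcop hZp
    have hDP : D ≤ P := Cfsg.Agent.Lib.Helper5_PPrime.le_pPrimeCore (hN := hDn) D hDp
    exact hDZ (le_inf hDC hDP)


open Cfsg.Agent.Lib.Helper4_PCore Cfsg.Agent.Lib.Lead_PStable Cfsg.Agent.Lib.Lead_QuadAct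
  Cfsg.Agent.Lib.Lead_PStab2 Cfsg.Agent.Lib.Lead_OddQuad2 Cfsg.Agent.Lib.Lead_OddStab
  Cfsg.Agent.Lib.Lead_OddStab2 Cfsg.Agent.Lib.Lead_StabG
open scoped commutatorElement

section
variable {Γ : Type*} [Group Γ] [Finite Γ]

set_option maxHeartbeats 1600000 in
/-- **p-stability of p-solvable groups**, `p ≥ 5`. -/
theorem stableSep (p : ℕ) [Fact p.Prime] (hp5 : 5 ≤ p) (hsol : Cfsg.IsPSolvable p Γ)
    (V : Subgroup Γ) [hVn : V.Normal] (hVp : IsPGroup p V) : Cfsg.IsPStableOn p V := by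
  have hpp : p.Prime := Fact.out
  have hp2 : p ≠ 2 := by omega
  apply stableOn_of_pElements V hVp
  rintro a ⟨t, hat⟩ hquad
  have hq : ∀ v ∈ V, a * (a * v * a⁻¹ * v⁻¹) * a⁻¹ = a * v * a⁻¹ * v⁻¹ := by
    intro v hv
    have h1 : ⁅v, a⁆ ∈ ⁅V, Subgroup.zpowers a⁆ :=
      Subgroup.commutator_mem_commutator hv (Subgroup.mem_zpowers a)
    have h2 : ⁅⁅v, a⁆, a⁆ = 1 := by
      have := Subgroup.commutator_mem_commutator h1 (Subgroup.mem_zpowers a)
      rwa [hquad, Subgroup.mem_bot] at this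
    rw [commutatorElement_def, commutatorElement_def] at h2
    obtain ⟨w, hw⟩ : ∃ w, w = v * a * v⁻¹ * a⁻¹ := ⟨_, rfl⟩
    rw [← hw] at h2
    have h3 : w * a = a * w := by
      calc w * a = (w * a * w⁻¹ * a⁻¹) * (a * w) := by group
        _ = a * w := by rw [h2, one_mul]
    have e : a * v * a⁻¹ * v⁻¹ = w⁻¹ := by rw [hw]; group
    rw [e]
    calc a * w⁻¹ * a⁻¹ = w⁻¹ * (w * a) * w⁻¹ * a⁻¹ := by group
      _ = w⁻¹ * (a * w) * w⁻¹ * a⁻¹ := by rw [h3]
      _ = w⁻¹ := by group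
  set C := Subgroup.centralizer (V : Set Γ) with hC
  set π := QuotientGroup.mk' C with hπ
  have hπs : Function.Surjective π := QuotientGroup.mk'_surjective C
  set O := Cfsg.pCore p (Γ ⧸ C) with hO
  haveI hOn : O.Normal := pCore_normal p _
  set π₂ := QuotientGroup.mk' O with hπ₂
  set ψ : Γ →* (Γ ⧸ C) ⧸ O := π₂.comp π with hψ
  have hψs : Function.Surjective ψ := (QuotientGroup.mk'_surjective O).comp hπs
  set N : Subgroup Γ := O.comap π with hN
  haveI hNn : N.Normal := hOn.comap π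
  have hψ1 : ∀ g, ψ g = 1 ↔ g ∈ N := by
    intro g
    show π₂ (π g) = 1 ↔ π g ∈ O
    exact QuotientGroup.eq_one_iff (π g)
  suffices h : ψ a = 1 from (hψ1 a).1 h
  have hOQ : Cfsg.pCore p ((Γ ⧸ C) ⧸ O) = ⊥ := pCore_quot_pCore p (Γ ⧸ C)
  have hâ : (ψ a) ^ (p ^ t) = 1 := by rw [← map_pow, hat, map_one]
  have hVN : V ≤ N := by
    intro v hv
    show π v ∈ O
    exact le_pCore (V.map π) (hVn.map π hπs) (hVp.map π) ⟨v, hv, rfl⟩
  have hCN : C ≤ N := by
    intro c hc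
    show π c ∈ O
    have : π c = 1 := (QuotientGroup.eq_one_iff c).2 hc
    rw [this]; exact Subgroup.one_mem _
  have hNV : ∀ V₁ : Subgroup Γ, V₁.Normal → V₁ ≤ V → V₁ ≠ ⊥ → ⁅V₁, N⁆ ≠ V₁ :=
    fun V₁ h1 h2 h3 => comm_ne_of_pcore V hVp V₁ h1 h2 h3
  have hsolQ : Cfsg.IsPSolvable p ((Γ ⧸ C) ⧸ O) :=
    Cfsg.Agent.Lib.Helper7_PSolvable.quotient hpp
      (Cfsg.Agent.Lib.Helper7_PSolvable.quotient hpp hsol C) O
  set Kb : Subgroup ((Γ ⧸ C) ⧸ O) := Cfsg.pPrimeCore p ((Γ ⧸ C) ⧸ O) with hKb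
  haveI hKbn : Kb.Normal := Cfsg.Agent.Lib.Helper5_PPrime.pPrimeCore_normal p _
  have hKbc : (Nat.card Kb).Coprime p := Cfsg.Agent.Lib.Helper5_PPrime.pPrimeCore_coprime p _
  have hcentK : Subgroup.centralizer (Kb : Set ((Γ ⧸ C) ⧸ O)) ≤ Kb :=
    centralizer_pPrimeCore_le hsolQ hOQ
  have hord : orderOf (ψ a) ∣ p ^ t := orderOf_dvd_of_pow_eq_one hâ
  -- `ψ a` centralizes an invariant Sylow `q`-subgroup of `Kb` for every `q`
  have hsyl : ∀ q : ℕ, q.Prime → q ≠ p → ∃ Q : Subgroup ((Γ ⧸ C) ⧸ O), Q ≤ Kb ∧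
      Nat.card Q = q ^ (Nat.card Kb).factorization q ∧
      Q ≤ Subgroup.centralizer ({ψ a} : Set ((Γ ⧸ C) ⧸ O)) := by
    intro q hqprime hqp
    haveI : Fact q.Prime := ⟨hqprime⟩
    have hAK : Subgroup.zpowers (ψ a) ≤ Subgroup.normalizer (Kb : Set ((Γ ⧸ C) ⧸ O)) := by
      rw [Subgroup.normalizer_eq_top]; exact le_top
    have hcop : (Nat.card (Subgroup.zpowers (ψ a))).Coprime (Nat.card Kb) := by
      rw [Nat.card_zpowers]
      exact Nat.Coprime.coprime_dvd_left hord (Nat.Coprime.pow_left t hKbc.symm)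
    obtain ⟨Q, hQ⟩ := Cfsg.Agent.Lib.Lead_Coprime.exists_invariant_sylow
      (Subgroup.zpowers (ψ a)) Kb hAK hcop (Or.inl inferInstance) q
    set Qm : Subgroup ((Γ ⧸ C) ⧸ O) := (Q : Subgroup Kb).map Kb.subtype with hQm
    have hQmcard : Nat.card Qm = q ^ (Nat.card Kb).factorization q := by
      rw [hQm, Subgroup.card_map_of_injective Kb.subtype_injective]
      exact Sylow.card_eq_multiplicity Q
    have hQmp : IsPGroup q Qm := IsPGroup.of_card hQmcard
    refine ⟨Qm, Subgroup.map_subtype_le _, hQmcard, ?_⟩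
    have han : ψ a ∈ Subgroup.normalizer (Qm : Set ((Γ ⧸ C) ⧸ O)) :=
      hQ (Subgroup.mem_zpowers _)
    intro h hh
    rw [Subgroup.mem_centralizer_iff]
    intro z hz
    rw [Set.mem_singleton_iff] at hz
    rw [hz]
    obtain ⟨g, rfl⟩ := hψs h
    set L : Subgroup Γ := Qm.comap ψ with hL
    have hgL : g ∈ L := hh
    have hLr : ∀ l ∈ L, l ^ (q ^ (Nat.card Kb).factorization q) ∈ N := by
      intro l hl
      have h1 : (⟨ψ l, hl⟩ : ↥Qm) ^ Nat.card ↥Qm = 1 := pow_card_eq_one'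
      rw [hQmcard] at h1
      have h2' : (ψ l) ^ (q ^ (Nat.card Kb).factorization q) = 1 := by
        simpa using congrArg Subtype.val h1
      exact (hψ1 _).1 (by rw [map_pow]; exact h2')
    have hcase : (q ≠ 2 ∨ 5 ≤ p) ∨ (∀ x ∈ L, ∀ y ∈ L, (x * y)⁻¹ * (y * x) ∈ N) :=
      Or.inl (Or.inr hp5)
    have haL1 : ∀ l ∈ L, a * l * a⁻¹ ∈ L := by
      intro l hl
      show ψ (a * l * a⁻¹) ∈ Qm
      rw [map_mul, map_mul, map_inv]
      exact (Subgroup.mem_normalizer_iff.mp han (ψ l)).1 hl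
    have haL2 : ∀ l ∈ L, a⁻¹ * l * a ∈ L := by
      intro l hl
      show ψ (a⁻¹ * l * a) ∈ Qm
      rw [map_mul, map_mul, map_inv]
      have h1 := (Subgroup.mem_normalizer_iff.mp han ((ψ a)⁻¹ * ψ l * ψ a)).2
      apply h1
      have e : ψ a * ((ψ a)⁻¹ * ψ l * ψ a) * (ψ a)⁻¹ = ψ l := by group
      rw [e]; exact hl
    obtain ⟨c, hc⟩ : ∃ c, c = (g * a)⁻¹ * (a * g) := ⟨_, rfl⟩
    obtain ⟨c₁, h1, c₂, h2, hdec, ⟨t', hp1⟩, hp2'⟩ := exists_p_decomp p c
    have hc2 : c₂ ∈ C := by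
      rw [hc] at h2
      exact claimG hp2 (r := q) hqp V N L hVN hNV _ hLr hcase a t hat haL1 haL2
        (Nat.card V) V hVn hVp le_rfl rfl hq g hgL c₂ h2 hp2'
    have hψc2 : ψ c₂ = 1 := (hψ1 c₂).2 (hCN hc2)
    have hψc : ψ c = ψ c₁ := by rw [hdec, map_mul, hψc2, mul_one]
    have hψcL : ψ c ∈ Qm := by
      have e : ψ c = ψ (a⁻¹ * g⁻¹ * a) * ψ g := by
        rw [hc, ← map_mul]; congr 1; group
      rw [e]
      exact Subgroup.mul_mem _ (haL2 g⁻¹ (Subgroup.inv_mem _ hgL)) hh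
    obtain ⟨k₂, hk₂⟩ := hQmp ⟨ψ c, hψcL⟩
    have hk₂' : (ψ c) ^ (q ^ k₂) = 1 := by simpa using congrArg Subtype.val hk₂
    have hp1' : (ψ c) ^ (p ^ t') = 1 := by rw [hψc, ← map_pow, hp1, map_one]
    have hc1 : ψ c = 1 := eq_one_of_pow hqp hp1' hk₂'
    have e2 : ψ c = (ψ g * ψ a)⁻¹ * (ψ a * ψ g) := by
      rw [hc]; simp only [map_mul, map_inv]
    rw [e2] at hc1
    exact (inv_mul_eq_one.1 hc1).symm
  -- hence `ψ a` centralizes `Kb`
  set Cen : Subgroup ((Γ ⧸ C) ⧸ O) :=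
    Kb ⊓ Subgroup.centralizer ({ψ a} : Set ((Γ ⧸ C) ⧸ O)) with hCen
  have hdvd : Nat.card Kb ∣ Nat.card Cen := by
    rw [← Nat.factorization_prime_le_iff_dvd Nat.card_pos.ne' Nat.card_pos.ne']
    intro q hqprime
    by_cases hqp : q = p
    · rw [hqp, Nat.factorization_eq_zero_of_not_dvd]
      · exact Nat.zero_le _
      · intro hdv
        have := Nat.Coprime.eq_one_of_dvd hKbc.symm hdv
        exact hpp.one_lt.ne' this
    · obtain ⟨Q, hQK, hQc, hQcen⟩ := hsyl q hqprime hqp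
      have h1 : Nat.card Q ∣ Nat.card Cen := Subgroup.card_dvd_of_le (le_inf hQK hQcen)
      rw [hQc] at h1
      exact (hqprime.pow_dvd_iff_le_factorization Nat.card_pos.ne').1 h1
  have hCenK : Cen = Kb :=
    Subgroup.eq_of_le_of_card_ge inf_le_left (Nat.le_of_dvd Nat.card_pos hdvd)
  have hacen : ψ a ∈ Subgroup.centralizer (Kb : Set ((Γ ⧸ C) ⧸ O)) := by
    rw [Subgroup.mem_centralizer_iff]
    intro h hh
    have h1 : h ∈ Cen := by rw [hCenK]; exact hh
    have h2 := Subgroup.mem_centralizer_iff.mp h1.2 (ψ a) rfl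
    exact h2.symm
  have haK : ψ a ∈ Kb := hcentK hacen
  have h2 : orderOf (ψ a) ∣ Nat.card Kb := by
    have := orderOf_dvd_natCard (⟨ψ a, haK⟩ : ↥Kb)
    rwa [Subgroup.orderOf_mk] at this
  have h3 : orderOf (ψ a) = 1 :=
    Nat.eq_one_of_dvd_coprimes (Nat.Coprime.pow_right t hKbc) h2 hord
  exact orderOf_eq_one_iff.1 h3

end

end Cfsg.Agent.Lib.Lead_StabSep
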