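import Mathlib
import Cfsg.Prelude.Def_PLocal
import Cfsg.Agent.Lib.Lead_StabSep

/-!
# p-solvable groups with `p ≥ 5` are p-stable in the action sense
-/

set_option autoImplicit false

namespace Cfsg.Agent.Lib.Lead_StabSep2

open Cfsg.Agent.Lib.Helper4_PCore Cfsg.Agent.Lib.Lead_StabSep
open scoped commutatorElement

universe u

section
variable {X : Type u} [Group X] [Finite X] {p : ℕ} [Fact p.Prime]

set_option maxHeartbeats 2000000 in
/-- `p`-stability on a section `O / Φ`. -/
theorem stableOnSectionSep (hp5 : 5 ≤ p) (hsol : Cfsg.IsPSolvable p X)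
    (O Φ : Subgroup X) [hOn : O.Normal] [hΦn : Φ.Normal]
    (hOp : IsPGroup p O) :
    Cfsg.IsPStableOnSection p O Φ := by
  have hpp : p.Prime := Fact.out
  intro a ha
  set π := QuotientGroup.mk' Φ with hπ
  have hπs : Function.Surjective π := QuotientGroup.mk'_surjective Φ
  have hker : π.ker = Φ := QuotientGroup.ker_mk' Φ
  haveI hVb : (O.map π).Normal := hOn.map π hπs
  have hst : Cfsg.IsPStableOn p (O.map π) :=
    stableSep p hp5 (Cfsg.Agent.Lib.Helper7_PSolvable.quotient hpp hsol Φ) (O.map π) (hOp.map π)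
  have hquad : ⁅⁅O.map π, Subgroup.zpowers (π a)⁆, Subgroup.zpowers (π a)⁆ = ⊥ := by
    rw [← MonoidHom.map_zpowers, ← Subgroup.map_commutator, ← Subgroup.map_commutator,
      eq_bot_iff]
    calc (⁅⁅O, Subgroup.zpowers a⁆, Subgroup.zpowers a⁆).map π ≤ Φ.map π := Subgroup.map_mono ha
      _ = ⊥ := (Subgroup.map_eq_bot_iff _).2 (le_of_eq hker.symm)
  have h1 := hst (π a) hquad
  set Cb := Subgroup.centralizer ((O.map π : Subgroup (X ⧸ Φ)) : Set (X ⧸ Φ)) with hCb
  set Pc := Cfsg.pCore p ((X ⧸ Φ) ⧸ Cb) with hPc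
  haveI hPcn : Pc.Normal := pCore_normal p _
  have hPcp : IsPGroup p Pc := pCore_isPGroup
  set Db := Pc.comap (QuotientGroup.mk' Cb) with hDb
  have hCbDb : Cb ≤ Db := by
    intro c hc
    rw [hDb, Subgroup.mem_comap]
    have : QuotientGroup.mk' Cb c = 1 := (QuotientGroup.eq_one_iff c).2 hc
    rw [this]; exact Subgroup.one_mem _
  refine ⟨Db.comap π, (hPcn.comap _).comap π, ?_, ?_, ?_⟩
  · show Cb.comap π ≤ Db.comap π
    exact Subgroup.comap_mono hCbDb
  · obtain ⟨k, hk⟩ := IsPGroup.iff_card.1 hPcp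
    refine ⟨k, ?_⟩
    show (Cb.comap π).relIndex (Db.comap π) = p ^ k
    rw [Subgroup.relIndex_comap, Subgroup.map_comap_eq_self_of_surjective hπs]
    have h2 := Subgroup.relIndex_comap (H := (⊥ : Subgroup ((X ⧸ Φ) ⧸ Cb)))
      (QuotientGroup.mk' Cb) Db
    rw [MonoidHom.comap_bot, QuotientGroup.ker_mk', Subgroup.relIndex_bot_left, hDb,
      Subgroup.map_comap_eq_self_of_surjective (QuotientGroup.mk'_surjective Cb)] at h2
    rw [hDb, h2, hk]
  · show π a ∈ Db
    exact h1

/-- A `p`-solvable group, `p ≥ 5`, is `p`-stable in the action sense. -/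
theorem actionPStable_sep (hp5 : 5 ≤ p) (hsol : Cfsg.IsPSolvable p X) :
    Cfsg.IsActionPStable p X := by
  have hpp : p.Prime := Fact.out
  refine ⟨?_, ?_, ?_⟩
  · intro V _ hV
    apply stableSep p hp5 hsol V
    intro x
    refine ⟨1, ?_⟩
    apply Subtype.ext
    simpa using hV.2 x x.2
  · exact stableOnSectionSep hp5 hsol _ _ pCore_isPGroup
  · intro S V _ hV
    apply stableSep p hp5 (Cfsg.Agent.Lib.Helper7_PSolvable.subgroup hpp hsol _) V
    have h1 : IsPGroup p (V.map (Subgroup.normalizer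
        (Cfsg.thompsonSubgroupOf p (S : Subgroup X) : Set X)).subtype) := by
      apply S.isPGroup'.to_le
      exact hV.trans (Subgroup.map_subtype_le _)
    exact h1.comap_of_injective _ (Subgroup.subtype_injective _) |>.to_le
      (Subgroup.le_comap_map _ _)

end

end Cfsg.Agent.Lib.Lead_StabSep2
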