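import Mathlib
import Cfsg.Prelude.Def_Solvable
import Cfsg.Agent.Lib.Lead_SZ
import Cfsg.Agent.Lib.Lead_Fitting
import Cfsg.Agent.Lib.Helper4_PCore

/-! Subnormality in nilpotent groups, p-subgroups of nilpotent groups. -/

namespace Cfsg.Agent.Lib.Lead_Subnormal

open Cfsg Cfsg.Agent.Lib.Lead_SZ
open scoped Pointwise

/-- Every subgroup of a finite nilpotent group is subnormal. -/
theorem isSubnormal_of_nilpotent {N : Type*} [Group N] [Finite N] [Group.IsNilpotent N] :
    ∀ (k : ℕ) (H : Subgroup N), Nat.card N - Nat.card H = k → H.IsSubnormal := by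
  intro k
  induction k using Nat.strong_induction_on with
  | _ k ih =>
    intro H hk
    by_cases htop : H = ⊤
    · rw [htop]; exact Subgroup.IsSubnormal.top
    · have hlt : H < Subgroup.normalizer (H : Set N) :=
        normalizerCondition_of_isNilpotent H (lt_top_iff_ne_top.mpr htop)
      have hc := card_lt hlt
      have hle : Nat.card (Subgroup.normalizer (H : Set N)) ≤ Nat.card N :=
        Subgroup.card_le_card_group _
      have h1 := ih (Nat.card N - Nat.card (Subgroup.normalizer (H : Set N))) (by omega) _ rfl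
      exact Subgroup.IsSubnormal.step H _ hlt.le h1 Subgroup.normal_in_normalizer

/-- Two `p`-subgroups of a finite nilpotent subgroup generate a `p`-group. -/
theorem isPGroup_sup_of_nilpotent {G : Type*} [Group G] {p : ℕ} [Fact p.Prime]
    {B : Subgroup G} [Finite B] (hB : Group.IsNilpotent B) {X Y : Subgroup G}
    (hXB : X ≤ B) (hYB : Y ≤ B) (hX : IsPGroup p X) (hY : IsPGroup p Y) :
    IsPGroup p (X ⊔ Y : Subgroup G) := by
  have hX' : IsPGroup p (X.subgroupOf B) :=
    hX.comap_of_injective B.subtype B.subtype_injective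
  have hY' : IsPGroup p (Y.subgroupOf B) :=
    hY.comap_of_injective B.subtype B.subtype_injective
  obtain ⟨P, hP⟩ := hX'.exists_le_sylow
  obtain ⟨Q, hQ⟩ := hY'.exists_le_sylow
  have hnorm := (Group.isNilpotent_of_finite_tfae (G := B)).out 0 3 rfl rfl |>.mp hB
  haveI := Sylow.unique_of_normal P (hnorm p inferInstance P)
  have hQP : Q = P := Subsingleton.elim _ _
  rw [hQP] at hQ
  have hle : X ⊔ Y ≤ (P : Subgroup B).map B.subtype := by
    apply sup_le
    · intro x hx
      exact ⟨⟨x, hXB hx⟩, hP (Subgroup.mem_subgroupOf.mpr hx), rfl⟩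
    · intro x hx
      exact ⟨⟨x, hYB hx⟩, hQ (Subgroup.mem_subgroupOf.mpr hx), rfl⟩
  exact (P.isPGroup'.map B.subtype).to_le hle

end Cfsg.Agent.Lib.Lead_Subnormal
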