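import Mathlib
import Cfsg.Agent.Lib.Lead_SZ
import Cfsg.Agent.Lib.Lead_Coprime
import Cfsg.Agent.S0538

/-! Wielandt's zipper lemma and subnormality criterion. -/

namespace Cfsg.Agent.Lib.Lead_Zipper

open Cfsg.Agent.Lib.Lead_SZ Cfsg.Agent.Lib.Lead_Coprime
open scoped Pointwise

universe u

/-- relative subnormality is preserved under conjugation -/
theorem relSN_conj {G : Type*} [Group G] (A H : Subgroup G) (x : G)
    (h : (A.subgroupOf H).IsSubnormal) :
    ((MulAut.conj x • A).subgroupOf (MulAut.conj x • H)).IsSubnormal := by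
  let e : H ≃* (MulAut.conj x • H : Subgroup G) := Subgroup.equivSMul (MulAut.conj x) H
  have hmap := h.map (f := e.toMonoidHom) e.surjective
  have heq : (A.subgroupOf H).map e.toMonoidHom =
      (MulAut.conj x • A).subgroupOf (MulAut.conj x • H) := by
    ext ⟨y, hy⟩
    rw [Subgroup.mem_map, Subgroup.mem_subgroupOf]
    constructor
    · rintro ⟨a, ha, hay⟩
      have h1 : x * (a : G) * x⁻¹ = y := congrArg Subtype.val hay
      show y ∈ MulAut.conj x • A
      rw [mem_conj_smul, ← h1]
      have := Subgroup.mem_subgroupOf.mp ha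
      simpa [mul_assoc] using this
    · intro hy'
      have hy2 : x⁻¹ * y * x ∈ A := (mem_conj_smul x y A).mp hy'
      have hyH : x⁻¹ * y * x ∈ H := (mem_conj_smul x y H).mp hy
      refine ⟨⟨x⁻¹ * y * x, hyH⟩, Subgroup.mem_subgroupOf.mpr hy2, ?_⟩
      apply Subtype.ext
      show x * (x⁻¹ * y * x) * x⁻¹ = y
      group
  rw [heq] at hmap
  exact hmap

/-- relative subnormality of a join -/
theorem relSN_sup {G : Type*} [Group G] [Finite G] (A B H : Subgroup G) (hA : A ≤ H) (hB : B ≤ H)
    (h1 : (A.subgroupOf H).IsSubnormal) (h2 : (B.subgroupOf H).IsSubnormal) :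
    ((A ⊔ B).subgroupOf H).IsSubnormal := by
  rw [Subgroup.subgroupOf_sup hA hB]
  exact Cfsg.Agent.S0538.result _ _ h1 h2

theorem normal_of_subgroupOf_top {K : Type*} [Group K] (A : Subgroup K)
    (h : (A.subgroupOf ⊤).Normal) : A.Normal := by
  constructor
  intro a ha g
  have := h.conj_mem ⟨a, Subgroup.mem_top a⟩ (Subgroup.mem_subgroupOf.mpr ha) ⟨g, Subgroup.mem_top g⟩
  exact Subgroup.mem_subgroupOf.mp this

/-- a non-normal subgroup normal in a subnormal subgroup has a conjugate different from it
which normalizes it -/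
theorem exists_conj_of_subnormal {K : Type*} [Group K] (L : Subgroup K) (hL : L.IsSubnormal) :
    ∀ A : Subgroup K, A ≤ L → (A.subgroupOf L).Normal → ¬ A.Normal →
      ∃ x : K, MulAut.conj x • A ≠ A ∧ MulAut.conj x • A ≤ Subgroup.normalizer (A : Set K) := by
  induction hL with
  | top =>
    intro A _ hn hnn
    exact absurd (normal_of_subgroupOf_top A hn) hnn
  | step H L' hHL hL' hHn ih =>
    intro A hAH hAn hnn
    by_cases hAL : (A.subgroupOf L').Normal
    · exact ih A (hAH.trans hHL) hAL hnn
    · have hex : ∃ l ∈ L', ∃ a ∈ A, l * a * l⁻¹ ∉ A := by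
        by_contra hcon
        push_neg at hcon
        apply hAL
        constructor
        intro a ha l
        rw [Subgroup.mem_subgroupOf] at ha ⊢
        exact hcon l l.2 a ha
      obtain ⟨l, hl, a, ha, hla⟩ := hex
      refine ⟨l, ?_, ?_⟩
      · intro heq
        apply hla
        rw [← heq, mem_conj_smul]
        have : l⁻¹ * (l * a * l⁻¹) * l = a := by group
        rw [this]; exact ha
      · have hHA : H ≤ Subgroup.normalizer (A : Set K) :=
          (Subgroup.normal_subgroupOf_iff_le_normalizer hAH).mp hAn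
        refine le_trans ?_ hHA
        intro y hy
        rw [mem_conj_smul] at hy
        have h1 : l⁻¹ * y * l ∈ H := hAH hy
        have h2 := hHn.conj_mem ⟨l⁻¹ * y * l, hHL h1⟩ (Subgroup.mem_subgroupOf.mpr h1) ⟨l, hl⟩
        have h3 := Subgroup.mem_subgroupOf.mp h2
        have e : ((⟨l, hl⟩ * ⟨l⁻¹ * y * l, hHL h1⟩ * (⟨l, hl⟩ : L')⁻¹ : L') : K) = y := by
          show l * (l⁻¹ * y * l) * l⁻¹ = y
          group
        rw [e] at h3
        exact h3

theorem exists_conj_of_subnormal' {K : Type*} [Group K] (A : Subgroup K) (hA : A.IsSubnormal)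
    (hnn : ¬ A.Normal) :
    ∃ x : K, MulAut.conj x • A ≠ A ∧ MulAut.conj x • A ≤ Subgroup.normalizer (A : Set K) := by
  rcases Subgroup.IsSubnormal.iff_eq_top_or_exists.mp hA with h | ⟨L, hAL, hL, hn⟩
  · exfalso
    apply hnn
    rw [h]; infer_instance
  · exact exists_conj_of_subnormal L hL A hAL.le hn hnn

theorem exists_conj_in_normalizer {G : Type*} [Group G] (A K : Subgroup G) (hAK : A ≤ K)
    (hsn : (A.subgroupOf K).IsSubnormal) (hnn : ¬ (A.subgroupOf K).Normal) :
    ∃ x ∈ K, MulAut.conj x • A ≠ A ∧ MulAut.conj x • A ≤ Subgroup.normalizer (A : Set G) := by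
  obtain ⟨x, hx1, hx2⟩ := exists_conj_of_subnormal' (A.subgroupOf K) hsn hnn
  have hconj : MulAut.conj x • (A.subgroupOf K) = (MulAut.conj (x : G) • A).subgroupOf K := by
    ext y
    rw [mem_conj_smul, Subgroup.mem_subgroupOf, Subgroup.mem_subgroupOf, mem_conj_smul]
    rfl
  refine ⟨x, x.2, ?_, ?_⟩
  · intro heq
    apply hx1
    rw [hconj, heq]
  · intro y hy
    have hyK : y ∈ K := by
      rw [mem_conj_smul] at hy
      have := K.mul_mem (K.mul_mem x.2 (hAK hy)) (K.inv_mem x.2)
      simpa [mul_assoc] using this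
    have h1 : (⟨y, hyK⟩ : K) ∈ MulAut.conj x • (A.subgroupOf K) := by
      rw [hconj]; exact Subgroup.mem_subgroupOf.mpr hy
    have h2 := hx2 h1
    rw [← Subgroup.subgroupOf_normalizer_eq hAK] at h2
    exact Subgroup.mem_subgroupOf.mp h2

/-- Wielandt's zipper lemma -/
theorem zipper {G : Type*} [Group G] [Finite G] : ∀ (n : ℕ) (A : Subgroup G),
    Nat.card G - Nat.card A = n →
    (∀ H : Subgroup G, A ≤ H → H ≠ ⊤ → (A.subgroupOf H).IsSubnormal) → ¬ A.IsSubnormal →
    ∀ M K : Subgroup G, IsCoatom M → IsCoatom K → A ≤ M → A ≤ K → M = K := by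
  intro n
  induction n using Nat.strong_induction_on with
  | _ n ih =>
  intro A hn hyp hns
  have hAnn : ¬ A.Normal := fun h => hns h.isSubnormal
  have hNtop : Subgroup.normalizer (A : Set G) ≠ ⊤ := fun h =>
    hAnn (Subgroup.normalizer_eq_top_iff.mp h)
  obtain ⟨M₀, hM₀, hNM₀⟩ := (eq_top_or_exists_le_coatom _).resolve_left hNtop
  have claim : ∀ K : Subgroup G, IsCoatom K → A ≤ K → K = M₀ := by
    intro K hK hAK
    have hle_eq : K ≤ M₀ → K = M₀ := by
      intro hle
      by_contra hne
      exact hM₀.1 (hK.2 _ (lt_of_le_of_ne hle hne))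
    have hsn := hyp K hAK hK.1
    by_cases hAn : (A.subgroupOf K).Normal
    · exact hle_eq (((Subgroup.normal_subgroupOf_iff_le_normalizer hAK).mp hAn).trans hNM₀)
    · obtain ⟨x, hxK, hx1, hx2⟩ := exists_conj_in_normalizer A K hAK hsn hAn
      set B := A ⊔ MulAut.conj x • A with hB
      have hxAK : MulAut.conj x • A ≤ K := by
        intro y hy
        rw [mem_conj_smul] at hy
        have := K.mul_mem (K.mul_mem hxK (hAK hy)) (K.inv_mem hxK)
        simpa [mul_assoc] using this
      have hBN : B ≤ Subgroup.normalizer (A : Set G) := sup_le Subgroup.le_normalizer hx2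
      have hBK : B ≤ K := sup_le hAK hxAK
      have hlt : A < B := by
        refine lt_of_le_of_ne le_sup_left ?_
        intro heq
        apply hx1
        have hle : MulAut.conj x • A ≤ A := by
          calc MulAut.conj x • A ≤ B := le_sup_right
            _ = A := heq.symm
        exact eq_of_le_of_card_eq hle (card_conj_smul x A)
      have hBns : ¬ B.IsSubnormal := fun h =>
        hns (Subgroup.IsSubnormal.step A B le_sup_left h
          ((Subgroup.normal_subgroupOf_iff_le_normalizer le_sup_left).mpr hBN))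
      have hBhyp : ∀ H : Subgroup G, B ≤ H → H ≠ ⊤ → (B.subgroupOf H).IsSubnormal := by
        intro H hBH hH
        have hAH : A ≤ H := le_sup_left.trans hBH
        have hxAH : MulAut.conj x • A ≤ H := le_sup_right.trans hBH
        have h1 := hyp H hAH hH
        set H' := MulAut.conj x⁻¹ • H with hH'
        have hAH' : A ≤ H' := by
          intro a ha
          rw [hH', mem_conj_smul, inv_inv]
          apply hxAH
          rw [mem_conj_smul]
          have : x⁻¹ * (x * a * x⁻¹) * x = a := by group
          rw [this]; exact ha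
        have hH'top : H' ≠ ⊤ := by
          intro h
          apply hH
          have h2 : Nat.card H = Nat.card (⊤ : Subgroup G) := by
            rw [← h, hH', card_conj_smul]
          exact eq_of_le_of_card_eq le_top h2
        have h2 := relSN_conj A H' x (hyp H' hAH' hH'top)
        have h3 : MulAut.conj x • H' = H := by
          rw [hH', conj_smul_smul, mul_inv_cancel, map_one, one_smul]
        rw [h3] at h2
        exact relSN_sup A (MulAut.conj x • A) H hAH hxAH h1 h2
      have hcard : Nat.card G - Nat.card B < n := by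
        have h1 := card_lt hlt
        have h2 : Nat.card B ≤ Nat.card G := Subgroup.card_le_card_group B
        omega
      exact (ih _ hcard B rfl hBhyp hBns M₀ K hM₀ hK (hBN.trans hNM₀) hBK).symm
  intro M K hM hK hAM hAK
  rw [claim M hM hAM, claim K hK hAK]

/-- descending the hypothesis of Wielandt-type criteria to a subgroup -/
theorem relSN_descend {G : Type*} [Group G] (A H : Subgroup G) (hAH : A ≤ H) (u : H)
    (h : (A.subgroupOf (A ⊔ MulAut.conj (u : G) • A)).IsSubnormal) :
    ((A.subgroupOf H).subgroupOf (A.subgroupOf H ⊔ MulAut.conj u • A.subgroupOf H)).IsSubnormal := by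
  set A' := A.subgroupOf H with hA'
  set J' := A' ⊔ MulAut.conj u • A' with hJ'
  set J := A ⊔ MulAut.conj (u : G) • A with hJ
  have hmapJ : J'.map H.subtype = J := by
    rw [hJ', Subgroup.map_sup, map_conj_smul, hA', Subgroup.map_subgroupOf_eq_of_le hAH]
    rfl
  have hJ'J : ∀ z : J', ((z : H) : G) ∈ J := by
    intro z
    have h1 : ((z : H) : G) ∈ J'.map H.subtype := ⟨z, z.2, rfl⟩
    rw [hmapJ] at h1
    exact h1
  let f : J' →* J := MonoidHom.codRestrict (H.subtype.comp J'.subtype) J hJ'J
  have hsn := h.comap f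
  have heq : A'.subgroupOf J' = (A.subgroupOf J).comap f := by
    ext z
    exact Iff.rfl
  rw [heq]
  exact hsn

end Cfsg.Agent.Lib.Lead_Zipper
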